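import Mathlib
import Cfsg.Prelude.Def_LieExceptional

/-!
# Regular normal subgroups of point stabilisers in Zassenhaus groups with large two-point stabilisers
-/

set_option autoImplicit false
set_option linter.unusedSectionVars false
set_option linter.style.haveILetI false

namespace CfsgLib.Perm.ZReg

open MulAction

variable {G Ω : Type*} [Group G] [Finite G] [MulAction G Ω] [Fintype Ω]

/-- A free action with at most two orbits on the non-identity elements has no proper invariant subgroup. -/
theorem invariant_eq_top {F H : Type*} [Group F] [Finite F] [Group H] [Finite H] (φ : H →* MulAut F)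
    (hfree : ∀ h : H, ∀ u : F, u ≠ 1 → φ h u = u → h = 1) (hle : Nat.card F ≤ 2 * Nat.card H + 1)
    (Z : Subgroup F) (hZ : ∀ h u, u ∈ Z → φ h u ∈ Z) (hne : Z ≠ ⊥) : Z = ⊤ := by
  classical
  haveI := Fintype.ofFinite F
  obtain ⟨d, hd⟩ : ∃ d, d = Nat.card H := ⟨_, rfl⟩
  rw [← hd] at hle
  have hd0 : 0 < d := hd ▸ Nat.card_pos
  have hdiv : ∀ P : F → Prop, (∀ h u, P u → P (φ h u)) → (∀ u, P u → u ≠ 1) → d ∣ Nat.card {u // P u} := by
    intro P hP hP1
    letI : MulAction H {u // P u} :=
      { smul := fun h u => ⟨φ h u, hP h u u.2⟩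
        one_smul := fun u => Subtype.ext (by show φ 1 (u : F) = u; rw [map_one]; rfl)
        mul_smul := fun g h u => Subtype.ext (by show φ (g * h) (u : F) = φ g (φ h u); rw [map_mul]; rfl) }
    have hst : ∀ u : {u // P u}, stabilizer H u = ⊥ := fun u => eq_bot_iff.2 fun h hh =>
      Subgroup.mem_bot.2 (hfree h u (hP1 u u.2) (congrArg Subtype.val hh))
    rw [Nat.card_congr (selfEquivOrbitsQuotientProd hst), Nat.card_prod, hd]
    exact dvd_mul_left _ _
  by_contra htop
  have h2 := hdiv (fun u => u ∈ Z ∧ u ≠ 1) (fun h u hu => ⟨hZ h u hu.1, fun e => hu.2 ((map_eq_one_iff _ (φ h).injective).1 e)⟩)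
    (fun u hu => hu.2)
  have h3 := hdiv (fun u => u ∉ Z) (fun h u hu hm => hu (by
    have := hZ h⁻¹ _ hm
    rwa [map_inv, MulAut.inv_apply_self] at this)) (fun u hu e => hu (e ▸ Z.one_mem))
  have hZc : Nat.card {u // u ∈ Z ∧ u ≠ 1} + 1 = Nat.card Z := by
    rw [Nat.card_eq_fintype_card, Nat.card_eq_fintype_card, Fintype.card_subtype]
    have : Finset.univ.filter (fun u => u ∈ Z ∧ u ≠ 1) = (Finset.univ.filter (fun u => u ∈ Z)).erase 1 := by
      ext u; simp [and_comm]
    rw [this, Finset.card_erase_of_mem (by simp [Z.one_mem]), ← Fintype.card_subtype]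
    have : 0 < Fintype.card {u // u ∈ Z} := Fintype.card_pos_iff.2 ⟨⟨1, Z.one_mem⟩⟩
    omega
  have hNc : Nat.card Z + Nat.card {u // u ∉ Z} = Nat.card F := by
    rw [← Nat.card_sum]
    exact Nat.card_congr (Equiv.sumCompl fun u => u ∈ Z)
  have hZd := Subgroup.card_subgroup_dvd_card Z
  haveI : Nontrivial Z := (Subgroup.nontrivial_iff_ne_bot Z).2 hne
  have hZ1 : 1 < Nat.card Z := Finite.one_lt_card
  obtain ⟨w, -, hw⟩ := SetLike.exists_of_lt (lt_top_iff_ne_top.2 htop)
  haveI : Nonempty {u // u ∉ Z} := ⟨⟨w, hw⟩⟩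
  have hN1 : 0 < Nat.card {u // u ∉ Z} := Nat.card_pos
  generalize Nat.card {u // u ∈ Z ∧ u ≠ 1} = A at h2 hZc
  generalize Nat.card {u // u ∉ Z} = B at h3 hNc hN1
  have hA : d ≤ A := Nat.le_of_dvd (by omega) h2
  have hB : d ≤ B := Nat.le_of_dvd hN1 h3
  obtain ⟨hA', hB'⟩ : A = d ∧ B = d := by omega
  rw [← hNc, ← hZc, hA', hB'] at hZd
  have h4 : d + 1 ∣ d := (Nat.dvd_add_right (dvd_refl _)).1 hZd
  have := Nat.le_of_dvd hd0 h4
  omega

/-- A group with a free action on the non-identity elements, with at most two orbits, is elementary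
abelian. -/
theorem elementary_of_free {F H : Type*} [Group F] [Finite F] [Group H] [Finite H] (φ : H →* MulAut F)
    (hfree : ∀ h : H, ∀ u : F, u ≠ 1 → φ h u = u → h = 1) (hle : Nat.card F ≤ 2 * Nat.card H + 1) :
    (∀ u v : F, u * v = v * u) ∧ ∃ p f : ℕ, p.Prime ∧ (∀ u : F, u ^ p = 1) ∧ Nat.card F = p ^ f := by
  classical
  haveI := Fintype.ofFinite F
  obtain ⟨d, hd⟩ : ∃ d, d = Nat.card H := ⟨_, rfl⟩
  rw [← hd] at hle
  have hd0 : 0 < d := hd ▸ Nat.card_pos
  -- an invariant set of non-identity elements has size divisible by the order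
  have hdiv : ∀ P : F → Prop, (∀ h u, P u → P (φ h u)) → (∀ u, P u → u ≠ 1) → d ∣ Nat.card {u // P u} := by
    intro P hP hP1
    letI : MulAction H {u // P u} :=
      { smul := fun h u => ⟨φ h u, hP h u u.2⟩
        one_smul := fun u => Subtype.ext (by show φ 1 (u : F) = u; rw [map_one]; rfl)
        mul_smul := fun g h u => Subtype.ext (by show φ (g * h) (u : F) = φ g (φ h u); rw [map_mul]; rfl) }
    have hst : ∀ u : {u // P u}, stabilizer H u = ⊥ := fun u => eq_bot_iff.2 fun h hh =>
      Subgroup.mem_bot.2 (hfree h u (hP1 u u.2) (congrArg Subtype.val hh))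
    rw [Nat.card_congr (selfEquivOrbitsQuotientProd hst), Nat.card_prod, hd]
    exact dvd_mul_left _ _
  have hord : ∀ m h u, orderOf u = m → orderOf (φ h u) = m := fun m h u hu =>
    (orderOf_injective (φ h).toMonoidHom (φ h).injective u).trans hu
  have hpos : ∀ P : F → Prop, (∀ h u, P u → P (φ h u)) → (∀ u, P u → u ≠ 1) → (∃ u, P u) →
      d ≤ Nat.card {u // P u} := fun P hP hP1 ⟨u, hu⟩ =>
    haveI : Nonempty {u // P u} := ⟨⟨u, hu⟩⟩
    Nat.le_of_dvd Nat.card_pos (hdiv P hP hP1)
  rcases Nat.lt_or_ge (Nat.card F) 2 with h1 | h1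
  · haveI : Subsingleton F := Finite.card_le_one_iff_subsingleton.1 (by omega)
    have := Nat.card_pos (α := F)
    exact ⟨fun u v => Subsingleton.elim _ _, 2, 0, Nat.prime_two, fun u => Subsingleton.elim _ _, by omega⟩
  -- the order is a prime power
  obtain ⟨p, hp, hpd⟩ := Nat.exists_prime_and_dvd (n := Nat.card F) (by omega)
  haveI := Fact.mk hp
  have hpow : ∀ q : ℕ, q.Prime → q ∣ Nat.card F → q = p := by
    intro q hq hqd
    by_contra hqp
    haveI := Fact.mk hq
    -- non-identity elements have order `p` or `q`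
    have hcount : Nat.card {u : F // orderOf u = p} = d ∧ Nat.card {u : F // orderOf u = q} = d ∧
        2 * d + 1 = Nat.card F ∧ ∀ u : F, u ≠ 1 → orderOf u = p ∨ orderOf u = q := by
      have hA := hpos (fun u => orderOf u = p) (fun h u => hord p h u)
        (fun u hu e => by rw [e, orderOf_one] at hu; exact hp.one_lt.ne hu) (exists_prime_orderOf_dvd_card' p hpd)
      have hB := hpos (fun u => orderOf u = q) (fun h u => hord q h u)
        (fun u hu e => by rw [e, orderOf_one] at hu; exact hq.one_lt.ne hu) (exists_prime_orderOf_dvd_card' q hqd)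
      let A := Finset.univ.filter (fun u : F => orderOf u = p)
      let B := Finset.univ.filter (fun u : F => orderOf u = q)
      have hA' : Nat.card {u : F // orderOf u = p} = A.card := by
        rw [Nat.card_eq_fintype_card, Fintype.card_subtype]
      have hB' : Nat.card {u : F // orderOf u = q} = B.card := by
        rw [Nat.card_eq_fintype_card, Fintype.card_subtype]
      rw [hA'] at hA ⊢
      rw [hB'] at hB ⊢
      have hdis : Disjoint A B := Finset.disjoint_left.2 fun u hu hu' =>
        hqp ((Finset.mem_filter.1 hu').2.symm.trans (Finset.mem_filter.1 hu).2)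
      have hsub : A ∪ B ⊆ Finset.univ.erase 1 := fun u hu => by
        refine Finset.mem_erase.2 ⟨fun e => ?_, Finset.mem_univ _⟩
        subst e
        simp only [A, B, Finset.mem_union, Finset.mem_filter, orderOf_one] at hu
        rcases hu with ⟨-, e⟩ | ⟨-, e⟩
        · exact hp.one_lt.ne e
        · exact hq.one_lt.ne e
      have hc := Finset.card_le_card hsub
      rw [Finset.card_union_of_disjoint hdis, Finset.card_erase_of_mem (Finset.mem_univ _),
        Finset.card_univ, ← Nat.card_eq_fintype_card] at hc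
      refine ⟨by omega, by omega, by omega, fun u hu => ?_⟩
      have heq : A ∪ B = Finset.univ.erase 1 := Finset.eq_of_subset_of_card_le hsub (by
        rw [Finset.card_union_of_disjoint hdis, Finset.card_erase_of_mem (Finset.mem_univ _),
          Finset.card_univ, ← Nat.card_eq_fintype_card]
        omega)
      have : u ∈ A ∪ B := heq ▸ Finset.mem_erase.2 ⟨hu, Finset.mem_univ _⟩
      simpa [A, B] using this
    obtain ⟨hA, hB, hn, hcases⟩ := hcount
    -- a Sylow subgroup for one prime acts freely on the elements of the other order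
    have hsyl : ∀ r s : ℕ, r.Prime → s.Prime → r ≠ s → (∀ u : F, u ≠ 1 → orderOf u = r ∨ orderOf u = s) →
        Nat.card {u : F // orderOf u = r} = d → s ^ (Nat.card F).factorization s ∣ d := by
      intro r s hr hs hrs hall hc
      haveI := Fact.mk hs
      obtain ⟨S⟩ : Nonempty (Sylow s F) := inferInstance
      letI : MulAction (S : Subgroup F) {u : F // orderOf u = r} :=
        { smul := fun g u => ⟨(g : F) * u * (g : F)⁻¹,
            (orderOf_injective (MulAut.conj (g : F)).toMonoidHom (MulAut.conj (g : F)).injective (u : F)).trans u.2⟩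
          one_smul := fun u => Subtype.ext (by show (1 : F) * u * (1 : F)⁻¹ = u; group)
          mul_smul := fun g h u => Subtype.ext (by
            show ((g : F) * h) * u * ((g : F) * h)⁻¹ = g * (h * u * (h : F)⁻¹) * (g : F)⁻¹; group) }
      have hst : ∀ u : {u : F // orderOf u = r}, stabilizer (S : Subgroup F) u = ⊥ := by
        intro u
        refine eq_bot_iff.2 fun g hg => Subgroup.mem_bot.2 ?_
        by_contra hg1
        have hcomm : Commute (g : F) u := mul_inv_eq_iff_eq_mul.1 (congrArg Subtype.val hg)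
        have hg1' : (g : F) ≠ 1 := fun e => hg1 (Subtype.ext e)
        obtain ⟨j, hj⟩ := (IsPGroup.iff_orderOf.1 S.isPGroup') g
        rw [← Subgroup.orderOf_coe] at hj
        have hgs : orderOf (g : F) = s := by
          rcases hall _ hg1' with e | e
          · exfalso
            rw [e] at hj
            exact hrs ((Nat.prime_dvd_prime_iff_eq hr hs).1 (hr.dvd_of_dvd_pow (dvd_of_eq hj)))
          · exact e
        have hmul := hcomm.orderOf_mul_eq_mul_orderOf_of_coprime
          (by rw [hgs, u.2]; exact (Nat.coprime_primes hs hr).2 (Ne.symm hrs))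
        rw [hgs, u.2] at hmul
        have hne : (g : F) * u ≠ 1 := fun e => by
          rw [e, orderOf_one] at hmul
          exact absurd hmul.symm (Nat.one_lt_mul_iff.2 ⟨hs.pos, hr.pos, Or.inl hs.one_lt⟩).ne'
        rcases hall _ hne with e | e <;> rw [e] at hmul
        · exact hs.one_lt.ne' (Nat.eq_of_mul_eq_mul_right hr.pos (hmul.symm.trans (one_mul r).symm))
        · exact hr.one_lt.ne' (Nat.eq_of_mul_eq_mul_left hs.pos (hmul.symm.trans (mul_one s).symm))
      rw [← hc, Nat.card_congr (selfEquivOrbitsQuotientProd hst), Nat.card_prod, ← S.card_eq_multiplicity]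
      exact dvd_mul_left _ _
    have h1 := hsyl p q hp hq (Ne.symm hqp) hcases hA
    have h2 := hsyl q p hq hp hqp (fun u hu => (hcases u hu).symm) hB
    have hdvd : Nat.card F ∣ d := by
      have hco : Nat.Coprime (q ^ (Nat.card F).factorization q) (p ^ (Nat.card F).factorization p) :=
        Nat.Coprime.pow _ _ ((Nat.coprime_primes hq hp).2 hqp)
      have hmul := hco.mul_dvd_of_dvd_of_dvd h1 h2
      refine dvd_trans (dvd_of_eq ?_) hmul
      have hpf : (Nat.card F).primeFactors = {q, p} := by
        ext r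
        rw [Nat.mem_primeFactors, Finset.mem_insert, Finset.mem_singleton]
        constructor
        · rintro ⟨hr, hrd, -⟩
          haveI := Fact.mk hr
          obtain ⟨u, hu⟩ := exists_prime_orderOf_dvd_card' r hrd
          have hu1 : u ≠ 1 := fun e => by rw [e, orderOf_one] at hu; exact hr.one_lt.ne hu
          rcases hcases u hu1 with e | e <;> rw [hu] at e
          · exact Or.inr e
          · exact Or.inl e
        · rintro (rfl | rfl)
          · exact ⟨hq, hqd, Nat.card_pos.ne'⟩
          · exact ⟨hp, hpd, Nat.card_pos.ne'⟩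
      conv_lhs => rw [← Nat.prod_factorization_pow_eq_self (n := Nat.card F) Nat.card_pos.ne']
      rw [Finsupp.prod, Nat.support_factorization, hpf, Finset.prod_pair hqp]
    have := Nat.le_of_dvd hd0 hdvd
    omega
  obtain ⟨f, hf⟩ : ∃ f, Nat.card F = p ^ f :=
    ⟨_, Nat.eq_prime_pow_of_unique_prime_dvd Nat.card_pos.ne' fun {r} hr hrd => hpow r hr hrd⟩
  -- an invariant non-trivial subgroup is everything
  have hinv := invariant_eq_top φ hfree (hd ▸ hle)
  haveI : Nontrivial F := Finite.one_lt_card_iff_nontrivial.1 h1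
  have hcomm : Subgroup.center F = ⊤ := hinv _ (fun h u hu => Subgroup.mem_center_iff.2 fun g => by
    obtain ⟨g', rfl⟩ := (φ h).surjective g
    rw [← map_mul, ← map_mul, Subgroup.mem_center_iff.1 hu g'])
    ((Subgroup.nontrivial_iff_ne_bot _).1 (IsPGroup.center_nontrivial (IsPGroup.of_card hf)))
  have hc : ∀ u v : F, u * v = v * u := fun u v =>
    Subgroup.mem_center_iff.1 (hcomm ▸ Subgroup.mem_top v) u
  refine ⟨hc, p, f, hp, ?_, hf⟩
  let Z : Subgroup F :=
    { carrier := {u | u ^ p = 1}
      one_mem' := one_pow p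
      mul_mem' := fun {a b} (ha : a ^ p = 1) (hb : b ^ p = 1) => by
        show (a * b) ^ p = 1
        rw [Commute.mul_pow (hc a b), ha, hb, one_mul]
      inv_mem' := fun {a} (ha : a ^ p = 1) => by
        show a⁻¹ ^ p = 1
        rw [inv_pow, ha, inv_one] }
  have hZ : Z = ⊤ := hinv Z (fun h u (hu : u ^ p = 1) => show φ h u ^ p = 1 by rw [← map_pow, hu, map_one]) (by
    obtain ⟨u, hu⟩ := exists_prime_orderOf_dvd_card' p hpd
    intro e
    have hm : u ∈ Z := show u ^ p = 1 from hu ▸ pow_orderOf_eq_one u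
    rw [e, Subgroup.mem_bot] at hm
    rw [hm, orderOf_one] at hu
    exact hp.one_lt.ne hu)
  intro u
  have : u ∈ Z := hZ ▸ Subgroup.mem_top u
  exact this

theorem regular_elementary (hZ : Cfsg.IsZassenhausGroup G Ω) {a b : Ω} (hab : a ≠ b)
    (hd : Fintype.card Ω - 2 ≤ 2 * Nat.card ↥(stabilizer G a ⊓ stabilizer G b)) (F : Subgroup G)
    (hFle : F ≤ stabilizer G a) (hFn : (F.subgroupOf (stabilizer G a)).Normal)
    (hreg : ∀ y z : Ω, y ≠ a → z ≠ a → ∃! u : F, (u : G) • y = z) :
    IsMulCommutative F ∧ ∃ p f : ℕ, p.Prime ∧ (∀ u ∈ F, u ^ p = 1) ∧ Fintype.card Ω = p ^ f + 1 := by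
  classical
  obtain ⟨-, -, h3, -, -⟩ := hZ
  set H : Subgroup G := stabilizer G a ⊓ stabilizer G b with hH
  have hne : ∀ u : F, (u : G) • b ≠ a := fun u e => hab (by
    have h' : (u : G) • a = a := hFle u.2
    exact (smul_left_cancel _ (h'.trans e.symm)))
  have hcardF : Nat.card F + 1 = Fintype.card Ω := by
    have hb : Function.Bijective (fun u : F => (⟨(u : G) • b, hne u⟩ : {z : Ω // z ≠ a})) :=
      ⟨fun u v e => (hreg b _ hab.symm (hne v)).unique (congrArg Subtype.val e) rfl,
        fun z => ⟨(hreg b z hab.symm z.2).exists.choose, Subtype.ext (hreg b z hab.symm z.2).exists.choose_spec⟩⟩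
    rw [Nat.card_eq_of_bijective _ hb, Nat.card_eq_fintype_card, Fintype.card_subtype_compl,
      Fintype.card_subtype_eq]
    have : 0 < Fintype.card Ω := Fintype.card_pos_iff.2 ⟨a⟩
    omega
  have hnorm : ∀ h : H, ∀ u : F, (h : G) * u * (h : G)⁻¹ ∈ F := fun h u =>
    hFn.conj_mem ⟨u, hFle u.2⟩ u.2 ⟨h, h.2.1⟩
  let φ : H →* MulAut F :=
    { toFun := fun h =>
        { toFun := fun u => ⟨(h : G) * u * (h : G)⁻¹, hnorm h u⟩
          invFun := fun u => ⟨(h : G)⁻¹ * u * (h : G), by simpa using hnorm h⁻¹ u⟩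
          left_inv := fun u => Subtype.ext (by simp [mul_assoc])
          right_inv := fun u => Subtype.ext (by simp [mul_assoc])
          map_mul' := fun u v => Subtype.ext (by simp [mul_assoc]) }
      map_one' := MulEquiv.ext fun u => Subtype.ext (by simp)
      map_mul' := fun g h => MulEquiv.ext fun u => Subtype.ext (by simp [mul_assoc]) }
  have hfree : ∀ h : H, ∀ u : F, u ≠ 1 → φ h u = u → h = 1 := by
    intro h u hu e
    have e' : (h : G) * u = u * h := mul_inv_eq_iff_eq_mul.1 (congrArg Subtype.val e)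
    have hub : (u : G) • b ≠ b := fun e => hu ((hreg b b hab.symm hab.symm).unique e (by simp))
    refine Subtype.ext (h3 h a b ((u : G) • b) hab hub.symm (hne u).symm h.2.1 h.2.2 ?_)
    rw [smul_smul, e', mul_smul, show (h : G) • b = b from h.2.2]
  obtain ⟨hc, p, f, hp, hexp, hf⟩ := elementary_of_free φ hfree (by omega)
  refine ⟨⟨⟨hc⟩⟩, p, f, hp, fun u hu => congrArg Subtype.val (hexp ⟨u, hu⟩), ?_⟩
  omega

end CfsgLib.Perm.ZReg
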