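import Mathlib

/-!
# Sharply doubly transitive groups
-/

set_option autoImplicit false

namespace CfsgLib.Perm.Groups

variable {α : Type*} [Fintype α] [DecidableEq α] {G : Subgroup (Equiv.Perm α)}

/-- no non-identity element fixes two points -/
theorem sharp_two_fix (hsharp : ∀ x : Fin 2 ↪ α, MulAction.stabilizer G x = ⊥) {g : G} {a b : α} (hab : a ≠ b)
    (ha : g • a = a) (hb : g • b = b) : g = 1 := by
  let e : Fin 2 ↪ α := ⟨![a, b], fun i j h => by fin_cases i <;> fin_cases j <;> simp_all⟩
  have h : g ∈ MulAction.stabilizer G e := by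
    rw [MulAction.mem_stabilizer_iff]
    ext i
    fin_cases i
    · exact ha
    · exact hb
  rwa [hsharp e, Subgroup.mem_bot] at h

/-- the fixed point free elements form a regular elementary abelian normal subgroup -/
theorem sharp_two_kernel (h2t : MulAction.IsMultiplyPretransitive G α 2)
    (hsharp : ∀ x : Fin 2 ↪ α, MulAction.stabilizer G x = ⊥) (h2 : 2 ≤ Fintype.card α) :
    ∃ (p : ℕ) (K : Subgroup G), p.Prime ∧ K.Normal ∧ (∀ x ∈ K, ∀ y ∈ K, x * y = y * x) ∧ (∀ x ∈ K, x ^ p = 1) ∧
      (∀ g : G, g ∈ K ↔ g = 1 ∨ ∀ a : α, g • a ≠ a) ∧ (∀ a b : α, ∃! x : K, (x : G) • a = b) ∧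
      Nat.card G = Fintype.card α * (Fintype.card α - 1) := by
  classical
  haveI := h2t
  haveI : Fintype G := Fintype.ofFinite G
  haveI : MulAction.IsPretransitive G α := MulAction.isPretransitive_of_is_two_pretransitive
  obtain ⟨n, hn⟩ : ∃ n, n = Fintype.card α := ⟨_, rfl⟩
  rw [← hn] at h2 ⊢
  obtain ⟨a₀, b₀, hab₀⟩ := Fintype.exists_pair_of_one_lt_card (show 1 < Fintype.card α by omega)
  have htwo : ∀ {a b c d : α}, a ≠ b → c ≠ d → ∃ g : G, g • a = c ∧ g • b = d :=
    fun h h' => MulAction.is_two_pretransitive_iff.1 h2t h h'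
  -- the order
  have hcard : Nat.card G = n * (n - 1) := by
    have hbij : Function.Bijective
        (fun g : G => (⟨(g • a₀, g • b₀), fun h => hab₀ (MulAction.injective g h)⟩ : {q : α × α // q.1 ≠ q.2})) := by
      refine ⟨fun g g' he => ?_, fun ⟨⟨x, y⟩, hxy⟩ => ?_⟩
      · simp only [Subtype.mk.injEq, Prod.mk.injEq] at he
        have h1 := sharp_two_fix hsharp (g := g'⁻¹ * g) hab₀ (by rw [mul_smul, he.1, inv_smul_smul])
          (by rw [mul_smul, he.2, inv_smul_smul])
        exact (inv_mul_eq_one.1 h1).symm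
      · obtain ⟨g, h1, h2'⟩ := htwo hab₀ hxy
        exact ⟨g, Subtype.ext (Prod.ext h1 h2')⟩
    rw [Nat.card_congr (Equiv.ofBijective _ hbij), Nat.card_eq_fintype_card, Fintype.card_subtype_compl,
      Fintype.card_prod, ← hn]
    have hdiag : Fintype.card {q : α × α // q.1 = q.2} = n := by
      rw [hn]
      exact Fintype.card_congr ⟨fun q => q.1.1, fun z => ⟨(z, z), rfl⟩, fun q => Subtype.ext (Prod.ext rfl q.2),
        fun z => rfl⟩
    rw [hdiag, Nat.mul_sub, mul_one]
  -- at most one fixed point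
  have hfix : ∀ g : G, g ≠ 1 → ∀ a b : α, g • a = a → g • b = b → a = b := fun g hg a b ha hb => by
    by_contra hab
    exact hg (sharp_two_fix hsharp hab ha hb)
  obtain ⟨D, hD⟩ : ∃ D : Finset G, D = Finset.univ.filter fun g : G => ∀ a : α, g • a ≠ a := ⟨_, rfl⟩
  have hDc : D.card + 1 = n := by
    -- count the elements with a fixed point
    have hstab : ∀ a : α, Nat.card (MulAction.stabilizer G a) = n - 1 := by
      intro a
      have h1 := Nat.card_congr (MulAction.orbitProdStabilizerEquivGroup G a)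
      rw [Nat.card_prod, MulAction.orbit_eq_univ, Nat.card_coe_set_eq, Set.ncard_univ, Nat.card_eq_fintype_card,
        ← hn, hcard] at h1
      exact Nat.eq_of_mul_eq_mul_left (by omega) h1
    have hU : (Finset.univ.filter fun g : G => g ≠ 1 ∧ ∃ a : α, g • a = a).card = n * (n - 2) := by
      have : (Finset.univ.filter fun g : G => g ≠ 1 ∧ ∃ a : α, g • a = a) =
          Finset.univ.biUnion fun a : α => Finset.univ.filter fun g : G => g ≠ 1 ∧ g • a = a := by
        ext g; simp
      rw [this, Finset.card_biUnion, Finset.sum_congr rfl (g := fun _ => n - 2) fun a _ => ?_, Finset.sum_const,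
        Finset.card_univ, ← hn, smul_eq_mul]
      · have h1 : (Finset.univ.filter fun g : G => g ≠ 1 ∧ g • a = a) =
            (Finset.univ.filter fun g : G => g • a = a).erase 1 := by ext g; simp
        rw [h1, Finset.card_erase_of_mem (by simp)]
        have h2' : (Finset.univ.filter fun g : G => g • a = a).card = n - 1 := by
          rw [← hstab a, Nat.card_eq_fintype_card, ← Fintype.card_subtype]
          exact Fintype.card_congr (Equiv.subtypeEquivRight fun g => MulAction.mem_stabilizer_iff.symm)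
        omega
      · intro a _ b _ hab
        rw [Function.onFun, Finset.disjoint_left]
        intro g hg hg'
        simp only [Finset.mem_filter] at hg hg'
        exact hab (hfix g hg.2.1 a b hg.2.2 hg'.2.2)
    have hsplit := Finset.card_filter_add_card_filter_not (s := (Finset.univ : Finset G))
      (fun g : G => g ≠ 1 ∧ ∃ a : α, g • a = a)
    have hrest : (Finset.univ.filter fun g : G => ¬ (g ≠ 1 ∧ ∃ a : α, g • a = a)) = insert 1 D := by
      ext g
      rw [hD]
      simp only [Finset.mem_filter, Finset.mem_univ, true_and, Finset.mem_insert, not_and, not_exists]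
      constructor
      · intro h
        by_cases hg : g = 1
        · exact Or.inl hg
        · exact Or.inr (h hg)
      · rintro (rfl | h) hg
        · exact absurd rfl hg
        · exact h
    have hnot : (1 : G) ∉ D := by
      rw [hD]; simp only [Finset.mem_filter, not_and]; exact fun _ h => h a₀ (one_smul _ _)
    rw [hrest, hU, Finset.card_insert_of_notMem hnot, Finset.card_univ, ← Nat.card_eq_fintype_card, hcard] at hsplit
    obtain ⟨m, rfl⟩ := Nat.exists_eq_add_of_le h2
    rw [show 2 + m - 2 = m by omega, show 2 + m - 1 = 1 + m by omega] at hsplit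
    nlinarith
  -- a derangement of prime order
  obtain ⟨p, hp, hpn⟩ := Nat.exists_prime_and_dvd (show n ≠ 1 by omega)
  haveI := Fact.mk hp
  obtain ⟨x, hx⟩ := exists_prime_orderOf_dvd_card' (G := G) p (hcard ▸ hpn.mul_right _)
  have hx1 : x ≠ 1 := fun h => hp.ne_one (by rw [← hx, h, orderOf_one])
  have hxD : ∀ a : α, x • a ≠ a := by
    intro a ha
    have h1 : (⟨x, MulAction.mem_stabilizer_iff.2 ha⟩ : MulAction.stabilizer G a) ^ p = 1 := Subtype.ext (by
      show x ^ p = 1
      rw [← hx, pow_orderOf_eq_one])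
    have h2' : orderOf (⟨x, MulAction.mem_stabilizer_iff.2 ha⟩ : MulAction.stabilizer G a) ∣ Nat.card (MulAction.stabilizer G a) := orderOf_dvd_natCard _
    have hst : Nat.card (MulAction.stabilizer G a) = n - 1 := by
      have h1 := Nat.card_congr (MulAction.orbitProdStabilizerEquivGroup G a)
      rw [Nat.card_prod, MulAction.orbit_eq_univ, Nat.card_coe_set_eq, Set.ncard_univ, Nat.card_eq_fintype_card,
        ← hn, hcard] at h1
      exact Nat.eq_of_mul_eq_mul_left (by omega) h1
    rw [hst, Subgroup.orderOf_mk, hx] at h2'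
    have := Nat.dvd_sub hpn h2'
    rw [show n - (n - 1) = 1 by omega, Nat.dvd_one] at this
    exact hp.ne_one this
  -- its centraliser
  have hCsemi : ∀ c ∈ Subgroup.centralizer ({x} : Set G), ∀ a : α, c • a = a → c = 1 := by
    intro c hc a ha
    have hcx : x * c = c * x := Subgroup.mem_centralizer_iff.1 hc x (Set.mem_singleton x)
    refine sharp_two_fix hsharp (hxD a).symm ha ?_
    rw [smul_smul, ← hcx, mul_smul, ha]
  obtain ⟨Cl, hCl⟩ : ∃ Cl : Finset G, Cl = Finset.univ.image fun g : G => g * x * g⁻¹ := ⟨_, rfl⟩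
  have hClD : Cl ⊆ D := by
    intro y hy
    rw [hCl, Finset.mem_image] at hy
    obtain ⟨g, -, rfl⟩ := hy
    rw [hD, Finset.mem_filter]
    refine ⟨Finset.mem_univ _, fun a ha => hxD (g⁻¹ • a) ?_⟩
    rw [mul_smul, mul_smul, smul_eq_iff_eq_inv_smul] at ha
    exact ha
  obtain ⟨C, hC⟩ : ∃ C, C = Subgroup.centralizer ({x} : Set G) := ⟨_, rfl⟩
  rw [← hC] at hCsemi
  have hmemc : ∀ z, z ∈ C ↔ z ∈ Subgroup.centralizer ({x} : Set G) := fun z => by rw [hC]
  have hCn : Nat.card C ≤ n := by
    rw [hn, ← Nat.card_eq_fintype_card]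
    refine Nat.card_le_card_of_injective (fun c : C => (c : G) • a₀) fun c d h => Subtype.ext ?_
    have h1 := hCsemi ((d : G)⁻¹ * c) (C.mul_mem (C.inv_mem d.2) c.2) a₀ (by
      rw [mul_smul, show (c : G) • a₀ = (d : G) • a₀ from h, inv_smul_smul])
    exact (inv_mul_eq_one.1 h1).symm
  have hClC : Cl.card * Nat.card C = n * (n - 1) := by
    rw [← hcard, ← Subgroup.index_mul_card C]
    congr 1
    rw [Subgroup.index, ← Nat.card_eq_finsetCard]
    refine Nat.card_congr (Equiv.symm (Equiv.ofBijective (fun q : G ⧸ C =>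
      (⟨q.out * x * q.out⁻¹, hCl ▸ Finset.mem_image.2 ⟨_, Finset.mem_univ _, rfl⟩⟩ : Cl)) ⟨fun q r h => ?_, ?_⟩))
    · have h' : q.out * x * q.out⁻¹ = r.out * x * r.out⁻¹ := congrArg Subtype.val h
      rw [← QuotientGroup.out_eq' q, ← QuotientGroup.out_eq' r, QuotientGroup.eq]
      refine (hmemc _).2 (Subgroup.mem_centralizer_iff.2 ?_)
      rintro _ rfl
      have h'' := congrArg (fun z => q.out⁻¹ * z * r.out) h'
      group at h'' ⊢
      exact h''
    · rintro ⟨y, hy⟩
      rw [hCl, Finset.mem_image] at hy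
      obtain ⟨g, -, rfl⟩ := hy
      obtain ⟨⟨c, hc⟩, hqc⟩ := QuotientGroup.mk_out_eq_mul C g
      refine ⟨(g : G ⧸ C), Subtype.ext ?_⟩
      show (g : G ⧸ C).out * x * (g : G ⧸ C).out⁻¹ = g * x * g⁻¹
      rw [hqc]
      rw [hmemc, Subgroup.mem_centralizer_iff] at hc
      show g * c * x * (g * c)⁻¹ = g * x * g⁻¹
      rw [mul_assoc g, ← hc x rfl]
      group
  have hClc : Cl.card = n - 1 ∧ Nat.card C = n := by
    have h1 := Finset.card_le_card hClD
    have h2' : Cl.card ≤ n - 1 := by omega
    have hpos : 0 < n - 1 := by omega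
    constructor
    · refine le_antisymm h2' ?_
      by_contra hlt
      have : Cl.card * Nat.card C < (n - 1) * n := Nat.mul_lt_mul_of_lt_of_le (by omega) hCn (by omega)
      rw [hClC, mul_comm] at this
      omega
    · refine le_antisymm hCn ?_
      by_contra hlt
      have : Cl.card * Nat.card C < (n - 1) * n := Nat.mul_lt_mul_of_le_of_lt h2' (by omega) hpos
      rw [hClC, mul_comm] at this
      omega
  have hClD' : Cl = D := Finset.eq_of_subset_of_card_le hClD (by omega)
  have hmemC : ∀ g : G, g ∈ C ↔ g = 1 ∨ ∀ a : α, g • a ≠ a := by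
    have hsub : (Finset.univ.filter fun g : G => g ∈ C) ⊆ insert 1 D := by
      intro g hg
      rw [Finset.mem_filter] at hg
      rw [Finset.mem_insert, hD, Finset.mem_filter]
      by_cases h1 : g = 1
      · exact Or.inl h1
      · exact Or.inr ⟨Finset.mem_univ _, fun a ha => h1 (hCsemi g hg.2 a ha)⟩
    have heq := Finset.eq_of_subset_of_card_le hsub (by
      refine le_trans (Finset.card_insert_le _ _) ?_
      rw [hDc, ← hClc.2, Nat.card_eq_fintype_card, Fintype.card_subtype])
    intro g
    have := Finset.ext_iff.1 heq g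
    rw [Finset.mem_filter, Finset.mem_insert, hD, Finset.mem_filter] at this
    simpa using this
  have hnormal : C.Normal := ⟨fun c hc g => by
    rw [hmemC] at hc ⊢
    rcases hc with rfl | hc
    · left; group
    · right
      intro a ha
      rw [mul_smul, mul_smul, smul_eq_iff_eq_inv_smul] at ha
      exact hc _ ha⟩
  have hconj : ∀ y ∈ C, y ≠ 1 → ∃ g : G, g * x * g⁻¹ = y := by
    intro y hy hy1
    have h1 : y ∈ Cl := by
      rw [hClD', hD, Finset.mem_filter]
      exact ⟨Finset.mem_univ _, ((hmemC y).1 hy).resolve_left hy1⟩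
    rw [hCl, Finset.mem_image] at h1
    obtain ⟨g, -, hg⟩ := h1
    exact ⟨g, hg⟩
  refine ⟨p, C, hp, hnormal, fun u hu v hv => ?_, fun u hu => ?_, hmemC, fun a b => ?_, hcard⟩
  · rcases eq_or_ne v 1 with rfl | hv1
    · rw [mul_one, one_mul]
    obtain ⟨g, rfl⟩ := hconj v hv hv1
    have h1 : g⁻¹ * u * g ∈ C := hnormal.conj_mem' u hu g
    rw [hC, Subgroup.mem_centralizer_iff] at h1
    have h2' := congrArg (fun z => g * z * g⁻¹) (h1 x rfl)
    group at h2' ⊢
    exact h2'.symm
  · rcases eq_or_ne u 1 with rfl | hu1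
    · exact one_pow p
    obtain ⟨g, rfl⟩ := hconj u hu hu1
    rw [conj_pow, ← hx, pow_orderOf_eq_one, mul_one, mul_inv_cancel]
  · have hbij : Function.Bijective (fun c : C => (c : G) • a) := by
      refine (Fintype.bijective_iff_injective_and_card _).2 ⟨fun c d h => Subtype.ext ?_, ?_⟩
      · have h1 := hCsemi ((d : G)⁻¹ * c) (C.mul_mem (C.inv_mem d.2) c.2) a (by
          rw [mul_smul, show (c : G) • a = (d : G) • a from h, inv_smul_smul])
        exact (inv_mul_eq_one.1 h1).symm
      · rw [← hn, ← Nat.card_eq_fintype_card, hClc.2]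
    obtain ⟨c, hc⟩ := hbij.2 b
    exact ⟨c, hc, fun d hd => hbij.1 (hd.trans hc.symm)⟩

end CfsgLib.Perm.Groups
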