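import Mathlib

/-!
# Automorphisms of alternating groups
-/

set_option autoImplicit false
set_option linter.all false

namespace CfsgLib.Perm.Groups.AltAut

open Equiv

variable {Ω : Type*} [Fintype Ω] [DecidableEq Ω]

/-- the three-cycle `a → b → x → a` -/
def cyc (a b x : Ω) : Perm Ω := swap a b * swap b x

theorem cyc_apply₁ {a b x : Ω} (hab : a ≠ b) (hax : a ≠ x) : cyc a b x a = b := by
  rw [cyc, Perm.mul_apply, swap_apply_of_ne_of_ne hab hax, swap_apply_left]

theorem cyc_apply₂ {a b x : Ω} (hax : a ≠ x) (hbx : b ≠ x) : cyc a b x b = x := by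
  rw [cyc, Perm.mul_apply, swap_apply_left, swap_apply_of_ne_of_ne hax.symm hbx.symm]

theorem cyc_apply₃ (a b x : Ω) : cyc a b x x = a := by
  rw [cyc, Perm.mul_apply, swap_apply_right, swap_apply_right]

theorem cyc_apply_other {a b x y : Ω} (h1 : y ≠ a) (h2 : y ≠ b) (h3 : y ≠ x) : cyc a b x y = y := by
  rw [cyc, Perm.mul_apply, swap_apply_of_ne_of_ne h2 h3, swap_apply_of_ne_of_ne h1 h2]

theorem cyc_isThreeCycle {a b x : Ω} (hab : a ≠ b) (hax : a ≠ x) (hbx : b ≠ x) : (cyc a b x).IsThreeCycle := by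
  rw [cyc, swap_comm a b]
  exact Perm.isThreeCycle_swap_mul_swap_same hab.symm hbx hax

theorem eq_cyc {g : Perm Ω} (hg : g.IsThreeCycle) {u : Ω} (hu : g u ≠ u) :
    g = cyc u (g u) (g (g u)) ∧ u ≠ g u ∧ u ≠ g (g u) ∧ g u ≠ g (g u) := by
  have hs : u ∈ g.support := Perm.mem_support.2 hu
  have hnd := hg.nodup_iff_mem_support.2 hs
  simp only [List.nodup_cons, List.mem_cons, List.not_mem_nil, or_false, not_or, List.nodup_nil, and_true] at hnd
  exact ⟨hg.eq_swap_mul_swap_iff_mem_support.2 hs, hnd.1.1, hnd.1.2, hnd.2.1⟩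

theorem three_apply {g : Perm Ω} (hg : g.IsThreeCycle) (u : Ω) : g (g (g u)) = u := by
  have h := pow_orderOf_eq_one g
  rw [hg.orderOf] at h
  have := congrArg (fun k : Perm Ω => k u) h
  simpa [pow_succ] using this

/-- two three-cycles with an involution as product share an arc -/
theorem share_arc {f g : Perm Ω} (hf : f.IsThreeCycle) (hg : g.IsThreeCycle) (h2 : f * g * (f * g) = 1)
    (h1 : f * g ≠ 1) : ∃ u, f u ≠ u ∧ g u = f u := by
  by_cases hfix : ∃ p, f p ≠ p ∧ g p = p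
  · obtain ⟨p, hp, hgp⟩ := hfix
    refine ⟨f p, fun h => hp (f.injective h), ?_⟩
    have h := congrArg (fun k : Perm Ω => k p) h2
    simp only [Perm.mul_apply, Perm.one_apply, hgp] at h
    exact f.injective (h.trans (three_apply hf p).symm)
  push Not at hfix
  exfalso
  have hsup : f.support = g.support := Finset.eq_of_subset_of_card_le
    (fun p hp => Perm.mem_support.2 (hfix p (Perm.mem_support.1 hp))) (by rw [hf.card_support, hg.card_support])
  obtain ⟨p, hp⟩ := Finset.card_pos.1 (show 0 < f.support.card by rw [hf.card_support]; norm_num)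
  obtain ⟨ef, f1, f2, f3⟩ := eq_cyc hf (Perm.mem_support.1 hp)
  obtain ⟨eg, g1, g2, g3⟩ := eq_cyc hg (Perm.mem_support.1 (hsup ▸ hp))
  have hsf := hf.support_eq_iff_mem_support.2 hp
  have hmem : ∀ z ∈ g.support, z = p ∨ z = f p ∨ z = f (f p) := fun z hz => by
    rw [← hsup, hsf] at hz
    simpa using hz
  have m1 := hmem (g p) (Perm.apply_mem_support.2 (hsup ▸ hp))
  have m2 := hmem (g (g p)) (Perm.apply_mem_support.2 (Perm.apply_mem_support.2 (hsup ▸ hp)))
  rcases m1 with m1 | m1 | m1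
  · exact g1 m1.symm
  · have m2' : g (g p) = f (f p) := by
      rcases m2 with m2 | m2 | m2
      · exact absurd m2.symm g2
      · exact absurd (m1.trans m2.symm) g3
      · exact m2
    have hgf : g = f := by rw [eg, ef, m2', m1]
    rw [hgf] at h2
    have hf3 := pow_orderOf_eq_one f
    rw [hf.orderOf] at hf3
    refine hf.isCycle.ne_one ?_
    calc f = f ^ 3 * f := by rw [hf3, one_mul]
      _ = f * f * (f * f) := by simp [pow_succ, mul_assoc]
      _ = 1 := h2
  · have m2' : g (g p) = f p := by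
      rcases m2 with m2 | m2 | m2
      · exact absurd m2.symm g2
      · exact m2
      · exact absurd (m1.trans m2.symm) g3
    refine h1 (Equiv.ext fun z => ?_)
    rw [Perm.mul_apply, Perm.one_apply]
    by_cases hz : z ∈ g.support
    · rcases hmem z hz with rfl | rfl | rfl
      · rw [m1, three_apply hf]
      · rw [← m2', three_apply hg]; exact m2'.symm
      · rw [← m1, m2']; exact m1.symm
    · have hgz : g z = z := by simpa [Perm.mem_support] using hz
      rw [hgz]
      simpa [Perm.mem_support] using (hsup ▸ hz : z ∉ f.support)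

theorem cyc_closure {a b : Ω} (hab : a ≠ b) {S : Subgroup (Perm Ω)} (h : ∀ x, x ≠ a → x ≠ b → cyc a b x ∈ S) :
    alternatingGroup Ω ≤ S := by
  rw [← Perm.closure_three_cycles_eq_alternating, Subgroup.closure_le]
  have hA : ∀ x y, x ≠ a → y ≠ a → x ≠ y → cyc a x y ∈ S := by
    intro x y hxa hya hxy
    rcases eq_or_ne x b with rfl | hxb
    · exact h y hya hxy.symm
    rcases eq_or_ne y b with rfl | hyb
    · have e : cyc a x y = (cyc a y x)⁻¹ := by
        refine eq_inv_of_mul_eq_one_left (Equiv.ext fun z => ?_)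
        simp only [cyc, Perm.mul_apply, Perm.one_apply, swap_apply_def]
        grind
      rw [e]
      exact S.inv_mem (h x hxa hxb)
    have e : cyc a x y = cyc a b y * (cyc a b x)⁻¹ := by
      refine eq_mul_inv_of_mul_eq (Equiv.ext fun z => ?_)
      simp only [cyc, Perm.mul_apply, swap_apply_def]
      grind
    rw [e]
    exact S.mul_mem (h y hya hyb) (S.inv_mem (h x hxa hxb))
  intro g hg
  obtain ⟨p, hp⟩ := Finset.card_pos.1 (show 0 < g.support.card by rw [hg.card_support]; norm_num)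
  obtain ⟨e, e1, e2, e3⟩ := eq_cyc hg (Perm.mem_support.1 hp)
  show g ∈ S
  by_cases hga : g a = a
  · have hne : ∀ z, g z ≠ z → z ≠ a := fun z hz hza => hz (hza ▸ hga)
    have hpa := hne p (Perm.mem_support.1 hp)
    have hqa := hne (g p) fun h' => e3 h'.symm
    have hra := hne (g (g p)) fun h' => e2 ((three_apply hg p).symm.trans h')
    have hprod : g = cyc a p (g p) * cyc a (g p) (g (g p)) := by
      conv_lhs => rw [e]
      refine Equiv.ext fun z => ?_
      simp only [cyc, Perm.mul_apply, swap_apply_def]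
      grind
    rw [hprod]
    exact S.mul_mem (hA _ _ hpa hqa e1) (hA _ _ hqa hra e3)
  · obtain ⟨e', f1, f2, f3⟩ := eq_cyc hg hga
    rw [e']
    exact hA _ _ f1.symm f2.symm f3

/-- a group automorphism preserving three-cycles is a conjugation -/
theorem exists_conj_of_three_cycles (hn : 4 ≤ Fintype.card Ω) (φ : alternatingGroup Ω ≃* alternatingGroup Ω)
    (h : ∀ g : alternatingGroup Ω, (g : Perm Ω).IsThreeCycle → (φ g : Perm Ω).IsThreeCycle) :
    ∃ σ : Perm Ω, ∀ g, (φ g : Perm Ω) = σ * g * σ⁻¹ := by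
  classical
  obtain ⟨a, b, hab⟩ := Fintype.exists_pair_of_one_lt_card (show 1 < Fintype.card Ω by omega)
  let c : ∀ x, x ≠ a → x ≠ b → alternatingGroup Ω := fun x h1 h2 =>
    ⟨cyc a b x, (cyc_isThreeCycle hab h1.symm h2.symm).mem_alternatingGroup⟩
  obtain ⟨x₁, hx₁, x₂, hx₂, h12⟩ : ∃ x₁, (x₁ ≠ a ∧ x₁ ≠ b) ∧ ∃ x₂, (x₂ ≠ a ∧ x₂ ≠ b) ∧ x₁ ≠ x₂ := by
    have : 1 < (((Finset.univ : Finset Ω).erase a).erase b).card := by
      rw [Finset.card_erase_of_mem (by simp [hab.symm]), Finset.card_erase_of_mem (Finset.mem_univ _), Finset.card_univ]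
      omega
    obtain ⟨x, hx, y, hy, hxy⟩ := Finset.one_lt_card.1 this
    simp only [Finset.mem_erase, Finset.mem_univ, and_true] at hx hy
    exact ⟨x, ⟨hx.2, hx.1⟩, y, ⟨hy.2, hy.1⟩, hxy⟩
  let G : ∀ x, x ≠ a → x ≠ b → Perm Ω := fun x h1 h2 => (φ (c x h1 h2) : Perm Ω)
  have hG3 : ∀ x h1 h2, (G x h1 h2).IsThreeCycle := fun x h1 h2 => h _ (cyc_isThreeCycle hab (Ne.symm h1) (Ne.symm h2))
  have hG : ∀ x y h1 h2 k1 k2, x ≠ y → (∃ u, G x h1 h2 u ≠ u ∧ G y k1 k2 u = G x h1 h2 u) := by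
    intro x y h1 h2 k1 k2 hxy
    refine share_arc (hG3 x h1 h2) (hG3 y k1 k2) ?_ ?_
    · have e : c x h1 h2 * c y k1 k2 * (c x h1 h2 * c y k1 k2) = 1 := by
        refine Subtype.ext (Equiv.ext fun z => ?_)
        simp only [c, Subgroup.coe_mul, OneMemClass.coe_one, cyc, Perm.mul_apply, Perm.one_apply, swap_apply_def]
        grind
      have := congrArg (fun g => (φ g : Perm Ω)) e
      simpa [G] using this
    · intro e
      have e' : φ (c x h1 h2) * φ (c y k1 k2) = 1 := Subtype.ext e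
      rw [← map_mul, ← map_one φ] at e'
      have := congrArg (fun g : alternatingGroup Ω => (g : Perm Ω) a) (φ.injective e')
      simp only [c, Subgroup.coe_mul, Perm.mul_apply, OneMemClass.coe_one, Perm.one_apply, cyc_apply₁ hab k1.symm,
        cyc_apply₂ h1.symm h2.symm] at this
      exact h1 this
  have hGinj : ∀ x y h1 h2 k1 k2, G x h1 h2 = G y k1 k2 → x = y := by
    intro x y h1 h2 k1 k2 e
    have e' := congrArg (fun g : alternatingGroup Ω => (g : Perm Ω) b) (φ.injective (Subtype.ext e))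
    simp only [c, cyc_apply₂ h1.symm h2.symm, cyc_apply₂ k1.symm k2.symm] at e'
    exact e'
  obtain ⟨u, hu, hu2⟩ := hG x₁ x₂ hx₁.1 hx₁.2 hx₂.1 hx₂.2 h12
  obtain ⟨v, hv⟩ : ∃ v, v = G x₁ hx₁.1 hx₁.2 u := ⟨_, rfl⟩
  rw [← hv] at hu hu2
  obtain ⟨e₁, -, p1, p2⟩ := eq_cyc (hG3 x₁ hx₁.1 hx₁.2) (show G x₁ hx₁.1 hx₁.2 u ≠ u by rw [← hv]; exact hu)
  obtain ⟨e₂, -, q1, q2⟩ := eq_cyc (hG3 x₂ hx₂.1 hx₂.2) (show G x₂ hx₂.1 hx₂.2 u ≠ u by rw [hu2]; exact hu)
  rw [← hv] at e₁ p1 p2
  rw [hu2] at e₂ q1 q2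
  obtain ⟨w₁, hw₁⟩ : ∃ w, w = G x₁ hx₁.1 hx₁.2 v := ⟨_, rfl⟩
  obtain ⟨w₂, hw₂⟩ : ∃ w, w = G x₂ hx₂.1 hx₂.2 v := ⟨_, rfl⟩
  rw [← hw₁] at e₁ p1 p2
  rw [← hw₂] at e₂ q1 q2
  have hw : w₁ ≠ w₂ := fun e => h12 (hGinj x₁ x₂ hx₁.1 hx₁.2 hx₂.1 hx₂.2 (by rw [e₁, e₂, e]))
  have huv : u ≠ v := Ne.symm hu
  have hall : ∀ x h1 h2, G x h1 h2 u = v := by
    intro x h1 h2
    rcases eq_or_ne x x₁ with rfl | hxx₁
    · exact hv.symm
    rcases eq_or_ne x x₂ with rfl | hxx₂
    · exact hu2
    by_contra hne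
    obtain ⟨s, hs, hs'⟩ := hG x₁ x hx₁.1 hx₁.2 h1 h2 hxx₁.symm
    obtain ⟨s', hs2, hs2'⟩ := hG x₂ x hx₂.1 hx₂.2 h1 h2 hxx₂.symm
    have key : ∀ (g : Perm Ω) w t, g = cyc u v w → u ≠ w → v ≠ w → g t ≠ t → G x h1 h2 t = g t →
        (G x h1 h2 v = w) ∨ (G x h1 h2 w = u) := by
      intro g w t hg huw hvw ht htt
      rcases eq_or_ne t u with rfl | t1
      · rw [hg, cyc_apply₁ huv huw] at htt
        exact absurd htt hne
      rcases eq_or_ne t v with rfl | t2
      · rw [hg, cyc_apply₂ huw hvw] at htt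
        exact Or.inl htt
      rcases eq_or_ne t w with rfl | t3
      · rw [hg, cyc_apply₃] at htt
        exact Or.inr htt
      exact absurd (by rw [hg, cyc_apply_other t1 t2 t3]) ht
    have hfour : ∀ w w', u ≠ w → v ≠ w → u ≠ w' → v ≠ w' → w ≠ w' → G x h1 h2 v = w → G x h1 h2 w' = u → False := by
      intro w w' huw hvw huw' hvw' hww ea eb
      have hsub : ({v, w, w', u} : Finset Ω) ⊆ (G x h1 h2).support := by
        have m1 : v ∈ (G x h1 h2).support := Perm.mem_support.2 (by rw [ea]; exact hvw.symm)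
        have m3 : w' ∈ (G x h1 h2).support := Perm.mem_support.2 (by rw [eb]; exact huw')
        intro z hz
        simp only [Finset.mem_insert, Finset.mem_singleton] at hz
        rcases hz with rfl | rfl | rfl | rfl
        · exact m1
        · rw [← ea]; exact Perm.apply_mem_support.2 m1
        · exact m3
        · rw [← eb]; exact Perm.apply_mem_support.2 m3
      have := Finset.card_le_card hsub
      rw [(hG3 x h1 h2).card_support, Finset.card_insert_of_notMem (by simp [hvw, hvw', huv.symm]),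
        Finset.card_insert_of_notMem (by simp [hww, huw.symm]), Finset.card_pair huw'.symm] at this
      omega
    rcases key _ w₁ s e₁ p1 p2 hs hs' with k1 | k1 <;> rcases key _ w₂ s' e₂ q1 q2 hs2 hs2' with k2 | k2
    · exact hw (k1.symm.trans k2)
    · exact hfour w₁ w₂ p1 p2 q1 q2 hw k1 k2
    · exact hfour w₂ w₁ q1 q2 p1 p2 hw.symm k2 k1
    · exact hw ((G x h1 h2).injective (k1.trans k2.symm))
  let W : Ω → Ω := fun x => if hx : x ≠ a ∧ x ≠ b then G x hx.1 hx.2 v else if x = a then u else v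
  have hGW : ∀ x (h1 : x ≠ a) (h2 : x ≠ b), G x h1 h2 = cyc u v (W x) ∧ W x ≠ u ∧ W x ≠ v := by
    intro x h1 h2
    obtain ⟨e, -, r1, r2⟩ := eq_cyc (hG3 x h1 h2) (show G x h1 h2 u ≠ u by rw [hall x h1 h2]; exact hu)
    rw [hall x h1 h2] at e r1 r2
    have hW : W x = G x h1 h2 v := dif_pos ⟨h1, h2⟩
    rw [← hW] at e r1 r2
    exact ⟨e, r1.symm, r2.symm⟩
  have hWa : W a = u := by simp [W]
  have hWb : W b = v := by simp [W, hab.symm]
  have hWinj : Function.Injective W := by
    have hr : ∀ z, z ≠ a → z ≠ b → W z ≠ u ∧ W z ≠ v := fun z h1 h2 => (hGW z h1 h2).2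
    intro y z hyz
    rcases eq_or_ne y a with rfl | y1
    · rcases eq_or_ne z y with rfl | z1
      · rfl
      rcases eq_or_ne z b with rfl | z2
      · rw [hWa, hWb] at hyz; exact absurd hyz huv
      exact absurd (hyz.symm.trans hWa) (hr z z1 z2).1
    rcases eq_or_ne y b with rfl | y2
    · rcases eq_or_ne z a with rfl | z1
      · rw [hWa, hWb] at hyz; exact absurd hyz huv.symm
      rcases eq_or_ne z y with rfl | z2
      · rfl
      exact absurd (hyz.symm.trans hWb) (hr z z1 z2).2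
    rcases eq_or_ne z a with rfl | z1
    · exact absurd (hyz.trans hWa) (hr y y1 y2).1
    rcases eq_or_ne z b with rfl | z2
    · exact absurd (hyz.trans hWb) (hr y y1 y2).2
    exact hGinj y z y1 y2 z1 z2 (by rw [(hGW y y1 y2).1, (hGW z z1 z2).1, hyz])
  let σ : Perm Ω := Equiv.ofBijective W (Finite.injective_iff_bijective.1 hWinj)
  refine ⟨σ, fun g => ?_⟩
  let T : Subgroup (Perm Ω) :=
    { carrier := {p | ∃ hp : p ∈ alternatingGroup Ω, (φ ⟨p, hp⟩ : Perm Ω) = σ * p * σ⁻¹}
      one_mem' := ⟨one_mem _, by rw [show (⟨1, one_mem _⟩ : alternatingGroup Ω) = 1 from rfl, map_one]; simp⟩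
      mul_mem' := by
        rintro p q ⟨hp, ep⟩ ⟨hq, eq⟩
        refine ⟨mul_mem hp hq, ?_⟩
        rw [show (⟨p * q, mul_mem hp hq⟩ : alternatingGroup Ω) = ⟨p, hp⟩ * ⟨q, hq⟩ from rfl, map_mul, Subgroup.coe_mul,
          ep, eq]
        group
      inv_mem' := by
        rintro p ⟨hp, ep⟩
        refine ⟨inv_mem hp, ?_⟩
        rw [show (⟨p⁻¹, inv_mem hp⟩ : alternatingGroup Ω) = ⟨p, hp⟩⁻¹ from rfl, map_inv, InvMemClass.coe_inv, ep]
        group }
  have hT : alternatingGroup Ω ≤ T := cyc_closure hab fun x h1 h2 => by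
    refine ⟨(cyc_isThreeCycle hab h1.symm h2.symm).mem_alternatingGroup, ?_⟩
    show G x h1 h2 = σ * cyc a b x * σ⁻¹
    rw [(hGW x h1 h2).1, cyc, cyc, ← hWa, ← hWb]
    show swap (σ a) (σ b) * swap (σ b) (σ x) = _
    rw [swap_apply_apply, swap_apply_apply]
    group
  obtain ⟨_, e⟩ := hT g.2
  exact e

theorem factorial_key {n k : ℕ} (hk : 3 * k ≤ n) (hk0 : k ≠ 0) (h6 : n ≠ 6)
    (h : 3 * Nat.factorial (n - 3) ≤ 2 * (Nat.factorial (n - k * 3) * 3 ^ k * Nat.factorial k)) : k = 1 := by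
  by_contra hk1
  rcases Nat.lt_or_ge k 3 with hk3 | hk3
  · have hk2 : k = 2 := by omega
    subst hk2
    obtain ⟨m, rfl⟩ : ∃ m, n = m + 7 := ⟨n - 7, by omega⟩
    rw [show m + 7 - 2 * 3 = m + 1 by omega, show m + 7 - 3 = m + 1 + 1 + 1 + 1 by omega,
      Nat.factorial_succ (m + 1 + 1 + 1), Nat.factorial_succ (m + 1 + 1), Nat.factorial_succ (m + 1)] at h
    have h1 := Nat.factorial_pos (m + 1)
    rw [show Nat.factorial 2 = 2 from rfl] at h
    nlinarith [Nat.mul_le_mul (Nat.mul_le_mul (show 4 ≤ m + 1 + 1 + 1 + 1 by omega) (show 3 ≤ m + 1 + 1 + 1 by omega))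
      (show 2 ≤ m + 1 + 1 by omega)]
  · have hbig : ∀ j, 2 * 3 ^ (j + 3) * Nat.factorial (j + 3) < 3 * Nat.factorial (3 * (j + 3) - 3) := by
      intro j
      induction j with
      | zero => decide
      | succ j ih =>
        rw [show 3 * (j + 1 + 3) - 3 = (3 * (j + 3) - 3) + 1 + 1 + 1 by omega,
          Nat.factorial_succ (3 * (j + 3) - 3 + 1 + 1), Nat.factorial_succ (3 * (j + 3) - 3 + 1),
          Nat.factorial_succ (3 * (j + 3) - 3), show j + 1 + 3 = (j + 3) + 1 by omega, pow_succ,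
          Nat.factorial_succ (j + 3)]
        have h1 : 3 * (j + 3 + 1) ≤ (3 * (j + 3) - 3 + 1 + 1 + 1) * ((3 * (j + 3) - 3 + 1 + 1) * (3 * (j + 3) - 3 + 1)) :=
          le_trans (show 3 * (j + 3 + 1) ≤ (3 * (j + 3) - 3 + 1 + 1 + 1) * 2 by omega)
            (Nat.mul_le_mul_left _ (by nlinarith [show 1 ≤ 3 * (j + 3) - 3 + 1 by omega, show 2 ≤ 3 * (j + 3) - 3 + 1 + 1 by omega]))
        calc 2 * (3 ^ (j + 3) * 3) * ((j + 3 + 1) * Nat.factorial (j + 3))
            = (3 * (j + 3 + 1)) * (2 * 3 ^ (j + 3) * Nat.factorial (j + 3)) := by ring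
          _ < (3 * (j + 3 + 1)) * (3 * Nat.factorial (3 * (j + 3) - 3)) := Nat.mul_lt_mul_of_pos_left ih (by omega)
          _ ≤ ((3 * (j + 3) - 3 + 1 + 1 + 1) * ((3 * (j + 3) - 3 + 1 + 1) * (3 * (j + 3) - 3 + 1))) *
              (3 * Nat.factorial (3 * (j + 3) - 3)) := Nat.mul_le_mul_right _ h1
          _ = _ := by ring
    have h1 : Nat.factorial (n - k * 3) * Nat.factorial (3 * k - 3) ≤ Nat.factorial (n - 3) := by
      refine Nat.le_of_dvd (Nat.factorial_pos _) ?_
      have := Nat.factorial_mul_factorial_dvd_factorial (show n - k * 3 ≤ n - 3 by omega)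
      rwa [show n - 3 - (n - k * 3) = 3 * k - 3 by omega] at this
    have h2 := hbig (k - 3)
    rw [show k - 3 + 3 = k by omega] at h2
    have := Nat.factorial_pos (n - k * 3)
    nlinarith

theorem centralizer_bounds (g : alternatingGroup Ω) [Nontrivial Ω] :
    Nat.card (Subgroup.centralizer ({g} : Set (alternatingGroup Ω))) ≤
        Nat.card (Subgroup.centralizer ({(g : Perm Ω)} : Set (Perm Ω))) ∧
      Nat.card (Subgroup.centralizer ({(g : Perm Ω)} : Set (Perm Ω))) ≤
        2 * Nat.card (Subgroup.centralizer ({g} : Set (alternatingGroup Ω))) := by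
  let C := Subgroup.centralizer ({(g : Perm Ω)} : Set (Perm Ω))
  have e : Subgroup.centralizer ({g} : Set (alternatingGroup Ω)) = C.subgroupOf (alternatingGroup Ω) := by
    ext x
    simp only [Subgroup.mem_subgroupOf, C, Subgroup.mem_centralizer_singleton_iff, Subtype.ext_iff, Subgroup.coe_mul]
  have h1 : Nat.card (Subgroup.centralizer ({g} : Set (alternatingGroup Ω))) = Nat.card ↥(C ⊓ alternatingGroup Ω) := by
    rw [e, ← Subgroup.inf_subgroupOf_right,
      Nat.card_congr (Subgroup.subgroupOfEquivOfLe (inf_le_right : C ⊓ alternatingGroup Ω ≤ _)).toEquiv]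
  rw [h1]
  refine ⟨Subgroup.card_le_of_le inf_le_left, ?_⟩
  have h2 := Subgroup.card_mul_index ((C ⊓ alternatingGroup Ω).subgroupOf C)
  rw [Nat.card_congr (Subgroup.subgroupOfEquivOfLe (inf_le_left : C ⊓ alternatingGroup Ω ≤ C)).toEquiv] at h2
  have h3 : ((C ⊓ alternatingGroup Ω).subgroupOf C).index ≤ 2 := by
    rw [show ((C ⊓ alternatingGroup Ω).subgroupOf C).index = (C ⊓ alternatingGroup Ω).relIndex C from rfl,
      Subgroup.inf_relIndex_left, ← alternatingGroup.index_eq_two (α := Ω), Subgroup.relIndex,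
      ← Subgroup.relIndex_top_right (alternatingGroup Ω)]
    exact Nat.le_of_dvd (by rw [Subgroup.relIndex_top_right, alternatingGroup.index_eq_two]; norm_num)
      (Subgroup.relIndex_dvd_index_of_normal (alternatingGroup Ω) C |>.trans (by rw [Subgroup.relIndex_top_right]))
  rw [← h2, mul_comm 2]
  exact Nat.mul_le_mul_left _ h3

theorem centralizer_image (φ : alternatingGroup Ω ≃* alternatingGroup Ω) (g : alternatingGroup Ω) :
    Nat.card (Subgroup.centralizer ({φ g} : Set (alternatingGroup Ω))) =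
      Nat.card (Subgroup.centralizer ({g} : Set (alternatingGroup Ω))) := by
  refine (Nat.card_congr ((φ.subgroupMap _).toEquiv.trans (MulEquiv.subgroupCongr ?_).toEquiv)).symm
  ext x
  simp only [Subgroup.mem_map, Subgroup.mem_centralizer_singleton_iff]
  constructor
  · rintro ⟨y, hy, rfl⟩
    show φ y * φ g = φ g * φ y
    rw [← map_mul, hy, map_mul]
  · intro hx
    refine ⟨φ.symm x, φ.injective ?_, φ.apply_symm_apply x⟩
    rw [map_mul, map_mul, φ.apply_symm_apply, hx]

theorem image_three_cycle (hn : 4 ≤ Fintype.card Ω) (h6 : Fintype.card Ω ≠ 6)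
    (φ : alternatingGroup Ω ≃* alternatingGroup Ω) {g : alternatingGroup Ω} (hg : (g : Perm Ω).IsThreeCycle) :
    (φ g : Perm Ω).IsThreeCycle := by
  haveI : Nontrivial Ω := Fintype.one_lt_card_iff_nontrivial.1 (by omega)
  have hord : orderOf (φ g : Perm Ω) = 3 := by
    rw [Subgroup.orderOf_coe, φ.orderOf_eq, ← Subgroup.orderOf_coe, hg.orderOf]
  obtain ⟨k, hk⟩ := Perm.cycleType_prime_order (by rw [hord]; exact Nat.prime_three)
  rw [hord] at hk
  have hsum := (φ g : Perm Ω).sum_cycleType_le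
  rw [hk, Multiset.sum_replicate, smul_eq_mul] at hsum
  suffices k + 1 = 1 by
    show (φ g : Perm Ω).cycleType = {3}
    rw [hk, Nat.succ.inj this]
    rfl
  refine factorial_key (n := Fintype.card Ω) (by omega) k.succ_ne_zero h6 ?_
  have hc : ∀ (p : Perm Ω) (j : ℕ), p.cycleType = Multiset.replicate (j + 1) 3 →
      Nat.card (Subgroup.centralizer ({p} : Set (Perm Ω))) =
        Nat.factorial (Fintype.card Ω - (j + 1) * 3) * 3 ^ (j + 1) * Nat.factorial (j + 1) := fun p j hj => by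
    rw [Perm.nat_card_centralizer, hj, Multiset.sum_replicate, smul_eq_mul, Multiset.prod_replicate,
      Multiset.toFinset_replicate, if_neg j.succ_ne_zero, Finset.prod_singleton, Multiset.count_replicate_self]
  obtain ⟨-, h1⟩ := centralizer_bounds g
  obtain ⟨h2, -⟩ := centralizer_bounds (φ g)
  rw [hc _ 0 hg] at h1
  rw [hc _ k hk, centralizer_image φ g] at h2
  simp only [Nat.factorial_one, zero_add, pow_one, one_mul, mul_one] at h1
  linarith

theorem conjNormal_bijective (hn : 4 ≤ Fintype.card Ω) (h6 : Fintype.card Ω ≠ 6) :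
    Function.Bijective (MulAut.conjNormal : Perm Ω →* MulAut ↥(alternatingGroup Ω)) := by
  refine ⟨(injective_iff_map_eq_one _).2 fun s hs => ?_, fun φ => ?_⟩
  · refine Equiv.ext fun x => ?_
    by_contra hx
    rw [Perm.one_apply] at hx
    obtain ⟨y, hy⟩ : ∃ y, y ∉ ({x, s x} : Finset Ω) := by
      by_contra hc
      push Not at hc
      have := Finset.card_le_card (show (Finset.univ : Finset Ω) ⊆ {x, s x} from fun z _ => hc z)
      rw [Finset.card_univ] at this
      have := Finset.card_le_two (a := x) (b := s x)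
      omega
    obtain ⟨z, hz⟩ : ∃ z, z ∉ ({x, s x, y} : Finset Ω) := by
      by_contra hc
      push Not at hc
      have := Finset.card_le_card (show (Finset.univ : Finset Ω) ⊆ {x, s x, y} from fun w _ => hc w)
      rw [Finset.card_univ] at this
      have := Finset.card_le_three (a := x) (b := s x) (c := y)
      omega
    simp only [Finset.mem_insert, Finset.mem_singleton, not_or] at hy hz
    have hm := (cyc_isThreeCycle (Ne.symm hy.2) (Ne.symm hz.2.1) (Ne.symm hz.2.2)).mem_alternatingGroup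
    have h1 := congrArg (fun w : MulAut (alternatingGroup Ω) => ((w ⟨_, hm⟩ : alternatingGroup Ω) : Perm Ω) (s x)) hs
    simp only [MulAut.conjNormal_apply, MulAut.one_apply, Perm.mul_apply] at h1
    rw [show s⁻¹ (s x) = x from s.symm_apply_apply x,
      cyc_apply_other (Ne.symm hx) (Ne.symm hy.1) (Ne.symm hz.1), cyc_apply₁ (Ne.symm hy.2) (Ne.symm hz.2.1)] at h1
    exact hy.2 h1.symm
  · obtain ⟨σ, hσ⟩ := exists_conj_of_three_cycles hn φ fun g hg => image_three_cycle hn h6 φ hg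
    exact ⟨σ, MulEquiv.ext fun g => Subtype.ext (by rw [MulAut.conjNormal_apply, hσ])⟩

end CfsgLib.Perm.Groups.AltAut
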