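import Mathlib

/-!
# Normalizers of subgroups of prime order in symmetric groups of small degree
-/

set_option autoImplicit false

namespace CfsgLib.Perm.Groups

open Equiv Equiv.Perm
open scoped Nat

variable {α : Type*} [Fintype α] [DecidableEq α] {p : ℕ} [hp : Fact p.Prime]

theorem card_sylow_perm (hn : p ≤ Fintype.card α) (hn2 : Fintype.card α < 2 * p) (P : Sylow p (Perm α)) :
    Nat.card (P : Subgroup (Perm α)) = p := by
  rw [Sylow.card_eq_multiplicity, Nat.card_eq_fintype_card, Fintype.card_perm, Nat.factorization_def _ hp.out,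
    padicValNat_factorial (b := 2)]
  · rw [Nat.Ico_succ_singleton, Finset.sum_singleton, pow_one, Nat.div_eq_of_lt_le (k := 1) (by omega) (by omega),
      pow_one]
  · apply Nat.log_lt_of_lt_pow
    · have := hp.out.pos; omega
    · have := hp.out.two_le
      nlinarith

theorem card_normalizer_of_card_prime (hn2 : Fintype.card α < 2 * p) (H : Subgroup (Perm α))
    (hH : Nat.card H = p) :
    Nat.card (Subgroup.normalizer (H : Set (Perm α))) = (Fintype.card α - p)! * p * (p - 1) := by
  classical
  obtain ⟨x, hx⟩ := isCyclic_iff_exists_zpowers_eq_top.1 (isCyclic_of_prime_card hH)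
  obtain ⟨c, hcdef⟩ : ∃ c : Perm α, c = x := ⟨_, rfl⟩
  have hcH : c ∈ H := hcdef ▸ x.2
  have hord : ∀ y : Perm α, y ∈ H → y ≠ 1 → orderOf y = p := by
    intro y hy hy1
    have h1 : orderOf (⟨y, hy⟩ : H) ∣ p := hH ▸ orderOf_dvd_natCard _
    rcases (Nat.dvd_prime hp.out).1 h1 with h | h
    · exact absurd (congrArg Subtype.val (orderOf_eq_one_iff.1 h)) hy1
    · rw [← h, Subgroup.orderOf_mk]
  have hc1 : c ≠ 1 := by
    intro h
    have : x = 1 := Subtype.ext (hcdef ▸ h)
    rw [this, Subgroup.zpowers_one_eq_bot] at hx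
    have : Nat.card H = 1 := by
      rw [← Subgroup.card_top (G := H), ← hx, Subgroup.card_bot]
    rw [hH] at this
    exact hp.out.one_lt.ne' this
  have htype : ∀ y : Perm α, orderOf y = p → y.cycleType = {p} := by
    intro y hy
    obtain ⟨m, hm⟩ := cycleType_prime_order (hy.symm ▸ hp.out)
    rw [hy] at hm
    have h1 : y.cycleType.sum ≤ Fintype.card α := by
      rw [sum_cycleType]; exact Finset.card_le_univ _
    rw [hm, Multiset.sum_replicate, smul_eq_mul] at h1
    rcases Nat.eq_zero_or_pos m with rfl | hm0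
    · rw [hm]; rfl
    · exfalso
      have : 2 * p ≤ (m + 1) * p := Nat.mul_le_mul_right p (by omega)
      omega
  have hgen : Subgroup.zpowers c = H := by
    rw [hcdef]
    exact (MonoidHom.map_zpowers H.subtype x).symm.trans
      (by rw [hx, ← MonoidHom.range_eq_map, Subgroup.range_subtype])
  have hmemN : ∀ g : Perm α, g ∈ Subgroup.normalizer (H : Set (Perm α)) ↔ g * c * g⁻¹ ∈ H := by
    intro g
    rw [Subgroup.mem_normalizer_iff]
    refine ⟨fun h => (h c).1 hcH, fun h => ?_⟩
    have hle : H.map (MulAut.conj g).toMonoidHom = H := by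
      refine Subgroup.eq_of_le_of_card_ge ?_ (le_of_eq (Nat.card_congr
        (H.equivMapOfInjective _ (MulAut.conj g).injective).toEquiv))
      rw [← hgen, MonoidHom.map_zpowers, hgen]
      exact Subgroup.zpowers_le.2 h
    intro y
    conv_rhs => rw [← hle, Subgroup.mem_map]
    exact ⟨fun hy => ⟨y, hy, rfl⟩, fun ⟨z, hz, he⟩ => (MulAut.conj g).injective he ▸ hz⟩
  obtain ⟨N, hN⟩ : ∃ N : Finset (Perm α), N = Finset.univ.filter fun g => g ∈ Subgroup.normalizer (H : Set (Perm α)) :=
    ⟨_, rfl⟩
  obtain ⟨T, hT⟩ : ∃ T : Finset (Perm α), T = (Finset.univ.filter fun y => y ∈ H).erase 1 := ⟨_, rfl⟩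
  have hTc : T.card = p - 1 := by
    rw [hT, Finset.card_erase_of_mem (by simp), ← Fintype.card_subtype, ← Nat.card_eq_fintype_card, hH]
  have hmaps : ∀ g ∈ N, g * c * g⁻¹ ∈ T := by
    intro g hg
    simp only [hN, Finset.mem_filter, Finset.mem_univ, true_and] at hg
    simp only [hT, Finset.mem_erase, Finset.mem_filter, Finset.mem_univ, true_and, ne_eq, conj_eq_one_iff]
    exact ⟨hc1, (hmemN g).1 hg⟩
  rw [Nat.card_eq_fintype_card, Fintype.card_subtype, ← hN,
    Finset.card_eq_sum_card_fiberwise (f := fun g => g * c * g⁻¹) hmaps,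
    Finset.sum_congr rfl (g := fun _ => Nat.card (Subgroup.centralizer {c})) fun y hy => ?_,
    Finset.sum_const, hTc, smul_eq_mul, nat_card_centralizer, htype c (hord c hcH hc1)]
  · simp; ring
  · simp only [hT, Finset.mem_erase, Finset.mem_filter, Finset.mem_univ, true_and] at hy
    obtain ⟨g₀, hg₀⟩ := isConj_iff.1 (isConj_iff_cycleType_eq.2
      ((htype c (hord c hcH hc1)).trans (htype y (hord y hy.2 hy.1)).symm))
    rw [Nat.card_eq_fintype_card, Fintype.card_subtype]
    apply Finset.card_bij (fun g _ => g₀⁻¹ * g)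
    · intro g hg
      simp only [Finset.mem_filter, hN, Finset.mem_univ, true_and] at hg
      simp only [Finset.mem_filter, Finset.mem_univ, true_and, Subgroup.mem_centralizer_singleton_iff]
      have h2 : g * c * g⁻¹ = g₀ * c * g₀⁻¹ := hg.2.trans hg₀.symm
      calc g₀⁻¹ * g * c = g₀⁻¹ * (g * c * g⁻¹) * g := by group
        _ = g₀⁻¹ * (g₀ * c * g₀⁻¹) * g := by rw [h2]
        _ = c * (g₀⁻¹ * g) := by group
    · intro a _ b _ h
      exact mul_left_cancel h
    · intro z hz
      simp only [Finset.mem_filter, Finset.mem_univ, true_and, Subgroup.mem_centralizer_singleton_iff] at hz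
      have h2 : g₀ * z * c * (g₀ * z)⁻¹ = y := by
        rw [mul_assoc g₀ z c, hz, ← hg₀]
        group
      refine ⟨g₀ * z, ?_, by rw [inv_mul_cancel_left]⟩
      simp only [Finset.mem_filter, hN, Finset.mem_univ, true_and]
      exact ⟨(hmemN _).2 (h2.symm ▸ hy.2), h2⟩

end CfsgLib.Perm.Groups
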