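import Cfsg.Agent.Lib.Perm.Groups.PrimeIndex
import Cfsg.Agent.Lib.Perm.Groups.PrimeNormalizer
import Cfsg.Agent.S0144

/-!
# Insoluble groups of degree seven
-/

set_option autoImplicit false
set_option linter.unusedSectionVars false
set_option linter.style.haveILetI false

namespace CfsgLib.Perm.DegSeven

open MulAction CfsgLib.Perm.Heart

universe u

variable {α : Type u} [Fintype α] [DecidableEq α]

theorem not_solvable_card (G : Subgroup (Equiv.Perm α)) (hG : ¬ Group.IsSolvable G) (p q a b : ℕ) (hp : p.Prime)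
    (hq : q.Prime) : Nat.card G ≠ p ^ a * q ^ b := fun h =>
  hG (Cfsg.Agent.S0144.result p q a b hp hq h)

/-- The normaliser of a subgroup of prime order inside a permutation group is small. -/
theorem card_normalizer_dvd {p : ℕ} [Fact p.Prime] (hn2 : Fintype.card α < 2 * p) (G : Subgroup (Equiv.Perm α))
    (Q : Subgroup G) (hQ : Nat.card Q = p) :
    Nat.card (Subgroup.normalizer (Q : Set G)) ∣ (Fintype.card α - p).factorial * p * (p - 1) := by
  have hc : Nat.card (Q.map G.subtype) = p := by
    rw [← hQ]; exact (Nat.card_congr (Q.equivMapOfInjective _ G.subtype_injective).toEquiv).symm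
  rw [← CfsgLib.Perm.Groups.card_normalizer_of_card_prime hn2 _ hc]
  refine Subgroup.card_dvd_of_injective ((G.subtype.comp (Subgroup.normalizer (Q : Set G)).subtype).codRestrict
    (Subgroup.normalizer (Q.map G.subtype : Set (Equiv.Perm α))) fun x => ?_) fun x y h => ?_
  · exact Subgroup.le_normalizer_map G.subtype ⟨x.1, x.2, rfl⟩
  · have h' := congrArg Subtype.val h
    exact Subtype.ext (G.subtype_injective h')

theorem card_sylow_prime_seven [Fact (Nat.Prime 7)] (hα : Fintype.card α = 7) (G : Subgroup (Equiv.Perm α))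
    [IsPretransitive G α] (P : Sylow 7 G) : Nat.card (P : Subgroup G) = 7 := by
  obtain ⟨n, hn⟩ := IsPGroup.iff_card.1 P.2
  have h7 : 7 ∣ Nat.card G := by
    obtain ⟨a⟩ : Nonempty α := Fintype.card_pos_iff.1 (by omega)
    exact ⟨_, (card_stabilizer_mul hα G a).symm⟩
  rcases n with _ | _ | n
  · exfalso
    have h1 := P.dvd_card_of_dvd_card h7
    rw [hn] at h1
    norm_num at h1
  · simpa using hn
  · exact absurd ((pow_dvd_pow 7 (by omega)).trans (hn ▸ Subgroup.card_subgroup_dvd_card (P : Subgroup G)))
      (sq_not_dvd hα G)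

/-- A nontrivial normal subgroup contains every Sylow 7-subgroup, so has at least as many of them. -/
theorem card_sylow_le [Fact (Nat.Prime 7)] (hα : Fintype.card α = 7) (G : Subgroup (Equiv.Perm α))
    [IsPretransitive G α] (K : Subgroup G) [hK : K.Normal] (hK7 : 7 ∣ Nat.card K) :
    Nat.card (Sylow 7 G) ≤ Nat.card (Sylow 7 K) := by
  have hle : ∀ P : Sylow 7 G, (P : Subgroup G) ≤ K := by
    intro P x hx
    have hq : (x : G ⧸ K) ^ 7 = 1 := by
      rw [← QuotientGroup.mk_pow, QuotientGroup.eq_one_iff]
      have : (⟨x, hx⟩ : (P : Subgroup G)) ^ 7 = 1 := by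
        have := pow_card_eq_one' (x := (⟨x, hx⟩ : (P : Subgroup G)))
        rwa [card_sylow_prime_seven hα G P] at this
      rw [show x ^ 7 = 1 from congrArg Subtype.val this]
      exact one_mem K
    rcases (Nat.dvd_prime (by norm_num : Nat.Prime 7)).1 (orderOf_dvd_of_pow_eq_one hq) with h | h
    · exact (QuotientGroup.eq_one_iff x).1 (orderOf_eq_one_iff.1 h)
    · exfalso
      apply sq_not_dvd hα G
      rw [← K.card_mul_index, pow_two]
      exact mul_dvd_mul hK7 (h ▸ orderOf_dvd_natCard (x : G ⧸ K))
  refine Nat.card_le_card_of_injective (fun P : Sylow 7 G => P.subtype (hle P)) fun P Q h => ?_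
  exact Sylow.ext (by
    have h' := congrArg (fun R : Sylow 7 K => (R : Subgroup K).map K.subtype) h
    simpa [Sylow.coe_subtype, Subgroup.subgroupOf_map_subtype, inf_of_le_left (hle P),
      inf_of_le_left (hle Q)] using h')

/-- A permutation reversing the prime field of order 7 is odd. -/
theorem sign_reflection (e : ZMod 7 ≃ α) (t : Equiv.Perm α) (ht : ∀ x, t (e x) = e (-x)) :
    Equiv.Perm.sign t = -1 := by
  have h : t = e.permCongr (Equiv.neg (ZMod 7)) := Equiv.ext fun a => by
    obtain ⟨x, rfl⟩ := e.surjective a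
    simp [ht]
  rw [h, Equiv.Perm.sign_permCongr]
  decide

/-- An insoluble transitive group of even permutations on seven points, other than the alternating group. -/
theorem even_case [Fact (Nat.Prime 7)] (hα : Fintype.card α = 7) (G : Subgroup (Equiv.Perm α)) [IsPretransitive G α]
    (hG : ¬ Group.IsSolvable G) (hGA : G ≤ alternatingGroup α) (hne : G ≠ alternatingGroup α) :
    Nat.card G = 168 ∧ Nat.card (Sylow 7 G) = 8 ∧ IsSimpleGroup G := by
  classical
  haveI := Fact.mk (show Nat.Prime 5 by norm_num)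
  obtain ⟨P⟩ : Nonempty (Sylow 7 G) := inferInstance
  have hP := card_sylow_prime_seven hα G P
  obtain ⟨n, hn⟩ : ∃ n, n = Nat.card (Sylow 7 G) := ⟨_, rfl⟩
  obtain ⟨N, hN⟩ : ∃ N, N = Nat.card (Subgroup.normalizer ((P : Subgroup G) : Set G)) := ⟨_, rfl⟩
  have hGn : n * N = Nat.card G := by
    rw [hn, hN, Sylow.card_eq_index_normalizer P, mul_comm]
    exact Subgroup.card_mul_index (Subgroup.normalizer ((P : Subgroup G) : Set G))
  have hN42 : N ∣ 42 := by
    rw [hN]
    have := card_normalizer_dvd (p := 7) (by omega) G (P : Subgroup G) hP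
    simpa [hα] using this
  have hN7 : 7 ∣ N := by
    have h := Subgroup.card_dvd_of_le (Subgroup.le_normalizer (H := (P : Subgroup G)))
    rw [hP] at h
    rw [hN]; exact h
  have hodd : ¬ Even N := by
    intro hev
    obtain ⟨c, t, e, -, ht⟩ := exists_reflection hα (by norm_num) G P (hN ▸ hev)
    have h1 := sign_reflection e (t : Equiv.Perm α) ht
    rw [Equiv.Perm.mem_alternatingGroup.1 (hGA t.2)] at h1
    exact absurd h1 (by decide)
  have hmod : n % 7 = 1 := by rw [hn]; exact card_sylow_modEq_one 7 G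
  have h2520 : Nat.card G ∣ 2520 := by
    have h := Subgroup.card_dvd_of_le hGA
    haveI : Nontrivial α := Fintype.one_lt_card_iff_nontrivial.1 (by omega)
    rwa [nat_card_alternatingGroup, Nat.card_eq_fintype_card (α := α), hα,
      show (Nat.factorial 7) / 2 = 2520 from rfl] at h
  have hne' : Nat.card G ≠ 2520 := by
    intro h
    apply hne
    haveI : Nontrivial α := Fintype.one_lt_card_iff_nontrivial.1 (by omega)
    refine Subgroup.eq_of_le_of_card_ge hGA ?_
    rw [h, nat_card_alternatingGroup, Nat.card_eq_fintype_card (α := α), hα]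
    exact le_of_eq rfl
  have hN' : N = 7 ∨ N = 21 := by
    have h1 : N ∈ (Nat.divisors 42) := Nat.mem_divisors.2 ⟨hN42, by norm_num⟩
    rw [show Nat.divisors 42 = {1, 2, 3, 6, 7, 14, 21, 42} from by decide] at h1
    simp only [Finset.mem_insert, Finset.mem_singleton] at h1
    rcases h1 with rfl | rfl | rfl | rfl | rfl | rfl | rfl | rfl
    · omega
    · omega
    · omega
    · omega
    · exact Or.inl rfl
    · exact absurd (by decide) hodd
    · exact Or.inr rfl
    · exact absurd (by decide) hodd
  haveI : IsPreprimitive G α := IsPreprimitive.of_prime_card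
    (by rw [Nat.card_eq_fintype_card, hα]; norm_num)
  have htrans : ∀ K : Subgroup G, K.Normal → K ≠ ⊥ → 7 ∣ Nat.card K := by
    intro K hKn hK
    haveI := hKn
    have : IsPretransitive K α := by
      apply IsQuasiPreprimitive.isPretransitive_of_normal
      intro hall
      apply hK
      rw [eq_bot_iff]
      intro x hx
      rw [Subgroup.mem_bot]
      refine Subtype.ext (Equiv.ext fun a => ?_)
      exact (Set.eq_univ_iff_forall.1 hall a) ⟨x, hx⟩
    obtain ⟨a⟩ : Nonempty α := Fintype.card_pos_iff.1 (by omega)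
    refine ⟨Nat.card (stabilizer K a), ?_⟩
    rw [← hα, ← Nat.card_eq_fintype_card, ← index_stabilizer_of_transitive K a, mul_comm, Subgroup.card_mul_index]
  have hN21 : N = 21 := by
    refine hN'.resolve_left fun h7 => ?_
    have hcyc : IsCyclic (P : Subgroup G) := isCyclic_of_prime_card hP
    have heq : Subgroup.normalizer ((P : Subgroup G) : Set G) = (P : Subgroup G) :=
      (Subgroup.eq_of_le_of_card_ge Subgroup.le_normalizer (by rw [hP, ← hN, h7])).symm
    have hle : Subgroup.normalizer ((P : Subgroup G) : Set G) ≤ Subgroup.centralizer ((P : Subgroup G) : Set G) := by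
      rw [heq]
      intro x hx
      rw [Subgroup.mem_centralizer_iff]
      intro y hy
      letI : CommGroup (P : Subgroup G) := IsCyclic.commGroup
      exact congrArg Subtype.val (mul_comm (⟨y, hy⟩ : (P : Subgroup G)) ⟨x, hx⟩)
    have hnd := MonoidHom.not_dvd_card_ker_transferSylow P hle
    have hcard := (MonoidHom.ker_transferSylow_isComplement' P hle).card_mul_card
    rw [hP] at hcard
    by_cases hbot : (MonoidHom.transferSylow P hle).ker = ⊥
    · rw [hbot, Subgroup.card_bot, one_mul] at hcard
      exact not_solvable_card G hG 7 7 1 0 (by norm_num) (by norm_num) (by rw [← hcard]; norm_num)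
    · exact hnd (htrans _ inferInstance hbot)
  rw [hN21] at hGn
  have hn15 : n = 1 ∨ n = 8 ∨ n = 15 := by
    have h1 : n ∣ 120 := Nat.dvd_of_mul_dvd_mul_right (show 0 < 21 by norm_num) (by rw [hGn]; exact h2520)
    have h2 : n ∈ Nat.divisors 120 := Nat.mem_divisors.2 ⟨h1, by norm_num⟩
    rw [show Nat.divisors 120 = {1, 2, 3, 4, 5, 6, 8, 10, 12, 15, 20, 24, 30, 40, 60, 120} from by decide] at h2
    simp only [Finset.mem_insert, Finset.mem_singleton] at h2
    omega
  have hnle : ∀ K : Subgroup G, K.Normal → K ≠ ⊥ → ∀ m, Nat.card K = 7 * m → ¬ 7 ∣ m → n ≤ Nat.card (Sylow 7 K) ∧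
      Nat.card (Sylow 7 K) ∣ m := by
    intro K hKn hK m hm hm7
    haveI := hKn
    refine ⟨hn ▸ card_sylow_le hα G K (htrans K hKn hK), ?_⟩
    obtain ⟨Q⟩ : Nonempty (Sylow 7 K) := inferInstance
    have hQ : Nat.card (Q : Subgroup K) = 7 := by
      rw [Sylow.card_eq_multiplicity, hm, Nat.factorization_mul (by norm_num) (fun h => hm7 (by simp [h]))]
      simp [Nat.factorization_eq_zero_of_not_dvd hm7, Nat.Prime.factorization_self (show Nat.Prime 7 by norm_num)]
    have := Sylow.card_dvd_index Q
    have hidx := (Q : Subgroup K).card_mul_index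
    rw [hQ, hm] at hidx
    rwa [Nat.eq_of_mul_eq_mul_left (by norm_num) hidx] at this
  have hn8 : n = 8 := by
    rcases hn15 with rfl | h | rfl
    · exact absurd hGn.symm (fun h => not_solvable_card G hG 3 7 1 1 (by norm_num) (by norm_num) (by rw [h]; norm_num))
    · exact h
    · exfalso
      -- order 315: a Sylow 5-subgroup would be central in its normaliser
      obtain ⟨Q⟩ : Nonempty (Sylow 5 G) := inferInstance
      have hQ : Nat.card (Q : Subgroup G) = 5 := by
        rw [Sylow.card_eq_multiplicity, ← hGn, show 15 * 21 = 5 * 63 from rfl,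
          Nat.factorization_mul (by norm_num) (by norm_num)]
        simp [Nat.factorization_eq_zero_of_not_dvd (show ¬ 5 ∣ 63 by norm_num),
          Nat.Prime.factorization_self (show Nat.Prime 5 by norm_num)]
      have heq : Subgroup.normalizer ((Q : Subgroup G) : Set G) = (Q : Subgroup G) := by
        refine (Subgroup.eq_of_le_of_card_ge Subgroup.le_normalizer ?_).symm
        have h1 := card_normalizer_dvd (p := 5) (by omega) G (Q : Subgroup G) hQ
        rw [hα, show (Nat.factorial (7 - 5)) * 5 * (5 - 1) = 40 from rfl] at h1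
        have h2 := Subgroup.card_subgroup_dvd_card (Subgroup.normalizer ((Q : Subgroup G) : Set G))
        rw [← hGn] at h2
        have h3 := Nat.dvd_gcd h1 h2
        rw [show Nat.gcd 40 (15 * 21) = 5 from by decide] at h3
        rw [hQ]
        exact Nat.le_of_dvd (by norm_num) h3
      have hle : Subgroup.normalizer ((Q : Subgroup G) : Set G) ≤ Subgroup.centralizer ((Q : Subgroup G) : Set G) := by
        rw [heq]
        intro x hx
        rw [Subgroup.mem_centralizer_iff]
        intro y hy
        haveI : IsCyclic (Q : Subgroup G) := isCyclic_of_prime_card hQ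
        letI : CommGroup (Q : Subgroup G) := IsCyclic.commGroup
        exact congrArg Subtype.val (mul_comm (⟨y, hy⟩ : (Q : Subgroup G)) ⟨x, hx⟩)
      have hcard := (MonoidHom.ker_transferSylow_isComplement' Q hle).card_mul_card
      rw [hQ, ← hGn] at hcard
      have hK : Nat.card (MonoidHom.transferSylow Q hle).ker = 7 * 9 := by omega
      obtain ⟨h1, h2⟩ := hnle _ inferInstance (fun h => by rw [h, Subgroup.card_bot] at hK; norm_num at hK) 9 hK
        (by norm_num)
      have := Nat.le_of_dvd (by norm_num) h2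
      omega
  subst hn8
  refine ⟨hGn.symm, hn.symm, ?_⟩
  haveI : Nontrivial G := Finite.one_lt_card_iff_nontrivial.1 (by omega)
  refine ⟨fun K hKn => ?_⟩
  haveI := hKn
  by_cases hK : K = ⊥
  · exact Or.inl hK
  refine Or.inr (by_contra fun hKt => ?_)
  obtain ⟨m, hm⟩ := htrans K hKn hK
  have hdvd : Nat.card K ∣ 168 := by
    rw [show (168 : ℕ) = 8 * 21 from rfl, hGn]; exact Subgroup.card_subgroup_dvd_card K
  have hlt : Nat.card K < 168 := by
    refine lt_of_le_of_ne (Nat.le_of_dvd (by norm_num) hdvd) fun h => hKt ?_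
    exact (Subgroup.card_eq_iff_eq_top K).1 (by rw [h]; omega)
  rw [hm, show (168 : ℕ) = 7 * 24 from rfl] at hdvd
  rw [hm] at hlt
  have hm24 : m ∣ 24 := Nat.dvd_of_mul_dvd_mul_left (by norm_num) hdvd
  have hm7 : ¬ 7 ∣ m := fun h => absurd (h.trans hm24) (by norm_num)
  obtain ⟨h1, h2⟩ := hnle K hKn hK m hm hm7
  have hmle : m < 24 := by omega
  have hmod' : Nat.card (Sylow 7 K) % 7 = 1 := card_sylow_modEq_one 7 K
  have hm8 : m = 8 := by
    have hm' : m ∈ Nat.divisors 24 := Nat.mem_divisors.2 ⟨hm24, by norm_num⟩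
    rw [show Nat.divisors 24 = {1, 2, 3, 4, 6, 8, 12, 24} from by decide] at hm'
    simp only [Finset.mem_insert, Finset.mem_singleton] at hm'
    rcases hm' with rfl | rfl | rfl | rfl | rfl | rfl | rfl | rfl
    all_goals first
      | rfl
      | (exfalso; omega)
      | skip
    all_goals
      exfalso
      have := Nat.le_of_dvd (by norm_num) h2
      have h8 : Nat.card (Sylow 7 K) = 8 := by omega
      rw [h8] at h2
      norm_num at h2
  subst hm8
  haveI : Group.IsSolvable K := Cfsg.Agent.S0144.result 7 2 1 3 (by norm_num) (by norm_num) (by rw [hm]; norm_num)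
  haveI : Group.IsSolvable (G ⧸ K) := Cfsg.Agent.S0144.result 3 3 1 0 (by norm_num) (by norm_num) (by
    have := K.card_mul_index
    rw [hm, ← hGn, Subgroup.index_eq_card] at this
    omega)
  exact hG (solvable_of_ker_le_range K.subtype (QuotientGroup.mk' K)
    (by rw [QuotientGroup.ker_mk', Subgroup.range_subtype]))

/-- Degree seven. -/
theorem main (hα : Fintype.card α = 7) (G : Subgroup (Equiv.Perm α)) [IsPretransitive G α]
    (hG : ¬ Group.IsSolvable G) (hA : ¬ alternatingGroup α ≤ G) : Nat.card G = 168 ∧ IsSimpleGroup G := by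
  classical
  haveI := Fact.mk (show Nat.Prime 7 by norm_num)
  obtain ⟨G₀, hG₀⟩ : ∃ G₀, G₀ = G ⊓ alternatingGroup α := ⟨_, rfl⟩
  let φ : G →* ℤˣ := (Equiv.Perm.sign).comp G.subtype
  have hker : φ.ker = (G₀.subgroupOf G) := by
    ext x
    simp [φ, MonoidHom.mem_ker, hG₀, Subgroup.mem_subgroupOf, Equiv.Perm.mem_alternatingGroup]
  have hG₀sol : ¬ Group.IsSolvable G₀ := by
    intro h
    apply hG
    haveI : Group.IsSolvable (G₀.subgroupOf G) :=
      solvable_of_surjective (f := (Subgroup.subgroupOfEquivOfLe (hG₀ ▸ inf_le_left : G₀ ≤ G)).symm.toMonoidHom)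
        (Subgroup.subgroupOfEquivOfLe _).symm.surjective
    exact solvable_of_ker_le_range (G₀.subgroupOf G).subtype φ (by rw [hker, Subgroup.range_subtype])
  haveI : IsPreprimitive G α := IsPreprimitive.of_prime_card
    (by rw [Nat.card_eq_fintype_card, hα]; norm_num)
  haveI hK : IsPretransitive (G₀.subgroupOf G) α := by
    haveI : (G₀.subgroupOf G).Normal := hker ▸ φ.normal_ker
    apply IsQuasiPreprimitive.isPretransitive_of_normal
    intro hall
    apply hG₀sol
    have hbot : G₀ = ⊥ := by
      rw [eq_bot_iff]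
      intro x hx
      rw [Subgroup.mem_bot]
      refine Equiv.ext fun a => ?_
      have hxG : x ∈ G := (hG₀ ▸ hx : x ∈ G ⊓ alternatingGroup α).1
      exact (Set.eq_univ_iff_forall.1 hall a) ⟨⟨x, hxG⟩, hx⟩
    subst hbot
    exact isSolvable_of_comm fun a b => Subsingleton.elim _ _
  haveI : IsPretransitive G₀ α := ⟨fun a b => by
    obtain ⟨⟨⟨x, hx⟩, hx'⟩, h⟩ := exists_smul_eq (G₀.subgroupOf G) a b
    exact ⟨⟨x, hx'⟩, h⟩⟩
  have hne : G₀ ≠ alternatingGroup α := fun h => hA (h ▸ hG₀ ▸ inf_le_left)
  obtain ⟨h168, h8, hsimp⟩ := even_case hα G₀ hG₀sol (hG₀ ▸ inf_le_right) hne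
  by_cases hGA : G ≤ alternatingGroup α
  · rw [inf_eq_left.2 hGA] at hG₀
    subst hG₀
    exact ⟨h168, hsimp⟩
  exfalso
  have hcard : Nat.card G = 336 := by
    have h1 := (G₀.subgroupOf G).card_mul_index
    rw [Nat.card_congr (Subgroup.subgroupOfEquivOfLe (hG₀ ▸ inf_le_left : G₀ ≤ G)).toEquiv, h168, ← hker,
      Subgroup.index_ker] at h1
    have hrange : φ.range = ⊤ := by
      rw [Subgroup.eq_top_iff']
      intro u
      rcases Int.units_eq_one_or u with rfl | rfl
      · exact one_mem _
      · obtain ⟨x, hx, hxA⟩ := SetLike.not_le_iff_exists.1 hGA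
        rw [Equiv.Perm.mem_alternatingGroup] at hxA
        exact ⟨⟨x, hx⟩, (Int.units_eq_one_or _).resolve_left hxA⟩
    rw [hrange, Subgroup.card_top, Nat.card_eq_fintype_card (α := ℤˣ), Fintype.card_units_int] at h1
    omega
  obtain ⟨P⟩ : Nonempty (Sylow 7 G) := inferInstance
  have hN := card_normalizer_dvd (p := 7) (by omega) G (P : Subgroup G) (card_sylow_prime_seven hα G P)
  rw [hα, show (Nat.factorial (7 - 7)) * 7 * (7 - 1) = 42 from rfl] at hN
  have hGn : Nat.card (Sylow 7 G) * Nat.card (Subgroup.normalizer ((P : Subgroup G) : Set G)) = 336 := by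
    rw [Sylow.card_eq_index_normalizer P, mul_comm, ← hcard]
    exact Subgroup.card_mul_index (Subgroup.normalizer ((P : Subgroup G) : Set G))
  haveI : (G₀.subgroupOf G).Normal := hker ▸ φ.normal_ker
  have hle : Nat.card (Sylow 7 G) ≤ 8 := by
    have e := Subgroup.subgroupOfEquivOfLe (hG₀ ▸ inf_le_left : G₀ ≤ G)
    have hdv : 7 ∣ Nat.card (G₀.subgroupOf G) := by rw [Nat.card_congr e.toEquiv, h168]; norm_num
    refine (card_sylow_le hα G _ hdv).trans (h8 ▸ Nat.card_le_card_of_injective
      (fun R : Sylow 7 (G₀.subgroupOf G) => R.comapOfInjective e.symm.toMonoidHom e.symm.injective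
        fun x _ => ⟨e x, e.symm_apply_apply x⟩) fun R R' h => ?_)
    exact Sylow.ext (Subgroup.comap_injective e.symm.surjective (congrArg (fun S : Sylow 7 G₀ => (S : Subgroup G₀)) h))
  have heven : Even (Nat.card (Subgroup.normalizer ((P : Subgroup G) : Set G))) := by
    have hn0 := Nat.card_pos (α := Sylow 7 G)
    have h42 : Nat.card (Subgroup.normalizer ((P : Subgroup G) : Set G)) = 42 := by
      have := Nat.le_of_dvd (by norm_num) hN
      nlinarith
    rw [h42]; decide
  have h3t := CfsgLib.Perm.Heart.prime_three_transitive (p := 7) hα G hG P heven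
  obtain ⟨a⟩ : Nonempty (Fin 3 ↪ α) := Function.Embedding.nonempty_of_card_le (by rw [Fintype.card_fin, hα]; norm_num)
  have h1 := @index_stabilizer_of_transitive G (Fin 3 ↪ α) _ _ a h3t
  have h2 : (stabilizer G a).index ∣ 336 := hcard ▸ Subgroup.index_dvd_card _
  rw [h1, Nat.card_eq_fintype_card, Fintype.card_embedding_eq, Fintype.card_fin, hα] at h2
  norm_num [Nat.descFactorial] at h2

end CfsgLib.Perm.DegSeven
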