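import Mathlib

/-!
# Multiply transitive groups and elements of small support
-/

set_option autoImplicit false

namespace CfsgLib.Perm.Groups

open Equiv Equiv.Perm

variable {α : Type*} [Fintype α] [DecidableEq α] {G : Subgroup (Equiv.Perm α)}

/-- a multiply transitive group realises injections of small sets -/
theorem exists_map_of_le {k : ℕ} (hk : k ≤ Fintype.card α) (hG : MulAction.IsMultiplyPretransitive G α k)
    (s : Finset α) (hs : s.card ≤ k) (φ : α → α) (hφ : Set.InjOn φ s) :
    ∃ h ∈ G, ∀ x ∈ s, h x = φ x := by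
  haveI := hG
  haveI := MulAction.isMultiplyPretransitive_of_le (G := G) (α := α) (n := k) hs
    (by rw [Nat.card_eq_fintype_card]; exact hk)
  let e : Fin s.card ↪ α := s.equivFin.symm.toEmbedding.trans (Function.Embedding.subtype _)
  let e' : Fin s.card ↪ α := ⟨fun i => φ (s.equivFin.symm i), fun i j h =>
    s.equivFin.symm.injective (Subtype.ext (hφ (s.equivFin.symm i).2 (s.equivFin.symm j).2 h))⟩
  obtain ⟨g, hg⟩ := MulAction.exists_smul_eq G e e'
  refine ⟨g, g.2, fun x hx => ?_⟩
  have h1 : (g : Perm α) ((s.equivFin.symm (s.equivFin ⟨x, hx⟩) : s) : α) =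
      φ ((s.equivFin.symm (s.equivFin ⟨x, hx⟩) : s) : α) := DFunLike.congr_fun hg (s.equivFin ⟨x, hx⟩)
  rwa [Equiv.symm_apply_apply] at h1

/-- the commutator with an element fixing `T` moves only few points -/
theorem support_conj_mul_inv_subset {g h : Perm α} {T : Finset α} (hT : ∀ x ∈ T, h x = x) :
    (h * g * h⁻¹ * g⁻¹).support ⊆ (g.support ∪ g.support.image h) \ T.filter fun x => g⁻¹ x ∈ T := by
  intro x hx
  rw [Finset.mem_sdiff]
  refine ⟨?_, fun hxT => ?_⟩
  · rw [Finset.mem_union]
    by_contra hcon
    push Not at hcon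
    obtain ⟨h1, h2⟩ := hcon
    rw [notMem_support] at h1
    have h3 : g (h⁻¹ x) = h⁻¹ x := by
      rw [← notMem_support]
      exact fun h3 => h2 (Finset.mem_image.2 ⟨h⁻¹ x, h3, by simp⟩)
    refine mem_support.1 hx ?_
    rw [Perm.mul_apply, Perm.mul_apply, Perm.mul_apply, show g⁻¹ x = x by rw [inv_eq_iff_eq, h1], h3]
    simp
  · obtain ⟨h1, h2⟩ := Finset.mem_filter.1 hxT
    refine mem_support.1 hx ?_
    rw [Perm.mul_apply, Perm.mul_apply, Perm.mul_apply]
    have h3 : h⁻¹ (g⁻¹ x) = g⁻¹ x := by rw [inv_eq_iff_eq]; exact (hT _ h2).symm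
    rw [h3, show g (g⁻¹ x) = x by simp]
    exact hT x h1

/-- the key step: a set `T` almost invariant under `g` -/
theorem exists_smaller_of_set {k : ℕ} (hk : k ≤ Fintype.card α) (hG : MulAction.IsMultiplyPretransitive G α k)
    {g : Perm α} (hg : g ∈ G) {T : Finset α} {b d : α} (hTk : T.card + 1 ≤ k) (hb : b ∈ T) (hgb : g b ∉ T)
    (hd : d ∉ T) (hdb : d ≠ g b) :
    ∃ u ∈ G, u ≠ 1 ∧ u.support.card ≤
      ((g.support ∪ (g.support.image fun x => if x ∈ T then x else if x = g b then d else x)) \
        T.filter fun x => g⁻¹ x ∈ T).card + (g.support \ insert (g b) T).card := by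
  obtain ⟨h, hh, hφ⟩ := exists_map_of_le hk hG (insert (g b) T)
    (le_trans (Finset.card_insert_le _ _) hTk) (fun x => if x = g b then d else x) (by
      intro x hx y hy hxy
      simp only [Finset.coe_insert, Set.mem_insert_iff, Finset.mem_coe] at hx hy
      by_cases h1 : x = g b <;> by_cases h2 : y = g b
      · rw [h1, h2]
      · simp only [h1, if_true, if_neg h2] at hxy
        exact absurd (hxy ▸ hy.resolve_left h2) hd
      · simp only [h2, if_true, if_neg h1] at hxy
        exact absurd (hxy ▸ hx.resolve_left h1) hd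
      · simpa [h1, h2] using hxy)
  have hT : ∀ x ∈ T, h x = x := fun x hx => by
    rw [hφ x (Finset.mem_insert_of_mem hx), if_neg (show x ≠ g b from fun e => hgb (e ▸ hx))]
  have hgbd : h (g b) = d := by rw [hφ _ (Finset.mem_insert_self _ _), if_pos rfl]
  refine ⟨h * g * h⁻¹ * g⁻¹, G.mul_mem (G.mul_mem (G.mul_mem hh hg) (G.inv_mem hh)) (G.inv_mem hg), fun hu => ?_, ?_⟩
  · have h1 := DFunLike.congr_fun hu (g b)
    rw [Perm.mul_apply, Perm.mul_apply, Perm.mul_apply, show g⁻¹ (g b) = b by simp,
      show h⁻¹ b = b by rw [inv_eq_iff_eq]; exact (hT b hb).symm, hgbd, Perm.one_apply] at h1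
    exact hdb h1
  refine le_trans (Finset.card_le_card (support_conj_mul_inv_subset hT))
    (le_trans (Finset.card_le_card ?_) (le_trans (Finset.card_union_le _ ((g.support \ insert (g b) T).image h))
      (Nat.add_le_add_left Finset.card_image_le _)))
  intro x hx
  simp only [Finset.mem_sdiff, Finset.mem_union, Finset.mem_image] at hx ⊢
  obtain ⟨hx1, hx2⟩ := hx
  rcases hx1 with h1 | ⟨y, hy, rfl⟩
  · exact Or.inl ⟨Or.inl h1, hx2⟩
  · by_cases hyT : y ∈ insert (g b) T
    · refine Or.inl ⟨Or.inr ⟨y, hy, ?_⟩, hx2⟩
      rcases Finset.mem_insert.1 hyT with rfl | hyT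
      · rw [if_neg hgb, if_pos rfl, hgbd]
      · rw [if_pos hyT, hT y hyT]
    · exact Or.inr ⟨y, ⟨hy, hyT⟩, rfl⟩

/-- subsets of every size with at most one point whose predecessor is outside -/
theorem exists_almost_invariant {g : Perm α} :
    ∀ j ≤ g.support.card, ∃ F ⊆ g.support, F.card = j ∧ (F.filter fun x => g⁻¹ x ∉ F).card ≤ 1 := by
  intro j
  induction j with
  | zero => exact fun _ => ⟨∅, Finset.empty_subset _, Finset.card_empty, by simp⟩
  | succ j ih =>
    intro hj
    obtain ⟨F, hF, hFc, hex⟩ := ih (by omega)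
    have hgs : ∀ x ∈ g.support, g⁻¹ x ∈ g.support := fun x hx => by
      have h1 : g (g⁻¹ x) ∈ g.support := by simpa using hx
      rwa [apply_mem_support] at h1
    rcases (F.filter fun x => g⁻¹ x ∉ F).eq_empty_or_nonempty with he | ⟨z, hz⟩
    · obtain ⟨y, hy, hyF⟩ : ∃ y ∈ g.support, y ∉ F := by
        by_contra hcon
        push Not at hcon
        have := Finset.card_le_card (show g.support ⊆ F from hcon)
        omega
      refine ⟨insert y F, Finset.insert_subset hy hF, by rw [Finset.card_insert_of_notMem hyF, hFc], ?_⟩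
      refine le_trans (Finset.card_le_card ?_) (Finset.card_singleton y).le
      intro x hx
      simp only [Finset.mem_filter, Finset.mem_insert, not_or] at hx
      rw [Finset.mem_singleton]
      rcases hx.1 with h | h
      · exact h
      · exact absurd (Finset.eq_empty_iff_forall_notMem.1 he x) (not_not.2 (Finset.mem_filter.2 ⟨h, hx.2.2⟩))
    · obtain ⟨hzF, hzg⟩ := Finset.mem_filter.1 hz
      refine ⟨insert (g⁻¹ z) F, Finset.insert_subset (hgs z (hF hzF)) hF,
        by rw [Finset.card_insert_of_notMem hzg, hFc], ?_⟩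
      refine le_trans (Finset.card_le_card ?_) (Finset.card_singleton (g⁻¹ z)).le
      intro x hx
      simp only [Finset.mem_filter, Finset.mem_insert, not_or] at hx
      rw [Finset.mem_singleton]
      rcases hx.1 with h | h
      · exact h
      · have h1 : x = z := Finset.card_le_one.1 hex x (Finset.mem_filter.2 ⟨h, hx.2.2⟩) z hz
        exact absurd (h1 ▸ rfl) hx.2.1

/-- an element of small support yields a smaller one -/
theorem exists_smaller {k : ℕ} (hk3 : 3 ≤ k) (hk : k ≤ Fintype.card α) (hG : MulAction.IsMultiplyPretransitive G α k)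
    {g : Perm α} (hg : g ∈ G) (hsupp : g.support.card + 2 < 2 * k) (h4 : 4 ≤ g.support.card) :
    ∃ u ∈ G, u ≠ 1 ∧ u.support.card < g.support.card := by
  obtain ⟨m, hm⟩ : ∃ m, m = g.support.card := ⟨_, rfl⟩
  have hgs : ∀ x, g x ∈ g.support ↔ x ∈ g.support := fun x => apply_mem_support
  by_cases hmk : m ≤ k
  · -- fix everything but one point
    obtain ⟨b, hb⟩ : g.support.Nonempty := Finset.card_pos.1 (by omega)
    have hgb : g b ∈ g.support := (hgs b).2 hb
    have hbb : g b ≠ b := mem_support.1 hb
    obtain ⟨h, hh, hφ⟩ := exists_map_of_le hk hG g.support (by omega)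
      (Equiv.swap b (g b)) (Equiv.injective _).injOn
    by_cases hm' : m < Fintype.card α
    · obtain ⟨d, hd⟩ : ∃ d, d ∉ g.support := by
        by_contra hcon
        push Not at hcon
        have := Finset.card_le_card (show (Finset.univ : Finset α) ⊆ g.support from fun x _ => hcon x)
        rw [Finset.card_univ] at this
        omega
      obtain ⟨u, hu, hu1, hus⟩ := exists_smaller_of_set hk hG hg (T := g.support.erase (g b)) (b := b) (d := d)
        (by rw [Finset.card_erase_of_mem hgb]; omega) (Finset.mem_erase.2 ⟨hbb.symm, hb⟩) (Finset.notMem_erase _ _)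
        (fun h => hd (Finset.mem_of_mem_erase h)) (fun h => hd (h ▸ hgb))
      refine ⟨u, hu, hu1, lt_of_le_of_lt hus ?_⟩
      have e0 : (g.support \ insert (g b) (g.support.erase (g b))).card = 0 := by
        rw [Finset.insert_erase hgb, Finset.sdiff_self, Finset.card_empty]
      rw [e0, add_zero]
      refine lt_of_le_of_lt (Finset.card_le_card (show _ ⊆ ({g b, g (g b), d} : Finset α) from ?_))
        (lt_of_le_of_lt Finset.card_le_three (by omega))
      intro x hx
      simp only [Finset.mem_sdiff, Finset.mem_union, Finset.mem_image, Finset.mem_filter] at hx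
      simp only [Finset.mem_insert, Finset.mem_singleton]
      obtain ⟨hx1, hx2⟩ := hx
      by_contra hcon
      push Not at hcon
      obtain ⟨c1, c2, c3⟩ := hcon
      rcases hx1 with h1 | ⟨y, hy, hyx⟩
      · refine hx2 ⟨Finset.mem_erase.2 ⟨c1, h1⟩, Finset.mem_erase.2 ⟨fun e => c2 ?_, ?_⟩⟩
        · rw [← e]; simp
        · have : g (g⁻¹ x) ∈ g.support := by simpa using h1
          exact (hgs _).1 this
      · split_ifs at hyx with h1 h2
        · subst hyx
          exact hx2 ⟨h1, Finset.mem_erase.2 ⟨fun e => c2 (by rw [← e]; simp),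
            (hgs _).1 (by simpa using hy)⟩⟩
        · exact c3 hyx.symm
        · exact h1 (Finset.mem_erase.2 ⟨h2, hy⟩)
    · -- the group is the symmetric group
      haveI := hG
      have hkc : k = Fintype.card α := by omega
      haveI : MulAction.IsMultiplyPretransitive G α (Nat.card α - 1) :=
        MulAction.isMultiplyPretransitive_of_le (n := k) (by rw [Nat.card_eq_fintype_card]; omega)
          (by rw [Nat.card_eq_fintype_card]; exact hk)
      have htop : G = ⊤ := Equiv.Perm.eq_top_of_isMultiplyPretransitive inferInstance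
      refine ⟨swap b (g b), htop ▸ Subgroup.mem_top _, ?_, ?_⟩
      · exact fun e => hbb (by have := DFunLike.congr_fun e b; rwa [swap_apply_left, Perm.one_apply] at this)
      · rw [card_support_swap hbb.symm]; omega
  push Not at hmk
  obtain ⟨F, hF, hFc, hex⟩ := exists_almost_invariant (g := g) (k - 1) (by omega)
  -- counting for a set `T` inside the support
  have hcount : ∀ (T : Finset α), T ⊆ g.support → ∀ b ∈ T, g b ∉ T → ∀ d ∈ g.support,
      ((g.support ∪ (g.support.image fun x => if x ∈ T then x else if x = g b then d else x)) \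
        T.filter fun x => g⁻¹ x ∈ T).card + (g.support \ insert (g b) T).card +
        (T.filter fun x => g⁻¹ x ∈ T).card + T.card + 1 ≤ 2 * m := by
    intro T hT b hb hgb d hd
    have h1 : g.support ∪ (g.support.image fun x => if x ∈ T then x else if x = g b then d else x) = g.support := by
      refine Finset.union_eq_left.2 fun x hx => ?_
      obtain ⟨y, hy, rfl⟩ := Finset.mem_image.1 hx
      split_ifs <;> assumption
    have hgbs : g b ∈ g.support := (hgs b).2 (hT hb)
    rw [h1]
    have e1 := Finset.card_sdiff_add_card_eq_card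
      (show (T.filter fun x => g⁻¹ x ∈ T) ⊆ g.support from (Finset.filter_subset _ _).trans hT)
    have e2 := Finset.card_sdiff_add_card_eq_card (show insert (g b) T ⊆ g.support from Finset.insert_subset hgbs hT)
    rw [Finset.card_insert_of_notMem hgb] at e2
    omega
  by_cases hinv : (F.filter fun x => g⁻¹ x ∉ F).card = 0
  · -- `F` is invariant
    have hFinv : ∀ x ∈ F, g⁻¹ x ∈ F := fun x hx => by
      by_contra h
      exact (Finset.card_eq_zero.1 hinv ▸ Finset.notMem_empty x : x ∉ F.filter fun x => g⁻¹ x ∉ F)
        (Finset.mem_filter.2 ⟨hx, h⟩)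
    by_cases hm' : m < Fintype.card α
    · -- move a point of the support outside
      obtain ⟨d, hd⟩ : ∃ d, d ∉ g.support := by
        by_contra hcon
        push Not at hcon
        have := Finset.card_le_card (show (Finset.univ : Finset α) ⊆ g.support from fun x _ => hcon x)
        rw [Finset.card_univ] at this
        omega
      obtain ⟨b, hb, hbF⟩ : ∃ b ∈ g.support, b ∉ F := by
        by_contra hcon
        push Not at hcon
        have := Finset.card_le_card (show g.support ⊆ F from hcon)
        omega
      obtain ⟨h, hh, hφ⟩ := exists_map_of_le hk hG (insert b F) (le_trans (Finset.card_insert_le _ _) (by omega))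
        (fun x => if x = b then d else x) (by
          intro x hx y hy hxy
          simp only [Finset.coe_insert, Set.mem_insert_iff, Finset.mem_coe] at hx hy
          by_cases h1 : x = b <;> by_cases h2 : y = b
          · rw [h1, h2]
          · simp only [h1, if_true, if_neg h2] at hxy
            exact absurd (hxy ▸ hF (hy.resolve_left h2)) hd
          · simp only [h2, if_true, if_neg h1] at hxy
            exact absurd (hxy ▸ hF (hx.resolve_left h1)) hd
          · simpa [h1, h2] using hxy)
      have hT : ∀ x ∈ F, h x = x := fun x hx => by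
        rw [hφ x (Finset.mem_insert_of_mem hx), if_neg (show x ≠ b from fun e => hbF (e ▸ hx))]
      have hbd : h b = d := by rw [hφ _ (Finset.mem_insert_self _ _), if_pos rfl]
      refine ⟨h * g * h⁻¹ * g⁻¹, G.mul_mem (G.mul_mem (G.mul_mem hh hg) (G.inv_mem hh)) (G.inv_mem hg),
        fun hu => hd ?_, ?_⟩
      · rw [mul_inv_eq_one] at hu
        rw [← hu, support_conj, ← hbd, Finset.mem_map]
        exact ⟨b, hb, rfl⟩
      refine lt_of_le_of_lt (Finset.card_le_card ((support_conj_mul_inv_subset hT).trans
        (show _ ⊆ (g.support \ F) ∪ ((g.support \ F).image h) from ?_))) ?_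
      · intro x hx
        simp only [Finset.mem_sdiff, Finset.mem_union, Finset.mem_image, Finset.mem_filter] at hx ⊢
        obtain ⟨hx1, hx2⟩ := hx
        have hxF : x ∉ F := fun h' => hx2 ⟨h', hFinv x h'⟩
        rcases hx1 with h1 | ⟨y, hy, rfl⟩
        · exact Or.inl ⟨h1, hxF⟩
        · exact Or.inr ⟨y, ⟨hy, fun hy' => hxF ((hT y hy').symm ▸ hy')⟩, rfl⟩
      · have e1 := Finset.card_union_le (g.support \ F) ((g.support \ F).image h)
        have e2 := Finset.card_image_le (s := g.support \ F) (f := h)
        have e3 := Finset.card_sdiff_add_card_eq_card hF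
        omega
    · -- everything is in the support: drop a point
      obtain ⟨z, hz⟩ : F.Nonempty := Finset.card_pos.1 (by omega)
      have hzb : g⁻¹ z ≠ z := fun e => mem_support.1 (hF hz) (by rw [inv_eq_iff_eq] at e; exact e.symm)
      obtain ⟨d, hd, hdF⟩ : ∃ d ∈ g.support, d ∉ F := by
        by_contra hcon
        push Not at hcon
        have := Finset.card_le_card (show g.support ⊆ F from hcon)
        omega
      obtain ⟨u, hu, hu1, -⟩ := exists_smaller_of_set hk hG hg (T := F.erase z) (b := g⁻¹ z) (d := d)
        (by rw [Finset.card_erase_of_mem hz]; omega) (Finset.mem_erase.2 ⟨hzb, hFinv z hz⟩)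
        (by simp) (fun e => hdF (Finset.mem_of_mem_erase e)) (show d ≠ g (g⁻¹ z) from fun e => hdF (by rw [e]; simpa using hz))
      -- an honest bound on the support
      obtain ⟨h, hh, hφ⟩ := exists_map_of_le hk hG F (by omega) (fun x => if x = z then d else x) (by
        intro x hx y hy hxy
        by_cases h1 : x = z <;> by_cases h2 : y = z
        · rw [h1, h2]
        · simp only [h1, if_true, if_neg h2] at hxy
          exact absurd (hxy ▸ (Finset.mem_coe.1 hy)) hdF
        · simp only [h2, if_true, if_neg h1] at hxy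
          exact absurd (hxy ▸ (Finset.mem_coe.1 hx)) hdF
        · simpa [h1, h2] using hxy)
      have hT : ∀ x ∈ F.erase z, h x = x := fun x hx => by
        rw [hφ x (Finset.mem_of_mem_erase hx), if_neg (Finset.ne_of_mem_erase hx)]
      refine ⟨h * g * h⁻¹ * g⁻¹, G.mul_mem (G.mul_mem (G.mul_mem hh hg) (G.inv_mem hh)) (G.inv_mem hg),
        fun hu => ?_, ?_⟩
      · have h1 := DFunLike.congr_fun hu z
        rw [Perm.mul_apply, Perm.mul_apply, Perm.mul_apply,
          show h⁻¹ (g⁻¹ z) = g⁻¹ z by rw [inv_eq_iff_eq]; exact (hT _ (Finset.mem_erase.2 ⟨hzb, hFinv z hz⟩)).symm,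
          show g (g⁻¹ z) = z by simp, hφ z hz, if_pos rfl, Perm.one_apply] at h1
        exact hdF (h1 ▸ hz)
      refine lt_of_le_of_lt (Finset.card_le_card ((support_conj_mul_inv_subset hT).trans
        (show _ ⊆ g.support \ (((F.erase z).filter fun x => g⁻¹ x ∈ F.erase z)) from ?_))) ?_
      · refine Finset.sdiff_subset_sdiff (fun x _ => ?_) le_rfl
        by_contra hx
        have := Finset.card_le_card (show insert x g.support ⊆ Finset.univ from Finset.subset_univ _)
        rw [Finset.card_insert_of_notMem hx, Finset.card_univ] at this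
        omega
      · have hsub : (F.erase z).erase (g z) ⊆ (F.erase z).filter fun x => g⁻¹ x ∈ F.erase z := fun x hx => by
          obtain ⟨h1, h2⟩ := Finset.mem_erase.1 hx
          refine Finset.mem_filter.2 ⟨h2, Finset.mem_erase.2 ⟨fun e => h1 ?_, hFinv x (Finset.mem_of_mem_erase h2)⟩⟩
          rw [← e]; simp
        have e1 := Finset.card_le_card hsub
        have e2 := Finset.card_sdiff_add_card_eq_card
          (show ((F.erase z).filter fun x => g⁻¹ x ∈ F.erase z) ⊆ g.support from
            (Finset.filter_subset _ _).trans ((Finset.erase_subset _ _).trans hF))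
        have e3 := Finset.pred_card_le_card_erase (a := g z) (s := F.erase z)
        have e4 := Finset.card_erase_of_mem hz
        have e5 : 4 ≤ k := by omega
        omega
  · -- one exceptional point
    have h1 : (F.filter fun x => g⁻¹ x ∉ F).card = 1 := by omega
    obtain ⟨b, hbF, hgbF⟩ : ∃ b ∈ F, g b ∉ F := by
      by_contra hcon
      push Not at hcon
      refine hinv (Finset.card_eq_zero.2 (Finset.filter_eq_empty_iff.2 fun x hx hn => hn ?_))
      have heq : F.image g = F :=
        Finset.eq_of_subset_of_card_le (Finset.image_subset_iff.2 hcon) (Finset.card_image_of_injective _ g.injective).ge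
      obtain ⟨y, hy, rfl⟩ := Finset.mem_image.1 (heq.symm ▸ hx : x ∈ F.image g)
      simpa using hy
    obtain ⟨d, hd, hdF, hdb⟩ : ∃ d ∈ g.support, d ∉ F ∧ d ≠ g b := by
      by_contra hcon
      push Not at hcon
      have := Finset.card_le_card (show g.support ⊆ insert (g b) F from fun x hx => by
        by_cases hxF : x ∈ F
        · exact Finset.mem_insert_of_mem hxF
        · exact Finset.mem_insert.2 (Or.inl (hcon x hx hxF)))
      have := Finset.card_insert_le (g b) F
      omega
    obtain ⟨u, hu, hu1, hus⟩ := exists_smaller_of_set hk hG hg (T := F) (b := b) (d := d) (by omega) hbF hgbF hdF hdb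
    refine ⟨u, hu, hu1, ?_⟩
    have e1 := hcount F hF b hbF hgbF d hd
    have e2 := Finset.card_filter_add_card_filter_not (s := F) fun x => g⁻¹ x ∈ F
    omega

/-- an element of small support yields one of support at most three -/
theorem exists_three {k : ℕ} (hk3 : 3 ≤ k) (hk : k ≤ Fintype.card α) (hG : MulAction.IsMultiplyPretransitive G α k) :
    ∀ (m : ℕ) (g : Perm α), g ∈ G → g ≠ 1 → g.support.card + 2 < 2 * k → g.support.card ≤ m →
      ∃ h : Perm α, h ∈ G ∧ h ≠ 1 ∧ h.support.card ≤ 3 := by
  intro m
  induction m with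
  | zero => exact fun g hg hg1 _ hm => ⟨g, hg, hg1, by omega⟩
  | succ m ih =>
    intro g hg hg1 hs hm
    by_cases h3 : g.support.card ≤ 3
    · exact ⟨g, hg, hg1, h3⟩
    obtain ⟨u, hu, hu1, hus⟩ := exists_smaller hk3 hk hG hg hs (by omega)
    exact ih u hu hu1 (by omega) (by omega)

end CfsgLib.Perm.Groups
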