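import Mathlib

/-!
# Multiple transitivity from transitivity of pointwise stabilisers
-/

set_option autoImplicit false

namespace CfsgLib.Perm.Groups

open MulAction

variable {G α : Type*} [Group G] [MulAction G α]

/-- pointwise stabilisers of small sets transitive on the rest give multiple transitivity -/
theorem multiplyPretransitive_of_fix_trans [DecidableEq α] :
    ∀ (k : ℕ), (∀ (s : Finset α), s.card < k → ∀ x y : α, x ∉ s → y ∉ s →
      ∃ g : G, (∀ a ∈ s, g • a = a) ∧ g • x = y) → IsMultiplyPretransitive G α k := by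
  intro k H
  rw [isMultiplyPretransitive_iff]
  intro u v
  suffices h : ∀ j, j ≤ k → ∃ g : G, ∀ i : Fin k, i.val < j → g • u i = v i by
    obtain ⟨g, hg⟩ := h k le_rfl
    exact ⟨g, DFunLike.ext _ _ fun i => hg i i.2⟩
  intro j
  induction j with
  | zero => exact fun _ => ⟨1, fun i hi => absurd hi (Nat.not_lt_zero _)⟩
  | succ j ih =>
    intro hj
    obtain ⟨g, hg⟩ := ih (by omega)
    let s : Finset α := (Finset.univ.filter fun i : Fin k => i.val < j).image v
    have hcard : s.card < k := by
      refine lt_of_le_of_lt Finset.card_image_le ?_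
      calc (Finset.univ.filter fun i : Fin k => i.val < j).card
          < (Finset.univ : Finset (Fin k)).card :=
            Finset.card_lt_card ⟨Finset.subset_univ _, fun h => absurd (Finset.mem_filter.1
              (h (Finset.mem_univ (⟨j, by omega⟩ : Fin k)))).2 (lt_irrefl j)⟩
        _ = k := Finset.card_fin k
    obtain ⟨t, ht⟩ : ∃ t : Fin k, t.val = j := ⟨⟨j, by omega⟩, rfl⟩
    have hx : g • u t ∉ s := by
      intro h
      obtain ⟨i, hi, he⟩ := Finset.mem_image.1 h
      have hi' := (Finset.mem_filter.1 hi).2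
      rw [← hg i hi', (MulAction.injective g).eq_iff, u.injective.eq_iff] at he
      rw [he] at hi'
      omega
    have hy : v t ∉ s := by
      intro h
      obtain ⟨i, hi, he⟩ := Finset.mem_image.1 h
      have hi' := (Finset.mem_filter.1 hi).2
      rw [v.injective.eq_iff] at he
      rw [he] at hi'
      omega
    obtain ⟨h, hfix, hxy⟩ := H s hcard _ _ hx hy
    refine ⟨h * g, fun i hi => ?_⟩
    rcases Nat.lt_or_ge i.val j with hlt | hge
    · rw [mul_smul, hg i hlt]
      exact hfix _ (Finset.mem_image.2 ⟨i, Finset.mem_filter.2 ⟨Finset.mem_univ _, hlt⟩, rfl⟩)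
    · have hit : i = t := Fin.ext (by omega)
      rw [mul_smul, hit, hxy]

/-- transitivity of pointwise stabilisers of sets of one size passes to smaller sets -/
theorem fix_trans_of_card_eq [Fintype α] [DecidableEq α] {j : ℕ} (hj : j + 2 ≤ Fintype.card α)
    (H : ∀ s : Finset α, s.card = j → ∀ x y : α, x ∉ s → y ∉ s →
      ∃ g : G, (∀ a ∈ s, g • a = a) ∧ g • x = y) (s : Finset α) (hs : s.card ≤ j) (x y : α)
    (hx : x ∉ s) (hy : y ∉ s) : ∃ g : G, (∀ a ∈ s, g • a = a) ∧ g • x = y := by
  have hle : j ≤ (({x, y} : Finset α)ᶜ).card := by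
    rw [Finset.card_compl]
    have := Finset.card_le_two (a := x) (b := y)
    omega
  obtain ⟨t, hst, htsub, htc⟩ := Finset.exists_subsuperset_card_eq (s := s) (t := ({x, y} : Finset α)ᶜ)
    (fun a ha => by
      rw [Finset.mem_compl, Finset.mem_insert, Finset.mem_singleton]
      rintro (rfl | rfl) <;> contradiction) hs hle
  obtain ⟨g, hg, hgxy⟩ := H t htc x y (fun h => Finset.mem_compl.1 (htsub h) (Finset.mem_insert_self _ _))
    (fun h => Finset.mem_compl.1 (htsub h) (Finset.mem_insert_of_mem (Finset.mem_singleton_self _)))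
  exact ⟨g, fun a ha => hg a (hst ha), hgxy⟩

/-- the permutation counts: a point in an orbit -/
theorem dvd_sum_card_fixedBy_pow [Fintype G] [Finite α] (j : ℕ) :
    Nat.card G ∣ ∑ g : G, Nat.card (MulAction.fixedBy α g) ^ j := by
  classical
  haveI : Fintype α := Fintype.ofFinite α
  haveI : Fintype (Quotient (MulAction.orbitRel G (Fin j → α))) := Fintype.ofFinite _
  have h := MulAction.sum_card_fixedBy_eq_card_orbits_mul_card_group G (Fin j → α)
  have hc : ∀ g : G, Nat.card (MulAction.fixedBy (Fin j → α) g) = Nat.card (MulAction.fixedBy α g) ^ j := fun g => by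
    rw [← Nat.card_congr (Equiv.subtypePiEquivPi.symm.trans (Equiv.subtypeEquivRight fun f => by
      simp only [MulAction.mem_fixedBy, funext_iff, Pi.smul_apply]) :
      (∀ _ : Fin j, MulAction.fixedBy α g) ≃ MulAction.fixedBy (Fin j → α) g), Nat.card_pi,
      Finset.prod_const, Finset.card_univ, Fintype.card_fin]
  refine ⟨Fintype.card (Quotient (MulAction.orbitRel G (Fin j → α))), ?_⟩
  rw [mul_comm, Nat.card_eq_fintype_card, ← h]
  exact Finset.sum_congr rfl fun g _ => by rw [← hc g, Nat.card_eq_fintype_card]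

end CfsgLib.Perm.Groups
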