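import Mathlib

/-!
# Permutations of a prime field preserving a set of differences
-/

set_option autoImplicit false

namespace CfsgLib.Perm.Groups

open Polynomial

variable {p : ℕ} [Fact p.Prime]

/-- some power sum of a set of nonzero elements does not vanish -/
theorem exists_powerSum_ne_zero {D : Finset (ZMod p)} (h0 : (0 : ZMod p) ∉ D) (hD : D.Nonempty) :
    ∃ k, 1 ≤ k ∧ k ≤ D.card ∧ ∑ d ∈ D, d ^ k ≠ 0 := by
  by_contra hcon
  push_neg at hcon
  obtain ⟨d₀, hd₀⟩ := hD
  obtain ⟨P, hP⟩ : ∃ P : (ZMod p)[X], P = X * ∏ d ∈ D.erase d₀, (X - C d) := ⟨_, rfl⟩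
  have hdeg : P.natDegree ≤ D.card := by
    rw [hP]
    refine natDegree_mul_le.trans ?_
    rw [natDegree_X, natDegree_prod _ _ (fun d _ => X_sub_C_ne_zero d)]
    simp only [natDegree_X_sub_C, Finset.sum_const, smul_eq_mul, mul_one, Finset.card_erase_of_mem hd₀]
    have := Finset.card_pos.2 ⟨d₀, hd₀⟩
    omega
  have hz : ∑ d ∈ D, P.eval d = 0 := by
    simp only [eval_eq_sum_range' (Nat.lt_succ_of_le hdeg)]
    rw [Finset.sum_comm]
    refine Finset.sum_eq_zero fun i hi => ?_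
    rw [← Finset.mul_sum]
    rcases Nat.eq_zero_or_pos i with rfl | hi0
    · rw [hP, coeff_X_mul_zero, zero_mul]
    · rw [hcon i hi0 (Nat.lt_succ_iff.1 (Finset.mem_range.1 hi)), mul_zero]
  rw [Finset.sum_eq_single d₀ (fun d hd hne => ?_) (fun h => absurd hd₀ h), hP, eval_mul, eval_X, eval_prod] at hz
  · rcases mul_eq_zero.1 hz with h | h
    · exact h0 (h ▸ hd₀)
    · obtain ⟨d, hd, he⟩ := Finset.prod_eq_zero_iff.1 h
      rw [eval_sub, eval_X, eval_C, sub_eq_zero] at he
      exact (Finset.mem_erase.1 hd).1 he.symm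
  · rw [hP, eval_mul, eval_prod, Finset.prod_eq_zero (Finset.mem_erase.2 ⟨hne, hd⟩) (by simp), mul_zero]

/-- a permutation preserving a proper difference set is affine -/
theorem affine_of_diff_preserved (π : Equiv.Perm (ZMod p)) {D : Finset (ZMod p)} (h0 : (0 : ZMod p) ∉ D)
    (hne : D.Nonempty) (hprop : ∃ z : ZMod p, z ≠ 0 ∧ z ∉ D)
    (hπ : ∀ x : ZMod p, D.image (fun d => π (x + d) - π x) = D) (x : ZMod p) :
    π x = (π 1 - π 0) * x + π 0 := by
  have hp := (Fact.out : p.Prime)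
  haveI : NeZero p := ⟨hp.ne_zero⟩
  obtain ⟨f, hf⟩ : ∃ f : (ZMod p)[X], f = Lagrange.interpolate Finset.univ id π := ⟨_, rfl⟩
  have hfe : ∀ y, f.eval y = π y := fun y => by
    rw [hf]
    exact Lagrange.eval_interpolate_at_node _ Function.injective_id.injOn (Finset.mem_univ y)
  have hfd : f.natDegree < p := by
    have h := Lagrange.degree_interpolate_lt π (s := (Finset.univ : Finset (ZMod p))) Function.injective_id.injOn
    rw [Finset.card_univ, ZMod.card] at h
    rw [← hf] at h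
    by_cases hf0 : f = 0
    · rw [hf0, natDegree_zero]; exact hp.pos
    · exact (natDegree_lt_iff_degree_lt hf0).2 h
  by_cases hn : f.natDegree ≤ 1
  · obtain ⟨a, b, hab⟩ := exists_eq_X_add_C_of_natDegree_le_one hn
    rw [← hfe, ← hfe, ← hfe, hab]
    simp only [eval_add, eval_mul, eval_C, eval_X]
    ring
  exfalso
  push_neg at hn
  obtain ⟨D', hD'⟩ : ∃ D' : Finset (ZMod p), D' = Finset.univ.erase 0 \ D := ⟨_, rfl⟩
  have hsub : D ⊆ Finset.univ.erase 0 := fun d hd => Finset.mem_erase.2 ⟨fun h => h0 (h ▸ hd), Finset.mem_univ d⟩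
  have hcard : D'.card + D.card = p - 1 := by
    rw [hD', Finset.card_sdiff_add_card_eq_card hsub, Finset.card_erase_of_mem (Finset.mem_univ _), Finset.card_univ,
      ZMod.card]
  have hex : ∃ k, 1 ≤ k ∧ ∑ d ∈ D, d ^ k ≠ 0 := by
    obtain ⟨k, h1, -, h2⟩ := exists_powerSum_ne_zero h0 hne
    exact ⟨k, h1, h2⟩
  obtain ⟨k, hk⟩ : ∃ k, k = Nat.find hex := ⟨_, rfl⟩
  have hk1 : 1 ≤ k := hk ▸ (Nat.find_spec hex).1
  have hSk : ∑ d ∈ D, d ^ k ≠ 0 := hk ▸ (Nat.find_spec hex).2
  have hmin : ∀ e, 1 ≤ e → e < k → ∑ d ∈ D, d ^ e = 0 := fun e he hek => by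
    by_contra h
    exact Nat.find_min hex (hk ▸ hek) ⟨he, h⟩
  have hks : k ≤ D.card := by
    obtain ⟨e, h1, h2, h3⟩ := exists_powerSum_ne_zero h0 hne
    rw [hk]
    exact (Nat.find_le ⟨h1, h3⟩).trans h2
  have hks' : k ≤ D'.card := by
    obtain ⟨z, hz, hz'⟩ := hprop
    obtain ⟨e, h1, h2, h3⟩ := exists_powerSum_ne_zero (D := D') (by simp [hD'])
      ⟨z, by rw [hD', Finset.mem_sdiff]; exact ⟨Finset.mem_erase.2 ⟨hz, Finset.mem_univ z⟩, hz'⟩⟩
    refine le_trans ?_ h2
    rw [hk]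
    refine Nat.find_le ⟨h1, fun h => h3 ?_⟩
    have hlt : e < p - 1 := by have := hne.card_pos; omega
    have hall : ∑ d ∈ Finset.univ.erase (0 : ZMod p), d ^ e = 0 := by
      rw [Finset.sum_erase _ (zero_pow (by omega))]
      exact FiniteField.sum_pow_lt_card_sub_one (ZMod p) e (by rw [ZMod.card]; exact hlt)
    rw [← Finset.sum_sdiff hsub, ← hD', h, add_zero] at hall
    exact hall
  -- the exponent
  obtain ⟨j, hj1, hjn, hkj, hjk, hjlt⟩ : ∃ j, 1 ≤ j ∧ j * f.natDegree < p ∧ k ≤ j * f.natDegree ∧ j ≤ k ∧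
      (j * f.natDegree = k → j < k) := by
    rcases le_or_gt k f.natDegree with h | h
    · exact ⟨1, le_rfl, by rwa [one_mul], by rwa [one_mul], hk1, fun h' => by omega⟩
    · obtain ⟨n, hn'⟩ : ∃ n, n = f.natDegree := ⟨_, rfl⟩
      rw [← hn'] at h hn hfd ⊢
      have hd := Nat.div_add_mod' (k + n - 1) n
      have hm := Nat.mod_lt (k + n - 1) (show 0 < n by omega)
      refine ⟨(k + n - 1) / n, Nat.one_le_div_iff (by omega) |>.2 (by omega), by omega, by omega, ?_, fun h' => ?_⟩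
      · by_contra hc
        push_neg at hc
        have := Nat.mul_le_mul_right n hc
        have := Nat.le_mul_of_pos_right k (show 0 < n by omega)
        rw [Nat.succ_mul] at *
        omega
      · by_contra hc
        push_neg at hc
        have := Nat.mul_le_mul_right n hc
        have := Nat.mul_le_mul_left k (show 2 ≤ n by omega)
        omega
  obtain ⟨g, hg⟩ : ∃ g : (ZMod p)[X], g = f ^ j := ⟨_, rfl⟩
  obtain ⟨N, hN⟩ : ∃ N, N = j * f.natDegree := ⟨_, rfl⟩
  have hgdeg : g.natDegree = N := by rw [hg, natDegree_pow, hN]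
  rw [← hN] at hjn hkj hjlt
  have hpt : ∀ y : ZMod p, ∑ d ∈ D, g.eval (y + d) = (D.card : ZMod p) * g.eval y + ∑ d ∈ D, d ^ j := by
    intro y
    simp only [hg, eval_pow, hfe]
    have himg := hπ y
    have hinj : Set.InjOn (fun d => π (y + d) - π y) D := fun a _ b _ h => add_left_cancel (π.injective (sub_left_inj.1 h))
    calc ∑ d ∈ D, π (y + d) ^ j = ∑ d ∈ D, ((π (y + d) - π y) + π y) ^ j := by simp
      _ = ∑ d ∈ D.image (fun d => π (y + d) - π y), (d + π y) ^ j := by rw [Finset.sum_image hinj]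
      _ = ∑ i ∈ Finset.range (j + 1), (∑ d ∈ D, d ^ i) * π y ^ (j - i) * (j.choose i : ZMod p) := by
        rw [himg, Finset.sum_congr rfl fun d _ => add_pow d (π y) j, Finset.sum_comm]
        simp [Finset.sum_mul]
      _ = _ := by
        obtain ⟨j', rfl⟩ : ∃ j', j = j' + 1 := ⟨j - 1, by omega⟩
        rw [Finset.sum_range_succ, Finset.sum_range_succ', Finset.sum_eq_zero fun i hi => ?_]
        · simp
        · rw [hmin (i + 1) (by omega) (by have := Finset.mem_range.1 hi; omega), zero_mul, zero_mul]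
  obtain ⟨Q, hQ⟩ : ∃ Q : (ZMod p)[X],
      Q = (∑ d ∈ D, taylor d g) - C (D.card : ZMod p) * g - C (∑ d ∈ D, d ^ j) := ⟨_, rfl⟩
  have hQ0 : Q = 0 := by
    refine eq_zero_of_natDegree_lt_card_of_eval_eq_zero Q Function.injective_id (fun y => ?_) ?_
    · simp only [hQ, id, eval_sub, eval_finset_sum, eval_mul, eval_C, taylor_eval]
      rw [hpt y]
      ring
    · rw [ZMod.card]
      refine lt_of_le_of_lt ?_ hjn
      rw [hQ]
      refine (natDegree_sub_le _ _).trans (max_le ((natDegree_sub_le _ _).trans (max_le ?_ ?_)) ?_)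
      · exact (natDegree_sum_le_of_forall_le _ _ fun d _ => by rw [natDegree_taylor, hgdeg])
      · exact (natDegree_C_mul_le _ _).trans hgdeg.le
      · rw [natDegree_C]; exact Nat.zero_le _
  obtain ⟨m, hm⟩ : ∃ m, m + k = N := ⟨N - k, by omega⟩
  have hc := congrArg (fun P : (ZMod p)[X] => P.coeff m) hQ0
  simp only [hQ, coeff_sub, finset_sum_coeff, coeff_C_mul, taylor_coeff, coeff_zero] at hc
  have hhd : (hasseDeriv m g).natDegree < k + 1 := by
    have := natDegree_hasseDeriv_le g m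
    omega
  have hsum : ∑ d ∈ D, (hasseDeriv m g).eval d =
      (D.card : ZMod p) * g.coeff m + (N.choose m : ZMod p) * g.coeff N * ∑ d ∈ D, d ^ k := by
    simp only [eval_eq_sum_range' hhd, hasseDeriv_coeff]
    rw [Finset.sum_comm]
    simp only [← Finset.mul_sum]
    obtain ⟨k', rfl⟩ : ∃ k', k = k' + 1 := ⟨k - 1, by omega⟩
    rw [Finset.sum_range_succ, Finset.sum_range_succ', Finset.sum_eq_zero fun i hi => ?_]
    · simp [show k' + 1 + m = N by omega]
      ring
    · rw [hmin (i + 1) (by omega) (by have := Finset.mem_range.1 hi; omega), mul_zero]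
  rw [hsum] at hc
  have hcm : (C (∑ d ∈ D, d ^ j)).coeff m = 0 := by
    rcases Nat.eq_zero_or_pos m with rfl | hm0
    · rw [coeff_C_zero, hmin j hj1 (hjlt (by omega))]
    · rw [coeff_C_ne_zero (by omega)]
  rw [hcm] at hc
  simp only [sub_zero, add_sub_cancel_left] at hc
  have hlead : g.coeff N ≠ 0 := by
    rw [← hgdeg, coeff_natDegree, leadingCoeff_ne_zero, hg]
    exact pow_ne_zero _ (fun h => by rw [h, natDegree_zero] at hn; omega)
  have hch : (N.choose m : ZMod p) ≠ 0 := by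
    rw [Ne, ZMod.natCast_eq_zero_iff]
    intro h
    have h2 : p ∣ N.factorial := by
      rw [← Nat.choose_mul_factorial_mul_factorial (show m ≤ N by omega), mul_assoc]
      exact dvd_mul_of_dvd_left h _
    rw [hp.dvd_factorial] at h2
    omega
  exact mul_ne_zero (mul_ne_zero hch hlead) hSk hc

end CfsgLib.Perm.Groups
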