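import Mathlib

/-!
# Automorphisms and subgroups of small index of symmetric groups
-/

set_option autoImplicit false
set_option linter.all false

namespace CfsgLib.Perm.Groups.SymAut

open Equiv MulAction
open scoped Pointwise
local notation:10000 n "!" => Nat.factorial n

variable {Ω : Type*} [Fintype Ω] [DecidableEq Ω]

theorem swap_eq_swap_iff {a b c d : Ω} (hab : a ≠ b) :
    swap a b = swap c d → (a = c ∧ b = d) ∨ (a = d ∧ b = c) := by
  intro h
  have h1 := congrArg (fun g : Perm Ω => g a) h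
  simp only [swap_apply_left] at h1
  rcases eq_or_ne a c with rfl | h2
  · rw [swap_apply_left] at h1; exact Or.inl ⟨rfl, h1⟩
  rcases eq_or_ne a d with rfl | h3
  · rw [swap_apply_right] at h1; exact Or.inr ⟨rfl, h1⟩
  rw [swap_apply_of_ne_of_ne h2 h3] at h1
  exact absurd h1.symm hab

theorem swap_conj {a x y : Ω} (hax : a ≠ x) (hay : a ≠ y) (hxy : x ≠ y) :
    swap a x * swap a y * swap a x = swap x y := by
  have h := swap_apply_apply (swap a x) a y
  rw [swap_apply_left, swap_apply_of_ne_of_ne hay.symm hxy.symm, swap_inv] at h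
  exact h.symm

/-- an automorphism mapping transpositions to transpositions is inner -/
theorem exists_conj_of_swaps (φ : Perm Ω ≃* Perm Ω) (h : ∀ g : Perm Ω, g.IsSwap → (φ g).IsSwap)
    (hn : 3 ≤ Fintype.card Ω) : ∃ σ : Perm Ω, ∀ g, φ g = σ * g * σ⁻¹ := by
  classical
  obtain ⟨a, x₁, x₂, -, -, -, ha1, ha2, h12⟩ := Finset.two_lt_card_iff.1 (show 2 < (Finset.univ : Finset Ω).card by
    rw [Finset.card_univ]; omega)
  -- the images of transpositions at `a` pairwise meet
  have hmeet : ∀ x y u v u' v', a ≠ x → a ≠ y → x ≠ y → φ (swap a x) = swap u v → φ (swap a y) = swap u' v' →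
      u = u' ∨ u = v' ∨ v = u' ∨ v = v' := by
    intro x y u v u' v' hax hay hxy h1 h2
    by_contra hcon
    push Not at hcon
    obtain ⟨c1, c2, c3, c4⟩ := hcon
    have hc : φ (swap a x * swap a y) = φ (swap a y * swap a x) := by
      rw [map_mul, map_mul, h1, h2]
      ext r
      simp only [Perm.mul_apply, swap_apply_def]
      grind
    have h5 := congrArg (fun g : Perm Ω => g a) (φ.injective hc)
    simp only [Perm.mul_apply, swap_apply_left] at h5
    rw [swap_apply_of_ne_of_ne hay.symm hxy.symm, swap_apply_of_ne_of_ne hax.symm hxy] at h5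
    exact hxy h5.symm
  -- a common point
  obtain ⟨p, q₁, q₂, h1, h2, hp1, hp2, hq⟩ : ∃ p q₁ q₂, φ (swap a x₁) = swap p q₁ ∧ φ (swap a x₂) = swap p q₂ ∧
      p ≠ q₁ ∧ p ≠ q₂ ∧ q₁ ≠ q₂ := by
    obtain ⟨u, v, huv, e1⟩ := h _ ⟨a, x₁, ha1, rfl⟩
    obtain ⟨u', v', huv', e2⟩ := h _ ⟨a, x₂, ha2, rfl⟩
    have hne : ∀ {p q q' : Ω}, φ (swap a x₁) = swap p q → φ (swap a x₂) = swap p q' → q ≠ q' := fun {p q q'} g1 g2 e => by
      subst e
      rcases swap_eq_swap_iff ha1 (φ.injective (g1.trans g2.symm)) with ⟨-, h'⟩ | ⟨h', -⟩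
      · exact h12 h'
      · exact ha2 h'
    rcases hmeet x₁ x₂ u v u' v' ha1 ha2 h12 e1 e2 with rfl | rfl | rfl | rfl
    · exact ⟨u, v, v', e1, e2, huv, huv', hne e1 e2⟩
    · rw [swap_comm u'] at e2; exact ⟨u, v, u', e1, e2, huv, huv'.symm, hne e1 e2⟩
    · rw [swap_comm u] at e1; exact ⟨v, u, v', e1, e2, huv.symm, huv', hne e1 e2⟩
    · rw [swap_comm u] at e1; rw [swap_comm u'] at e2; exact ⟨v, u, u', e1, e2, huv.symm, huv'.symm, hne e1 e2⟩
  have hall : ∀ y, a ≠ y → ∃ q, p ≠ q ∧ φ (swap a y) = swap p q := by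
    intro y hy
    rcases eq_or_ne y x₁ with rfl | hy1
    · exact ⟨q₁, hp1, h1⟩
    rcases eq_or_ne y x₂ with rfl | hy2
    · exact ⟨q₂, hp2, h2⟩
    obtain ⟨u, v, huv, e⟩ := h _ ⟨a, y, hy, rfl⟩
    have m1 := hmeet x₁ y p q₁ u v ha1 hy hy1.symm h1 e
    have m2 := hmeet x₂ y p q₂ u v ha2 hy hy2.symm h2 e
    rcases eq_or_ne p u with rfl | hpu
    · exact ⟨v, huv, e⟩
    rcases eq_or_ne p v with rfl | hpv
    · exact ⟨u, huv.symm, e.trans (swap_comm _ _)⟩
    exfalso
    have e3 : φ (swap a y) = φ (swap x₁ x₂) := by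
      rw [← swap_conj ha1 ha2 h12, map_mul, map_mul, h1, h2, swap_conj hp1 hp2 hq, e]
      rcases m1.resolve_left hpu |>.resolve_left hpv with rfl | rfl <;>
        rcases m2.resolve_left hpu |>.resolve_left hpv with h' | h'
      · exact absurd h'.symm hq
      · rw [h']
      · rw [h', swap_comm]
      · exact absurd h'.symm hq
    rcases swap_eq_swap_iff hy (φ.injective e3) with ⟨h', -⟩ | ⟨h', -⟩
    · exact ha1 h'
    · exact ha2 h'
  choose! q hq hφ using hall
  let σ₀ : Ω → Ω := fun y => if y = a then p else q y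
  have hσ₀ : Function.Injective σ₀ := by
    intro y z hyz
    by_cases hy : y = a <;> by_cases hz : z = a <;> simp only [σ₀, hy, hz, if_true, if_false] at hyz
    · rw [hy, hz]
    · exact absurd hyz (hq z (Ne.symm hz))
    · exact absurd hyz.symm (hq y (Ne.symm hy))
    · have := φ.injective ((hφ y (Ne.symm hy)).trans ((congrArg (swap p) hyz).trans (hφ z (Ne.symm hz)).symm))
      rcases swap_eq_swap_iff (Ne.symm hy) this with ⟨-, h'⟩ | ⟨h', h''⟩
      · exact h'
      · exact absurd h''.symm (fun e => hy e.symm)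
  refine ⟨Equiv.ofBijective σ₀ (Finite.injective_iff_bijective.1 hσ₀), fun g => ?_⟩
  obtain ⟨σ, hσ⟩ : ∃ σ : Perm Ω, σ = Equiv.ofBijective σ₀ (Finite.injective_iff_bijective.1 hσ₀) := ⟨_, rfl⟩
  rw [← hσ]
  have hs : ∀ y, a ≠ y → φ (swap a y) = σ * swap a y * σ⁻¹ := fun y hy => by
    rw [← swap_apply_apply, hσ, hφ y hy]
    simp [σ₀, Ne.symm hy]
  have hg : g ∈ Subgroup.closure {σ : Perm Ω | Perm.IsSwap σ} := by rw [Perm.closure_isSwap]; trivial
  induction hg using Subgroup.closure_induction with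
  | mem g hg =>
    obtain ⟨x, y, hxy, rfl⟩ := hg
    rcases eq_or_ne a x with rfl | hax
    · exact hs y hxy
    rcases eq_or_ne a y with rfl | hay
    · rw [swap_comm]; exact hs x hax
    rw [← swap_conj hax hay hxy, map_mul, map_mul, hs x hax, hs y hay]
    group
  | one => rw [map_one, mul_one, mul_inv_cancel]
  | mul g h _ _ ih ih' => rw [map_mul, ih, ih']; group
  | inv g _ ih => rw [map_inv, ih]; group

theorem centralizer_card_map (φ : Perm Ω ≃* Perm Ω) (g : Perm Ω) :
    Nat.card (Subgroup.centralizer ({φ g} : Set (Perm Ω))) = Nat.card (Subgroup.centralizer ({g} : Set (Perm Ω))) := by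
  refine (Nat.card_congr ((φ.subgroupMap _).toEquiv.trans (MulEquiv.subgroupCongr ?_).toEquiv)).symm
  ext x
  simp only [Subgroup.mem_map, Subgroup.mem_centralizer_singleton_iff, MulEquiv.coe_toMonoidHom]
  constructor
  · rintro ⟨y, hy, rfl⟩
    show φ y * φ g = φ g * φ y
    rw [← map_mul, hy, map_mul]
  · intro hx
    refine ⟨φ.symm x, φ.injective ?_, φ.apply_symm_apply x⟩
    rw [map_mul, map_mul, φ.apply_symm_apply, hx]

theorem factorial_key {n k : ℕ} (hk : 2 * k ≤ n) (hk0 : k ≠ 0)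
    (h : (n - k * 2)! * 2 ^ k * k ! = (n - 2)! * 2) : k = 1 ∨ (n = 6 ∧ k = 3) := by
  rcases Nat.lt_or_ge k 4 with hk4 | hk4
  · have : 1 ≤ k := Nat.pos_of_ne_zero hk0
    interval_cases k
    · exact Or.inl rfl
    · exfalso
      obtain ⟨m, rfl⟩ : ∃ m, n = m + 4 := ⟨n - 4, by omega⟩
      rw [show m + 4 - 2 * 2 = m by omega, show m + 4 - 2 = m + 1 + 1 by omega, Nat.factorial_succ (m + 1), Nat.factorial_succ m] at h
      have h2 : (m + 2) * (m + 1) = 4 := by
        have := Nat.factorial_pos m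
        refine Nat.eq_of_mul_eq_mul_right this ?_
        norm_num at h
        nlinarith
      rcases Nat.lt_or_ge m 1 with h3 | h3
      · interval_cases m; omega
      · nlinarith
    · obtain ⟨m, rfl⟩ : ∃ m, n = m + 6 := ⟨n - 6, by omega⟩
      rw [show m + 6 - 3 * 2 = m by omega, show m + 6 - 2 = m + 1 + 1 + 1 + 1 by omega, Nat.factorial_succ (m + 1 + 1 + 1),
        Nat.factorial_succ (m + 1 + 1), Nat.factorial_succ (m + 1), Nat.factorial_succ m] at h
      have h2 : (m + 4) * (m + 3) * (m + 2) * (m + 1) = 24 := by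
        have := Nat.factorial_pos m
        refine Nat.eq_of_mul_eq_mul_right this ?_
        norm_num [Nat.factorial] at h
        nlinarith
      rcases Nat.lt_or_ge m 1 with h3 | h3
      · exact Or.inr ⟨by omega, rfl⟩
      · nlinarith [Nat.mul_le_mul (Nat.mul_le_mul (Nat.mul_le_mul (show 5 ≤ m + 4 by omega) (show 4 ≤ m + 3 by omega))
          (show 3 ≤ m + 2 by omega)) (show 2 ≤ m + 1 by omega)]
  · exfalso
    have hbig : ∀ j, 2 ^ (j + 4) * (j + 4)! < 2 * (2 * (j + 4) - 2)! := by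
      intro j
      induction j with
      | zero => decide
      | succ j ih =>
        rw [show 2 * (j + 1 + 4) - 2 = (2 * (j + 4) - 2) + 1 + 1 by omega,
          Nat.factorial_succ (2 * (j + 4) - 2 + 1), Nat.factorial_succ (2 * (j + 4) - 2),
          show j + 1 + 4 = (j + 4) + 1 by omega, pow_succ, Nat.factorial_succ (j + 4)]
        have h1 : 2 * (j + 4 + 1) ≤ (2 * (j + 4) - 2 + 1 + 1) * (2 * (j + 4) - 2 + 1) :=
          le_trans (show 2 * (j + 4 + 1) ≤ (2 * (j + 4) - 2 + 1 + 1) * 2 by omega) (Nat.mul_le_mul_left _ (by omega))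
        calc 2 ^ (j + 4) * 2 * ((j + 4 + 1) * (j + 4)!) = (2 * (j + 4 + 1)) * (2 ^ (j + 4) * (j + 4)!) := by ring
          _ < (2 * (j + 4 + 1)) * (2 * (2 * (j + 4) - 2)!) := Nat.mul_lt_mul_of_pos_left ih (by omega)
          _ ≤ ((2 * (j + 4) - 2 + 1 + 1) * (2 * (j + 4) - 2 + 1)) * (2 * (2 * (j + 4) - 2)!) :=
            Nat.mul_le_mul_right _ h1
          _ = 2 * ((2 * (j + 4) - 2 + 1 + 1) * ((2 * (j + 4) - 2 + 1) * (2 * (j + 4) - 2)!)) := by ring
    have h1 : (n - k * 2)! * (2 * k - 2)! ≤ (n - 2)! := by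
      refine Nat.le_of_dvd (Nat.factorial_pos _) ?_
      have := Nat.factorial_mul_factorial_dvd_factorial (show n - k * 2 ≤ n - 2 by omega)
      rwa [show n - 2 - (n - k * 2) = 2 * k - 2 by omega] at this
    have h2 := hbig (k - 4)
    rw [show k - 4 + 4 = k by omega] at h2
    have := Nat.factorial_pos (n - k * 2)
    nlinarith

theorem replicate_card {n : ℕ} {g : Perm Ω} (hg : g.cycleType = Multiset.replicate (n + 1) 2) :
    Nat.card (Subgroup.centralizer ({g} : Set (Perm Ω))) =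
      (Fintype.card Ω - (n + 1) * 2)! * 2 ^ (n + 1) * (n + 1)! := by
  rw [Perm.nat_card_centralizer, hg, Multiset.sum_replicate, smul_eq_mul, Multiset.prod_replicate,
    Multiset.toFinset_replicate, if_neg n.succ_ne_zero, Finset.prod_singleton, Multiset.count_replicate_self]

/-- transpositions go to transpositions, or to triple transpositions when there are six points -/
theorem image_swap (φ : Perm Ω ≃* Perm Ω) {t : Perm Ω} (ht : t.IsSwap) :
    (φ t).IsSwap ∨ (Fintype.card Ω = 6 ∧ (φ t).cycleType = Multiset.replicate 3 2) := by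
  obtain ⟨x, y, hxy, rfl⟩ := ht
  have hord : orderOf (φ (swap x y)) = 2 := by
    rw [φ.orderOf_eq]
    exact orderOf_eq_prime (by rw [sq, swap_mul_self]) (fun h => hxy (Equiv.swap_eq_one_iff.1 h))
  obtain ⟨k, hk⟩ := Perm.cycleType_prime_order (by rw [hord]; exact Nat.prime_two)
  rw [hord] at hk
  have hsum := (φ (swap x y)).sum_cycleType_le
  rw [hk, Multiset.sum_replicate, smul_eq_mul] at hsum
  have hsw : (swap x y).cycleType = Multiset.replicate (0 + 1) 2 := by
    rw [(Perm.isCycle_swap hxy).cycleType, Perm.card_support_swap hxy]; rfl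
  have h := centralizer_card_map φ (swap x y)
  rw [replicate_card hk, replicate_card hsw] at h
  rcases factorial_key (n := Fintype.card Ω) (k := k + 1) (by omega) k.succ_ne_zero
      (by rw [h]; simp) with h1 | ⟨h6, h3⟩
  · refine Or.inl ?_
    rw [← Perm.card_support_eq_two, ← Perm.sum_cycleType, hk, Nat.succ.inj h1]
    rfl
  · exact Or.inr ⟨h6, by rw [hk, h3]⟩

/-- subgroups of index `n` come from automorphisms -/
theorem exists_aut_of_index (hn : 5 ≤ Fintype.card Ω) {H : Subgroup (Perm Ω)} (hH : H.index = Fintype.card Ω) :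
    ∃ (φ : Perm Ω ≃* Perm Ω) (x₀ : Ω), H = (stabilizer (Perm Ω) x₀).comap φ.toMonoidHom := by
  classical
  haveI : Finite (Perm Ω ⧸ H) := Finite.of_surjective _ (QuotientGroup.mk_surjective (s := H))
  haveI := Fintype.ofFinite (Perm Ω ⧸ H)
  let e : Perm Ω ⧸ H ≃ Ω := Fintype.equivOfCardEq (by rw [← Nat.card_eq_fintype_card]; exact hH)
  let ρ : Perm Ω →* Perm (Perm Ω ⧸ H) := MulAction.toPermHom (Perm Ω) (Perm Ω ⧸ H)
  have hker : ρ.ker = H.normalCore := (Subgroup.normalCore_eq_ker H).symm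
  have hinj : Function.Injective ρ := by
    rw [← MonoidHom.ker_eq_bot_iff, hker]
    by_contra hne
    have hnt : Nontrivial H.normalCore := (Subgroup.nontrivial_iff_ne_bot _).2 hne
    have hle := (Equiv.Perm.alternatingGroup_le_of_normal (by rw [Nat.card_eq_fintype_card]; omega) hnt).trans H.normalCore_le
    haveI : Nontrivial Ω := Fintype.one_lt_card_iff_nontrivial.1 (by omega)
    have h2 := Subgroup.index_dvd_of_le hle
    rw [alternatingGroup.index_eq_two, hH] at h2
    have := Nat.le_of_dvd (by norm_num) h2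
    omega
  let φ₀ : Perm Ω →* Perm Ω := e.permCongrHom.toMonoidHom.comp ρ
  have hφ₀ : Function.Bijective φ₀ := Finite.injective_iff_bijective.1 (e.permCongrHom.injective.comp hinj)
  refine ⟨MulEquiv.ofBijective φ₀ hφ₀, e ((1 : Perm Ω) : Perm Ω ⧸ H), ?_⟩
  ext g
  show g ∈ H ↔ e (g • e.symm (e ((1 : Perm Ω) : Perm Ω ⧸ H))) = e ((1 : Perm Ω) : Perm Ω ⧸ H)
  rw [e.symm_apply_apply, e.injective.eq_iff, ← MulAction.mem_stabilizer_iff, MulAction.stabilizer_quotient]

theorem comap_of_conj {φ : Perm Ω ≃* Perm Ω} {σ : Perm Ω} (h : ∀ g, φ g = σ * g * σ⁻¹) (x : Ω) :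
    (stabilizer (Perm Ω) x).comap φ.toMonoidHom = stabilizer (Perm Ω) (σ⁻¹ x) := by
  ext g
  show φ g x = x ↔ g (σ⁻¹ x) = σ⁻¹ x
  rw [h, Perm.mul_apply, Perm.mul_apply]
  exact (σ.eq_symm_apply).symm

theorem card_stab (x : Ω) : (stabilizer (Perm Ω) x).index = Fintype.card Ω := by
  haveI : IsPretransitive (Perm Ω) Ω := ⟨fun a b => ⟨swap a b, swap_apply_left a b⟩⟩
  rw [MulAction.index_stabilizer_of_transitive, Nat.card_eq_fintype_card]

/-- subgroups of index `n` fix a point unless there are six points -/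
theorem exists_point_of_index (h6 : Fintype.card Ω ≠ 6) {H : Subgroup (Perm Ω)} (hH : H.index = Fintype.card Ω) :
    ∃ x : Ω, H = stabilizer (Perm Ω) x := by
  classical
  rcases Nat.lt_or_ge (Fintype.card Ω) 5 with hlt | hge
  swap
  · obtain ⟨φ, x, rfl⟩ := exists_aut_of_index hge hH
    obtain ⟨σ, hσ⟩ := exists_conj_of_swaps φ (fun g hg => (image_swap φ hg).resolve_right fun h => h6 h.1) (by omega)
    exact ⟨_, comap_of_conj hσ x⟩
  have h0 : Fintype.card Ω ≠ 0 := fun h => Subgroup.index_ne_zero_of_finite (H := H) (hH.trans h)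
  haveI : Nonempty Ω := Fintype.card_pos_iff.1 (Nat.pos_of_ne_zero h0)
  have hcard : Nat.card H * Fintype.card Ω = (Fintype.card Ω)! := by
    rw [← hH, Subgroup.card_mul_index, Nat.card_perm, Nat.card_eq_fintype_card, hH]
  obtain ⟨a⟩ := ‹Nonempty Ω›
  obtain ⟨s, hs⟩ : ∃ s : Finset Ω, s = Finset.univ.filter (fun y => y ∈ orbit H a) := ⟨_, rfl⟩
  have hsi : ∀ g ∈ H, ∀ y ∈ s, g y ∈ s := fun g hg y hy => by
    rw [hs, Finset.mem_filter] at hy ⊢
    exact ⟨Finset.mem_univ _, mem_orbit_of_mem_orbit (⟨g, hg⟩ : H) hy.2⟩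
  have hfix : ∀ x, (∀ g ∈ H, g x = x) → H = stabilizer (Perm Ω) x := fun x hx =>
    Subgroup.eq_of_le_of_card_ge hx (le_of_eq (by
      have := (stabilizer (Perm Ω) x).card_mul_index
      rw [card_stab, Nat.card_perm, Nat.card_eq_fintype_card (α := Ω), ← hcard] at this
      exact Nat.eq_of_mul_eq_mul_right (Nat.pos_of_ne_zero h0) this))
  have has : a ∈ s := by rw [hs]; simp [mem_orbit_self]
  have hscard : s.card = Nat.card (orbit H a) := by
    rw [hs, Nat.card_eq_fintype_card, Fintype.card_ofFinset]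
  have hdvd : s.card ∣ Nat.card H := by
    rw [hscard, Nat.card_congr (orbitEquivQuotientStabilizer H a)]
    exact Subgroup.index_dvd_card _
  rcases Nat.lt_or_ge 1 s.card with h1 | h1
  swap
  · refine ⟨a, hfix a fun g hg => Finset.card_le_one.1 h1 _ (hsi g hg a has) _ has⟩
  have hle : s.card ≤ Fintype.card Ω := Finset.card_le_univ s
  have hcompl : s.card + 1 = Fintype.card Ω → ∃ x : Ω, H = stabilizer (Perm Ω) x := fun h => by
    obtain ⟨x, hx⟩ := Finset.card_eq_one.1 (show sᶜ.card = 1 by rw [Finset.card_compl]; omega)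
    refine ⟨x, hfix x fun g hg => ?_⟩
    have hnot : g x ∉ s := fun hin => by
      have h' := hsi g⁻¹ (H.inv_mem hg) _ hin
      rw [show g⁻¹ (g x) = x from g.symm_apply_apply x] at h'
      have := hx ▸ Finset.mem_singleton_self x
      rw [Finset.mem_compl] at this
      exact this h'
    simpa [hx] using Finset.mem_compl.2 hnot
  rcases eq_or_ne (s.card + 1) (Fintype.card Ω) with he | he
  · exact hcompl he
  obtain ⟨n, hn⟩ : ∃ n, Fintype.card Ω = n := ⟨_, rfl⟩
  rw [hn] at hcard hle hlt h0 he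
  rcases (show n = s.card ∨ (s.card = 2 ∧ n = 4) by omega) with hns | ⟨hs', hn4⟩
  · exfalso
    rw [← hns] at hdvd h1
    have h2 := Nat.mul_dvd_mul_right hdvd n
    rw [hcard] at h2
    interval_cases n <;> simp [Nat.factorial] at h2
  · subst hn4
    -- an element of order three cannot fix a block of two points
    haveI : Fact (Nat.Prime 3) := ⟨Nat.prime_three⟩
    obtain ⟨h, hh⟩ := exists_prime_orderOf_dvd_card' (G := H) 3 (by
      rw [show Nat.card H = 6 by rw [show (4 : ℕ)! = 24 from rfl] at hcard; omega]; norm_num)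
    have h3 : (h : Perm Ω) * (h : Perm Ω) * (h : Perm Ω) = 1 := by
      have := pow_orderOf_eq_one h
      rw [hh] at this
      have := congrArg (fun z : H => (z : Perm Ω)) this
      simpa [pow_succ] using this
    have hfix3 : ∀ (t : Finset Ω), t.card = 2 → (∀ y ∈ t, (h : Perm Ω) y ∈ t) → ∀ y ∈ t, (h : Perm Ω) y = y := by
      intro t ht hinv y hy
      by_contra hne
      have hpair : ({y, (h : Perm Ω) y} : Finset Ω) = t := Finset.eq_of_subset_of_card_le
        (by simp [Finset.insert_subset_iff, hy, hinv y hy]) (by rw [ht, Finset.card_pair (Ne.symm hne)])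
      have h2 := hinv _ (hinv y hy)
      rw [← hpair] at h2
      simp only [Finset.mem_insert, Finset.mem_singleton] at h2
      rcases h2 with h2 | h2
      · have := congrArg (fun g : Perm Ω => g y) h3
        simp only [Perm.mul_apply, Perm.one_apply, h2] at this
        exact hne this
      · exact hne ((h : Perm Ω).injective h2)
    have h1' : (h : Perm Ω) = 1 := Equiv.ext fun y => by
      by_cases hy : y ∈ s
      · exact hfix3 s hs' (fun z hz => hsi _ h.2 z hz) y hy
      · refine hfix3 sᶜ (by rw [Finset.card_compl, hn, hs']) (fun z hz => Finset.mem_compl.2 fun hin => ?_) y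
          (Finset.mem_compl.2 hy)
        have h' := hsi _ (H.inv_mem h.2) _ hin
        rw [show ((h : Perm Ω))⁻¹ ((h : Perm Ω) z) = z from (h : Perm Ω).symm_apply_apply z] at h'
        exact Finset.mem_compl.1 hz h'
    rw [show h = 1 from Subtype.ext h1', orderOf_one] at hh
    norm_num at hh

/-! ### six points -/

theorem not_inner_of_index (φ : Perm Ω ≃* Perm Ω) (x : Ω)
    (h : ∀ y : Ω, (stabilizer (Perm Ω) x).comap φ.toMonoidHom ≠ stabilizer (Perm Ω) y) (hn : 3 ≤ Fintype.card Ω)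
    {t : Perm Ω} (ht : t.IsSwap) : ¬ (φ t).IsSwap := by
  intro hφt
  obtain ⟨σ, hσ⟩ := exists_conj_of_swaps φ (fun g hg => by
    obtain ⟨a, b, hab, rfl⟩ := hg
    obtain ⟨c, d, hcd, rfl⟩ := ht
    obtain ⟨u, hu⟩ := isConj_iff.1 (Perm.isConj_swap hcd hab)
    rw [← hu, map_mul, map_mul, map_inv]
    obtain ⟨p, q, hpq, hpq'⟩ := hφt
    rw [hpq', ← swap_apply_apply]
    exact ⟨_, _, (φ u).injective.ne hpq, rfl⟩) hn
  exact h _ (comap_of_conj hσ x)

/-- an index six subgroup fixing no point -/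
theorem exists_exotic (h6 : Fintype.card Ω = 6) :
    ∃ H : Subgroup (Perm Ω), H.index = 6 ∧ ∀ y : Ω, H ≠ stabilizer (Perm Ω) y := by
  classical
  haveI : Fact (Nat.Prime 5) := ⟨Nat.prime_five⟩
  have hcard5 : Nat.card (Perm (Fin 5)) = 120 := by rw [Nat.card_perm, Nat.card_fin]; rfl
  let P : Sylow 5 (Perm (Fin 5)) := default
  have hP : Nat.card P = 5 := by
    rw [Sylow.card_eq_multiplicity, hcard5]
    rw [show (120 : ℕ) = 5 ^ 1 * 24 from rfl, Nat.factorization_mul (by norm_num) (by norm_num), Nat.factorization_pow,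
      Finsupp.add_apply, Finsupp.smul_apply, Nat.prime_five.factorization_self,
      Nat.factorization_eq_zero_of_not_dvd (by norm_num : ¬ 5 ∣ 24)]
    rfl
  have hidx : (P : Subgroup (Perm (Fin 5))).index = 24 := by
    have := (P : Subgroup (Perm (Fin 5))).card_mul_index
    rw [hP, hcard5] at this
    omega
  have hd : Nat.card (Sylow 5 (Perm (Fin 5))) ∣ 24 := hidx ▸ P.card_dvd_index
  have hm := card_sylow_modEq_one 5 (Perm (Fin 5))
  have hne1 : Nat.card (Sylow 5 (Perm (Fin 5))) ≠ 1 := by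
    intro h1
    haveI : Subsingleton (Sylow 5 (Perm (Fin 5))) := (Nat.card_eq_one_iff_unique.1 h1).1
    haveI := P.normal_of_subsingleton
    have hnt : Nontrivial (P : Subgroup (Perm (Fin 5))) := Finite.one_lt_card_iff_nontrivial.1 (by rw [hP]; norm_num)
    have := Subgroup.card_le_of_le (Equiv.Perm.alternatingGroup_le_of_normal (α := Fin 5) (by simp) hnt)
    rw [hP, nat_card_alternatingGroup, Nat.card_fin] at this
    simp [Nat.factorial] at this
  have h6' : Nat.card (Sylow 5 (Perm (Fin 5))) = 6 := by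
    have := Nat.le_of_dvd (by norm_num) hd
    unfold Nat.ModEq at hm
    interval_cases hc : Nat.card (Sylow 5 (Perm (Fin 5))) <;> omega
  haveI := Fintype.ofFinite (Sylow 5 (Perm (Fin 5)))
  let e : Sylow 5 (Perm (Fin 5)) ≃ Ω := Fintype.equivOfCardEq (by rw [← Nat.card_eq_fintype_card, h6', h6])
  let ρ : Perm (Fin 5) →* Perm Ω := e.permCongrHom.toMonoidHom.comp (MulAction.toPermHom _ _)
  have htrans : ∀ x y : Ω, ∃ g, ρ g x = y := fun x y => by
    obtain ⟨g, hg⟩ := MulAction.exists_smul_eq (Perm (Fin 5)) (e.symm x) (e.symm y)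
    exact ⟨g, show e (g • e.symm x) = y by rw [hg, e.apply_symm_apply]⟩
  have hinj : Function.Injective ρ := by
    rw [← MonoidHom.ker_eq_bot_iff]
    by_contra hne
    have hnt : Nontrivial ρ.ker := (Subgroup.nontrivial_iff_ne_bot _).2 hne
    have hle := Equiv.Perm.alternatingGroup_le_of_normal (α := Fin 5) (by simp) hnt
    have hr : Nat.card ρ.range ≤ 2 := by
      rw [← Subgroup.index_ker]
      have := Subgroup.index_dvd_of_le hle
      rw [alternatingGroup.index_eq_two] at this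
      exact Nat.le_of_dvd (by norm_num) this
    obtain ⟨a⟩ : Nonempty Ω := Fintype.card_pos_iff.1 (by omega)
    have := Nat.card_le_card_of_surjective (fun g : ρ.range => (g : Perm Ω) a) fun y => by
      obtain ⟨g, hg⟩ := htrans a y
      exact ⟨⟨_, g, rfl⟩, hg⟩
    rw [Nat.card_eq_fintype_card (α := Ω), h6] at this
    omega
  refine ⟨ρ.range, ?_, fun y hy => ?_⟩
  · have := ρ.range.card_mul_index
    rw [← Nat.card_congr (MonoidHom.ofInjective hinj).toEquiv, hcard5, Nat.card_perm, Nat.card_eq_fintype_card, h6] at this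
    simp [Nat.factorial] at this
    omega
  · obtain ⟨z, hz⟩ := Fintype.exists_ne_of_one_lt_card (show 1 < Fintype.card Ω by omega) y
    obtain ⟨g, hg⟩ := htrans y z
    have h1 : ρ g ∈ stabilizer (Perm Ω) y := hy ▸ ⟨g, rfl⟩
    exact hz (hg.symm.trans h1)

/-- with six points every index six subgroup fixes a point or is conjugate to a fixed exotic one -/
theorem classify_six (h6 : Fintype.card Ω = 6) :
    ∃ φ : Perm Ω ≃* Perm Ω, (∀ x y : Ω, (stabilizer (Perm Ω) x).comap φ.toMonoidHom ≠ stabilizer (Perm Ω) y) ∧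
      ∀ H : Subgroup (Perm Ω), H.index = 6 →
        ∃ x : Ω, H = stabilizer (Perm Ω) x ∨ H = (stabilizer (Perm Ω) x).comap φ.toMonoidHom := by
  classical
  obtain ⟨H₀, hH₀, hne₀⟩ := exists_exotic h6
  obtain ⟨φ, x₀, hφ⟩ := exists_aut_of_index (by omega) (hH₀.trans h6.symm)
  have hout : ∀ t : Perm Ω, t.IsSwap → (φ t).cycleType = Multiset.replicate 3 2 := fun t ht =>
    ((image_swap φ ht).resolve_left (not_inner_of_index φ x₀ (fun y => hφ ▸ hne₀ y) (by omega) ht)).2
  obtain ⟨a, b, hab⟩ := Fintype.exists_pair_of_one_lt_card (show 1 < Fintype.card Ω by omega)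
  have hx : ∀ x y : Ω, (stabilizer (Perm Ω) x).comap φ.toMonoidHom ≠ stabilizer (Perm Ω) y := by
    intro x y h
    have hx' : ∃ u : Perm Ω, (stabilizer (Perm Ω) x₀).comap φ.toMonoidHom = stabilizer (Perm Ω) (u y) := by
      obtain ⟨u, hu⟩ : ∃ u : Perm Ω, φ u x = x₀ := ⟨φ.symm (swap x x₀), by rw [φ.apply_symm_apply, swap_apply_left]⟩
      refine ⟨u, ?_⟩
      ext g
      have hh := SetLike.ext_iff.1 h (u⁻¹ * g * u)
      simp only [Subgroup.mem_comap, MulEquiv.coe_toMonoidHom, map_mul, map_inv, mem_stabilizer_iff, Perm.smul_def,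
        Perm.mul_apply, hu] at hh ⊢
      constructor
      · intro hg
        have := hh.1 (by rw [hg]; exact (φ u).symm_apply_eq.2 hu.symm)
        exact u.symm_apply_eq.1 this
      · intro hg
        have := hh.2 (by rw [hg]; exact u.symm_apply_apply y)
        exact ((φ u).symm_apply_eq.1 this).trans hu
    obtain ⟨u, hu⟩ := hx'
    exact hne₀ _ (hφ.trans hu)
  refine ⟨φ, hx, fun H hH => ?_⟩
  obtain ⟨ψ, x, rfl⟩ := exists_aut_of_index (by omega) (hH.trans h6.symm)
  rcases image_swap ψ (t := swap a b) ⟨a, b, hab, rfl⟩ with hs | ⟨-, hs⟩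
  · refine (?_ : ∃ y, _) |>.imp fun y hy => Or.inl hy
    by_contra hcon
    push Not at hcon
    exact not_inner_of_index ψ x hcon (by omega) ⟨a, b, hab, rfl⟩ hs
  · obtain ⟨σ, hσ⟩ := exists_conj_of_swaps (ψ.trans φ.symm) (fun g hg => by
      obtain ⟨c, d, hcd, rfl⟩ := hg
      obtain ⟨u, hu⟩ := isConj_iff.1 (Perm.isConj_swap hab hcd)
      obtain ⟨w, hw⟩ := isConj_iff.1 (Perm.isConj_iff_cycleType_eq.2 ((hout (swap a b) ⟨a, b, hab, rfl⟩).trans hs.symm))
      show (φ.symm (ψ (swap c d))).IsSwap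
      rw [← hu, map_mul ψ, map_mul ψ, map_inv ψ, ← hw, map_mul φ.symm, map_mul φ.symm, map_mul φ.symm, map_mul φ.symm,
        map_inv φ.symm, map_inv φ.symm,
        φ.symm_apply_apply]
      refine ⟨(φ.symm (ψ u) * φ.symm w) a, (φ.symm (ψ u) * φ.symm w) b, (φ.symm (ψ u) * φ.symm w).injective.ne hab, ?_⟩
      rw [swap_apply_apply]
      group) (by omega)
    refine ⟨(φ σ)⁻¹ x, Or.inr ?_⟩
    ext g
    have hψ : ψ g = φ σ * φ g * (φ σ)⁻¹ := by
      have := congrArg φ (hσ g)
      rwa [MulEquiv.trans_apply, φ.apply_symm_apply, map_mul, map_mul, map_inv] at this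
    show ψ g x = x ↔ φ g ((φ σ)⁻¹ x) = (φ σ)⁻¹ x
    rw [hψ, Perm.mul_apply, Perm.mul_apply]
    exact ((φ σ).eq_symm_apply).symm

theorem comap_stab_injective (φ : Perm Ω ≃* Perm Ω) (hn : 3 ≤ Fintype.card Ω) :
    Function.Injective (fun x : Ω => (stabilizer (Perm Ω) x).comap φ.toMonoidHom) := by
  intro x y hxy
  by_contra hne
  obtain ⟨z, hz⟩ : ∃ z, z ∉ ({x, y} : Finset Ω) := by
    by_contra h
    push Not at h
    have := Finset.card_le_card (show (Finset.univ : Finset Ω) ⊆ {x, y} from fun z _ => h z)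
    rw [Finset.card_univ] at this
    have := Finset.card_le_two (a := x) (b := y)
    omega
  simp only [Finset.mem_insert, Finset.mem_singleton, not_or] at hz
  have h1 : φ.symm (swap y z) ∈ (stabilizer (Perm Ω) x).comap φ.toMonoidHom := by
    show φ (φ.symm (swap y z)) x = x
    rw [φ.apply_symm_apply, swap_apply_of_ne_of_ne hne (Ne.symm hz.1)]
  rw [show (stabilizer (Perm Ω) x).comap φ.toMonoidHom = (stabilizer (Perm Ω) y).comap φ.toMonoidHom from hxy] at h1
  have h2 : φ (φ.symm (swap y z)) y = y := h1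
  rw [φ.apply_symm_apply, swap_apply_left] at h2
  exact hz.2 h2

theorem stab_conj {σ : Perm Ω} {x : Ω} :
    (stabilizer (Perm Ω) x).map (MulAut.conj σ).toMonoidHom = stabilizer (Perm Ω) (σ x) := by
  rw [← MulAction.stabilizer_smul_eq_stabilizer_map_conj, Perm.smul_def]

theorem comap_conj (φ : Perm Ω ≃* Perm Ω) (σ : Perm Ω) (K : Subgroup (Perm Ω)) :
    (K.comap φ.toMonoidHom).map (MulAut.conj (φ.symm σ)).toMonoidHom =
      (K.map (MulAut.conj σ).toMonoidHom).comap φ.toMonoidHom := by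
  ext g
  simp only [Subgroup.mem_map, Subgroup.mem_comap, MulEquiv.coe_toMonoidHom, MulAut.conj_apply]
  constructor
  · rintro ⟨h, hh, rfl⟩
    exact ⟨φ h, hh, by simp⟩
  · rintro ⟨k, hk, hkg⟩
    exact ⟨φ.symm k, by rw [φ.apply_symm_apply]; exact hk, φ.injective (by simp [hkg])⟩

end CfsgLib.Perm.Groups.SymAut
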