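import Mathlib

/-!
# Characteristically simple groups
-/

set_option autoImplicit false

namespace CfsgLib.Perm.Groups

/-- a finite characteristically simple group is a power of a simple group -/
theorem exists_power_of_charSimple {G : Type*} [Group G] [Finite G] [Nontrivial G]
    (hG : ∀ H : Subgroup G, H.Characteristic → H = ⊥ ∨ H = ⊤) :
    ∃ (S : Type) (_ : Group S) (_ : IsSimpleGroup S) (n : ℕ), 1 ≤ n ∧ Nonempty (G ≃* (Fin n → S)) := by
  classical
  haveI : Fintype G := Fintype.ofFinite G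
  haveI : Fintype (Subgroup G) := Fintype.ofFinite _
  haveI : Finite (MulAut G) := Finite.of_injective (fun f : MulAut G => (f : G → G)) DFunLike.coe_injective
  -- a minimal normal subgroup and its images
  obtain ⟨T, hT⟩ := Finset.exists_minimal (s := Finset.univ.filter fun T : Subgroup G => T.Normal ∧ T ≠ ⊥)
    ⟨⊤, Finset.mem_filter.2 ⟨Finset.mem_univ _, inferInstance, top_ne_bot⟩⟩
  obtain ⟨hTn, hTb⟩ := (Finset.mem_filter.1 hT.prop).2
  have hTmin : ∀ A : Subgroup G, A.Normal → A ≤ T → A = ⊥ ∨ A = T := fun A hA hle => by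
    by_cases hb : A = ⊥
    · exact Or.inl hb
    · exact Or.inr (le_antisymm hle (hT.2 (Finset.mem_filter.2 ⟨Finset.mem_univ _, hA, hb⟩) hle))
  obtain ⟨𝒯, h𝒯⟩ : ∃ 𝒯 : Finset (Subgroup G),
      𝒯 = Finset.univ.filter fun X => ∃ φ : G ≃* G, X = T.map φ.toMonoidHom := ⟨_, rfl⟩
  have hmem : ∀ {X}, X ∈ 𝒯 ↔ ∃ φ : G ≃* G, X = T.map φ.toMonoidHom := by
    intro X; rw [h𝒯, Finset.mem_filter]; simp
  have hXn : ∀ X ∈ 𝒯, X.Normal ∧ X ≠ ⊥ ∧ ∀ A : Subgroup G, A.Normal → A ≤ X → A = ⊥ ∨ A = X := by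
    intro X hX
    obtain ⟨φ, rfl⟩ := hmem.1 hX
    refine ⟨hTn.map _ φ.surjective, fun h => hTb ?_, fun A hA hle => ?_⟩
    · exact (Subgroup.map_eq_bot_iff_of_injective T φ.injective).1 h
    · have hle' : A.comap φ.toMonoidHom ≤ T := fun x hx => by
        obtain ⟨t, ht, he⟩ := hle hx
        exact φ.injective he ▸ ht
      rcases hTmin (A.comap φ.toMonoidHom) (hA.comap _) hle' with h | h
      · left
        rw [← Subgroup.map_comap_eq_self_of_surjective (f := φ.toMonoidHom) φ.surjective A, h, Subgroup.map_bot]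
      · right
        rw [← Subgroup.map_comap_eq_self_of_surjective (f := φ.toMonoidHom) φ.surjective A, h]
  have hsup : 𝒯.sup id = ⊤ := by
    have hchar : (𝒯.sup id).Characteristic := Subgroup.characteristic_iff_map_le.2 fun φ => by
      rw [Finset.sup_eq_iSup, Subgroup.map_iSup]
      refine iSup_le fun X => ?_
      rw [Subgroup.map_iSup]
      refine iSup_le fun hX => ?_
      obtain ⟨ψ, rfl⟩ := hmem.1 hX
      refine le_iSup₂_of_le (T.map (ψ.trans φ).toMonoidHom) (hmem.2 ⟨_, rfl⟩) ?_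
      show (T.map ψ.toMonoidHom).map φ.toMonoidHom ≤ T.map (ψ.trans φ).toMonoidHom
      rw [Subgroup.map_map]
      exact le_rfl
    refine (hG _ hchar).resolve_left fun h => hTb ?_
    have hTT : T ∈ 𝒯 := hmem.2 ⟨MulEquiv.refl G, (Subgroup.map_id T).symm⟩
    exact le_bot_iff.1 (h ▸ (Finset.le_sup (f := id) hTT : id T ≤ 𝒯.sup id))
  -- an irredundant family
  obtain ⟨I, hI⟩ := Finset.exists_minimal (s := 𝒯.powerset.filter fun I => I.sup id = ⊤)
    ⟨𝒯, Finset.mem_filter.2 ⟨Finset.mem_powerset.2 le_rfl, hsup⟩⟩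
  obtain ⟨hIsub, hIsup⟩ := Finset.mem_filter.1 hI.prop
  rw [Finset.mem_powerset] at hIsub
  have hIn : ∀ X ∈ I, X.Normal := fun X hX => (hXn X (hIsub hX)).1
  have hind : ∀ X ∈ I, X ⊓ (I.erase X).sup id = ⊥ := by
    intro X hX
    have hn : ((I.erase X).sup id).Normal := by
      rw [Finset.sup_eq_iSup]
      exact ⟨fun a ha g => by
        have : (⨆ a ∈ I.erase X, id a) ≤ (⨆ a ∈ I.erase X, id a).comap (MulAut.conj g).toMonoidHom := by
          refine iSup₂_le fun Y hY b hb => ?_
          exact le_iSup₂ (f := fun a (_ : a ∈ I.erase X) => id a) Y hY ((hIn Y (Finset.mem_of_mem_erase hY)).conj_mem b hb g)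
        exact this ha⟩
    haveI := hIn X hX
    rcases (hXn X (hIsub hX)).2.2 (X ⊓ (I.erase X).sup id) inferInstance inf_le_left with h | h
    · exact h
    have h' : X ≤ (I.erase X).sup id := inf_eq_left.1 h
    have htop : (I.erase X).sup id = ⊤ := by
      rw [← top_le_iff, ← hIsup]
      refine Finset.sup_le fun Y hY => ?_
      rcases eq_or_ne Y X with rfl | hne
      · exact h'
      · exact Finset.le_sup (f := id) (Finset.mem_erase.2 ⟨hne, hY⟩)
    have := hI.2 (Finset.mem_filter.2 ⟨Finset.mem_powerset.2 ((Finset.erase_subset _ _).trans hIsub), htop⟩)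
      (Finset.erase_subset X I)
    exact absurd (this hX) (Finset.notMem_erase X I)
  have hdisj : ∀ X ∈ I, ∀ Y ∈ I, X ≠ Y → Disjoint X Y := fun X hX Y hY hne => by
    rw [disjoint_iff, ← le_bot_iff, ← hind X hX]
    exact inf_le_inf_left _ (Finset.le_sup (f := id) (Finset.mem_erase.2 ⟨hne.symm, hY⟩))
  have hcomm : Pairwise fun i j : I => ∀ x y : G, x ∈ (i : Subgroup G) → y ∈ (j : Subgroup G) → Commute x y :=
    fun i j hij x y hx hy => Subgroup.commute_of_normal_of_disjoint _ _ (hIn i i.2) (hIn j j.2)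
      (hdisj i i.2 j j.2 fun h => hij (Subtype.ext h)) x y hx hy
  have hindep : iSupIndep fun i : I => (i : Subgroup G) := by
    intro i
    rw [disjoint_iff, ← le_bot_iff, ← hind i i.2]
    refine inf_le_inf_left _ (iSup₂_le fun j hj => ?_)
    exact Finset.le_sup (f := id) (Finset.mem_erase.2 ⟨fun h => hj (Subtype.ext h), j.2⟩)
  have hbij : Function.Bijective (Subgroup.noncommPiCoprod hcomm) := by
    refine ⟨Subgroup.injective_noncommPiCoprod_of_iSupIndep hindep, ?_⟩
    rw [← MonoidHom.range_eq_top, Subgroup.noncommPiCoprod_range, ← top_le_iff, ← hIsup]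
    exact Finset.sup_le fun Y hY => le_iSup (fun i : I => (i : Subgroup G)) ⟨Y, hY⟩
  obtain ⟨X₀, hX₀⟩ : I.Nonempty := Finset.nonempty_iff_ne_empty.2 fun h => by
    rw [h, Finset.sup_empty] at hIsup
    exact bot_ne_top hIsup
  -- each factor is simple
  have hsimple : IsSimpleGroup X₀ := by
    haveI : Nontrivial X₀ := (Subgroup.nontrivial_iff_ne_bot X₀).2 (hXn X₀ (hIsub hX₀)).2.1
    refine ⟨fun A hA => ?_⟩
    have hAX : A.map X₀.subtype ≤ X₀ := Subgroup.map_subtype_le A
    have hnorm : (A.map X₀.subtype).Normal := by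
      rw [← Subgroup.normalizer_eq_top_iff, ← top_le_iff, ← hIsup]
      refine Finset.sup_le fun Y hY => ?_
      intro y hy
      rw [Subgroup.mem_normalizer_iff]
      rcases eq_or_ne Y X₀ with rfl | hne
      · intro a
        constructor
        · rintro ⟨a', ha', rfl⟩
          exact ⟨⟨y, hy⟩ * a' * ⟨y, hy⟩⁻¹, hA.conj_mem a' ha' _, rfl⟩
        · rintro ⟨a', ha', he⟩
          exact ⟨⟨y, hy⟩⁻¹ * a' * ⟨y, hy⟩, hA.conj_mem' a' ha' _, by
            show y⁻¹ * (a' : G) * y = a
            rw [show (a' : G) = y * a * y⁻¹ from he]; group⟩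
      · intro a
        have hc : ∀ b ∈ X₀, y * b * y⁻¹ = b := fun b hb => by
          rw [(Subgroup.commute_of_normal_of_disjoint _ _ (hIn Y hY) (hIn X₀ hX₀)
            (hdisj Y hY X₀ hX₀ hne) y b hy hb).eq, mul_inv_cancel_right]
        constructor
        · intro ha
          show y * a * y⁻¹ ∈ A.map X₀.subtype
          rwa [hc a (hAX ha)]
        · intro ha
          have h1 := hc _ (hAX ha)
          simp only [mul_assoc] at h1 ha ⊢
          rw [mul_right_inj, ← mul_assoc, ← mul_assoc] at h1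
          have : y * a * y⁻¹ = a := mul_right_cancel h1
          rw [← mul_assoc, this] at ha
          exact ha
    rcases (hXn X₀ (hIsub hX₀)).2.2 _ hnorm hAX with h | h
    · left
      exact (Subgroup.map_eq_bot_iff_of_injective A X₀.subtype_injective).1 h
    · right
      refine Subgroup.map_injective X₀.subtype_injective (h.trans ?_)
      rw [← MonoidHom.range_eq_map, Subgroup.range_subtype]
  let eT : ∀ i : I, (i : Subgroup G) ≃* X₀ := fun i =>
    ((Subgroup.equivMapOfInjective T (hmem.1 (hIsub i.2)).choose.toMonoidHom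
        (hmem.1 (hIsub i.2)).choose.injective).trans
      (MulEquiv.subgroupCongr (hmem.1 (hIsub i.2)).choose_spec.symm)).symm.trans
      ((Subgroup.equivMapOfInjective T (hmem.1 (hIsub hX₀)).choose.toMonoidHom
        (hmem.1 (hIsub hX₀)).choose.injective).trans
      (MulEquiv.subgroupCongr (hmem.1 (hIsub hX₀)).choose_spec.symm))
  obtain ⟨S, instS, ⟨eS⟩⟩ : ∃ (S : Type) (_ : Group S), Nonempty (S ≃* X₀) :=
    ⟨_, (Finite.equivFin X₀).symm.group, ⟨@Equiv.mulEquiv _ _ (Finite.equivFin X₀).symm _⟩⟩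
  haveI : Nontrivial S := eS.toEquiv.nontrivial
  refine ⟨S, instS, MulEquiv.isSimpleGroup eS, I.card, Finset.card_pos.2 ⟨X₀, hX₀⟩, ⟨?_⟩⟩
  exact (MulEquiv.ofBijective _ hbij).symm.trans ((MulEquiv.piCongrRight fun i => (eT i).trans eS.symm).trans
    (MulEquiv.arrowCongr I.equivFin (MulEquiv.refl _)))

end CfsgLib.Perm.Groups
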