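import Mathlib
import Cfsg.Agent.Lib.Lie.Exchange

/-!
# The symmetric group is the Coxeter group of type A
-/

set_option autoImplicit false

namespace CfsgLib.Perm.Groups

open Equiv CfsgLib.Lie.Exchange

/-- the adjacent transposition -/
def adjSwap {n : ℕ} (i : Fin n) : Perm (Fin (n + 1)) := swap i.castSucc i.succ

theorem adjSwap_lt {n : ℕ} (a : Fin n) {x y : Fin (n + 1)} (hxy : x < y)
    (h : ¬ (x = a.castSucc ∧ y = a.succ)) : adjSwap a x < adjSwap a y := by
  simp only [adjSwap, swap_apply_def, Fin.lt_def, Fin.ext_iff, Fin.val_castSucc, Fin.val_succ] at *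
  split_ifs <;> (try simp only [Fin.val_castSucc, Fin.val_succ]) <;> omega

/-- An inverted pair is cancelled by deleting one letter. -/
theorem exists_erase {n : ℕ} : ∀ (ω : List (Fin n)) (x y : Fin (n + 1)), x < y →
    (ω.map adjSwap).prod⁻¹ y < (ω.map adjSwap).prod⁻¹ x →
    ∃ k < ω.length, swap x y * (ω.map adjSwap).prod = ((ω.eraseIdx k).map adjSwap).prod := by
  intro ω
  induction ω with
  | nil =>
    intro x y hxy h
    simp only [List.map_nil, List.prod_nil, inv_one, Perm.one_apply] at h
    exact absurd hxy h.not_gt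
  | cons a t ih =>
    intro x y hxy h
    simp only [List.map_cons, List.prod_cons, mul_inv_rev, Perm.mul_apply] at h
    rw [show (adjSwap a)⁻¹ = adjSwap a from swap_inv _ _] at h
    by_cases hc : x = a.castSucc ∧ y = a.succ
    · refine ⟨0, by simp, ?_⟩
      rw [hc.1, hc.2, List.map_cons, List.prod_cons, ← mul_assoc, adjSwap, swap_mul_self, one_mul,
        List.eraseIdx_cons_zero]
    · obtain ⟨k, hk, he⟩ := ih _ _ (adjSwap_lt a hxy hc) h
      refine ⟨k + 1, by simpa using hk, ?_⟩
      rw [List.eraseIdx_cons_succ, List.map_cons, List.prod_cons, List.map_cons, List.prod_cons, ← he,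
        ← mul_assoc, ← mul_assoc]
      congr 1
      rw [mul_swap_eq_swap_mul]
      simp [adjSwap, swap_apply_self]

theorem gen_adjSwap {n : ℕ} (w : Perm (Fin (n + 1))) : ∃ ω : List (Fin n), (ω.map adjSwap).prod = w := by
  have h : w ∈ Submonoid.closure (Set.range fun i : Fin n => swap i.castSucc i.succ) := by
    rw [Perm.mclosure_swap_castSucc_succ]; trivial
  induction h using Submonoid.closure_induction with
  | mem x hx => obtain ⟨i, rfl⟩ := hx; exact ⟨[i], by simp [adjSwap]⟩
  | one => exact ⟨[], rfl⟩
  | mul x y _ _ hx hy =>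
    obtain ⟨a, rfl⟩ := hx
    obtain ⟨b, rfl⟩ := hy
    exact ⟨a ++ b, by simp⟩

theorem adjSwap_injective {n : ℕ} : Function.Injective (adjSwap (n := n)) := by
  intro i j h
  have h1 := congrArg (fun π : Perm (Fin (n + 1)) => π i.castSucc) h
  simp only [adjSwap, swap_apply_left, swap_apply_def] at h1
  split_ifs at h1 with h2 h3 <;>
    simp only [Fin.ext_iff, Fin.val_castSucc, Fin.val_succ] at * <;> omega

/-- The exchange system of adjacent transpositions. -/
def symExSystem (n : ℕ) : ExSystem (Perm (Fin (n + 1))) (Fin n) where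
  f := adjSwap
  mul_self i := swap_mul_self _ _
  inj := adjSwap_injective
  ne_one i h := by
    have h1 := congrArg (fun π : Perm (Fin (n + 1)) => π i.castSucc) h
    simp [adjSwap, Fin.ext_iff] at h1
  gen := gen_adjSwap
  exchange i ω hred h := by
    obtain ⟨ω', he, hlen⟩ := h
    have hlt : i.castSucc < i.succ := Fin.castSucc_lt_succ
    rcases lt_trichotomy ((ω.map adjSwap).prod⁻¹ i.succ) ((ω.map adjSwap).prod⁻¹ i.castSucc) with hc | hc | hc
    · exact exists_erase ω _ _ hlt hc
    · exact absurd ((ω.map adjSwap).prod⁻¹.injective hc) hlt.ne'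
    · exfalso
      obtain ⟨k, hk, hk'⟩ := exists_erase ω' _ _ hlt (by
        rw [he, mul_inv_rev, Perm.mul_apply, Perm.mul_apply, adjSwap, swap_inv, swap_apply_right, swap_apply_left]
        exact hc)
      rw [he, adjSwap, ← mul_assoc, swap_mul_self, one_mul] at hk'
      have h2 := hred _ hk'.symm
      rw [List.length_eraseIdx_of_lt hk] at h2
      omega

theorem symExSystem_matrix (n : ℕ) : (symExSystem n).matrix = CoxeterMatrix.A n := by
  ext i j
  show orderOf (adjSwap i * adjSwap j) = if i = j then 1 else
    (if (j : ℕ) + 1 = i ∨ (i : ℕ) + 1 = j then 3 else 2)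
  split_ifs with hij hadj
  · subst hij; rw [adjSwap, swap_mul_self, orderOf_one]
  · rcases hadj with h | h
    · rw [show adjSwap i * adjSwap j = swap i.castSucc i.succ * swap i.castSucc j.castSucc by
        rw [adjSwap, adjSwap, show j.succ = i.castSucc from Fin.ext (by simpa using h), swap_comm j.castSucc]]
      exact (Perm.isThreeCycle_swap_mul_swap_same (by simp [Fin.ext_iff])
        (by simp only [ne_eq, Fin.ext_iff, Fin.val_castSucc]; omega)
        (by simp only [ne_eq, Fin.ext_iff, Fin.val_castSucc, Fin.val_succ]; omega)).orderOf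
    · rw [show adjSwap i * adjSwap j = swap i.succ i.castSucc * swap i.succ j.succ by
        rw [adjSwap, adjSwap, show j.castSucc = i.succ from Fin.ext (by simpa using h.symm), swap_comm i.castSucc]]
      exact (Perm.isThreeCycle_swap_mul_swap_same (by simp [Fin.ext_iff])
        (by simp only [ne_eq, Fin.ext_iff, Fin.val_succ]; omega)
        (by simp only [ne_eq, Fin.ext_iff, Fin.val_castSucc, Fin.val_succ]; omega)).orderOf
  · have hd : Perm.Disjoint (adjSwap i) (adjSwap j) := fun x => by
      by_cases hx : x = i.castSucc ∨ x = i.succ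
      · right
        have hij' : (i : ℕ) ≠ j := fun h => hij (Fin.ext h)
        rcases hx with rfl | rfl <;> refine swap_apply_of_ne_of_ne ?_ ?_ <;>
          simp only [ne_eq, Fin.ext_iff, Fin.val_castSucc, Fin.val_succ] <;> omega
      · left
        rw [not_or] at hx
        exact swap_apply_of_ne_of_ne hx.1 hx.2
    refine orderOf_eq_prime ?_ ?_
    · rw [hd.commute.mul_pow, pow_two, pow_two, adjSwap, adjSwap, swap_mul_self, swap_mul_self, one_mul]
    · intro h
      rw [mul_eq_one_iff_eq_inv, show (adjSwap j)⁻¹ = adjSwap j from swap_inv _ _] at h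
      exact hij (adjSwap_injective h)

theorem exists_coxeterSystem_sym (n : ℕ) :
    ∃ cs : CoxeterSystem (CoxeterMatrix.A n) (Perm (Fin (n + 1))), ∀ i : Fin n,
      cs.simple i = swap i.castSucc i.succ := by
  rw [← symExSystem_matrix n]
  exact ⟨(symExSystem n).coxeterSystem, (symExSystem n).coxeterSystem_simple⟩

end CfsgLib.Perm.Groups
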