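import Cfsg.Agent.Lib.Perm.Groups.PrimeTriple

/-!
# Subgroups of prime index in groups of prime degree

A subgroup of index `p` with no fixed point would give a symmetric design whose group is triply transitive.
-/

set_option autoImplicit false
set_option linter.unusedSectionVars false
set_option linter.style.haveILetI false

namespace CfsgLib.Perm.Heart

open MulAction
open scoped Pointwise

universe u

variable {α : Type u} [Fintype α] [DecidableEq α] {p : ℕ} [hp : Fact p.Prime]

theorem sq_not_dvd (hpc : Fintype.card α = p) (G : Subgroup (Equiv.Perm α)) : ¬ p ^ 2 ∣ Nat.card G := by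
  intro h
  have h1 : Nat.card G ∣ p.factorial := by
    have := Subgroup.card_subgroup_dvd_card G
    rwa [Nat.card_eq_fintype_card (α := Equiv.Perm α), Fintype.card_perm, hpc] at this
  have h2 := h.trans h1
  obtain ⟨n, hn⟩ : ∃ n, p = n + 1 := ⟨p - 1, by have := hp.out.pos; omega⟩
  rw [pow_two, hn, Nat.factorial_succ, Nat.mul_dvd_mul_iff_left (by omega)] at h2
  rw [← hn] at h2
  rw [hp.out.dvd_factorial] at h2
  omega

theorem card_stabilizer_mul (hpc : Fintype.card α = p) (G : Subgroup (Equiv.Perm α)) [IsPretransitive G α] (a : α) :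
    p * Nat.card (stabilizer G a) = Nat.card G := by
  rw [← hpc, ← Nat.card_eq_fintype_card, ← index_stabilizer_of_transitive G a, mul_comm, Subgroup.card_mul_index]

/-- In a solvable group of prime degree a subgroup of order prime to `p` fixes a point. -/
theorem exists_fixed_of_solvable (hpc : Fintype.card α = p) (G : Subgroup (Equiv.Perm α)) [IsPretransitive G α]
    (hG : Group.IsSolvable G) (H : Subgroup G) (hH : ¬ p ∣ Nat.card H) : ∃ a : α, ∀ h ∈ H, h • a = a := by
  classical
  haveI : NeZero p := ⟨hp.out.ne_zero⟩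
  haveI : Fact (1 < p) := ⟨hp.out.one_lt⟩
  obtain ⟨c, e, hT⟩ := exists_coordinates hp.out hpc.symm G
  have hc1 : ∀ x, c • e x = e (x + 1) := fun x => by
    have h := hT x 1
    rwa [ZMod.val_one, pow_one] at h
  have hcn : ∀ (n : ℕ) (x : ZMod p), c ^ n • e x = e (x + (n : ZMod p)) := by
    intro n
    induction n with
    | zero => intro x; simp
    | succ n ih => intro x; rw [pow_succ', mul_smul, ih, hc1, Nat.cast_succ, add_assoc]
  have hcp : c ^ p = 1 := by
    refine Subtype.ext (Equiv.ext fun a => ?_)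
    obtain ⟨x, rfl⟩ := e.surjective a
    show c ^ p • e x = e x
    rw [hcn, ZMod.natCast_self, add_zero]
  have hcne : c ≠ 1 := fun h => by
    have := hc1 0
    rw [h, one_smul, zero_add] at this
    exact one_ne_zero (e.injective this).symm
  -- an abelian normal subgroup
  obtain ⟨A, hAn, hAne, hAab⟩ : ∃ A : Subgroup G, A.Normal ∧ A ≠ ⊥ ∧ ∀ x ∈ A, ∀ y ∈ A, x * y = y * x := by
    have hex : ∃ n, derivedSeries G n = ⊥ := (Group.isSolvable_def G).1 hG
    obtain ⟨n, hn⟩ : ∃ n, n = Nat.find hex := ⟨_, rfl⟩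
    have hspec : derivedSeries G n = ⊥ := hn ▸ Nat.find_spec hex
    rcases n with _ | n
    · exfalso
      rw [derivedSeries_zero] at hspec
      exact hcne ((Subgroup.mem_bot).1 (hspec ▸ Subgroup.mem_top c))
    · refine ⟨derivedSeries G n, derivedSeries_normal G n, fun h => Nat.find_min hex (by omega) h, ?_⟩
      rw [derivedSeries_succ, Subgroup.commutator_eq_bot_iff_le_centralizer] at hspec
      exact fun x hx y hy => (Subgroup.mem_centralizer_iff.1 (hspec hx) y hy).symm
  haveI := hAn
  haveI : IsPreprimitive G α := IsPreprimitive.of_prime_card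
    (by rw [Nat.card_eq_fintype_card, hpc]; exact hp.out)
  have hAtr : IsPretransitive A α := by
    apply IsQuasiPreprimitive.isPretransitive_of_normal
    intro hall
    apply hAne
    rw [eq_bot_iff]
    intro x hx
    rw [Subgroup.mem_bot]
    refine Subtype.ext (Equiv.ext fun a => ?_)
    have := (Set.eq_univ_iff_forall.1 hall a) ⟨x, hx⟩
    exact this
  have hreg : ∀ x ∈ A, ∀ a : α, x • a = a → x = 1 := by
    intro x hx a hxa
    refine Subtype.ext (Equiv.ext fun b => ?_)
    obtain ⟨⟨y, hy⟩, rfl⟩ := exists_smul_eq A a b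
    show x • y • a = y • a
    rw [← mul_smul, hAab x hx y hy, mul_smul, hxa]
  have hAcard : Nat.card A = p := by
    rw [← hpc, ← Nat.card_eq_fintype_card]
    refine Nat.card_eq_of_bijective (fun x : A => (x : G) • e 0) ⟨fun x y h => ?_, fun b => ?_⟩
    · have h1 := hreg ((y : G)⁻¹ * (x : G)) (mul_mem (inv_mem y.2) x.2) (e 0)
        (by rw [mul_smul, show (x : G) • e 0 = (y : G) • e 0 from h, inv_smul_smul])
      exact Subtype.ext (inv_mul_eq_one.1 h1).symm
    · obtain ⟨x, hx⟩ := exists_smul_eq A (e 0) b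
      exact ⟨x, hx⟩
  have hcA : Subgroup.zpowers c = A := by
    have hcord : orderOf c = p := orderOf_eq_prime hcp hcne
    have hmem : c ∈ A := by
      by_contra hcn'
      apply sq_not_dvd hpc G
      have hq : orderOf (c : G ⧸ A) = p := orderOf_eq_prime
        (by rw [← QuotientGroup.mk_pow, hcp]; rfl) (fun h => hcn' ((QuotientGroup.eq_one_iff c).1 h))
      rw [← A.card_mul_index, hAcard, pow_two]
      exact mul_dvd_mul_left p (hq ▸ orderOf_dvd_natCard (c : G ⧸ A))
    exact Subgroup.eq_of_le_of_card_ge ((Subgroup.zpowers_le).2 hmem) (by rw [hAcard, Nat.card_zpowers, hcord])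
  let π : G → ZMod p → ZMod p := fun g x => e.symm (g • e x)
  have hπ : ∀ g x, e (π g x) = g • e x := fun g x => e.apply_symm_apply _
  have haff : ∀ g, ∃ i, ∀ x, π g x = π g 0 + x * i := by
    intro g
    obtain ⟨n, hn⟩ : ∃ n : ℕ, c ^ n = g * c * g⁻¹ := by
      have h1 : g * c * g⁻¹ ∈ Subgroup.zpowers c := by
        rw [hcA]; exact hAn.conj_mem c (hcA ▸ Subgroup.mem_zpowers c) g
      exact Submonoid.mem_powers_iff _ _ |>.1 ((isOfFinOrder_of_finite c).mem_powers_iff_mem_zpowers.2 h1)
    have hstep : ∀ x, π g (x + 1) = π g x + n := fun x => e.injective (by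
      rw [hπ, ← hc1, ← mul_smul, show g * c = c ^ n * g from by rw [hn]; group, mul_smul, ← hπ, hcn])
    have hlin : ∀ m : ℕ, π g (m : ZMod p) = π g 0 + m * (n : ZMod p) := by
      intro m
      induction m with
      | zero => simp
      | succ m ih => rw [Nat.cast_succ, hstep, ih]; ring
    exact ⟨n, fun x => by have := hlin x.val; rwa [ZMod.natCast_zmod_val] at this⟩
  -- the centroid of an orbit
  haveI : Fintype H := Fintype.ofFinite H
  have hcardne : (Fintype.card H : ZMod p) ≠ 0 := by
    rw [Ne, ZMod.natCast_eq_zero_iff, ← Nat.card_eq_fintype_card]; exact hH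
  refine ⟨e ((Fintype.card H : ZMod p)⁻¹ * ∑ h : H, π h 0), fun g hg => ?_⟩
  rw [← hπ]
  congr 1
  obtain ⟨i, hi⟩ := haff g
  have hcomp : ∀ h : H, π g (π h 0) = π ((⟨g, hg⟩ * h : H) : G) 0 := fun h => e.injective (by
    rw [hπ, hπ, hπ, ← mul_smul]; rfl)
  have hs : ∑ h : H, π g (π h 0) = ∑ h : H, π h 0 :=
    Fintype.sum_equiv (Equiv.mulLeft (⟨g, hg⟩ : H)) _ _ fun h => hcomp h
  simp only [fun h : H => hi (π h 0), Finset.sum_add_distrib, Finset.sum_const, Finset.card_univ, nsmul_eq_mul,
    ← Finset.sum_mul] at hs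
  rw [hi]
  field_simp
  linear_combination hs

/-- The arithmetic of a symmetric design with a constant number of blocks on each triple. -/
theorem design_arith {p k l t : ℤ} (hl : l ≠ 0) (h1 : l * (p - 1) = k * (k - 1))
    (h2 : 2 * l + (p - 2) * t = l * k) (h3 : 2 * l ^ 2 + (p - 2) * t ^ 2 = l * l ^ 2 + (k - l) * l) :
    k = l ∨ k = p - 1 := by
  have e1 : ((p - 2) * l) * (k + l ^ 2 - 3 * l) = l ^ 2 * (k - 2) ^ 2 := by
    linear_combination (-(p - 2)) * h3 + ((p - 2) * t + l * k - 2 * l) * h2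
  have e2 : (k - l) ^ 2 * (k - l - 1) = 0 := by
    linear_combination e1 - (k + l ^ 2 - 3 * l) * h1
  rcases mul_eq_zero.1 e2 with h | h
  · exact Or.inl (sub_eq_zero.1 (eq_zero_of_pow_eq_zero h))
  · exact Or.inr (mul_left_cancel₀ hl (by linear_combination -h1 - k * h))

/-- A subgroup of index `p` whose orbit has size strictly between one and `p - 1` is impossible in a triply
transitive group. -/
theorem no_middle_orbit (hpc : Fintype.card α = p) (G : Subgroup (Equiv.Perm α))
    (h3t : IsMultiplyPretransitive G α 3) (H : Subgroup G) (hH : H.index = p) (a₀ : α)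
    (h2k : 2 ≤ (orbit H a₀).ncard) (hkp : (orbit H a₀).ncard + 2 ≤ p) : False := by
  classical
  haveI : Fintype (G ⧸ H) := Fintype.ofFinite _
  haveI : IsMultiplyPretransitive G α 2 := isMultiplyPretransitive_of_le (n := 3) (m := 2) (by omega)
    (by rw [Nat.card_eq_fintype_card, hpc]; omega)
  haveI : IsPretransitive G α := isPretransitive_of_is_two_pretransitive
  obtain ⟨k, hk⟩ : ∃ k, k = (orbit H a₀).ncard := ⟨_, rfl⟩
  rw [← hk] at h2k hkp
  let R : α → G ⧸ H → Prop := fun y q => ∃ g : G, (g : G ⧸ H) = q ∧ g⁻¹ • y ∈ orbit H a₀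
  have hR : ∀ (g : G) y, R y (g : G ⧸ H) ↔ g⁻¹ • y ∈ orbit H a₀ := by
    intro g y
    refine ⟨?_, fun h => ⟨g, rfl, h⟩⟩
    rintro ⟨g', hg', h'⟩
    have hm : g'⁻¹ * g ∈ H := QuotientGroup.eq.1 hg'
    obtain ⟨h, hh⟩ := h'
    refine ⟨⟨(g'⁻¹ * g)⁻¹, inv_mem hm⟩ * h, ?_⟩
    show (((g'⁻¹ * g)⁻¹ * (h : G)) : G) • a₀ = g⁻¹ • y
    rw [mul_smul, show (h : G) • a₀ = g'⁻¹ • y from hh, mul_inv_rev, inv_inv, mul_smul, smul_inv_smul]
  have hRinv : ∀ (m : G) y q, R (m • y) (m • q) ↔ R y q := by
    intro m y q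
    induction q using QuotientGroup.induction_on with
    | H g =>
      rw [show m • (g : G ⧸ H) = ((m * g : G) : G ⧸ H) from rfl, hR, hR, mul_inv_rev, mul_smul, inv_smul_smul]
  let I : α → G ⧸ H → ℤ := fun y q => if R y q then 1 else 0
  have hI : ∀ (m : G) y q, I (m • y) (m • q) = I y q := fun m y q => if_congr (hRinv m y q) rfl rfl
  have hblock : ∀ q, ∑ y, I y q = (k : ℤ) := by
    intro q
    induction q using QuotientGroup.induction_on with
    | H g =>
      simp only [I, hR, Finset.sum_boole]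
      rw [hk, Nat.cast_inj, ← Set.ncard_coe_finset]
      refine Set.ncard_congr (fun y _ => g⁻¹ • y) (fun y hy => by simpa using hy)
        (fun u v _ _ h => smul_left_cancel g⁻¹ h) fun y hy => ⟨g • y, by simpa using hy, inv_smul_smul _ _⟩
  have hQ : Fintype.card (G ⧸ H) = p := by
    rw [← Nat.card_eq_fintype_card, ← hH]; rfl
  have hpoint : ∀ y, ∑ q, I y q = (k : ℤ) := by
    intro y
    have hconst : ∀ z, ∑ q, I z q = ∑ q, I y q := fun z => by
      obtain ⟨m, rfl⟩ := exists_smul_eq G y z
      exact (Fintype.sum_equiv (MulAction.toPerm m) _ _ fun q => by simp [hI]).symm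
    have h := Finset.sum_comm (s := (Finset.univ : Finset α)) (t := (Finset.univ : Finset (G ⧸ H))) (f := I)
    simp only [hconst, hblock, Finset.sum_const, Finset.card_univ, hpc, hQ, nsmul_eq_mul] at h
    exact mul_left_cancel₀ (by exact_mod_cast hp.out.ne_zero) h
  -- two and three points
  obtain ⟨b₀, hb₀, c₀, hc₀, hc₀'⟩ : ∃ b₀, b₀ ≠ a₀ ∧ ∃ c₀, c₀ ≠ a₀ ∧ c₀ ≠ b₀ := by
    obtain ⟨b₀, hb₀⟩ := Finset.exists_mem_notMem_of_card_lt_card
      (show ({a₀} : Finset α).card < (Finset.univ : Finset α).card by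
        rw [Finset.card_singleton, Finset.card_univ, hpc]; omega)
    obtain ⟨c₀, hc₀⟩ := Finset.exists_mem_notMem_of_card_lt_card
      (show ({a₀, b₀} : Finset α).card < (Finset.univ : Finset α).card by
        refine lt_of_le_of_lt Finset.card_le_two ?_
        rw [Finset.card_univ, hpc]; omega)
    refine ⟨b₀, by simpa using hb₀, c₀, ?_⟩
    simpa [not_or] using hc₀
  obtain ⟨l, hl⟩ : ∃ l, l = ∑ q, I a₀ q * I b₀ q := ⟨_, rfl⟩
  obtain ⟨t, ht⟩ : ∃ t, t = ∑ q, I a₀ q * I b₀ q * I c₀ q := ⟨_, rfl⟩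
  have hl2 : ∀ y z, ∑ q, I y q * I z q = if y = z then (k : ℤ) else l := by
    intro y z
    split_ifs with h
    · subst h
      rw [← hpoint y]
      exact Finset.sum_congr rfl fun q _ => by simp only [I]; split_ifs <;> simp
    · obtain ⟨m, rfl, rfl⟩ := is_two_pretransitive_iff.1 (inferInstance : IsMultiplyPretransitive G α 2) hb₀.symm h
      rw [hl]
      exact (Fintype.sum_equiv (MulAction.toPerm m) _ _ fun q => by simp [hI]).symm
  have ht3 : ∀ z, z ≠ a₀ → z ≠ b₀ → ∑ q, I a₀ q * I b₀ q * I z q = t := by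
    intro z hza hzb
    let u : Fin 3 ↪ α := ⟨![a₀, b₀, c₀], by
      intro i j h
      fin_cases i <;> fin_cases j <;>
        simp_all [hb₀.symm, hc₀.symm, hc₀'.symm]⟩
    let v : Fin 3 ↪ α := ⟨![a₀, b₀, z], by
      intro i j h
      fin_cases i <;> fin_cases j <;>
        simp_all [hb₀.symm, hza.symm, hzb.symm]⟩
    obtain ⟨m, hm⟩ := h3t.exists_smul_eq u v
    have e0 : m • a₀ = a₀ := DFunLike.congr_fun hm 0
    have e1 : m • b₀ = b₀ := DFunLike.congr_fun hm 1
    have e2 : m • c₀ = z := DFunLike.congr_fun hm 2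
    rw [ht]
    refine (Fintype.sum_equiv (MulAction.toPerm m) _ _ fun q => ?_).symm
    rw [MulAction.toPerm_apply, ← hI m a₀, ← hI m b₀, ← hI m c₀, e0, e1, e2]
  have hcount : l * ((p : ℤ) - 1) = (k : ℤ) * (k - 1) := by
    have h : ∑ y, ∑ q, I a₀ q * I y q = (k : ℤ) * k := by
      rw [Finset.sum_comm]
      simp only [← Finset.mul_sum, hblock, ← Finset.sum_mul, hpoint]
    simp only [hl2] at h
    rw [← Finset.add_sum_erase _ _ (Finset.mem_univ a₀), if_pos rfl,
      Finset.sum_congr rfl (fun y hy => if_neg (Finset.ne_of_mem_erase hy).symm), Finset.sum_const,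
      Finset.card_erase_of_mem (Finset.mem_univ _), Finset.card_univ, hpc, nsmul_eq_mul,
      Nat.cast_sub hp.out.one_le] at h
    push_cast at h
    linear_combination h
  -- two blocks meet in `l` points
  have hdual : ∀ q q', ∑ y, I y q * I y q' = if q = q' then (k : ℤ) else l := by
    intro q q'
    split_ifs with h
    · subst h
      rw [← hblock q]
      exact Finset.sum_congr rfl fun y _ => by simp only [I]; split_ifs <;> simp
    let n : G ⧸ H → ℤ := fun r => ∑ y, I y q * I y r
    have hn1 : ∑ r, n r = (k : ℤ) * k := by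
      simp only [n]
      rw [Finset.sum_comm]
      simp only [← Finset.mul_sum, hpoint, ← Finset.sum_mul, hblock]
    have hn2 : ∑ r, n r ^ 2 = l * (k : ℤ) * k + ((k : ℤ) - l) * k := by
      simp only [n, pow_two, Finset.sum_mul_sum]
      rw [Finset.sum_comm]
      calc ∑ y, ∑ r, ∑ z, I y q * I y r * (I z q * I z r)
          = ∑ y, ∑ z, I y q * I z q * ∑ r, I y r * I z r := by
            refine Finset.sum_congr rfl fun y _ => ?_
            rw [Finset.sum_comm]
            refine Finset.sum_congr rfl fun z _ => ?_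
            rw [Finset.mul_sum]
            exact Finset.sum_congr rfl fun r _ => by ring
        _ = ∑ y, ∑ z, (l * (I y q * I z q) + if y = z then ((k : ℤ) - l) * (I y q * I z q) else 0) := by
            refine Finset.sum_congr rfl fun y _ => Finset.sum_congr rfl fun z _ => ?_
            rw [hl2]; split_ifs <;> ring
        _ = _ := by
            simp only [Finset.sum_add_distrib, ← Finset.mul_sum, Finset.sum_ite_eq, Finset.mem_univ, if_true,
              ← Finset.sum_mul, hblock]
            rw [mul_assoc]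
            congr 2
            rw [← hblock q]
            exact Finset.sum_congr rfl fun y _ => by simp only [I]; split_ifs <;> simp
    have hnq : n q = (k : ℤ) := by
      rw [← hblock q]
      exact Finset.sum_congr rfl fun y _ => by simp only [I]; split_ifs <;> simp
    have hvar : ∑ r ∈ Finset.univ.erase q, (n r - l) ^ 2 = 0 := by
      have h1 := Finset.add_sum_erase _ n (Finset.mem_univ q)
      have h2 := Finset.add_sum_erase _ (fun r => n r ^ 2) (Finset.mem_univ q)
      rw [hn1, hnq] at h1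
      rw [hn2, hnq] at h2
      simp only [sub_sq, Finset.sum_add_distrib, Finset.sum_sub_distrib, Finset.sum_const,
        Finset.card_erase_of_mem (Finset.mem_univ _), Finset.card_univ, hQ, nsmul_eq_mul,
        Nat.cast_sub hp.out.one_le, mul_comm (2 : ℤ), mul_assoc, ← Finset.sum_mul, ← Finset.mul_sum]
      push_cast
      linear_combination h2 - 2 * l * h1 + l * hcount
    have h0 := (Finset.sum_eq_zero_iff_of_nonneg fun r _ => sq_nonneg _).1 hvar q'
      (Finset.mem_erase.2 ⟨Ne.symm h, Finset.mem_univ _⟩)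
    exact sub_eq_zero.1 (eq_zero_of_pow_eq_zero h0)
  -- the blocks through two points
  let J : G ⧸ H → ℤ := fun q => I a₀ q * I b₀ q
  let N : α → ℤ := fun y => ∑ q, J q * I y q
  have hNa : N a₀ = l ∧ N b₀ = l := by
    rw [hl]
    exact ⟨Finset.sum_congr rfl fun q _ => by simp only [J, I]; split_ifs <;> simp,
      Finset.sum_congr rfl fun q _ => by simp only [J, I]; split_ifs <;> simp⟩
  have hsplit : ∀ F : ℤ → ℤ, ∑ y, F (N y) = 2 * F l + ((p : ℤ) - 2) * F t := by
    intro F
    have hmem : b₀ ∈ Finset.univ.erase a₀ := Finset.mem_erase.2 ⟨hb₀, Finset.mem_univ _⟩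
    rw [← Finset.add_sum_erase _ _ (Finset.mem_univ a₀), ← Finset.add_sum_erase _ _ hmem, hNa.1, hNa.2,
      Finset.sum_congr rfl (g := fun _ => F t) fun y hy => by
        simp only [Finset.mem_erase] at hy
        show F (∑ q, J q * I y q) = F t
        rw [ht3 y hy.2.1 hy.1],
      Finset.sum_const, Finset.card_erase_of_mem hmem, Finset.card_erase_of_mem (Finset.mem_univ _),
      Finset.card_univ, hpc, nsmul_eq_mul, Nat.sub_sub, Nat.cast_sub (by omega)]
    push_cast
    ring
  have e2 : 2 * l + ((p : ℤ) - 2) * t = l * k := by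
    have h := hsplit id
    simp only [id] at h
    rw [← h]
    simp only [id, N]
    rw [Finset.sum_comm]
    simp only [← Finset.mul_sum, hblock, ← Finset.sum_mul]
    rw [hl]
  have e3 : 2 * l ^ 2 + ((p : ℤ) - 2) * t ^ 2 = l * l ^ 2 + ((k : ℤ) - l) * l := by
    rw [← hsplit (fun x => x ^ 2)]
    simp only [N, pow_two, Finset.sum_mul_sum]
    rw [Finset.sum_comm]
    calc ∑ q, ∑ y, ∑ r, J q * I y q * (J r * I y r)
        = ∑ q, ∑ r, J q * J r * ∑ y, I y q * I y r := by
          refine Finset.sum_congr rfl fun q _ => ?_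
          rw [Finset.sum_comm]
          refine Finset.sum_congr rfl fun r _ => ?_
          rw [Finset.mul_sum]
          exact Finset.sum_congr rfl fun y _ => by ring
      _ = ∑ q, ∑ r, (l * (J q * J r) + if q = r then ((k : ℤ) - l) * (J q * J r) else 0) := by
          refine Finset.sum_congr rfl fun q _ => Finset.sum_congr rfl fun r _ => ?_
          rw [hdual]; split_ifs <;> ring
      _ = _ := by
          simp only [Finset.sum_add_distrib, ← Finset.mul_sum, Finset.sum_ite_eq, Finset.mem_univ, if_true,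
            ← Finset.sum_mul]
          rw [hl, ← hl]
          congr 2
          rw [hl]
          exact Finset.sum_congr rfl fun q _ => by simp only [J, I]; split_ifs <;> simp
  have hl0 : l ≠ 0 := by
    intro h0
    rw [h0, zero_mul] at hcount
    rcases mul_eq_zero.1 hcount.symm with h | h <;> omega
  rcases design_arith hl0 hcount e2 e3 with h | h
  · have : (k : ℤ) * ((p : ℤ) - k) = 0 := by rw [← h] at hcount; linear_combination hcount
    rcases mul_eq_zero.1 this with h' | h' <;> omega
  · omega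

/-- Subgroups of index `p` are point stabilisers. -/
theorem index_prime_stabilizer (hpc : Fintype.card α = p) (G : Subgroup (Equiv.Perm α)) [IsPretransitive G α]
    (P : Sylow p G) (heven : Even (Nat.card (Subgroup.normalizer ((P : Subgroup G) : Set G))))
    (H : Subgroup G) (hH : H.index = p) : ∃ a : α, H = stabilizer G a := by
  classical
  suffices hfix : ∃ a : α, ∀ h ∈ H, h • a = a by
    obtain ⟨a, ha⟩ := hfix
    refine ⟨a, Subgroup.eq_of_le_of_card_ge ha ?_⟩
    have h1 := card_stabilizer_mul hpc G a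
    have h2 := H.card_mul_index
    rw [hH] at h2
    exact le_of_eq (Nat.eq_of_mul_eq_mul_left hp.out.pos (h1.trans (h2.symm.trans (mul_comm _ _))))
  have hpH : ¬ p ∣ Nat.card H := fun h => sq_not_dvd hpc G (by
    rw [← H.card_mul_index, hH, pow_two]
    exact mul_dvd_mul_right h p)
  by_cases hs : Group.IsSolvable G
  · exact exists_fixed_of_solvable hpc G hs H hpH
  have h3t := prime_three_transitive hpc G hs P heven
  obtain ⟨a₀⟩ : Nonempty α := Fintype.card_pos_iff.1 (hpc ▸ hp.out.pos)
  obtain ⟨k, hk⟩ : ∃ k, k = (orbit H a₀).ncard := ⟨_, rfl⟩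
  have hkdvd : k ∣ Nat.card H := by
    rw [hk, ← index_stabilizer]; exact Subgroup.index_dvd_card _
  have hkle : k ≤ p := by
    rw [hk, ← hpc, ← Nat.card_eq_fintype_card, ← Set.ncard_univ]
    exact Set.ncard_le_ncard (Set.subset_univ _)
  have hk0 : 0 < k := by rw [hk]; exact (Set.ncard_pos (Set.toFinite _)).2 ⟨a₀, mem_orbit_self a₀⟩
  have hkne : k ≠ p := fun h => hpH (h ▸ hkdvd)
  rcases (show k = 1 ∨ k + 1 = p ∨ (2 ≤ k ∧ k + 2 ≤ p) by omega) with h | h | ⟨h1, h2⟩
  · obtain ⟨b, hb⟩ := Set.ncard_eq_one.1 (hk ▸ h)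
    have e : a₀ = b := by have := mem_orbit_self (M := H) a₀; rwa [hb] at this
    exact ⟨a₀, fun g hg => by
      have := mem_orbit a₀ (⟨g, hg⟩ : H)
      rw [hb, Set.mem_singleton_iff, ← e] at this
      exact this⟩
  · have hc : ((orbit H a₀)ᶜ).ncard = 1 := by
      have := Set.ncard_add_ncard_compl (orbit H a₀)
      rw [← hk, Nat.card_eq_fintype_card, hpc] at this
      omega
    obtain ⟨b, hb⟩ := Set.ncard_eq_one.1 hc
    refine ⟨b, fun g hg => ?_⟩
    have hbn : b ∉ orbit H a₀ := (hb.symm ▸ Set.mem_singleton b : b ∈ (orbit H a₀)ᶜ)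
    have hgb : g • b ∈ (orbit H a₀)ᶜ := fun hmem => hbn (by
      have h' := mem_orbit_of_mem_orbit (⟨g, hg⟩⁻¹ : H) hmem
      rwa [show (⟨g, hg⟩⁻¹ : H) • (g • b) = b from inv_smul_smul (⟨g, hg⟩ : H) b] at h')
    rwa [hb, Set.mem_singleton_iff] at hgb
  · exact (no_middle_orbit hpc G h3t H hH a₀ (hk ▸ h1) (hk ▸ h2)).elim

end CfsgLib.Perm.Heart
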