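import Mathlib

/-!
# Largest abelian permutation groups

An abelian permutation group embeds in the product of its orbits; the largest product of the parts of a
partition of `n`, with and without parts equal to two, is then attained by regular constituents.
-/

set_option autoImplicit false

namespace CfsgLib.Perm.Groups

/-- The largest product of the parts of a partition. -/
def maxProd : ℕ → ℕ
  | 0 => 1
  | 1 => 1
  | 2 => 2
  | 3 => 3
  | 4 => 4
  | n + 5 => 3 * maxProd (n + 2)

/-- The largest product of the parts of a partition without parts equal to two. -/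
def maxProdTwoFree : ℕ → ℕ
  | 0 => 1
  | 1 => 1
  | 2 => 1
  | 3 => 3
  | 4 => 4
  | 5 => 5
  | 6 => 9
  | 7 => 12
  | 8 => 16
  | n + 9 => 3 * maxProdTwoFree (n + 6)

theorem mul_maxProd : ∀ s n : ℕ, s * maxProd n ≤ maxProd (n + s) := by
  have h3 : ∀ n, 3 * maxProd n ≤ maxProd (n + 3) := by
    intro n
    match n with
    | 0 => decide
    | 1 => decide
    | n + 2 => exact le_of_eq rfl
  have hmono : ∀ n, maxProd n ≤ maxProd (n + 1) ∧ 2 * maxProd n ≤ maxProd (n + 2) ∧
      4 * maxProd n ≤ maxProd (n + 4) := by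
    intro n
    induction n using Nat.strong_induction_on with
    | _ n ih =>
      match n with
      | 0 => decide
      | 1 => decide
      | 2 => decide
      | 3 => decide
      | 4 => decide
      | m + 5 =>
        obtain ⟨a, b, c⟩ := ih (m + 2) (by omega)
        refine ⟨?_, ?_, ?_⟩
        · show 3 * maxProd (m + 2) ≤ 3 * maxProd (m + 1 + 2)
          rw [show m + 1 + 2 = m + 2 + 1 by omega]; omega
        · show 2 * (3 * maxProd (m + 2)) ≤ 3 * maxProd (m + 2 + 2)
          omega
        · show 4 * (3 * maxProd (m + 2)) ≤ 3 * maxProd (m + 4 + 2)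
          rw [show m + 4 + 2 = m + 2 + 4 by omega]; omega
  intro s
  induction s using Nat.strong_induction_on with
  | _ s ih =>
    intro n
    match s with
    | 0 => simp
    | 1 => simpa using (hmono n).1
    | 2 => exact (hmono n).2.1
    | 3 => exact h3 n
    | 4 => exact (hmono n).2.2
    | s + 5 =>
      have h1 := ih (s + 2) (by omega) n
      have h2 := h3 (n + (s + 2))
      rw [show n + (s + 5) = n + (s + 2) + 3 by omega]
      have h4 : (s + 5) * maxProd n ≤ 3 * ((s + 2) * maxProd n) := by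
        rw [← mul_assoc]; exact Nat.mul_le_mul_right _ (by omega)
      omega

theorem mul_maxProdTwoFree : ∀ s n : ℕ, s ≠ 2 → s * maxProdTwoFree n ≤ maxProdTwoFree (n + s) := by
  have hbase : ∀ n, maxProdTwoFree n ≤ maxProdTwoFree (n + 1) ∧
      3 * maxProdTwoFree n ≤ maxProdTwoFree (n + 3) ∧ 4 * maxProdTwoFree n ≤ maxProdTwoFree (n + 4) ∧
      5 * maxProdTwoFree n ≤ maxProdTwoFree (n + 5) := by
    intro n
    induction n using Nat.strong_induction_on with
    | _ n ih =>
      match n with
      | 0 => decide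
      | 1 => decide
      | 2 => decide
      | 3 => decide
      | 4 => decide
      | 5 => decide
      | 6 => decide
      | 7 => decide
      | 8 => decide
      | m + 9 =>
        obtain ⟨a, b, c, d⟩ := ih (m + 6) (by omega)
        refine ⟨?_, ?_, ?_, ?_⟩
        · show 3 * maxProdTwoFree (m + 6) ≤ 3 * maxProdTwoFree (m + 1 + 6)
          rw [show m + 1 + 6 = m + 6 + 1 by omega]; omega
        · show 3 * (3 * maxProdTwoFree (m + 6)) ≤ 3 * maxProdTwoFree (m + 3 + 6)
          rw [show m + 3 + 6 = m + 6 + 3 by omega]; omega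
        · show 4 * (3 * maxProdTwoFree (m + 6)) ≤ 3 * maxProdTwoFree (m + 4 + 6)
          rw [show m + 4 + 6 = m + 6 + 4 by omega]; omega
        · show 5 * (3 * maxProdTwoFree (m + 6)) ≤ 3 * maxProdTwoFree (m + 5 + 6)
          rw [show m + 5 + 6 = m + 6 + 5 by omega]; omega
  intro s
  induction s using Nat.strong_induction_on with
  | _ s ih =>
    intro n hs
    match s with
    | 0 => simp
    | 1 => simpa using (hbase n).1
    | 2 => exact absurd rfl hs
    | 3 => exact (hbase n).2.1
    | 4 => exact (hbase n).2.2.1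
    | 5 => exact (hbase n).2.2.2
    | s + 6 =>
      have h1 := ih (s + 3) (by omega) n (by omega)
      have h2 := (hbase (n + (s + 3))).2.1
      rw [show n + (s + 6) = n + (s + 3) + 3 by omega]
      have h4 : (s + 6) * maxProdTwoFree n ≤ 3 * ((s + 3) * maxProdTwoFree n) := by
        rw [← mul_assoc]; exact Nat.mul_le_mul_right _ (by omega)
      omega

theorem prod_le_maxProd {ι : Type*} (S : Finset ι) (s : ι → ℕ) :
    ∏ i ∈ S, s i ≤ maxProd (∑ i ∈ S, s i) := by
  classical
  induction S using Finset.induction_on with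
  | empty => rw [Finset.prod_empty, Finset.sum_empty]; exact le_of_eq rfl
  | @insert a S ha ih =>
    rw [Finset.prod_insert ha, Finset.sum_insert ha, add_comm]
    exact (Nat.mul_le_mul_left _ ih).trans (mul_maxProd _ _)

theorem prod_le_maxProdTwoFree {ι : Type*} (S : Finset ι) (s : ι → ℕ) (h : ∀ i ∈ S, s i ≠ 2) :
    ∏ i ∈ S, s i ≤ maxProdTwoFree (∑ i ∈ S, s i) := by
  classical
  induction S using Finset.induction_on with
  | empty => rw [Finset.prod_empty, Finset.sum_empty]; exact le_of_eq rfl
  | @insert a S ha ih =>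
    rw [Finset.prod_insert ha, Finset.sum_insert ha, add_comm]
    exact (Nat.mul_le_mul_left _ (ih fun i hi => h i (Finset.mem_insert_of_mem hi))).trans
      (mul_maxProdTwoFree _ _ (h a (Finset.mem_insert_self a S)))

theorem maxProd_values (k : ℕ) :
    maxProd (3 * k + 3) = 3 ^ (k + 1) ∧ maxProd (3 * k + 4) = 4 * 3 ^ k ∧
      maxProd (3 * k + 5) = 2 * 3 ^ (k + 1) := by
  induction k with
  | zero => decide
  | succ k ih =>
    obtain ⟨a, b, c⟩ := ih
    refine ⟨?_, ?_, ?_⟩
    · show 3 * maxProd (3 * k + 3) = _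
      rw [a]; ring
    · show 3 * maxProd (3 * k + 4) = _
      rw [b]; ring
    · show 3 * maxProd (3 * k + 5) = _
      rw [c]; ring

theorem maxProdTwoFree_value (k : ℕ) : maxProdTwoFree (3 * k + 8) = 16 * 3 ^ k := by
  induction k with
  | zero => decide
  | succ k ih =>
    show 3 * maxProdTwoFree (3 * k + 8) = _
    rw [ih]; ring

/-! ### The orbit bound -/

set_option linter.unusedSectionVars false

variable {α : Type*} [Fintype α] [DecidableEq α]

/-- The orbit representatives determine an element of an abelian group. -/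
theorem eq_of_smul_rep (A : Subgroup (Equiv.Perm α)) (hA : IsMulCommutative A) {a b : A}
    (h : ∀ q : MulAction.orbitRel.Quotient A α, a • q.out = b • q.out) : a = b := by
  refine Subtype.ext (Equiv.ext fun x => ?_)
  obtain ⟨c, hc⟩ := MulAction.orbitRel_apply.1 (Quotient.exact' (Quotient.out_eq' (Quotient.mk'' x :
    MulAction.orbitRel.Quotient A α)).symm)
  show a • x = b • x
  rw [← hc, smul_smul, smul_smul, hA.is_comm.comm a c, hA.is_comm.comm b c, mul_smul, mul_smul, h]

theorem sum_card_orbit (A : Subgroup (Equiv.Perm α)) [Fintype (MulAction.orbitRel.Quotient A α)] :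
    ∑ q : MulAction.orbitRel.Quotient A α, Nat.card q.orbit = Fintype.card α := by
  rw [← Nat.card_sigma, ← Nat.card_congr (MulAction.selfEquivSigmaOrbits' A α), Nat.card_eq_fintype_card]

theorem card_abelian_le_prod (A : Subgroup (Equiv.Perm α)) (hA : IsMulCommutative A)
    [Fintype (MulAction.orbitRel.Quotient A α)] :
    Nat.card A ≤ ∏ q : MulAction.orbitRel.Quotient A α, Nat.card q.orbit := by
  rw [← Nat.card_pi]
  exact Nat.card_le_card_of_injective
    (fun (a : A) (q : MulAction.orbitRel.Quotient A α) => (⟨a • q.out, by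
      rw [MulAction.orbitRel.Quotient.mem_orbit]
      exact (Quotient.sound' (MulAction.orbitRel_apply.2 ⟨a, rfl⟩)).trans (Quotient.out_eq' q)⟩ : q.orbit))
    fun a b h => eq_of_smul_rep A hA fun q => congrArg (fun f => ((f q : q.orbit) : α)) h

theorem card_abelian_le (A : Subgroup (Equiv.Perm α)) (hA : IsMulCommutative A) :
    Nat.card A ≤ maxProd (Fintype.card α) := by
  classical
  haveI := Fintype.ofFinite (MulAction.orbitRel.Quotient A α)
  rw [← sum_card_orbit A]
  exact (card_abelian_le_prod A hA).trans (prod_le_maxProd _ _)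

/-- For even permutations an orbit of length two contributes nothing. -/
theorem card_abelian_even_le (A : Subgroup (Equiv.Perm α)) (hA : IsMulCommutative A)
    (hev : A ≤ alternatingGroup α) :
    Nat.card A ≤ maxProdTwoFree (Fintype.card α) ∨ Nat.card A ≤ maxProd (Fintype.card α - 2) := by
  classical
  haveI := Fintype.ofFinite (MulAction.orbitRel.Quotient A α)
  by_cases h : ∃ q : MulAction.orbitRel.Quotient A α, Nat.card q.orbit = 2
  · obtain ⟨q₀, hq₀⟩ := h
    refine Or.inr ?_
    have hle : Nat.card A ≤ ∏ q ∈ Finset.univ.erase q₀, Nat.card (q : MulAction.orbitRel.Quotient A α).orbit := by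
      rw [← Finset.prod_coe_sort, ← Nat.card_pi]
      refine Nat.card_le_card_of_injective
        (fun (a : A) (q : (Finset.univ.erase q₀ : Finset (MulAction.orbitRel.Quotient A α))) =>
          (⟨a • q.1.out, by
            rw [MulAction.orbitRel.Quotient.mem_orbit]
            exact (Quotient.sound' (MulAction.orbitRel_apply.2 ⟨a, rfl⟩)).trans (Quotient.out_eq' _)⟩ :
            q.1.orbit)) fun a b h => ?_
      have hne : ∀ q, q ≠ q₀ → a • (q : MulAction.orbitRel.Quotient A α).out = b • q.out := fun q hq =>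
        congrArg Subtype.val (congrFun h ⟨q, Finset.mem_erase.2 ⟨hq, Finset.mem_univ _⟩⟩)
      refine eq_of_smul_rep A hA fun q => ?_
      by_cases hq : q = q₀
      swap
      · exact hne q hq
      subst hq
      -- otherwise `a⁻¹ * b` is a transposition
      obtain ⟨c, hc⟩ : ∃ c : A, c = a⁻¹ * b := ⟨_, rfl⟩
      by_contra hab
      have hfix : ∀ x : α, x ∉ q.orbit → (c : Equiv.Perm α) x = x := by
        intro x hx
        rw [MulAction.orbitRel.Quotient.mem_orbit] at hx
        obtain ⟨d, hd⟩ := MulAction.orbitRel_apply.1 (Quotient.exact' (Quotient.out_eq' (Quotient.mk'' x :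
          MulAction.orbitRel.Quotient A α)).symm)
        show c • x = x
        rw [← hd, smul_smul, hA.is_comm.comm c d, mul_smul]
        congr 1
        rw [hc, mul_smul, ← hne _ hx, inv_smul_smul]
      have hswap : (c : Equiv.Perm α).IsSwap := by
        rw [← Equiv.Perm.card_support_eq_two]
        refine le_antisymm ?_ (Equiv.Perm.two_le_card_support_of_ne_one fun h1 => hab ?_)
        · rw [← hq₀, Nat.card_eq_fintype_card, ← Set.toFinset_card]
          refine Finset.card_le_card fun x hx => ?_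
          rw [Set.mem_toFinset]
          by_contra hxq
          exact Equiv.Perm.mem_support.1 hx (hfix x hxq)
        · have h2 : c = 1 := Subtype.ext h1
          rw [hc, inv_mul_eq_one] at h2
          rw [h2]
      obtain ⟨x, y, hxy, hcxy⟩ := hswap
      have h3 := Equiv.Perm.mem_alternatingGroup.1 (hev c.2)
      rw [hcxy, Equiv.Perm.sign_swap hxy] at h3
      exact absurd h3 (by decide)
    refine hle.trans ((prod_le_maxProd _ _).trans_eq ?_)
    congr 1
    have h2 := Finset.add_sum_erase Finset.univ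
      (fun q : MulAction.orbitRel.Quotient A α => Nat.card q.orbit) (Finset.mem_univ q₀)
    simp only [hq₀, sum_card_orbit] at h2
    omega
  · push Not at h
    refine Or.inl ?_
    rw [← sum_card_orbit A]
    exact (card_abelian_le_prod A hA).trans (prod_le_maxProdTwoFree _ _ fun q _ => h q)

/-! ### The groups attaining the bounds -/

/-- Translations on `ι` copies of a finite abelian group. -/
def blockTranslations (ι A : Type*) [AddGroup A] : Multiplicative (ι → A) →* Equiv.Perm (ι × A) where
  toFun f := Equiv.prodCongrRight fun i => Equiv.addLeft (Multiplicative.toAdd f i)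
  map_one' := Equiv.ext fun x => Prod.ext rfl (zero_add x.2)
  map_mul' f g := Equiv.ext fun x => Prod.ext rfl (add_assoc _ _ x.2)

theorem blockTranslations_injective (ι A : Type*) [AddGroup A] :
    Function.Injective (blockTranslations ι A) := fun f g h => by
  refine Multiplicative.toAdd.injective (funext fun i => ?_)
  have h1 := congrArg (fun π : Equiv.Perm (ι × A) => (π (i, 0)).2) h
  simpa [blockTranslations] using h1

theorem sign_blockTranslations (ι A : Type*) [Fintype ι] [DecidableEq ι] [AddGroup A] [Fintype A] [DecidableEq A]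
    (h : ∀ a : A, Equiv.Perm.sign (Equiv.addLeft a) = 1) (f : Multiplicative (ι → A)) :
    Equiv.Perm.sign (blockTranslations ι A f) = 1 := by
  show Equiv.Perm.sign (Equiv.prodCongrRight fun i => Equiv.addLeft (Multiplicative.toAdd f i)) = 1
  rw [Equiv.Perm.sign_prodCongrRight]
  exact Finset.prod_eq_one fun i _ => h _

theorem sign_addLeft_three : ∀ a : ZMod 3, Equiv.Perm.sign (Equiv.addLeft a) = 1 := by decide

theorem sign_addLeft_four : ∀ a : ZMod 2 × ZMod 2, Equiv.Perm.sign (Equiv.addLeft a) = 1 := by decide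

/-- An abelian subgroup from `j` regular blocks of type `A` and `l` of type `B`. -/
theorem exists_abelian_blocks (A B : Type) [AddCommGroup A] [AddCommGroup B] [Fintype A] [Fintype B]
    [DecidableEq A] [DecidableEq B] (j l n : ℕ) (hn : j * Fintype.card A + l * Fintype.card B = n) :
    ∃ H : Subgroup (Equiv.Perm (Fin n)), IsMulCommutative H ∧
      Nat.card H = Fintype.card A ^ j * Fintype.card B ^ l ∧
      ((∀ a : A, Equiv.Perm.sign (Equiv.addLeft a) = 1) → (∀ b : B, Equiv.Perm.sign (Equiv.addLeft b) = 1) →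
        H ≤ alternatingGroup (Fin n)) := by
  classical
  let e : (Fin j × A) ⊕ (Fin l × B) ≃ Fin n := Fintype.equivFinOfCardEq (by simp [hn])
  let φ : Multiplicative (Fin j → A) × Multiplicative (Fin l → B) →* Equiv.Perm (Fin n) :=
    e.permCongrHom.toMonoidHom.comp ((Equiv.Perm.sumCongrHom _ _).comp
      ((blockTranslations (Fin j) A).prodMap (blockTranslations (Fin l) B)))
  have hinj : Function.Injective φ := e.permCongrHom.injective.comp
    (Equiv.Perm.sumCongrHom_injective.comp
      ((blockTranslations_injective _ _).prodMap (blockTranslations_injective _ _)))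
  refine ⟨φ.range, ⟨⟨?_⟩⟩, ?_, fun h1 h2 => ?_⟩
  · rintro ⟨_, a, rfl⟩ ⟨_, b, rfl⟩
    exact Subtype.ext (by simp [← map_mul, mul_comm])
  · rw [← Nat.card_congr (MonoidHom.ofInjective hinj).toEquiv, Nat.card_prod,
      Nat.card_congr Multiplicative.toAdd, Nat.card_congr Multiplicative.toAdd, Nat.card_fun, Nat.card_fun]
    simp
  · rintro _ ⟨x, rfl⟩
    rw [Equiv.Perm.mem_alternatingGroup]
    show Equiv.Perm.sign (e.permCongr (Equiv.sumCongr (blockTranslations _ _ x.1) (blockTranslations _ _ x.2))) = 1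
    rw [Equiv.Perm.sign_permCongr, Equiv.Perm.sign_sumCongr, sign_blockTranslations _ _ h1,
      sign_blockTranslations _ _ h2, mul_one]

/-- The same inside the alternating group. -/
theorem exists_abelian_alt (A B : Type) [AddCommGroup A] [AddCommGroup B] [Fintype A] [Fintype B]
    [DecidableEq A] [DecidableEq B] (hA : ∀ a : A, Equiv.Perm.sign (Equiv.addLeft a) = 1)
    (hB : ∀ b : B, Equiv.Perm.sign (Equiv.addLeft b) = 1) (j l n : ℕ)
    (hn : j * Fintype.card A + l * Fintype.card B = n) :
    ∃ H : Subgroup (alternatingGroup (Fin n)), IsMulCommutative H ∧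
      Nat.card H = Fintype.card A ^ j * Fintype.card B ^ l := by
  obtain ⟨H, hH, hc, hev⟩ := exists_abelian_blocks A B j l n hn
  refine ⟨H.subgroupOf (alternatingGroup (Fin n)), ⟨⟨fun a b => ?_⟩⟩, ?_⟩
  · exact Subtype.ext (Subtype.ext (congrArg (fun x : H => (x : Equiv.Perm (Fin n)))
      (hH.is_comm.comm ⟨a.1.1, a.2⟩ ⟨b.1.1, b.2⟩) : a.1.1 * b.1.1 = b.1.1 * a.1.1))
  · rw [Nat.card_congr (Subgroup.subgroupOfEquivOfLe (hev hA hB)).toEquiv, hc]

theorem map_abelian {n : ℕ} (A : Subgroup (alternatingGroup (Fin n))) (hA : IsMulCommutative A) :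
    IsMulCommutative (A.map (alternatingGroup (Fin n)).subtype) ∧
      A.map (alternatingGroup (Fin n)).subtype ≤ alternatingGroup (Fin n) ∧
      Nat.card (A.map (alternatingGroup (Fin n)).subtype) = Nat.card A := by
  refine ⟨⟨⟨?_⟩⟩, Subgroup.map_subtype_le _, Subgroup.card_map_of_injective (Subgroup.subtype_injective _)⟩
  rintro ⟨_, a, ha, rfl⟩ ⟨_, b, hb, rfl⟩
  exact Subtype.ext (congrArg (fun x : A => ((x : alternatingGroup (Fin n)) : Equiv.Perm (Fin n)))
    (hA.is_comm.comm ⟨a, ha⟩ ⟨b, hb⟩))

/-- S2505. -/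
theorem isGreatest_sym (k : ℕ) :
    IsGreatest {c : ℕ | ∃ A : Subgroup (Equiv.Perm (Fin (3 * (k + 1)))), IsMulCommutative A ∧ Nat.card A = c}
        (3 ^ (k + 1)) ∧
    IsGreatest {c : ℕ | ∃ A : Subgroup (Equiv.Perm (Fin (3 * (k + 1) + 1))), IsMulCommutative A ∧ Nat.card A = c}
        (4 * 3 ^ k) ∧
    IsGreatest {c : ℕ | ∃ A : Subgroup (Equiv.Perm (Fin (3 * (k + 1) + 2))), IsMulCommutative A ∧ Nat.card A = c}
        (2 * 3 ^ (k + 1)) := by
  refine ⟨⟨?_, ?_⟩, ⟨?_, ?_⟩, ⟨?_, ?_⟩⟩
  · obtain ⟨H, hH, hc, -⟩ := exists_abelian_blocks (ZMod 3) (ZMod 2) (k + 1) 0 (3 * (k + 1)) (by simp; ring)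
    exact ⟨H, hH, by simpa using hc⟩
  · rintro c ⟨A, hA, rfl⟩
    refine (card_abelian_le A hA).trans_eq ?_
    rw [Fintype.card_fin]; exact (maxProd_values k).1
  · obtain ⟨H, hH, hc, -⟩ := exists_abelian_blocks (ZMod 3) (ZMod 2 × ZMod 2) k 1 (3 * (k + 1) + 1) (by simp; ring)
    exact ⟨H, hH, by simpa [mul_comm] using hc⟩
  · rintro c ⟨A, hA, rfl⟩
    refine (card_abelian_le A hA).trans_eq ?_
    rw [Fintype.card_fin]; exact (maxProd_values k).2.1
  · obtain ⟨H, hH, hc, -⟩ := exists_abelian_blocks (ZMod 3) (ZMod 2) (k + 1) 1 (3 * (k + 1) + 2) (by simp; ring)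
    exact ⟨H, hH, by simpa [mul_comm] using hc⟩
  · rintro c ⟨A, hA, rfl⟩
    refine (card_abelian_le A hA).trans_eq ?_
    rw [Fintype.card_fin]; exact (maxProd_values k).2.2

/-- S2504. -/
theorem isGreatest_alt (k : ℕ) :
    IsGreatest {c : ℕ | ∃ A : Subgroup (alternatingGroup (Fin (3 * (k + 2)))), IsMulCommutative A ∧ Nat.card A = c}
        (3 ^ (k + 2)) ∧
    IsGreatest {c : ℕ | ∃ A : Subgroup (alternatingGroup (Fin (3 * (k + 2) + 1))), IsMulCommutative A ∧ Nat.card A = c}
        (4 * 3 ^ (k + 1)) ∧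
    IsGreatest {c : ℕ | ∃ A : Subgroup (alternatingGroup (Fin (3 * (k + 2) + 2))), IsMulCommutative A ∧ Nat.card A = c}
        (16 * 3 ^ k) := by
  refine ⟨⟨?_, ?_⟩, ⟨?_, ?_⟩, ⟨?_, ?_⟩⟩
  · obtain ⟨H, hH, hc⟩ := exists_abelian_alt (ZMod 3) (ZMod 3) sign_addLeft_three sign_addLeft_three
      (k + 2) 0 (3 * (k + 2)) (by simp; ring)
    exact ⟨H, hH, by simpa using hc⟩
  · rintro c ⟨A, hA, rfl⟩
    obtain ⟨h1, -, h3⟩ := map_abelian A hA
    rw [← h3]
    refine (card_abelian_le _ h1).trans_eq ?_
    rw [Fintype.card_fin]; exact (maxProd_values (k + 1)).1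
  · obtain ⟨H, hH, hc⟩ := exists_abelian_alt (ZMod 3) (ZMod 2 × ZMod 2) sign_addLeft_three sign_addLeft_four
      (k + 1) 1 (3 * (k + 2) + 1) (by simp; ring)
    exact ⟨H, hH, by simpa [mul_comm] using hc⟩
  · rintro c ⟨A, hA, rfl⟩
    obtain ⟨h1, -, h3⟩ := map_abelian A hA
    rw [← h3]
    refine (card_abelian_le _ h1).trans_eq ?_
    rw [Fintype.card_fin]; exact (maxProd_values (k + 1)).2.1
  · obtain ⟨H, hH, hc⟩ := exists_abelian_alt (ZMod 3) (ZMod 2 × ZMod 2) sign_addLeft_three sign_addLeft_four
      k 2 (3 * (k + 2) + 2) (by simp; ring)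
    exact ⟨H, hH, by simpa [mul_comm] using hc⟩
  · rintro c ⟨A, hA, rfl⟩
    obtain ⟨h1, h2, h3⟩ := map_abelian A hA
    rw [← h3]
    rcases card_abelian_even_le _ h1 h2 with h | h <;> refine h.trans ?_ <;> rw [Fintype.card_fin]
    · rw [show 3 * (k + 2) + 2 = 3 * k + 8 by ring, maxProdTwoFree_value]
    · rw [show 3 * (k + 2) + 2 - 2 = 3 * (k + 1) + 3 by omega, (maxProd_values (k + 1)).1, pow_succ, pow_succ]
      omega

end CfsgLib.Perm.Groups
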