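import Mathlib
import Cfsg.Agent.Lib.Perm.Groups.AbelianOrder

/-!
# The largest abelian subgroups of alternating groups are conjugate
-/

set_option autoImplicit false
set_option linter.all false

namespace CfsgLib.Perm.Groups.MaxClass

open Equiv CfsgLib.Perm.Groups

theorem maxProdTwoFree_values (k : ℕ) :
    maxProdTwoFree (3 * k + 6) = 3 ^ (k + 2) ∧ maxProdTwoFree (3 * k + 7) = 4 * 3 ^ (k + 1) ∧
      maxProdTwoFree (3 * k + 8) = 16 * 3 ^ k := by
  induction k with
  | zero => decide
  | succ k ih =>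
    obtain ⟨a, b, c⟩ := ih
    refine ⟨?_, ?_, ?_⟩
    · show 3 * maxProdTwoFree (3 * k + 6) = _
      rw [a]; ring
    · show 3 * maxProdTwoFree (3 * k + 7) = _
      rw [b]; ring
    · show 3 * maxProdTwoFree (3 * k + 8) = _
      rw [c]; ring

theorem maxProdTwoFree_pos : ∀ n, 0 < maxProdTwoFree n := by
  intro n
  induction n using Nat.strong_induction_on with
  | _ n ih =>
    match n with
    | 0 => decide
    | 1 => decide
    | 2 => decide
    | 3 => decide
    | 4 => decide
    | 5 => decide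
    | 6 => decide
    | 7 => decide
    | 8 => decide
    | m + 9 => exact Nat.mul_pos (by norm_num) (ih (m + 6) (by omega))

theorem strict_one : ∀ m, 2 ≤ m → maxProdTwoFree m < maxProdTwoFree (m + 1) := by
  intro n
  induction n using Nat.strong_induction_on with
  | _ n ih =>
    match n with
    | 0 => intro; omega
    | 1 => intro; omega
    | 2 => intro; decide
    | 3 => intro; decide
    | 4 => intro; decide
    | 5 => intro; decide
    | 6 => intro; decide
    | 7 => intro; decide
    | 8 => intro; decide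
    | m + 9 =>
      intro _
      show 3 * maxProdTwoFree (m + 6) < 3 * maxProdTwoFree (m + 1 + 6)
      have := ih (m + 6) (by omega) (by omega)
      rw [show m + 1 + 6 = m + 6 + 1 by omega]
      omega

theorem strict_five : ∀ m, 1 ≤ m → 5 * maxProdTwoFree m < maxProdTwoFree (m + 5) := by
  intro n
  induction n using Nat.strong_induction_on with
  | _ n ih =>
    match n with
    | 0 => intro; omega
    | 1 => intro; decide
    | 2 => intro; decide
    | 3 => intro; decide
    | 4 => intro; decide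
    | 5 => intro; decide
    | 6 => intro; decide
    | 7 => intro; decide
    | 8 => intro; decide
    | m + 9 =>
      intro _
      show 5 * (3 * maxProdTwoFree (m + 6)) < 3 * maxProdTwoFree (m + 5 + 6)
      have := ih (m + 6) (by omega) (by omega)
      rw [show m + 5 + 6 = m + 6 + 5 by omega]
      omega

/-- only parts three and four occur in an optimal product -/
theorem part_three_or_four {s m : ℕ} (hs : 1 ≤ s) (hs2 : s ≠ 2) (h : 6 ≤ m + s)
    (heq : maxProdTwoFree (m + s) ≤ s * maxProdTwoFree m) : s = 3 ∨ s = 4 := by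
  by_contra hne
  push Not at hne
  rcases (show s = 1 ∨ s = 5 ∨ 6 ≤ s by omega) with rfl | rfl | h6
  · have := strict_one m (by omega)
    omega
  · have := strict_five m (by omega)
    omega
  · have h1 := mul_maxProdTwoFree (s - 3) m (by omega)
    have h2 := mul_maxProdTwoFree 3 (m + (s - 3)) (by omega)
    rw [show m + (s - 3) + 3 = m + s by omega] at h2
    have h3 : s * maxProdTwoFree m < 3 * (s - 3) * maxProdTwoFree m :=
      Nat.mul_lt_mul_of_pos_right (by omega) (maxProdTwoFree_pos m)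
    rw [mul_assoc] at h3
    omega

theorem sign_pow_four : ∀ p : Perm (Fin 4), p ^ 4 = 1 → Perm.sign p = 1 → p ^ 2 = 1 := by decide +kernel

/-- the standard abelian group of blocks -/
def std {j l n : ℕ} (e : (Fin j × ZMod 3) ⊕ (Fin l × (ZMod 2 × ZMod 2)) ≃ Fin n) :
    Multiplicative (Fin j → ZMod 3) × Multiplicative (Fin l → ZMod 2 × ZMod 2) →* Perm (Fin n) :=
  e.permCongrHom.toMonoidHom.comp ((Perm.sumCongrHom _ _).comp
    ((blockTranslations (Fin j) (ZMod 3)).prodMap (blockTranslations (Fin l) (ZMod 2 × ZMod 2))))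

theorem std_injective {j l n : ℕ} (e : (Fin j × ZMod 3) ⊕ (Fin l × (ZMod 2 × ZMod 2)) ≃ Fin n) :
    Function.Injective (std e) :=
  e.permCongrHom.injective.comp (Perm.sumCongrHom_injective.comp
    ((blockTranslations_injective _ _).prodMap (blockTranslations_injective _ _)))

theorem std_apply {j l n : ℕ} (e : (Fin j × ZMod 3) ⊕ (Fin l × (ZMod 2 × ZMod 2)) ≃ Fin n)
    (f : Fin j → ZMod 3) (g : Fin l → ZMod 2 × ZMod 2) (z : (Fin j × ZMod 3) ⊕ (Fin l × (ZMod 2 × ZMod 2))) :
    std e (Multiplicative.ofAdd f, Multiplicative.ofAdd g) (e z) =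
      e (Sum.map (fun x => (x.1, f x.1 + x.2)) (fun x => (x.1, g x.1 + x.2)) z) := by
  show e (Equiv.sumCongr (blockTranslations _ _ _) (blockTranslations _ _ _) (e.symm (e z))) = _
  rw [Equiv.symm_apply_apply]
  rcases z with z | z <;> rfl

/-- an odd change of labelling inside the normaliser -/
theorem exists_odd_twist {j l : ℕ} (h : 0 < j ∨ 0 < l) :
    ∃ τ : Perm ((Fin j × ZMod 3) ⊕ (Fin l × (ZMod 2 × ZMod 2))), Perm.sign τ = -1 ∧
      ∀ {n : ℕ} (e : (Fin j × ZMod 3) ⊕ (Fin l × (ZMod 2 × ZMod 2)) ≃ Fin n),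
        (std (τ.trans e)).range ≤ (std e).range := by
  rcases h with h | h
  · obtain ⟨i₀, hi₀⟩ : ∃ i₀ : Fin j, i₀ = ⟨0, h⟩ := ⟨_, rfl⟩
    refine ⟨Equiv.sumCongr (Equiv.prodCongrRight fun i => if i = i₀ then Equiv.neg (ZMod 3) else 1) 1, ?_, ?_⟩
    · rw [Perm.sign_sumCongr, map_one, mul_one, Perm.sign_prodCongrRight, Finset.prod_eq_single i₀
        (fun i _ hi => by rw [if_neg hi, map_one]) (fun h' => absurd (Finset.mem_univ _) h'), if_pos rfl]
      decide
    · intro n e
      rintro _ ⟨⟨f, g⟩, rfl⟩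
      obtain ⟨f, rfl⟩ := Multiplicative.ofAdd.surjective f
      obtain ⟨g, rfl⟩ := Multiplicative.ofAdd.surjective g
      refine ⟨(Multiplicative.ofAdd fun i => if i = i₀ then -f i else f i, Multiplicative.ofAdd g), Equiv.ext fun y => ?_⟩
      obtain ⟨z, rfl⟩ := ((Equiv.sumCongr (Equiv.prodCongrRight fun i => if i = i₀ then Equiv.neg (ZMod 3) else 1)
        (1 : Perm (Fin l × (ZMod 2 × ZMod 2)))).trans e).surjective y
      rw [std_apply, Equiv.trans_apply, std_apply]
      rcases z with ⟨i, u⟩ | ⟨i, u⟩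
      · by_cases hi : i = i₀ <;> simp [hi, add_comm]
      · simp
  · obtain ⟨i₀, hi₀⟩ : ∃ i₀ : Fin l, i₀ = ⟨0, h⟩ := ⟨_, rfl⟩
    refine ⟨Equiv.sumCongr 1 (Equiv.prodCongrRight fun i => if i = i₀ then Equiv.prodComm (ZMod 2) (ZMod 2) else 1), ?_, ?_⟩
    · rw [Perm.sign_sumCongr, map_one, one_mul, Perm.sign_prodCongrRight, Finset.prod_eq_single i₀
        (fun i _ hi => by rw [if_neg hi, map_one]) (fun h' => absurd (Finset.mem_univ _) h'), if_pos rfl]
      decide
    · intro n e
      rintro _ ⟨⟨f, g⟩, rfl⟩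
      obtain ⟨f, rfl⟩ := Multiplicative.ofAdd.surjective f
      obtain ⟨g, rfl⟩ := Multiplicative.ofAdd.surjective g
      refine ⟨(Multiplicative.ofAdd f, Multiplicative.ofAdd fun i => if i = i₀ then (g i).swap else g i), Equiv.ext fun y => ?_⟩
      obtain ⟨z, rfl⟩ := ((Equiv.sumCongr (1 : Perm (Fin j × ZMod 3))
        (Equiv.prodCongrRight fun i => if i = i₀ then Equiv.prodComm (ZMod 2) (ZMod 2) else 1)).trans e).surjective y
      rw [std_apply, Equiv.trans_apply, std_apply]
      rcases z with ⟨i, u⟩ | ⟨i, u⟩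
      · simp
      · by_cases hi : i = i₀ <;> simp [hi]

theorem range_twist {j l n : ℕ} (τ : Perm ((Fin j × ZMod 3) ⊕ (Fin l × (ZMod 2 × ZMod 2))))
    (e : (Fin j × ZMod 3) ⊕ (Fin l × (ZMod 2 × ZMod 2)) ≃ Fin n) (h : (std (τ.trans e)).range ≤ (std e).range) :
    (std (τ.trans e)).range = (std e).range :=
  Subgroup.eq_of_le_of_card_ge h (le_of_eq (by
    rw [← Nat.card_congr (MonoidHom.ofInjective (std_injective e)).toEquiv,
      ← Nat.card_congr (MonoidHom.ofInjective (std_injective (τ.trans e))).toEquiv]))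

/-- relabelled standard groups are conjugate by the relabelling -/
theorem conj_std {j l n : ℕ} (e e' : (Fin j × ZMod 3) ⊕ (Fin l × (ZMod 2 × ZMod 2)) ≃ Fin n) (x) :
    std e' x = (e.symm.trans e') * std e x * (e.symm.trans e' : Perm (Fin n))⁻¹ := by
  rw [eq_mul_inv_iff_mul_eq]
  ext y
  obtain ⟨z, rfl⟩ := e.surjective y
  obtain ⟨f, g⟩ := x
  obtain ⟨f, rfl⟩ := Multiplicative.ofAdd.surjective f
  obtain ⟨g, rfl⟩ := Multiplicative.ofAdd.surjective g
  rw [Perm.mul_apply, Perm.mul_apply, Equiv.trans_apply, Equiv.symm_apply_apply, std_apply, std_apply,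
    Equiv.trans_apply, Equiv.symm_apply_apply]

/-- bounds and the attained value -/
theorem exists_large (n : ℕ) (hn : 6 ≤ n) : ∃ (j l : ℕ), n = 3 * j + 4 * l ∧ maxProdTwoFree n = 3 ^ j * 4 ^ l ∧
    (∃ C : Subgroup (alternatingGroup (Fin n)), IsMulCommutative C ∧ Nat.card C = 3 ^ j * 4 ^ l) ∧
    maxProd n < 2 * (3 ^ j * 4 ^ l) := by
  obtain ⟨k, hk⟩ : ∃ k, n = 3 * k + 6 ∨ n = 3 * k + 7 ∨ n = 3 * k + 8 := ⟨(n - 6) / 3, by omega⟩
  obtain ⟨h0, h1, h2⟩ := maxProdTwoFree_values k
  obtain ⟨m0, m1, -⟩ := maxProd_values (k + 1)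
  have m2 := (maxProd_values (k + 1)).2.2
  have hex : ∀ j l, 3 * j + 4 * l = n →
      ∃ C : Subgroup (alternatingGroup (Fin n)), IsMulCommutative C ∧ Nat.card C = 3 ^ j * 4 ^ l := by
    intro j l h
    obtain ⟨C, hC, hc⟩ := exists_abelian_alt (ZMod 3) (ZMod 2 × ZMod 2) sign_addLeft_three sign_addLeft_four j l n
      (by simp; omega)
    exact ⟨C, hC, by simpa using hc⟩
  have hp : 0 < 3 ^ k := Nat.pow_pos (by norm_num)
  rcases hk with rfl | rfl | rfl
  · refine ⟨k + 2, 0, by omega, by rw [h0]; ring, hex _ _ (by omega), ?_⟩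
    rw [show 3 * k + 6 = 3 * (k + 1) + 3 by ring, m0]
    simp only [pow_succ, pow_zero]
    omega
  · refine ⟨k + 1, 1, by omega, by rw [h1]; ring, hex _ _ (by omega), ?_⟩
    rw [show 3 * k + 7 = 3 * (k + 1) + 4 by ring, m1]
    simp only [pow_succ, pow_zero]
    omega
  · refine ⟨k, 2, by omega, by rw [h2]; ring, hex _ _ (by omega), ?_⟩
    rw [show 3 * k + 8 = 3 * (k + 1) + 5 by ring, m2]
    simp only [pow_succ, pow_zero]
    omega

/-- an abelian group of the largest order is standard -/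
theorem exists_std (n : ℕ) (hn : 6 ≤ n) (A : Subgroup (Perm (Fin n))) (hA : IsMulCommutative A)
    (hev : A ≤ alternatingGroup (Fin n)) {j l : ℕ} (hjl : n = 3 * j + 4 * l)
    (hval : maxProdTwoFree n = 3 ^ j * 4 ^ l) (hlarge : maxProd n < 2 * (3 ^ j * 4 ^ l))
    (hcard : Nat.card A = 3 ^ j * 4 ^ l) :
    ∃ e : (Fin j × ZMod 3) ⊕ (Fin l × (ZMod 2 × ZMod 2)) ≃ Fin n, (std e).range = A := by
  classical
  haveI := hA
  let Q := MulAction.orbitRel.Quotient A (Fin n)
  haveI : Fintype Q := Fintype.ofFinite _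
  have hnorm : ∀ q : Q, (MulAction.stabilizer A q.out).Normal := fun q =>
    ⟨fun a ha b => by rwa [hA.is_comm.comm b a, mul_inv_cancel_right]⟩
  have hcq : ∀ q : Q, Nat.card (A ⧸ MulAction.stabilizer A q.out) = Nat.card q.orbit := fun q => by
    rw [← Nat.card_congr (MulAction.orbitEquivQuotientStabilizer A q.out)]
    refine Nat.card_congr (Equiv.setCongr ?_)
    rw [MulAction.orbitRel.Quotient.orbit_eq_orbit_out q Quotient.out_eq']
  obtain ⟨Ψ, hΨ⟩ : ∃ Ψ : A →* (∀ q : Q, A ⧸ MulAction.stabilizer A q.out), ∀ a q, Ψ a q = (a : A ⧸ MulAction.stabilizer A q.out) :=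
    ⟨Pi.monoidHom fun q => @QuotientGroup.mk' A _ (MulAction.stabilizer A q.out) (hnorm q), fun a q => rfl⟩
  have hΨi : Function.Injective Ψ := by
    refine (injective_iff_map_eq_one Ψ).2 fun a ha => eq_of_smul_rep A hA fun q => ?_
    have := congrFun ha q
    rw [hΨ] at this
    rw [one_smul]
    exact (QuotientGroup.eq_one_iff a).1 this
  have hprod : Nat.card (∀ q : Q, A ⧸ MulAction.stabilizer A q.out) = ∏ q : Q, Nat.card q.orbit := by
    rw [Nat.card_pi]; exact Finset.prod_congr rfl fun q _ => hcq q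
  have heq : ∏ q : Q, Nat.card q.orbit = 3 ^ j * 4 ^ l := by
    have h1 := Subgroup.card_dvd_of_injective Ψ hΨi
    rw [hprod, hcard] at h1
    have h2 := prod_le_maxProd (Finset.univ : Finset Q) (fun q => Nat.card q.orbit)
    rw [sum_card_orbit A, Fintype.card_fin] at h2
    obtain ⟨c, hc⟩ := h1
    have hpos : 0 < ∏ q : Q, Nat.card q.orbit := Finset.prod_pos fun q _ => by
      haveI : Nonempty q.orbit := ⟨⟨q.out, MulAction.orbitRel.Quotient.mem_orbit.2 (Quotient.out_eq' q)⟩⟩
      exact Nat.card_pos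
    rw [hc] at h2 hpos ⊢
    have hc2 : c < 2 := Nat.lt_of_mul_lt_mul_left (a := 3 ^ j * 4 ^ l) (by omega)
    have : c ≠ 0 := fun h => by simp [h] at hpos
    rw [show c = 1 by omega, mul_one]
  have hΨb : Function.Bijective Ψ := (Nat.bijective_iff_injective_and_card Ψ).2 ⟨hΨi, by rw [hprod, heq, hcard]⟩
  -- the local translations
  have hloc : ∀ (q : Q) (a : A), ∃ c : A, c • q.out = a • q.out ∧
      ∀ x : Fin n, x ∉ q.orbit → c • x = x := by
    intro q a
    obtain ⟨c, hc⟩ := hΨb.2 (Function.update (1 : ∀ q : Q, A ⧸ MulAction.stabilizer A q.out) q (a : A ⧸ MulAction.stabilizer A q.out))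
    refine ⟨c, ?_, fun x hx => ?_⟩
    · have h := congrFun hc q
      rw [Function.update_self, hΨ, QuotientGroup.eq, MulAction.mem_stabilizer_iff, mul_smul, inv_smul_eq_iff] at h
      exact h.symm
    · rw [MulAction.orbitRel.Quotient.mem_orbit] at hx
      obtain ⟨d, hd⟩ := MulAction.orbitRel_apply.1 (Quotient.exact' (Quotient.out_eq' (Quotient.mk'' x : Q)).symm)
      have h := congrFun hc (Quotient.mk'' x)
      rw [Function.update_of_ne hx, hΨ, Pi.one_apply, QuotientGroup.eq_one_iff, MulAction.mem_stabilizer_iff] at h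
      rw [← hd, smul_smul, hA.is_comm.comm c d, mul_smul, h]
  let K : Q → Subgroup A := fun q =>
    { carrier := {c | ∀ x : Fin n, x ∉ q.orbit → c • x = x}
      mul_mem' := fun {a b} ha hb x hx => by rw [mul_smul, hb x hx, ha x hx]
      one_mem' := fun x _ => one_smul A x
      inv_mem' := fun {a} ha x hx => by rw [inv_smul_eq_iff, ha x hx] }
  have hKorb : ∀ (q : Q) (c : A), c • q.out ∈ q.orbit := fun q c => by
    rw [MulAction.orbitRel.Quotient.mem_orbit]
    exact (Quotient.sound' (MulAction.orbitRel_apply.2 ⟨c, rfl⟩)).trans (Quotient.out_eq' q)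
  have hKbij : ∀ q, Function.Bijective (fun c : K q => (⟨(c : A) • q.out, hKorb q c⟩ : q.orbit)) := by
    intro q
    refine ⟨fun c c' h => Subtype.ext (eq_of_smul_rep A hA fun q' => ?_), fun y => ?_⟩
    · by_cases hq : q' = q
      · subst hq; exact congrArg Subtype.val h
      · have hnot : q'.out ∉ q.orbit := fun hmem => hq (by
          rw [MulAction.orbitRel.Quotient.mem_orbit] at hmem
          exact (Quotient.out_eq' q').symm.trans hmem)
        rw [c.2 _ hnot, c'.2 _ hnot]
    · have hy := (Set.ext_iff.1 (MulAction.orbitRel.Quotient.orbit_eq_orbit_out q Quotient.out_eq') y.1).1 y.2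
      obtain ⟨a, ha⟩ := hy
      obtain ⟨c, hc1, hc2⟩ := hloc q a
      exact ⟨⟨c, hc2⟩, Subtype.ext (hc1.trans ha)⟩
  have hKc : ∀ q, Nat.card (K q) = Nat.card q.orbit := fun q => Nat.card_eq_of_bijective _ (hKbij q)
  have hKsupp : ∀ q (c : K q), (((c : A) : Perm (Fin n))).support ⊆ q.orbit.toFinset := fun q c x hx => by
    rw [Set.mem_toFinset]
    by_contra hxq
    exact Perm.mem_support.1 hx (c.2 x hxq)
  have hne2 : ∀ q : Q, Nat.card q.orbit ≠ 2 := by
    intro q h2
    haveI : Nontrivial (K q) := Finite.one_lt_card_iff_nontrivial.1 (by rw [hKc, h2]; norm_num)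
    obtain ⟨c, hc⟩ := exists_ne (1 : K q)
    have hswap : (((c : A) : Perm (Fin n))).IsSwap := by
      rw [← Perm.card_support_eq_two]
      refine le_antisymm ((Finset.card_le_card (hKsupp q c)).trans ?_) (Perm.two_le_card_support_of_ne_one
        fun h1 => hc (Subtype.ext (Subtype.ext h1)))
      rw [Set.toFinset_card, ← Nat.card_eq_fintype_card, h2]
    have h3 := Perm.mem_alternatingGroup.1 (hev (c : A).2)
    rw [hswap.sign_eq] at h3
    exact absurd h3 (by decide)
  have hparts : ∀ q : Q, Nat.card q.orbit = 3 ∨ Nat.card q.orbit = 4 := by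
    intro q
    have hsum : Nat.card q.orbit + ∑ q' ∈ Finset.univ.erase q, Nat.card (q' : Q).orbit = n := by
      rw [Finset.add_sum_erase _ (fun q : Q => Nat.card q.orbit) (Finset.mem_univ q), sum_card_orbit A, Fintype.card_fin]
    have hrest := prod_le_maxProdTwoFree (Finset.univ.erase q) (fun q' : Q => Nat.card q'.orbit) fun q' _ => hne2 q'
    have hp := Finset.mul_prod_erase Finset.univ (fun q : Q => Nat.card q.orbit) (Finset.mem_univ q)
    simp only [heq] at hp
    haveI : Nonempty q.orbit := ⟨⟨q.out, MulAction.orbitRel.Quotient.mem_orbit.2 (Quotient.out_eq' q)⟩⟩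
    refine part_three_or_four (m := ∑ q' ∈ Finset.univ.erase q, Nat.card (q' : Q).orbit) Nat.card_pos (hne2 q)
      (by omega) ?_
    rw [add_comm, hsum, hval, ← hp]
    exact Nat.mul_le_mul_left _ hrest
  obtain ⟨S3, hS3⟩ : ∃ S3 : Finset Q, S3 = Finset.univ.filter fun q => Nat.card q.orbit = 3 := ⟨_, rfl⟩
  obtain ⟨S4, hS4⟩ : ∃ S4 : Finset Q, S4 = Finset.univ.filter fun q => ¬ Nat.card q.orbit = 3 := ⟨_, rfl⟩
  have h4 : ∀ q ∈ S4, Nat.card (q : Q).orbit = 4 := fun q hq => by
    rw [hS4, Finset.mem_filter] at hq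
    exact (hparts q).resolve_left hq.2
  have h3 : ∀ q ∈ S3, Nat.card (q : Q).orbit = 3 := fun q hq => by
    rw [hS3, Finset.mem_filter] at hq
    exact hq.2
  have hcount : S3.card = j ∧ S4.card = l := by
    have h := heq
    rw [← Finset.prod_filter_mul_prod_filter_not Finset.univ (fun q : Q => Nat.card q.orbit = 3), ← hS3, ← hS4,
      Finset.prod_congr rfl h3, Finset.prod_congr rfl h4, Finset.prod_const, Finset.prod_const] at h
    have e1 := congrArg (padicValNat 3) h
    have e2 := congrArg (padicValNat 2) h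
    haveI : Fact (Nat.Prime 3) := ⟨Nat.prime_three⟩
    rw [padicValNat.mul (by positivity) (by positivity), padicValNat.mul (by positivity) (by positivity)] at e1 e2
    rw [padicValNat.pow, padicValNat.pow, padicValNat.pow, padicValNat.pow] at e1 e2
    have v33 : padicValNat 3 3 = 1 := padicValNat.self (by norm_num)
    have v34 : padicValNat 3 4 = 0 := padicValNat.eq_zero_of_not_dvd (by norm_num)
    have v23 : padicValNat 2 3 = 0 := padicValNat.eq_zero_of_not_dvd (by norm_num)
    have v24 : padicValNat 2 4 = 2 := by rw [show (4 : ℕ) = 2 ^ 2 by norm_num, padicValNat.prime_pow]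
    rw [v33, v34] at e1
    rw [v23, v24] at e2
    omega
  have hT3 : ∀ q ∈ S3, ∃ γ : Multiplicative (ZMod 3) →* K q, Function.Bijective γ := fun q hq => by
    haveI : Fact (Nat.Prime 3) := ⟨Nat.prime_three⟩
    exact ⟨(mulEquivOfPrimeCardEq (p := 3) (by simp) (by rw [hKc, h3 q hq])).toMonoidHom, MulEquiv.bijective _⟩
  have hT4 : ∀ q ∈ S4, ∃ γ : Multiplicative (ZMod 2 × ZMod 2) →* K q, Function.Bijective γ := fun q hq => by
    haveI : IsKleinFour (K q) := by
      refine ⟨by rw [hKc, h4 q hq], Nat.dvd_antisymm (Monoid.exponent_dvd_of_forall_pow_eq_one fun c => ?_) ?_⟩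
      · let X := {x : Fin n // x ∈ q.orbit}
        obtain ⟨π, hπdef⟩ : ∃ π : Perm (Fin n), π = ((c : A) : Perm (Fin n)) := ⟨_, rfl⟩
        have hπ : ∀ x, π x ∈ q.orbit ↔ x ∈ q.orbit := fun x => by
          rw [hπdef]
          constructor
          · intro h
            by_contra hx
            rw [show (((c : A) : Perm (Fin n))) x = x from c.2 x hx] at h
            exact hx h
          · intro h
            by_contra hx
            exact hx (by
              have := c.2 _ hx
              rwa [show ((c : A) : Perm (Fin n)) x = x from ((c : A) : Perm (Fin n)).injective this])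
        obtain ⟨f, hf⟩ : ∃ f : X ≃ Fin 4, True := ⟨Fintype.equivFinOfCardEq (by
          rw [← Nat.card_eq_fintype_card]; exact h4 q hq), trivial⟩
        obtain ⟨p, hp⟩ : ∃ p : Perm (Fin 4), p = f.permCongrHom (π.subtypePerm hπ) := ⟨_, rfl⟩
        have hsgn : Perm.sign p = 1 := by
          rw [hp]
          show Perm.sign (f.permCongr (π.subtypePerm hπ)) = 1
          rw [Perm.sign_permCongr, Perm.sign_subtypePerm _ _ fun x hx => ?_]
          · exact hπdef ▸ Perm.mem_alternatingGroup.1 (hev (c : A).2)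
          · by_contra hxq
            exact hx (hπdef ▸ c.2 x hxq)
        have hp4 : p ^ 4 = 1 := by
          have hc4 : c ^ 4 = 1 := by
            rw [← h4 q hq, ← hKc]
            exact pow_card_eq_one'
          rw [hp, ← map_pow, Perm.subtypePerm_pow, ← map_one f.permCongrHom]
          congr 1
          ext x
          have hπ4 : π ^ 4 = 1 := by
            rw [hπdef, ← Subgroup.coe_pow, ← Subgroup.coe_pow, hc4]; rfl
          simp [Perm.subtypePerm_apply, hπ4]
        have hp2 := sign_pow_four p hp4 hsgn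
        rw [hp, ← map_pow, Perm.subtypePerm_pow, ← map_one f.permCongrHom] at hp2
        have hp2' := f.permCongrHom.injective hp2
        refine Subtype.ext (Subtype.ext ?_)
        rw [Subgroup.coe_pow, Subgroup.coe_pow, ← hπdef]
        refine Equiv.ext fun x => ?_
        by_cases hx : x ∈ q.orbit
        · exact congrArg Subtype.val (Equiv.congr_fun hp2' ⟨x, hx⟩)
        · have := c.2 x hx
          change π ((π ^ 1) x) = x
          rw [pow_one, hπdef]
          exact (congrArg _ this).trans this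
      · obtain ⟨x, hx⟩ := exists_prime_orderOf_dvd_card' (G := K q) 2 (by rw [hKc, h4 q hq]; norm_num)
        exact (dvd_of_eq hx.symm).trans (Monoid.order_dvd_exponent x)
    haveI : IsKleinFour (Multiplicative (ZMod 2 × ZMod 2)) := inferInstance
    obtain ⟨φ⟩ := IsKleinFour.nonempty_mulEquiv (G₁ := Multiplicative (ZMod 2 × ZMod 2)) (G₂ := K q)
    exact ⟨φ.toMonoidHom, φ.bijective⟩
  choose γ3 hγ3 using hT3
  choose γ4 hγ4 using hT4
  obtain ⟨q3⟩ : Nonempty (Fin j ≃ S3) := ⟨(Fintype.equivFinOfCardEq (by simp [hcount.1])).symm⟩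
  obtain ⟨q4⟩ : Nonempty (Fin l ≃ S4) := ⟨(Fintype.equivFinOfCardEq (by simp [hcount.2])).symm⟩
  obtain ⟨F, hF⟩ : ∃ F : (Fin j × ZMod 3) ⊕ (Fin l × (ZMod 2 × ZMod 2)) → Fin n, F = Sum.elim
      (fun z => ((γ3 _ (q3 z.1).2 (Multiplicative.ofAdd z.2) : K (q3 z.1).1) : A) • (q3 z.1).1.out)
      (fun z => ((γ4 _ (q4 z.1).2 (Multiplicative.ofAdd z.2) : K (q4 z.1).1) : A) • (q4 z.1).1.out) := ⟨_, rfl⟩
  have horbF : ∀ (q : Q) (c : A), (Quotient.mk'' (c • q.out) : Q) = q := fun q c =>
    MulAction.orbitRel.Quotient.mem_orbit.1 (hKorb q c)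
  have hFinj : Function.Injective F := by
    rw [hF]
    rintro (⟨i, u⟩ | ⟨i, u⟩) (⟨i', u'⟩ | ⟨i', u'⟩) h <;> simp only [Sum.elim_inl, Sum.elim_inr] at h
    · have hq := congrArg (fun z => (Quotient.mk'' z : Q)) h
      simp only [horbF] at hq
      obtain rfl : i = i' := q3.injective (Subtype.ext hq)
      have := (hγ3 _ (q3 i).2).1 ((hKbij _).1 (Subtype.ext h))
      rw [Multiplicative.ofAdd.injective this]
    · exfalso
      have hq := congrArg (fun z => (Quotient.mk'' z : Q)) h
      simp only [horbF] at hq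
      have e1 := h3 _ (q3 i).2
      have e2 := h4 _ (q4 i').2
      rw [hq] at e1
      omega
    · exfalso
      have hq := congrArg (fun z => (Quotient.mk'' z : Q)) h
      simp only [horbF] at hq
      have e1 := h4 _ (q4 i).2
      have e2 := h3 _ (q3 i').2
      rw [hq] at e1
      omega
    · have hq := congrArg (fun z => (Quotient.mk'' z : Q)) h
      simp only [horbF] at hq
      obtain rfl : i = i' := q4.injective (Subtype.ext hq)
      have := (hγ4 _ (q4 i).2).1 ((hKbij _).1 (Subtype.ext h))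
      rw [Multiplicative.ofAdd.injective this]
  have hFb : Function.Bijective F := (Fintype.bijective_iff_injective_and_card F).2 ⟨hFinj, by simp; omega⟩
  obtain ⟨e, he⟩ : ∃ e : (Fin j × ZMod 3) ⊕ (Fin l × (ZMod 2 × ZMod 2)) ≃ Fin n, ∀ z, e z = F z :=
    ⟨Equiv.ofBijective F hFb, fun z => rfl⟩
  refine ⟨e, Subgroup.eq_of_le_of_card_ge ?_ (le_of_eq ?_)⟩
  swap
  · rw [hcard, ← Nat.card_congr (MonoidHom.ofInjective (std_injective e)).toEquiv, Nat.card_prod,
      Nat.card_congr Multiplicative.toAdd, Nat.card_congr Multiplicative.toAdd, Nat.card_fun, Nat.card_fun]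
    simp
  rintro _ ⟨⟨f, g⟩, rfl⟩
  obtain ⟨P3, hP3⟩ : ∃ P3 : Subgroup (∀ _ : Fin j, Multiplicative (ZMod 3)), ∀ f, f ∈ P3 ↔
      std e (Multiplicative.ofAdd fun i => Multiplicative.toAdd (f i), 1) ∈ A :=
    ⟨A.comap ((std e).comp ((MonoidHom.inl _ _).comp (MulEquiv.funMultiplicative (Fin j) (ZMod 3)).symm.toMonoidHom)),
      fun f => Iff.rfl⟩
  obtain ⟨P4, hP4⟩ : ∃ P4 : Subgroup (∀ _ : Fin l, Multiplicative (ZMod 2 × ZMod 2)), ∀ g, g ∈ P4 ↔
      std e (1, Multiplicative.ofAdd fun i => Multiplicative.toAdd (g i)) ∈ A :=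
    ⟨A.comap ((std e).comp ((MonoidHom.inr _ _).comp
      (MulEquiv.funMultiplicative (Fin l) (ZMod 2 × ZMod 2)).symm.toMonoidHom)), fun g => Iff.rfl⟩
  have hsd : ∀ (a : A) (x : Fin n), (a : Perm (Fin n)) x = a • x := fun _ _ => rfl
  have hone3 : (1 : Multiplicative (Fin l → ZMod 2 × ZMod 2)) = Multiplicative.ofAdd 0 := rfl
  have hone4 : (1 : Multiplicative (Fin j → ZMod 3)) = Multiplicative.ofAdd 0 := rfl
  have hs3 : ∀ f, f ∈ P3 := fun f => Subgroup.pi_mem_of_mulSingle_mem f fun i => by
    rw [hP3]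
    obtain ⟨c, hc⟩ : ∃ c : K (q3 i).1, c = γ3 _ (q3 i).2 (f i) := ⟨_, rfl⟩
    have heq : std e (Multiplicative.ofAdd fun i' => Multiplicative.toAdd ((Pi.mulSingle i (f i) :
        Fin j → Multiplicative (ZMod 3)) i'), 1) = ((c : A) : Perm (Fin n)) := by
      refine Equiv.ext fun y => ?_
      obtain ⟨z, rfl⟩ := e.surjective y
      rw [hone3, std_apply, he, he, hF]
      rcases z with ⟨i', u⟩ | ⟨i', u⟩
      · simp only [Sum.map_inl, Sum.elim_inl]
        by_cases hi : i' = i
        · subst hi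
          rw [Pi.mulSingle_eq_same]
          rw [hsd]
          rw [← mul_smul, hc, ← Subgroup.coe_mul, ← map_mul, ← ofAdd_toAdd (f i'), ← ofAdd_add, toAdd_ofAdd]
        · rw [Pi.mulSingle_eq_of_ne hi]
          rw [hsd]
          rw [c.2 _ fun hmem => hi (q3.injective (Subtype.ext ((horbF _ _).symm.trans
            (MulAction.orbitRel.Quotient.mem_orbit.1 hmem))))]
          simp
      · simp only [Sum.map_inr, Sum.elim_inr, Pi.zero_apply, zero_add]
        rw [hsd]
        rw [c.2 _ fun hmem => ?_]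
        have hq := (horbF _ _).symm.trans (MulAction.orbitRel.Quotient.mem_orbit.1 hmem)
        have e1 := h3 _ (q3 i).2
        have e2 := h4 _ (q4 i').2
        rw [hq] at e2
        omega
    rw [heq]
    exact (c : A).2
  have hs4 : ∀ g, g ∈ P4 := fun g => Subgroup.pi_mem_of_mulSingle_mem g fun i => by
    rw [hP4]
    obtain ⟨c, hc⟩ : ∃ c : K (q4 i).1, c = γ4 _ (q4 i).2 (g i) := ⟨_, rfl⟩
    have heq : std e (1, Multiplicative.ofAdd fun i' => Multiplicative.toAdd ((Pi.mulSingle i (g i) :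
        Fin l → Multiplicative (ZMod 2 × ZMod 2)) i')) = ((c : A) : Perm (Fin n)) := by
      refine Equiv.ext fun y => ?_
      obtain ⟨z, rfl⟩ := e.surjective y
      rw [hone4, std_apply, he, he, hF]
      rcases z with ⟨i', u⟩ | ⟨i', u⟩
      · simp only [Sum.map_inl, Sum.elim_inl, Pi.zero_apply, zero_add]
        rw [hsd]
        rw [c.2 _ fun hmem => ?_]
        have hq := (horbF _ _).symm.trans (MulAction.orbitRel.Quotient.mem_orbit.1 hmem)
        have e1 := h4 _ (q4 i).2
        have e2 := h3 _ (q3 i').2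
        rw [hq] at e2
        omega
      · simp only [Sum.map_inr, Sum.elim_inr]
        by_cases hi : i' = i
        · subst hi
          rw [Pi.mulSingle_eq_same]
          rw [hsd]
          rw [← mul_smul, hc, ← Subgroup.coe_mul, ← map_mul, ← ofAdd_toAdd (g i'), ← ofAdd_add, toAdd_ofAdd]
        · rw [Pi.mulSingle_eq_of_ne hi]
          rw [hsd]
          rw [c.2 _ fun hmem => hi (q4.injective (Subtype.ext ((horbF _ _).symm.trans
            (MulAction.orbitRel.Quotient.mem_orbit.1 hmem))))]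
          simp
    rw [heq]
    exact (c : A).2
  rw [← mul_one f, ← one_mul g, ← Prod.mk_mul_mk, map_mul]
  exact mul_mem ((hP3 fun i => Multiplicative.ofAdd (Multiplicative.toAdd f i)).1 (hs3 _))
    ((hP4 fun i => Multiplicative.ofAdd (Multiplicative.toAdd g i)).1 (hs4 _))

/-- conjugacy in the alternating group -/
theorem conj_of_max (n : ℕ) (A B : Subgroup (alternatingGroup (Fin n))) (hA : IsMulCommutative A) (hB : IsMulCommutative B)
    (hAmax : ∀ C : Subgroup (alternatingGroup (Fin n)), IsMulCommutative C → Nat.card C ≤ Nat.card A)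
    (hBmax : ∀ C : Subgroup (alternatingGroup (Fin n)), IsMulCommutative C → Nat.card C ≤ Nat.card B) :
    ∃ g : alternatingGroup (Fin n), ∀ x, x ∈ B ↔ g⁻¹ * x * g ∈ A := by
  classical
  have hAB : Nat.card A = Nat.card B := le_antisymm (hBmax A hA) (hAmax B hB)
  obtain ⟨hA1, hA2, hA3⟩ := map_abelian A hA
  obtain ⟨hB1, hB2, hB3⟩ := map_abelian B hB
  by_cases hn : n ≤ 2
  · haveI : Subsingleton (alternatingGroup (Fin n)) := by
      rcases Nat.lt_or_ge n 2 with h | h
      · haveI : Subsingleton (Fin n) := Fin.subsingleton_iff_le_one.2 (by omega)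
        infer_instance
      · obtain rfl : n = 2 := by omega
        exact (Nat.card_eq_one_iff_unique.1 (by rw [nat_card_alternatingGroup, Nat.card_fin]; rfl)).1
    exact ⟨1, fun x => by rw [Subsingleton.elim x 1]; simp⟩
  by_cases hn6 : n < 6
  · -- Sylow subgroups
    obtain ⟨p, hp, hpk⟩ : ∃ p, p.Prime ∧ ∀ C : Subgroup (alternatingGroup (Fin n)),
        Nat.card C = Nat.card A → IsPGroup p C ∧ ¬ p ∣ C.index := by
      have hG : Nat.card (alternatingGroup (Fin n)) * 2 = n.factorial := by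
        haveI : Nontrivial (Fin n) := Fin.nontrivial_iff_two_le.2 (by omega)
        rw [mul_comm]
        simpa [Nat.card_eq_fintype_card, Fintype.card_perm] using two_mul_card_alternatingGroup (α := Fin n)
      have hup : Nat.card A ≤ maxProdTwoFree n ∨ Nat.card A ≤ maxProd (n - 2) := by
        have := card_abelian_even_le _ hA1 hA2
        rwa [hA3, Fintype.card_fin] at this
      have hlow : ∀ q k : ℕ, q.Prime → q ^ k ∣ Nat.card (alternatingGroup (Fin n)) → k ≤ 2 → q ^ k ≤ Nat.card A := by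
        intro q k hq hd hk
        haveI : Fact q.Prime := ⟨hq⟩
        obtain ⟨C, hC⟩ := Sylow.exists_subgroup_card_pow_prime q hd
        rw [← hC]
        refine hAmax C ?_
        interval_cases k
        · haveI : Subsingleton C := (Nat.card_eq_one_iff_unique.1 (by rw [hC, pow_zero])).1
          exact ⟨⟨fun x y => Subsingleton.elim _ _⟩⟩
        · haveI := isCyclic_of_prime_card (p := q) (by rw [hC, pow_one] : Nat.card C = q)
          exact ⟨⟨fun x y => (IsCyclic.commGroup (α := C)).mul_comm x y⟩⟩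
        · exact ⟨⟨IsPGroup.commutative_of_card_eq_prime_sq hC⟩⟩
      interval_cases n
      · refine ⟨3, Nat.prime_three, fun C hC => ?_⟩
        have hg : Nat.card (alternatingGroup (Fin 3)) = 3 := by rw [nat_card_alternatingGroup, Nat.card_fin]; rfl
        have h1 := hlow 3 1 Nat.prime_three (by rw [hg]; norm_num) (by norm_num)
        have h2 : Nat.card A = 3 := by
          rw [show maxProdTwoFree 3 = 3 from rfl, show maxProd (3 - 2) = 1 from rfl] at hup
          omega
        have hi := C.index_mul_card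
        rw [hC, h2, hg] at hi
        exact ⟨IsPGroup.of_card (n := 1) (by rw [hC, h2, pow_one]), fun h => by have := Nat.le_of_dvd (by omega) h; omega⟩
      · refine ⟨2, Nat.prime_two, fun C hC => ?_⟩
        have hg : Nat.card (alternatingGroup (Fin 4)) = 12 := by rw [nat_card_alternatingGroup, Nat.card_fin]; rfl
        have h1 := hlow 2 2 Nat.prime_two (by rw [hg]; norm_num) (by norm_num)
        have h2 : Nat.card A = 4 := by
          rw [show maxProdTwoFree 4 = 4 from rfl, show maxProd (4 - 2) = 2 from rfl] at hup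
          omega
        have hi := C.index_mul_card
        rw [hC, h2, hg] at hi
        exact ⟨IsPGroup.of_card (n := 2) (by rw [hC, h2]; norm_num), fun h => by omega⟩
      · refine ⟨5, by norm_num, fun C hC => ?_⟩
        have hg : Nat.card (alternatingGroup (Fin 5)) = 60 := by rw [nat_card_alternatingGroup, Nat.card_fin]; rfl
        have h1 := hlow 5 1 (by norm_num) (by rw [hg]; norm_num) (by norm_num)
        have h2 : Nat.card A = 5 := by
          rw [show maxProdTwoFree 5 = 5 from rfl, show maxProd (5 - 2) = 3 from rfl] at hup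
          omega
        have hi := C.index_mul_card
        rw [hC, h2, hg] at hi
        exact ⟨IsPGroup.of_card (n := 1) (by rw [hC, h2, pow_one]), fun h => by omega⟩
    haveI : Fact p.Prime := ⟨hp⟩
    obtain ⟨hAp, hAi⟩ := hpk A rfl
    obtain ⟨hBp, hBi⟩ := hpk B hAB.symm
    obtain ⟨g, hg⟩ := MulAction.exists_smul_eq (alternatingGroup (Fin n)) (hAp.toSylow hAi) (hBp.toSylow hBi)
    refine ⟨g, fun x => ?_⟩
    rw [show x ∈ B ↔ x ∈ ((hBp.toSylow hBi : Sylow p _) : Subgroup _) from Iff.rfl, ← hg, Sylow.coe_subgroup_smul,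
      Subgroup.mem_pointwise_smul_iff_inv_smul_mem, ← map_inv, MulAut.smul_def, MulAut.conj_apply, inv_inv]
    exact Iff.rfl
  obtain ⟨j, l, hjl, hval, ⟨C, hC, hCc⟩, hlarge⟩ := exists_large n (by omega)
  have hcard : Nat.card A = 3 ^ j * 4 ^ l := by
    refine le_antisymm ?_ (hCc ▸ hAmax C hC)
    have := card_abelian_even_le _ hA1 hA2
    rw [hA3, Fintype.card_fin] at this
    rcases this with h | h
    · exact h.trans_eq hval
    · have h2 := mul_maxProd 2 (n - 2)
      rw [show n - 2 + 2 = n by omega] at h2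
      omega
  obtain ⟨e, he⟩ := exists_std n (by omega) _ hA1 hA2 hjl hval hlarge (hA3.trans hcard)
  obtain ⟨e', he'⟩ := exists_std n (by omega) _ hB1 hB2 hjl hval hlarge (hB3.trans (hAB ▸ hcard))
  obtain ⟨τ, hτ, hτr⟩ := exists_odd_twist (j := j) (l := l) (by omega)
  obtain ⟨e'', he'', hπ⟩ : ∃ e'' : (Fin j × ZMod 3) ⊕ (Fin l × (ZMod 2 × ZMod 2)) ≃ Fin n,
      (std e'').range = (std e').range ∧ Perm.sign (e.symm.trans e'' : Perm (Fin n)) = 1 := by
    rcases Int.units_eq_one_or (Perm.sign (e.symm.trans e' : Perm (Fin n))) with h | h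
    · exact ⟨e', rfl, h⟩
    · refine ⟨τ.trans e', range_twist τ e' (hτr e'), ?_⟩
      rw [show (e.symm.trans (τ.trans e') : Perm (Fin n)) = (e.symm.trans e' : Perm (Fin n)) * e.permCongr τ from
        Equiv.ext fun y => by simp, map_mul, Perm.sign_permCongr, h, hτ]
      rfl
  rw [he'] at he''
  obtain ⟨g, hg⟩ : ∃ g : alternatingGroup (Fin n), (g : Perm (Fin n)) = e.symm.trans e'' :=
    ⟨⟨_, Perm.mem_alternatingGroup.2 hπ⟩, rfl⟩
  refine ⟨g, fun x => ?_⟩
  have key : ∀ (S : Subgroup (alternatingGroup (Fin n))) (y : alternatingGroup (Fin n)),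
      (y : Perm (Fin n)) ∈ S.map (alternatingGroup (Fin n)).subtype ↔ y ∈ S := fun S y =>
    Subgroup.mem_map_iff_mem (Subgroup.subtype_injective _)
  rw [← key B, ← he'', ← key A, ← he]
  constructor
  · rintro ⟨w, hw⟩
    refine ⟨w, ?_⟩
    rw [Subgroup.coe_mul, Subgroup.coe_mul, Subgroup.coe_inv, ← hw, conj_std e e'', hg]
    group
  · rintro ⟨w, hw⟩
    refine ⟨w, ?_⟩
    rw [conj_std e e'', hw, Subgroup.coe_mul, Subgroup.coe_mul, Subgroup.coe_inv, hg]
    group

end CfsgLib.Perm.Groups.MaxClass
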