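import Mathlib
import Cfsg.Agent.Lib.Perm.Groups.AbelianOrder

/-!
# Alternating groups with an abelian Sylow subgroup
-/

set_option autoImplicit false
set_option linter.all false

namespace CfsgLib.Perm.Groups.AltAbelianSylow

open Equiv

/-- permutations extended by fixed points -/
def extendHom {X R : Type*} {n : ℕ} (e : X ⊕ R ≃ Fin n) : Perm X →* Perm (Fin n) :=
  e.permCongrHom.toMonoidHom.comp ((Perm.sumCongrHom X R).comp (MonoidHom.inl _ _))

theorem extendHom_injective {X R : Type*} {n : ℕ} (e : X ⊕ R ≃ Fin n) : Function.Injective (extendHom e) :=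
  e.permCongrHom.injective.comp (Perm.sumCongrHom_injective.comp fun a b h => (Prod.ext_iff.1 h).1)

theorem sign_extendHom {X R : Type*} [Fintype X] [DecidableEq X] [Fintype R] [DecidableEq R] {n : ℕ}
    (e : X ⊕ R ≃ Fin n) (h : Perm X) : Perm.sign (extendHom e h) = Perm.sign h := by
  show Perm.sign (e.permCongr (Equiv.sumCongr h 1)) = _
  rw [Perm.sign_permCongr, Perm.sign_sumCongr, map_one, mul_one]

theorem exists_extendHom (X : Type*) [Fintype X] {n : ℕ} (h : Fintype.card X ≤ n) :
    ∃ e : X ⊕ Fin (n - Fintype.card X) ≃ Fin n, True :=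
  ⟨Fintype.equivOfCardEq (by simp [Nat.add_sub_cancel' h]), trivial⟩

/-- odd order elements are even -/
theorem sign_of_odd_pow {α : Type*} [Fintype α] [DecidableEq α] {h : Perm α} {m : ℕ} (hm : Odd m) (hh : h ^ m = 1) :
    Perm.sign h = 1 := by
  rcases Int.units_eq_one_or (Perm.sign h) with hs | hs
  · exact hs
  · have := congrArg Perm.sign hh
    rw [map_pow, hs, hm.neg_one_pow, map_one] at this
    exact hs.trans this

/-- a non-commuting `p`-group of even permutations prevents abelian Sylow subgroups -/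
theorem not_commutative {G : Type*} [Group G] [Finite G] {p : ℕ} [Fact p.Prime] (P : Sylow p G)
    {W : Type*} [Group W] (hW : IsPGroup p W) (φ : W →* G) (hφ : Function.Injective φ) {x y : W} (hxy : x * y ≠ y * x) :
    ¬ IsMulCommutative (P : Subgroup G) := by
  intro hP
  obtain ⟨Q, hQ⟩ := (IsPGroup.of_equiv hW (MonoidHom.ofInjective hφ) : IsPGroup p φ.range).exists_le_sylow
  obtain ⟨g, rfl⟩ := MulAction.exists_smul_eq G P Q
  have hmem : ∀ w : W, g⁻¹ * φ w * g ∈ (P : Subgroup G) := fun w => by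
    have h := hQ ⟨w, rfl⟩
    rw [Sylow.coe_subgroup_smul, Subgroup.mem_pointwise_smul_iff_inv_smul_mem, ← map_inv, MulAut.smul_def,
      MulAut.conj_apply, inv_inv] at h
    exact h
  have h := congrArg Subtype.val (hP.is_comm.comm ⟨_, hmem x⟩ ⟨_, hmem y⟩)
  simp only [Subgroup.coe_mul] at h
  apply hxy
  apply hφ
  rw [map_mul, map_mul]
  have h2 : g⁻¹ * (φ x * φ y) * g = g⁻¹ * (φ y * φ x) * g :=
    calc g⁻¹ * (φ x * φ y) * g = (g⁻¹ * φ x * g) * (g⁻¹ * φ y * g) := by group
      _ = (g⁻¹ * φ y * g) * (g⁻¹ * φ x * g) := h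
      _ = _ := by group
  exact mul_left_cancel (mul_right_cancel h2)

/-- the wreath product of two groups of order `p` -/
def wreathSub (p : ℕ) : Subgroup (Perm (ZMod p × ZMod p)) where
  carrier := {h | ∃ (f : ZMod p → ZMod p) (s : ZMod p), ∀ x, h x = (x.1 + f x.2, x.2 + s)}
  mul_mem' := by
    rintro a b ⟨f, s, hf⟩ ⟨f', s', hf'⟩
    exact ⟨fun y => f' y + f (y + s'), s' + s, fun x => by
      rw [Perm.mul_apply, hf', hf]; exact Prod.ext (add_assoc _ _ _) (add_assoc _ _ _)⟩
  one_mem' := ⟨0, 0, fun x => by simp⟩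
  inv_mem' := by
    rintro a ⟨f, s, hf⟩
    refine ⟨fun y => -f (y - s), -s, fun x => a.injective ?_⟩
    rw [show a (a⁻¹ x) = x from a.apply_symm_apply x, hf]
    simp [sub_eq_add_neg]

theorem wreath_pgroup (p : ℕ) [Fact p.Prime] : IsPGroup p (wreathSub p) := by
  have hp : p.Prime := Fact.out
  haveI : NeZero p := ⟨hp.ne_zero⟩
  refine IsPGroup.of_card (n := p + 1) ?_
  let F : (ZMod p → ZMod p) × ZMod p → wreathSub p := fun w =>
    ⟨{ toFun := fun x => (x.1 + w.1 x.2, x.2 + w.2)
       invFun := fun x => (x.1 - w.1 (x.2 - w.2), x.2 - w.2)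
       left_inv := fun x => by simp
       right_inv := fun x => by simp }, ⟨w.1, w.2, fun x => rfl⟩⟩
  have hF : Function.Bijective F := by
    refine ⟨fun a b h => ?_, fun h => ?_⟩
    · have e := fun x => congrArg (fun g : wreathSub p => (g : Perm (ZMod p × ZMod p)) x) h
      refine Prod.ext (funext fun y => ?_) ?_
      · simpa [F] using (Prod.ext_iff.1 (e (0, y))).1
      · simpa [F] using (Prod.ext_iff.1 (e (0, 0))).2
    · obtain ⟨f, s, hf⟩ := h.2
      exact ⟨(f, s), Subtype.ext (Equiv.ext fun x => (hf x).symm)⟩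
  rw [← Nat.card_eq_of_bijective F hF, Nat.card_prod, Nat.card_fun, Nat.card_zmod, pow_succ]

theorem wreath_noncomm (p : ℕ) [Fact p.Prime] : ∃ x y : wreathSub p, x * y ≠ y * x := by
  have hp : p.Prime := Fact.out
  refine ⟨⟨{ toFun := fun x => (x.1 + (if x.2 = 0 then 1 else 0), x.2)
             invFun := fun x => (x.1 - (if x.2 = 0 then 1 else 0), x.2)
             left_inv := fun x => by simp
             right_inv := fun x => by simp }, fun y => if y = 0 then 1 else 0, 0, fun x => by simp⟩,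
    ⟨{ toFun := fun x => (x.1, x.2 + 1)
       invFun := fun x => (x.1, x.2 - 1)
       left_inv := fun x => by simp
       right_inv := fun x => by simp }, fun _ => 0, 1, fun x => by simp⟩, fun h => ?_⟩
  have e := congrArg (fun g : wreathSub p => (g : Perm (ZMod p × ZMod p)) (0, 0)) h
  simp at e

/-- for odd `p` and `p² ≤ n` the Sylow subgroups are not abelian -/
theorem not_commutative_odd {n p : ℕ} [Fact p.Prime] (hp2 : p ≠ 2) (hn : p * p ≤ n)
    (P : Sylow p (alternatingGroup (Fin n))) : ¬ IsMulCommutative (P : Subgroup (alternatingGroup (Fin n))) := by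
  have hp : p.Prime := Fact.out
  haveI : NeZero p := ⟨hp.ne_zero⟩
  obtain ⟨x, y, hxy⟩ := wreath_noncomm p
  obtain ⟨e, -⟩ := exists_extendHom (ZMod p × ZMod p) (n := n) (by rw [Fintype.card_prod, ZMod.card]; exact hn)
  refine not_commutative P (wreath_pgroup p)
    (((extendHom e).comp (wreathSub p).subtype).codRestrict (alternatingGroup (Fin n)) fun w => ?_)
    (fun a b h => Subtype.ext (extendHom_injective e (congrArg Subtype.val h))) hxy
  obtain ⟨k, hk⟩ := wreath_pgroup p w
  rw [Perm.mem_alternatingGroup]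
  refine sign_of_odd_pow ((hp.odd_of_ne_two hp2).pow : Odd (p ^ k)) ?_
  rw [← map_pow, hk, map_one]

/-- for `n ≥ 6` the Sylow 2-subgroups are not abelian -/
theorem not_commutative_two {n : ℕ} (hn : 6 ≤ n) (P : Sylow 2 (alternatingGroup (Fin n))) :
    ¬ IsMulCommutative (P : Subgroup (alternatingGroup (Fin n))) := by
  obtain ⟨x, y, hxy⟩ := wreath_noncomm 2
  obtain ⟨e, -⟩ := exists_extendHom ((ZMod 2 × ZMod 2) ⊕ Fin 2) (n := n) (by simp; omega)
  obtain ⟨τ, hτ⟩ : ∃ τ : ℤˣ →* Perm (Fin 2), ∀ u, Perm.sign (τ u) = u :=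
    ⟨{ toFun := fun u => if u = 1 then 1 else Equiv.swap 0 1
       map_one' := by simp
       map_mul' := by decide }, by decide⟩
  obtain ⟨ψ, hψ⟩ : ∃ ψ : wreathSub 2 →* Perm ((ZMod 2 × ZMod 2) ⊕ Fin 2),
      ∀ w : wreathSub 2, ψ w = Equiv.sumCongr (w : Perm (ZMod 2 × ZMod 2)) (τ (Perm.sign (w : Perm (ZMod 2 × ZMod 2)))) :=
    ⟨(Perm.sumCongrHom _ _).comp ((wreathSub 2).subtype.prod (τ.comp (Perm.sign.comp (wreathSub 2).subtype))), fun w => rfl⟩
  refine not_commutative P (wreath_pgroup 2)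
    (((extendHom e).comp ψ).codRestrict (alternatingGroup (Fin n)) fun w => ?_) (fun a b h => Subtype.ext ?_) hxy
  · rw [Perm.mem_alternatingGroup, MonoidHom.comp_apply, sign_extendHom, hψ, Perm.sign_sumCongr, hτ]
    exact Int.units_mul_self _
  · have h1 := extendHom_injective e (congrArg Subtype.val h)
    rw [hψ, hψ] at h1
    exact Equiv.ext fun z => by simpa using Equiv.congr_fun h1 (Sum.inl z)

/-- the index of the centraliser in the normaliser is even -/
theorem two_dvd_index {G : Type*} [Group G] [Finite G] {P : Subgroup G} {g : G}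
    (hg : g ∈ Subgroup.normalizer (P : Set G)) (hgc : g ∉ Subgroup.centralizer (P : Set G))
    (hg2 : g * g ∈ Subgroup.centralizer (P : Set G)) :
    2 ∣ ((Subgroup.centralizer (P : Set G)).subgroupOf (Subgroup.normalizer (P : Set G))).index := by
  let C := (Subgroup.centralizer (P : Set G)).subgroupOf (Subgroup.normalizer (P : Set G))
  have h1 : orderOf ((⟨g, hg⟩ : Subgroup.normalizer (P : Set G)) : Subgroup.normalizer (P : Set G) ⧸ C) = 2 := by
    refine orderOf_eq_prime ?_ ?_
    · rw [← QuotientGroup.mk_pow, QuotientGroup.eq_one_iff, Subgroup.mem_subgroupOf, SubgroupClass.coe_pow, sq]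
      exact hg2
    · rw [ne_eq, QuotientGroup.eq_one_iff, Subgroup.mem_subgroupOf]
      exact hgc
  rw [Subgroup.index_eq_card, ← h1]
  exact orderOf_dvd_natCard _

/-- with exponent below `p` the Sylow subgroups are generated by disjoint cycles -/
theorem exists_block_sylow {n p k : ℕ} [Fact p.Prime] (hp2 : p ≠ 2) (hnp : n < p * p) (hk : k = n / p)
    (e : (Fin k × ZMod p) ⊕ Fin (n - k * p) ≃ Fin n) (P : Sylow p (alternatingGroup (Fin n))) :
    ∃ a : alternatingGroup (Fin n), ∀ x : alternatingGroup (Fin n), x ∈ (P : Subgroup (alternatingGroup (Fin n))) ↔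
      ∃ f : Fin k → ZMod p, ((a⁻¹ * x * a : alternatingGroup (Fin n)) : Perm (Fin n)) =
        extendHom e (CfsgLib.Perm.Groups.blockTranslations (Fin k) (ZMod p) (Multiplicative.ofAdd f)) := by
  have hp : p.Prime := Fact.out
  haveI : NeZero p := ⟨hp.ne_zero⟩
  obtain ⟨φ, hφ⟩ : ∃ φ : Multiplicative (Fin k → ZMod p) →* alternatingGroup (Fin n), ∀ f, (φ f : Perm (Fin n)) =
      extendHom e (CfsgLib.Perm.Groups.blockTranslations (Fin k) (ZMod p) f) := by
    refine ⟨((extendHom e).comp (CfsgLib.Perm.Groups.blockTranslations (Fin k) (ZMod p))).codRestrict _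
      fun f => ?_, fun f => rfl⟩
    rw [Perm.mem_alternatingGroup]
    refine sign_of_odd_pow (hp.odd_of_ne_two hp2) ?_
    rw [← map_pow, show f ^ p = 1 from Multiplicative.toAdd.injective (funext fun i => by simp), map_one]
  have hinj : Function.Injective φ := fun a b h => by
    have h1 := congrArg Subtype.val h
    rw [hφ, hφ] at h1
    exact CfsgLib.Perm.Groups.blockTranslations_injective _ _ (extendHom_injective e h1)
  have hc : Nat.card φ.range = p ^ k := by
    rw [← Nat.card_congr (MonoidHom.ofInjective hinj).toEquiv, Nat.card_congr Multiplicative.toAdd, Nat.card_fun,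
      Nat.card_zmod, Nat.card_fin]
  have hPG : IsPGroup p φ.range := IsPGroup.of_card hc
  obtain ⟨Q, hQ⟩ := hPG.exists_le_sylow
  have hQe : (Q : Subgroup (alternatingGroup (Fin n))) = φ.range := by
    refine (Subgroup.eq_of_le_of_card_ge hQ ?_).symm
    obtain ⟨m, hm⟩ := IsPGroup.iff_card.1 Q.2
    rw [hc, hm]
    refine Nat.pow_le_pow_right hp.pos ?_
    have h1 : p ^ m ∣ n.factorial := by
      rw [← hm, show n.factorial = Nat.card (Perm (Fin n)) by rw [Nat.card_perm, Nat.card_fin]]
      exact (Subgroup.card_subgroup_dvd_card _).trans (Subgroup.card_subgroup_dvd_card _)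
    rw [Nat.Prime.pow_dvd_factorial_iff hp (b := 2) (Nat.log_lt_of_lt_pow' (by norm_num) (by rw [sq]; exact hnp))] at h1
    simpa [hk] using h1
  obtain ⟨a, ha⟩ := MulAction.exists_smul_eq (alternatingGroup (Fin n)) Q P
  refine ⟨a, fun x => ?_⟩
  rw [← ha, Sylow.coe_subgroup_smul, Subgroup.mem_pointwise_smul_iff_inv_smul_mem, ← map_inv, MulAut.smul_def,
    MulAut.conj_apply, inv_inv, hQe]
  constructor
  · rintro ⟨f, hf⟩
    exact ⟨Multiplicative.toAdd f, by rw [← hf, hφ]; rfl⟩
  · rintro ⟨f, hf⟩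
    exact ⟨Multiplicative.ofAdd f, Subtype.ext ((hφ _).trans hf.symm)⟩

/-- two cycles inverted together -/
theorem two_dvd_of_blocks {n p : ℕ} [Fact p.Prime] (hp2 : p ≠ 2) (hn : 2 * p ≤ n) (hnp : n < p * p)
    (P : Sylow p (alternatingGroup (Fin n))) :
    2 ∣ ((Subgroup.centralizer ((P : Subgroup (alternatingGroup (Fin n))) : Set (alternatingGroup (Fin n)))).subgroupOf
      (Subgroup.normalizer ((P : Subgroup (alternatingGroup (Fin n))) : Set (alternatingGroup (Fin n))))).index := by
  have hp : p.Prime := Fact.out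
  haveI : NeZero p := ⟨hp.ne_zero⟩
  obtain ⟨k, hk⟩ : ∃ k, k = n / p := ⟨_, rfl⟩
  have hk2 : 2 ≤ k := hk ▸ (Nat.le_div_iff_mul_le hp.pos).2 hn
  have hkn : k * p ≤ n := hk ▸ Nat.div_mul_le_self n p
  obtain ⟨e, -⟩ : ∃ e : (Fin k × ZMod p) ⊕ Fin (n - k * p) ≃ Fin n, True :=
    ⟨Fintype.equivOfCardEq (by simp [Nat.add_sub_cancel' hkn]), trivial⟩
  obtain ⟨a, ha⟩ := exists_block_sylow hp2 hnp hk e P
  obtain ⟨i₀, hi₀⟩ : ∃ i₀ : Fin k, i₀ = ⟨0, by omega⟩ := ⟨_, rfl⟩
  obtain ⟨i₁, hi₁⟩ : ∃ i₁ : Fin k, i₁ = ⟨1, by omega⟩ := ⟨_, rfl⟩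
  have h01 : i₀ ≠ i₁ := by rw [hi₀, hi₁]; simp
  obtain ⟨σ, hσ⟩ : ∃ σ : Fin k → Perm (ZMod p), σ = fun i => if i = i₀ ∨ i = i₁ then Equiv.neg (ZMod p) else 1 := ⟨_, rfl⟩
  obtain ⟨g₀, hg₀⟩ : ∃ g₀ : Perm (Fin k × ZMod p), g₀ = Equiv.prodCongrRight σ := ⟨_, rfl⟩
  have hg₀s : Perm.sign g₀ = 1 := by
    rw [hg₀, Perm.sign_prodCongrRight, Finset.prod_eq_mul i₀ i₁ h01]
    · rw [hσ]
      simp only [true_or, or_true, if_true]
      exact Int.units_mul_self _
    · intro i _ hi
      rw [hσ]
      simp [hi.1, hi.2]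
    · exact fun h => absurd (Finset.mem_univ _) h
    · exact fun h => absurd (Finset.mem_univ _) h
  have hg₀2 : g₀ * g₀ = 1 := Equiv.ext fun x => by
    rw [hg₀, hσ]
    refine Prod.ext rfl ?_
    by_cases h : x.1 = i₀ ∨ x.1 = i₁ <;> simp [h]
  have hinv : g₀⁻¹ = g₀ := inv_eq_of_mul_eq_one_right hg₀2
  obtain ⟨g, hg⟩ : ∃ g : alternatingGroup (Fin n), (g : Perm (Fin n)) = extendHom e g₀ :=
    ⟨⟨extendHom e g₀, by rw [Perm.mem_alternatingGroup, sign_extendHom, hg₀s]⟩, rfl⟩
  have hgg : g * g = 1 := Subtype.ext (by rw [Subgroup.coe_mul, hg, ← map_mul, hg₀2, map_one, Subgroup.coe_one])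
  obtain ⟨b, hb⟩ : ∃ b, b = a * g * a⁻¹ := ⟨_, rfl⟩
  have hbb : b * b = 1 := by
    rw [hb, show a * g * a⁻¹ * (a * g * a⁻¹) = a * (g * g) * a⁻¹ by group, hgg]
    group
  have hconj : ∀ f : Fin k → ZMod p,
      g₀ * CfsgLib.Perm.Groups.blockTranslations (Fin k) (ZMod p) (Multiplicative.ofAdd f) * g₀⁻¹ =
        CfsgLib.Perm.Groups.blockTranslations (Fin k) (ZMod p)
          (Multiplicative.ofAdd fun i => if i = i₀ ∨ i = i₁ then -f i else f i) := fun f => Equiv.ext fun x => by
    rw [hinv, hg₀, hσ]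
    refine Prod.ext rfl ?_
    by_cases h : x.1 = i₀ ∨ x.1 = i₁ <;>
      simp [CfsgLib.Perm.Groups.blockTranslations, h, add_comm]
  have hmove : ∀ x ∈ (P : Subgroup (alternatingGroup (Fin n))), b * x * b⁻¹ ∈ (P : Subgroup (alternatingGroup (Fin n))) := by
    intro x hx
    obtain ⟨f, hf⟩ := (ha x).1 hx
    refine (ha _).2 ⟨fun i => if i = i₀ ∨ i = i₁ then -f i else f i, ?_⟩
    rw [← hconj, map_mul, map_mul, map_inv, ← hf, ← hg, hb]
    simp only [← Subgroup.coe_inv, ← Subgroup.coe_mul]
    congr 1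
    group
  refine two_dvd_index (g := b) (Subgroup.mem_normalizer_iff.2 fun x => ⟨hmove x, fun h => ?_⟩) ?_ ?_
  · have h2 := hmove _ h
    rwa [inv_eq_of_mul_eq_one_right hbb, show b * (b * x * b) * b = (b * b) * x * (b * b) by group, hbb, one_mul,
      mul_one] at h2
  · intro hC
    obtain ⟨f, hf⟩ : ∃ f : Fin k → ZMod p, f = Pi.single i₀ 1 := ⟨_, rfl⟩
    obtain ⟨y, hy⟩ : ∃ y : alternatingGroup (Fin n), (y : Perm (Fin n)) = extendHom e
        (CfsgLib.Perm.Groups.blockTranslations (Fin k) (ZMod p) (Multiplicative.ofAdd f)) := by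
      refine ⟨⟨_, ?_⟩, rfl⟩
      rw [Perm.mem_alternatingGroup]
      refine sign_of_odd_pow (hp.odd_of_ne_two hp2) ?_
      rw [← map_pow, ← map_pow, show Multiplicative.ofAdd f ^ p = 1 from
        Multiplicative.toAdd.injective (funext fun i => by simp), map_one, map_one]
    have hyP : a * y * a⁻¹ ∈ (P : Subgroup (alternatingGroup (Fin n))) := (ha _).2 ⟨f, by
      rw [← hy]; congr 1; group⟩
    have h := Subgroup.mem_centralizer_iff.1 hC _ hyP
    rw [hb] at h
    have h2 : g * y = y * g :=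
      calc g * y = a⁻¹ * (a * g * a⁻¹ * (a * y * a⁻¹)) * a := by group
        _ = a⁻¹ * (a * y * a⁻¹ * (a * g * a⁻¹)) * a := by rw [h]
        _ = y * g := by group
    have h3 := congrArg Subtype.val h2
    rw [Subgroup.coe_mul, Subgroup.coe_mul, hy, hg, ← map_mul, ← map_mul] at h3
    have h4 := (extendHom_injective e h3)
    have h5 : g₀ * CfsgLib.Perm.Groups.blockTranslations (Fin k) (ZMod p) (Multiplicative.ofAdd f) * g₀⁻¹ =
        CfsgLib.Perm.Groups.blockTranslations (Fin k) (ZMod p) (Multiplicative.ofAdd f) := by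
      rw [h4, mul_inv_cancel_right]
    rw [hconj] at h5
    have h6 := congrFun (Multiplicative.ofAdd.injective
      (CfsgLib.Perm.Groups.blockTranslations_injective _ _ h5)) i₀
    simp [hf] at h6
    have h7 : ((2 : ℕ) : ZMod p) = 0 := by push_cast; linear_combination -h6
    rw [ZMod.natCast_eq_zero_iff] at h7
    exact hp2 ((Nat.prime_dvd_prime_iff_eq hp Nat.prime_two).1 h7)
  · rw [hbb]
    exact one_mem _

/-- fewer than `2p` points -/
theorem cyclic_of_lt {n p : ℕ} [Fact p.Prime] (hn : n < 2 * p) (P : Sylow p (alternatingGroup (Fin n))) :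
    IsCyclic (P : Subgroup (alternatingGroup (Fin n))) := by
  have hp : p.Prime := Fact.out
  obtain ⟨m, hm⟩ := IsPGroup.iff_card.1 P.2
  have h1 : p ^ m ∣ n.factorial := by
    rw [← hm, show n.factorial = Nat.card (Perm (Fin n)) by rw [Nat.card_perm, Nat.card_fin]]
    exact (Subgroup.card_subgroup_dvd_card _).trans (Subgroup.card_subgroup_dvd_card _)
  by_cases hm1 : 2 ≤ m
  · exfalso
    have h2 : p ^ 2 ∣ n.factorial := (pow_dvd_pow p hm1).trans h1
    rw [Nat.Prime.pow_dvd_factorial_iff hp (b := 2) (Nat.log_lt_of_lt_pow' (by norm_num)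
      (lt_of_lt_of_le hn (by rw [sq]; exact Nat.mul_le_mul_right p hp.two_le)))] at h2
    have : n / p < 2 := Nat.div_lt_of_lt_mul (by rw [mul_comm]; exact hn)
    simp at h2
    omega
  · interval_cases m
    · haveI : Subsingleton (P : Subgroup (alternatingGroup (Fin n))) :=
        Nat.card_eq_one_iff_unique.1 (by rw [hm, pow_zero]) |>.1
      infer_instance
    · exact isCyclic_of_prime_card (p := p) (by rw [hm, pow_one])

/-- the case of five points -/
theorem five {n : ℕ} (hn : n = 5) (P : Sylow 2 (alternatingGroup (Fin n))) :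
    ((Subgroup.centralizer ((P : Subgroup (alternatingGroup (Fin n))) : Set (alternatingGroup (Fin n)))).subgroupOf
      (Subgroup.normalizer ((P : Subgroup (alternatingGroup (Fin n))) : Set (alternatingGroup (Fin n))))).index = 3 ∧
      IsKleinFour (P : Subgroup (alternatingGroup (Fin n))) := by
  subst hn
  have hG : Nat.card (alternatingGroup (Fin 5)) = 60 := by rw [nat_card_alternatingGroup]; simp; decide
  have hP : Nat.card (P : Subgroup (alternatingGroup (Fin 5))) = 4 := by
    rw [Sylow.card_eq_multiplicity, hG]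
    have : (60 : ℕ).factorization 2 = 2 := by
      rw [← Nat.multiplicity_eq_factorization Nat.prime_two (by norm_num)]
      exact multiplicity_eq_of_dvd_of_not_dvd (by norm_num) (by norm_num)
    rw [this]; norm_num
  haveI : IsKleinFour (P : Subgroup (alternatingGroup (Fin 5))) := by
    refine ⟨hP, ?_⟩
    refine Nat.dvd_antisymm (Monoid.exponent_dvd_of_forall_pow_eq_one fun x => ?_) ?_
    · have h4 : (x : alternatingGroup (Fin 5)) ^ 4 = 1 := by
        rw [← SubgroupClass.coe_pow, ← hP, pow_card_eq_one']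
        rfl
      have key : ∀ y : alternatingGroup (Fin 5), y ^ 4 = 1 → y ^ 2 = 1 := by decide +kernel
      exact Subtype.ext (by rw [SubgroupClass.coe_pow, key _ h4]; rfl)
    · obtain ⟨x, hx⟩ := exists_prime_orderOf_dvd_card' (G := (P : Subgroup (alternatingGroup (Fin 5)))) 2 (by rw [hP]; norm_num)
      exact (dvd_of_eq hx.symm).trans (Monoid.order_dvd_exponent x)
  refine ⟨?_, inferInstance⟩
  obtain ⟨N, hN⟩ : ∃ N, N = Subgroup.normalizer ((P : Subgroup (alternatingGroup (Fin 5))) : Set (alternatingGroup (Fin 5))) := ⟨_, rfl⟩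
  obtain ⟨C, hC⟩ : ∃ C, C = Subgroup.centralizer ((P : Subgroup (alternatingGroup (Fin 5))) : Set (alternatingGroup (Fin 5))) := ⟨_, rfl⟩
  haveI : IsMulCommutative (P : Subgroup (alternatingGroup (Fin 5))) :=
    ⟨⟨mul_comm_of_exponent_two IsKleinFour.exponent_two⟩⟩
  have hPC : (P : Subgroup (alternatingGroup (Fin 5))) ≤ C := hC ▸ fun x hx => Subgroup.mem_centralizer_iff.2 fun y hy =>
    congrArg Subtype.val (mul_comm' (⟨y, hy⟩ : (P : Subgroup (alternatingGroup (Fin 5)))) ⟨x, hx⟩)
  have hCN : C ≤ N := by rw [hC, hN]; exact Subgroup.centralizer_le_normalizer _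
  have hnot : ¬ N ≤ C := by
    intro h
    have hcp := MonoidHom.ker_transferSylow_isComplement' P (hC ▸ hN ▸ h)
    have hne := hcp.index_eq_card
    rcases IsSimpleGroup.eq_bot_or_eq_top_of_normal _ (inferInstance :
        (MonoidHom.transferSylow P (hC ▸ hN ▸ h)).ker.Normal) with hk | hk
    · rw [hk, Subgroup.card_bot] at hne
      have := (P : Subgroup (alternatingGroup (Fin 5))).index_mul_card
      rw [hne, hP, hG] at this; omega
    · rw [hk, Subgroup.card_top, hG] at hne
      have := (P : Subgroup (alternatingGroup (Fin 5))).index_mul_card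
      rw [hne, hP, hG] at this; omega
  have hlt : Nat.card C < Nat.card N := Set.Finite.card_lt_card (Set.toFinite _)
    (lt_of_le_not_ge hCN hnot : C < N)
  have h4C : 4 ∣ Nat.card C := hP ▸ Subgroup.card_dvd_of_le hPC
  have hCNd : Nat.card C ∣ Nat.card N := Subgroup.card_dvd_of_le hCN
  have hNd : Nat.card N ∣ 60 := hG ▸ Subgroup.card_subgroup_dvd_card N
  have hN60 : Nat.card N ≠ 60 := fun h => by
    have hPn : (P : Subgroup (alternatingGroup (Fin 5))).Normal :=
      Subgroup.normalizer_eq_top_iff.1 (hN ▸ Subgroup.eq_top_of_card_eq N (h.trans hG.symm))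
    rcases IsSimpleGroup.eq_bot_or_eq_top_of_normal _ hPn with hk | hk
    · rw [hk, Subgroup.card_bot] at hP; omega
    · rw [hk, Subgroup.card_top, hG] at hP; omega
  have hN20 : Nat.card N ≠ 20 := fun h => by
    have hidx : N.index = 3 := by
      have := N.index_mul_card
      rw [h, hG] at this
      omega
    have hdvd : Nat.card (alternatingGroup (Fin 5)) ∣ Nat.factorial 3 := by
      have hker : N.normalCore = ⊥ := by
        rcases IsSimpleGroup.eq_bot_or_eq_top_of_normal _ N.normalCore_normal with hk | hk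
        · exact hk
        · have := N.normalCore_le
          rw [hk, top_le_iff] at this
          rw [this, Subgroup.index_top] at hidx
          omega
      have hinj : Function.Injective (MulAction.toPermHom (alternatingGroup (Fin 5)) (alternatingGroup (Fin 5) ⧸ N)) :=
        (MonoidHom.ker_eq_bot_iff _).1 (N.normalCore_eq_ker ▸ hker)
      have := Subgroup.card_dvd_of_injective _ hinj
      rwa [Nat.card_perm, ← Subgroup.index_eq_card, hidx] at this
    rw [hG] at hdvd
    norm_num [Nat.factorial] at hdvd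
  have hidx := (C.subgroupOf N).index_mul_card
  rw [Nat.card_congr (Subgroup.subgroupOfEquivOfLe hCN).toEquiv] at hidx
  subst hC hN
  have hNle := Nat.le_of_dvd (by norm_num) hNd
  obtain ⟨s, hs⟩ := h4C
  rw [hs] at hlt hCNd hidx
  generalize Nat.card (Subgroup.normalizer ((P : Subgroup (alternatingGroup (Fin 5))) : Set (alternatingGroup (Fin 5)))) = M at *
  generalize ((Subgroup.centralizer ((P : Subgroup (alternatingGroup (Fin 5))) : Set (alternatingGroup (Fin 5)))).subgroupOf
      (Subgroup.normalizer ((P : Subgroup (alternatingGroup (Fin 5))) : Set (alternatingGroup (Fin 5))))).index = I at *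
  have hM : M = 12 := by
    have h4M : 4 ∣ M := (dvd_mul_right 4 s).trans hCNd
    have : ∀ M ≤ 60, M ∣ 60 → 4 ∣ M → M = 4 ∨ M = 12 ∨ M = 20 ∨ M = 60 := by decide
    rcases this M hNle hNd h4M with h | h | h | h
    · have : 0 < s := Nat.pos_of_ne_zero fun h0 => by rw [h0, mul_zero] at hidx; omega
      omega
    · exact h
    · exact absurd h hN20
    · exact absurd h hN60
  subst hM
  have hs1 : s = 1 := by
    have h1 : s ∣ 3 := (Nat.mul_dvd_mul_iff_left (by norm_num : 0 < 4)).1 hCNd
    rcases (Nat.dvd_prime Nat.prime_three).1 h1 with h | h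
    · exact h
    · omega
  subst hs1
  omega

end CfsgLib.Perm.Groups.AltAbelianSylow
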