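import Mathlib

/-!
# Normal subgroups of multiply transitive groups
-/

set_option autoImplicit false

namespace CfsgLib.Perm.Groups

open MulAction
open scoped Pointwise

theorem injective_three {X : Type*} {a b c : X} (hab : a ≠ b) (hac : a ≠ c) (hbc : b ≠ c) :
    Function.Injective ![a, b, c] := by
  simp [Function.Injective, Fin.forall_fin_succ, hab, hac, hbc, hab.symm, hac.symm, hbc.symm]

theorem injective_four {X : Type*} {a b c d : X} (hab : a ≠ b) (hac : a ≠ c) (had : a ≠ d) (hbc : b ≠ c)
    (hbd : b ≠ d) (hcd : c ≠ d) : Function.Injective ![a, b, c, d] := by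
  simp [Function.Injective, Fin.forall_fin_succ, hab, hac, had, hbc, hbd, hcd, hab.symm, hac.symm, had.symm, hbc.symm,
    hbd.symm, hcd.symm]

/-- a primitive action commuting with a fixed point free involutory map has at most two points -/
theorem eq_or_eq_of_commuting_invol {M Y : Type*} [Group M] [MulAction M Y] [IsPreprimitive M Y] {f : Y → Y}
    (hff : ∀ y, f (f y) = y) (hf : ∀ (g : M) (y : Y), g • f y = f (g • y)) {x : Y} (hx : f x ≠ x) (y : Y) :
    y = x ∨ y = f x := by
  have hB : IsBlock M ({x, f x} : Set Y) := by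
    rw [isBlock_iff_smul_eq_or_disjoint]
    intro g
    have himg : (g • ({x, f x} : Set Y)) = {g • x, f (g • x)} := by
      rw [← Set.image_smul, Set.image_pair, hf]
    rw [himg]
    by_cases h1 : g • x = x
    · left; rw [h1]
    · by_cases h2 : g • x = f x
      · left; rw [h2, hff, Set.pair_comm]
      · right
        rw [Set.disjoint_left]
        rintro z (rfl | rfl) (h3 | h3)
        · exact h1 h3
        · exact h2 h3
        · exact h2 (by rw [← hff (g • x), h3])
        · exact h1 (by rw [← hff (g • x), h3, hff])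
  rcases IsPreprimitive.isTrivialBlock_of_isBlock hB with h | h
  · exact absurd (h (by simp) (by simp)) hx
  · have : y ∈ ({x, f x} : Set Y) := by rw [h]; exact Set.mem_univ y
    simpa using this

/-- multiply transitive groups move tuples -/
theorem exists_smul_tuple {G X : Type*} [Group G] [MulAction G X] {k : ℕ} (h : IsMultiplyPretransitive G X k)
    {x y : Fin k → X} (hx : Function.Injective x) (hy : Function.Injective y) : ∃ g : G, ∀ i, g • x i = y i := by
  obtain ⟨g, hg⟩ := h.exists_smul_eq ⟨x, hx⟩ ⟨y, hy⟩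
  exact ⟨g, fun i => congrArg (fun e : Fin k ↪ X => e i) hg⟩

section Regular

variable {G X : Type*} [Group G] [MulAction G X] {N : Subgroup G}

theorem regular_smul_inj (hreg : ∀ x : X, stabilizer N x = ⊥) {n m : N} {a : X} (h : (n : G) • a = (m : G) • a) :
    n = m := by
  have h1 : n⁻¹ * m ∈ stabilizer N a := by
    rw [mem_stabilizer_iff, mul_smul, inv_smul_eq_iff]
    exact h.symm
  rwa [hreg a, Subgroup.mem_bot, inv_mul_eq_one] at h1

theorem stab_smul_conj {g : G} {a : X} (hg : g • a = a) (n : G) : g • (n • a) = (g * n * g⁻¹) • a := by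
  rw [mul_smul, mul_smul, inv_smul_eq_iff.2 hg.symm]

variable [N.Normal]

theorem regular_fix_iff (hreg : ∀ x : X, stabilizer N x = ⊥) {g : G} {a : X} (hg : g • a = a) {n m : N}
    (h : g • ((n : G) • a) = (m : G) • a) : g * n * g⁻¹ = m := by
  rw [stab_smul_conj hg] at h
  exact congrArg Subtype.val (regular_smul_inj hreg
    (n := ⟨g * n * g⁻¹, Subgroup.Normal.conj_mem inferInstance _ n.2 g⟩) h)

/-- in a doubly transitive group all nonidentity elements of a regular normal subgroup have the same prime order -/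
theorem regular_prime_order [Finite X] (h2 : IsMultiplyPretransitive G X 2) (htrans : IsPretransitive N X)
    (hreg : ∀ x : X, stabilizer N x = ⊥) (hX : 2 ≤ Nat.card X) :
    ∃ p : ℕ, p.Prime ∧ (∀ n : N, n ≠ 1 → orderOf n = p) ∧ IsPGroup p N ∧ Nat.card N = Nat.card X := by
  haveI := Fintype.ofFinite X
  obtain ⟨a, b, hab⟩ := Fintype.exists_pair_of_one_lt_card (α := X) (by rw [← Nat.card_eq_fintype_card]; omega)
  have hbij : Function.Bijective (fun n : N => (n : G) • a) :=
    ⟨fun n m h => regular_smul_inj hreg h, fun x => htrans.exists_smul_eq a x⟩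
  haveI : Finite N := Finite.of_injective _ hbij.1
  have hcard : Nat.card N = Nat.card X := Nat.card_eq_of_bijective _ hbij
  have hconj : ∀ n m : N, n ≠ 1 → m ≠ 1 → orderOf n = orderOf m := by
    intro n m hn hm
    have h1 : (n : G) • a ≠ a := fun h => hn (regular_smul_inj hreg (a := a) (by rw [h, OneMemClass.coe_one, one_smul]))
    have h1' : (m : G) • a ≠ a := fun h => hm (regular_smul_inj hreg (a := a) (by rw [h, OneMemClass.coe_one, one_smul]))
    obtain ⟨g, hg, hg'⟩ := is_two_pretransitive_iff.1 h2 h1.symm h1'.symm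
    rw [← Subgroup.orderOf_coe n, ← Subgroup.orderOf_coe m, ← regular_fix_iff hreg hg hg']
    exact (orderOf_injective (MulAut.conj g).toMonoidHom (MulAut.conj g).injective (n : G)).symm
  obtain ⟨n₀, hn₀⟩ := hbij.2 b
  have hn₀1 : n₀ ≠ 1 := by
    rintro rfl
    exact hab (by simpa using hn₀)
  have ho : orderOf n₀ ≠ 1 := fun h => hn₀1 (orderOf_eq_one_iff.1 h)
  obtain ⟨p, hp, hdvd⟩ := Nat.exists_prime_and_dvd ho
  haveI := Fact.mk hp
  have hord : orderOf (n₀ ^ (orderOf n₀ / p)) = p := by
    rw [orderOf_pow_orderOf_div (by exact (orderOf_pos n₀).ne') hdvd]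
  have hall : ∀ n : N, n ≠ 1 → orderOf n = p := by
    intro n hn
    refine (hconj n (n₀ ^ (orderOf n₀ / p)) hn ?_).trans hord
    intro h
    rw [h, orderOf_one] at hord
    exact hp.one_lt.ne hord
  refine ⟨p, hp, hall, fun n => ⟨1, ?_⟩, hcard⟩
  rw [pow_one]
  by_cases hn : n = 1
  · rw [hn, one_pow]
  · rw [← hall n hn, pow_orderOf_eq_one]

/-- in a triply transitive group of degree at least four a regular normal subgroup has exponent two -/
theorem regular_sq_eq_one [Fintype X] (h3 : IsMultiplyPretransitive G X 3) (htrans : IsPretransitive N X)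
    (hreg : ∀ x : X, stabilizer N x = ⊥) (hX : 4 ≤ Fintype.card X) (n : N) : n ^ 2 = 1 := by
  classical
  by_contra hn
  rw [pow_two, mul_eq_one_iff_eq_inv] at hn
  obtain ⟨a⟩ : Nonempty X := Fintype.card_pos_iff.1 (by omega)
  have h1 : n ≠ 1 := by rintro rfl; simp at hn
  have hi : n⁻¹ ≠ 1 := by simpa using h1
  have e0 : ∀ m : N, m ≠ 1 → (m : G) • a ≠ a := fun m hm h =>
    hm (regular_smul_inj hreg (a := a) (by rw [h, OneMemClass.coe_one, one_smul]))
  have e1 : (n : G) • a ≠ ((n⁻¹ : N) : G) • a := fun h => hn (regular_smul_inj hreg h)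
  obtain ⟨z, hz⟩ : ∃ z, z ∉ ({a, (n : G) • a, ((n⁻¹ : N) : G) • a} : Finset X) := by
    by_contra hc
    push_neg at hc
    have := Finset.card_le_card (show Finset.univ ⊆ _ from fun x _ => hc x)
    have := Finset.card_le_three (a := a) (b := (n : G) • a) (c := ((n⁻¹ : N) : G) • a)
    rw [Finset.card_univ] at *
    omega
  simp only [Finset.mem_insert, Finset.mem_singleton, not_or] at hz
  obtain ⟨g, hg⟩ := exists_smul_tuple h3 (x := ![a, (n : G) • a, ((n⁻¹ : N) : G) • a]) (y := ![a, (n : G) • a, z])
    (injective_three (e0 n h1).symm (e0 _ hi).symm e1)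
    (injective_three (e0 n h1).symm (Ne.symm hz.1) (Ne.symm hz.2.1))
  have g0 : g • a = a := hg 0
  have g1 : g * n * g⁻¹ = n := regular_fix_iff hreg g0 (m := n) (hg 1)
  have g2 := hg 2
  simp only [Matrix.cons_val] at g2
  rw [stab_smul_conj g0] at g2
  apply hz.2.2
  rw [← g2]
  congr 1
  rw [Subgroup.coe_inv]
  conv_rhs => rw [← g1]
  group

/-- there is no regular normal subgroup in a quadruply transitive group of degree at least five -/
theorem regular_four_false [Fintype X] (h4 : IsMultiplyPretransitive G X 4) (htrans : IsPretransitive N X)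
    (hreg : ∀ x : X, stabilizer N x = ⊥) (hX : 5 ≤ Fintype.card X) : False := by
  classical
  haveI := h4
  have h3 : IsMultiplyPretransitive G X 3 := isMultiplyPretransitive_of_le (n := 4) (by omega)
    (by rw [Nat.card_eq_fintype_card]; omega)
  have hsq := regular_sq_eq_one h3 htrans hreg (by omega)
  obtain ⟨a⟩ : Nonempty X := Fintype.card_pos_iff.1 (by omega)
  have e0 : ∀ m : N, m ≠ 1 → (m : G) • a ≠ a := fun m hm h =>
    hm (regular_smul_inj hreg (a := a) (by rw [h, OneMemClass.coe_one, one_smul]))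
  obtain ⟨b, hb⟩ := Fintype.exists_ne_of_one_lt_card (by omega) a
  obtain ⟨u, hu⟩ := htrans.exists_smul_eq a b
  obtain ⟨c, hc⟩ : ∃ c, c ∉ ({a, b} : Finset X) := by
    by_contra hcon
    push_neg at hcon
    have := Finset.card_le_card (show Finset.univ ⊆ _ from fun x _ => hcon x)
    have := Finset.card_le_two (a := a) (b := b)
    rw [Finset.card_univ] at *
    omega
  simp only [Finset.mem_insert, Finset.mem_singleton, not_or] at hc
  obtain ⟨v, hv⟩ := htrans.exists_smul_eq a c
  change (u : G) • a = b at hu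
  change (v : G) • a = c at hv
  have hu1 : u ≠ 1 := by rintro rfl; exact hb (by simpa using hu.symm)
  have hv1 : v ≠ 1 := by rintro rfl; exact hc.1 (by simpa using hv.symm)
  have huv : u ≠ v := fun h => hc.2 (by rw [← hv, ← h, hu])
  obtain ⟨w, hw⟩ : ∃ w, w = u * v := ⟨_, rfl⟩
  have hinv : ∀ m : N, m⁻¹ = m := fun m => inv_eq_of_mul_eq_one_left (by rw [← pow_two, hsq])
  have hw1 : w ≠ 1 := fun h => huv (by rw [hw, mul_eq_one_iff_eq_inv, hinv] at h; exact h)
  have hwu : w ≠ u := fun h => hv1 (by simpa [hw] using h)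
  have hwv : w ≠ v := fun h => hu1 (by simpa [hw] using h)
  obtain ⟨z, hz⟩ : ∃ z, z ∉ ({a, b, c, (w : G) • a} : Finset X) := by
    by_contra hcon
    push_neg at hcon
    have := Finset.card_le_card (show Finset.univ ⊆ _ from fun x _ => hcon x)
    have := Finset.card_le_four (a := a) (b := b) (c := c) (d := (w : G) • a)
    rw [Finset.card_univ] at *
    omega
  simp only [Finset.mem_insert, Finset.mem_singleton, not_or] at hz
  have d1 : (w : G) • a ≠ a := e0 w hw1
  have d2 : (w : G) • a ≠ b := fun h => hwu (regular_smul_inj hreg (h.trans hu.symm))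
  have d3 : (w : G) • a ≠ c := fun h => hwv (regular_smul_inj hreg (h.trans hv.symm))
  obtain ⟨g, hg⟩ := exists_smul_tuple h4 (x := ![a, b, c, (w : G) • a]) (y := ![a, b, c, z])
    (injective_four hb.symm (Ne.symm hc.1) d1.symm (Ne.symm hc.2) d2.symm d3.symm)
    (injective_four hb.symm (Ne.symm hc.1) (Ne.symm hz.1) (Ne.symm hc.2) (Ne.symm hz.2.1) (Ne.symm hz.2.2.1))
  have g0 : g • a = a := hg 0
  have gu : g * u * g⁻¹ = u := regular_fix_iff hreg g0 (m := u) (by rw [hu]; exact hg 1)
  have gv : g * v * g⁻¹ = v := regular_fix_iff hreg g0 (m := v) (by rw [hv]; exact hg 2)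
  have g3 : g • ((w : G) • a) = z := hg 3
  rw [stab_smul_conj g0] at g3
  apply hz.2.2.2
  rw [← g3]
  congr 1
  rw [hw, Subgroup.coe_mul]
  conv_rhs => rw [← gu, ← gv]
  group

end Regular

section Sharp

variable {G X : Type*} [Group G] [MulAction G X] [Fintype X] {N : Subgroup G} [N.Normal]

/-- the interchanging element of a sharply doubly transitive normal subgroup -/
theorem sharp_normal_swap (hfix : ∀ (n : N) (x y : X), x ≠ y → n • x = x → n • y = y → n = 1)
    (hN2 : IsMultiplyPretransitive N X 2) {a b : X} (hab : a ≠ b) :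
    ∃ t : N, t • a = b ∧ t • b = a ∧ (∀ x : X, t • (t • x) = x) ∧
      ∀ g : G, g • a = a → g • b = b → ∀ x : X, g • (t • x) = t • (g • x) := by
  obtain ⟨t, ta, tb⟩ := is_two_pretransitive_iff.1 hN2 hab hab.symm
  have ht : t * t = 1 := hfix _ a b hab (by rw [mul_smul, ta, tb]) (by rw [mul_smul, tb, ta])
  refine ⟨t, ta, tb, fun x => by rw [← mul_smul, ht, one_smul], fun g ga gb x => ?_⟩
  let s : N := ⟨g * t * g⁻¹, Subgroup.Normal.conj_mem inferInstance _ t.2 g⟩
  have ta' : (t : G) • a = b := ta
  have tb' : (t : G) • b = a := tb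
  have hs : t⁻¹ * s = 1 := by
    apply hfix _ a b hab
    · rw [mul_smul, inv_smul_eq_iff, ta]
      show (g * t * g⁻¹) • a = b
      rw [mul_smul, mul_smul, inv_smul_eq_iff.2 ga.symm, ta', gb]
    · rw [mul_smul, inv_smul_eq_iff, tb]
      show (g * t * g⁻¹) • b = a
      rw [mul_smul, mul_smul, inv_smul_eq_iff.2 gb.symm, tb', ga]
  have h2 : g * t * g⁻¹ = t := congrArg Subtype.val (inv_mul_eq_one.1 hs).symm
  show g • ((t : G) • x) = (t : G) • (g • x)
  conv_rhs => rw [← h2]
  rw [mul_smul, mul_smul, inv_smul_smul]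

/-- the interchanging element has no fixed point, the group being triply transitive -/
theorem sharp_normal_swap_fpf (h3 : IsMultiplyPretransitive G X 3)
    (hfix : ∀ (n : N) (x y : X), x ≠ y → n • x = x → n • y = y → n = 1) (hX : 4 ≤ Fintype.card X)
    {a b : X} (hab : a ≠ b) {t : N} (ta : t • a = b) (tb : t • b = a)
    (tc : ∀ g : G, g • a = a → g • b = b → ∀ x : X, g • (t • x) = t • (g • x)) (c : X) : t • c ≠ c := by
  classical
  intro hc
  have hca : c ≠ a := fun h => hab (by rw [← h] at ta ⊢; rw [← ta, hc])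
  have hcb : c ≠ b := fun h => hab (by rw [← h] at tb ⊢; rw [← tb, hc])
  obtain ⟨d, hd⟩ : ∃ d, d ∉ ({a, b, c} : Finset X) := by
    by_contra hcon
    push_neg at hcon
    have := Finset.card_le_card (show Finset.univ ⊆ _ from fun x _ => hcon x)
    have := Finset.card_le_three (a := a) (b := b) (c := c)
    rw [Finset.card_univ] at *
    omega
  simp only [Finset.mem_insert, Finset.mem_singleton, not_or] at hd
  obtain ⟨g, hg⟩ := exists_smul_tuple h3 (x := ![a, b, c]) (y := ![a, b, d])
    (injective_three hab hca.symm hcb.symm)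
    (injective_three hab (Ne.symm hd.1) (Ne.symm hd.2.1))
  have hd' : t • d = d := by
    have h2 : g • c = d := hg 2
    rw [← h2, ← tc g (hg 0) (hg 1) c, hc]
  have := hfix t c d (fun h => hd.2.2 h.symm) hc hd'
  rw [this, one_smul] at ta
  exact hab ta

end Sharp

end CfsgLib.Perm.Groups
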