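import Mathlib
import Cfsg.Agent.Lib.Perm.Groups.RegularNormal

/-!
# Jordan's theorem on normal subgroups of multiply transitive groups
-/

set_option autoImplicit false

namespace CfsgLib.Perm.Groups

open MulAction
open scoped Pointwise

universe u v

variable {G : Type u} {X : Type v} [Group G] [MulAction G X]

theorem faithful_ofStabilizer [FaithfulSMul G X] (a : X) :
    FaithfulSMul (stabilizer G a) (SubMulAction.ofStabilizer G a) :=
  ⟨fun {g h} hgh => Subtype.ext (eq_of_smul_eq_smul fun x => by
    by_cases hx : x = a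
    · rw [hx]
      exact g.2.trans h.2.symm
    · exact congrArg Subtype.val (hgh ⟨x, (SubMulAction.mem_ofStabilizer_iff G a).2 hx⟩))⟩

theorem pretransitive_normal [FaithfulSMul G X] [IsPreprimitive G X] (N : Subgroup G) [N.Normal] (hN : N ≠ ⊥) :
    IsPretransitive N X := by
  refine IsQuasiPreprimitive.isPretransitive_of_normal (G := G) fun h => hN ?_
  rw [Subgroup.eq_bot_iff_forall]
  intro n hn
  refine eq_of_smul_eq_smul (α := X) fun x => ?_
  rw [one_smul]
  have hx : x ∈ fixedPoints N X := by rw [h]; exact Set.mem_univ x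
  exact hx ⟨n, hn⟩

theorem stabilizer_subgroupOf_eq_bot_iff (N : Subgroup G) (a : X) :
    N.subgroupOf (stabilizer G a) = ⊥ ↔ stabilizer N a = ⊥ := by
  constructor
  · intro h
    rw [Subgroup.eq_bot_iff_forall] at h ⊢
    intro n hn
    have := h ⟨n, hn⟩ (by exact n.2)
    exact Subtype.ext (congrArg Subtype.val this : ((n : G) = 1))
  · intro h
    rw [Subgroup.eq_bot_iff_forall] at h ⊢
    intro n hn
    have := h ⟨n, hn⟩ n.2
    exact Subtype.ext (congrArg Subtype.val this : ((n : G) = 1))

/-- a transitive subgroup whose point stabilizer is `k`-transitive on the rest is `k+1`-transitive -/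
theorem pretransitive_succ_of_sub {N : Subgroup G} (ht : IsPretransitive N X) {a : X} {k : ℕ}
    (h : IsMultiplyPretransitive (N.subgroupOf (stabilizer G a)) (SubMulAction.ofStabilizer G a) k) :
    IsMultiplyPretransitive N X (k + 1) := by
  rw [isMultiplyPretransitive_iff]
  intro x y
  obtain ⟨n₀, hn₀⟩ := ht.exists_smul_eq (x 0) a
  obtain ⟨n₁, hn₁⟩ := ht.exists_smul_eq (y 0) a
  obtain ⟨s, hs⟩ := exists_smul_tuple h
    (x := fun i : Fin k => ⟨n₀ • x i.succ, (SubMulAction.mem_ofStabilizer_iff G a).2 fun hh =>
      Fin.succ_ne_zero i (x.injective (MulAction.injective n₀ (hh.trans hn₀.symm)))⟩)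
    (y := fun i : Fin k => ⟨n₁ • y i.succ, (SubMulAction.mem_ofStabilizer_iff G a).2 fun hh =>
      Fin.succ_ne_zero i (y.injective (MulAction.injective n₁ (hh.trans hn₁.symm)))⟩)
    (fun i j hh => Fin.succ_injective _ (x.injective (MulAction.injective n₀ (congrArg Subtype.val hh))))
    (fun i j hh => Fin.succ_injective _ (y.injective (MulAction.injective n₁ (congrArg Subtype.val hh))))
  let t : N := ⟨((s : stabilizer G a) : G), s.2⟩
  refine ⟨n₁⁻¹ * t * n₀, ?_⟩
  ext i
  show (n₁⁻¹ * t * n₀) • x i = y i
  rw [mul_smul, mul_smul, inv_smul_eq_iff]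
  refine Fin.cases ?_ (fun j => ?_) i
  · rw [hn₀, hn₁]
    exact (s : stabilizer G a).2
  · exact congrArg Subtype.val (hs j)

theorem two_of_succ_succ [Finite X] {k : ℕ} (hk : k + 2 ≤ Nat.card X) (h : IsMultiplyPretransitive G X (k + 2))
    {j : ℕ} (hj : j ≤ k + 2) : IsMultiplyPretransitive G X j := by
  haveI := h
  exact isMultiplyPretransitive_of_le (n := k + 2) hj hk

theorem hfix_of_semiregular {N : Subgroup G} (ht : IsPretransitive N X) {a : X}
    (h : ∀ b : SubMulAction.ofStabilizer G a, stabilizer (N.subgroupOf (stabilizer G a)) b = ⊥)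
    (n : N) (x y : X) (hxy : x ≠ y) (hx : n • x = x) (hy : n • y = y) : n = 1 := by
  obtain ⟨m, hm⟩ := ht.exists_smul_eq x a
  have hma : m⁻¹ • a = x := by rw [inv_smul_eq_iff, hm]
  let s : stabilizer G a := ⟨((m * n * m⁻¹ : N) : G), show (m * n * m⁻¹) • a = a by rw [mul_smul, mul_smul, hma, hx, hm]⟩
  let b : SubMulAction.ofStabilizer G a := ⟨m • y, (SubMulAction.mem_ofStabilizer_iff G a).2 fun hh =>
    hxy (MulAction.injective m (hm.trans hh.symm))⟩
  have hs : (⟨s, (m * n * m⁻¹).2⟩ : N.subgroupOf (stabilizer G a)) ∈
      stabilizer (N.subgroupOf (stabilizer G a)) b := by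
    rw [mem_stabilizer_iff]
    apply Subtype.ext
    show (m * n * m⁻¹) • (m • y) = m • y
    rw [mul_smul, mul_smul, inv_smul_smul, hy]
  rw [h b, Subgroup.mem_bot] at hs
  have h1 : m * n * m⁻¹ = 1 := Subtype.ext (congrArg (fun z : N.subgroupOf (stabilizer G a) => ((z : stabilizer G a) : G)) hs)
  simpa using h1

theorem full_of_stabilizer [IsPretransitive G X] (a : X)
    (h : ∀ σ : Equiv.Perm (SubMulAction.ofStabilizer G a), ∃ g : stabilizer G a, ∀ x, g • x = σ x)
    (σ : Equiv.Perm X) : ∃ g : G, ∀ x, g • x = σ x := by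
  obtain ⟨g₀, hg₀⟩ := exists_smul_eq G a (σ a)
  let τ : Equiv.Perm X := σ.trans (MulAction.toPerm g₀⁻¹)
  have hτ : τ a = a := by simp [τ, ← hg₀]
  let τ' : Equiv.Perm (SubMulAction.ofStabilizer G a) :=
    Equiv.Perm.subtypePerm (p := fun x => x ∈ SubMulAction.ofStabilizer G a) τ fun x => by
      rw [SubMulAction.mem_ofStabilizer_iff, SubMulAction.mem_ofStabilizer_iff]
      exact ⟨fun hh he => hh (by rw [he, hτ]), fun hh he => hh (τ.injective (he.trans hτ.symm))⟩
  obtain ⟨g, hg⟩ := h τ'
  refine ⟨g₀ * g, fun x => ?_⟩
  by_cases hx : x = a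
  · rw [hx, mul_smul, g.2, hg₀]
  · have h1 : (g : G) • x = τ x := congrArg Subtype.val (hg ⟨x, (SubMulAction.mem_ofStabilizer_iff G a).2 hx⟩)
    rw [mul_smul, h1]
    simp [τ]

theorem full_of_card_le [Fintype X] {k : ℕ} (hk : k + 2 ≤ Fintype.card X) (hn : Fintype.card X ≤ k + 3)
    (h : IsMultiplyPretransitive G X (k + 2)) (σ : Equiv.Perm X) : ∃ g : G, ∀ x, g • x = σ x := by
  classical
  obtain ⟨j, hj⟩ : ∃ j, j + 1 = Fintype.card X := ⟨Fintype.card X - 1, by omega⟩
  have hjt : IsMultiplyPretransitive G X j := two_of_succ_succ (by rw [Nat.card_eq_fintype_card]; omega) h (by omega)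
  obtain ⟨a⟩ : Nonempty X := Fintype.card_pos_iff.1 (by omega)
  let e : Fin j ≃ {x : X // x ≠ a} := (Fintype.equivFinOfCardEq (by
    rw [Fintype.card_subtype_compl, Fintype.card_subtype_eq]; omega)).symm
  obtain ⟨g, hg⟩ := exists_smul_tuple hjt (x := fun i => (e i : X)) (y := fun i => σ (e i))
    (Subtype.val_injective.comp e.injective) (σ.injective.comp (Subtype.val_injective.comp e.injective))
  have hall : ∀ x, x ≠ a → g • x = σ x := fun x hx => by simpa using hg (e.symm ⟨x, hx⟩)
  refine ⟨g, fun x => ?_⟩
  by_cases hx : x = a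
  · subst hx
    by_contra hne
    obtain ⟨y, hy⟩ := σ.surjective (g • x)
    have hyx : y ≠ x := fun hh => hne (by rw [← hy, hh])
    exact hyx (MulAction.injective g (show g • y = g • x by rw [hall y hyx, hy]))
  · exact hall x hx

/-- Jordan: normal subgroups of multiply transitive groups -/
theorem jordan_normal : ∀ (k : ℕ) (G : Type u) (X : Type v) [Group G] [MulAction G X] [FaithfulSMul G X] [Fintype X],
    IsMultiplyPretransitive G X (k + 2) → k + 2 < Fintype.card X → ∀ N : Subgroup G, N.Normal → N ≠ ⊥ →
      IsMultiplyPretransitive N X (k + 1) ∨ (k = 1 ∧ (∀ n : N, n ^ 2 = 1) ∧ ∀ x : X, stabilizer N x = ⊥) := by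
  intro k
  induction k with
  | zero =>
    intro G X _ _ _ _ hG _ N hNn hN
    haveI := hNn
    haveI : IsMultiplyPretransitive G X 2 := hG
    haveI := MulAction.isPreprimitive_of_is_two_pretransitive (G := G) (α := X) hG
    exact Or.inl (is_one_pretransitive_iff.2 (pretransitive_normal N hN))
  | succ k ih =>
    intro G X _ _ _ _ hG hdeg N hNn hN
    classical
    haveI := hNn
    have hcard : k + 1 + 2 ≤ Nat.card X := by rw [Nat.card_eq_fintype_card]; omega
    have h2 : IsMultiplyPretransitive G X 2 := two_of_succ_succ hcard hG (by omega)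
    haveI := MulAction.isPreprimitive_of_is_two_pretransitive (G := G) (α := X) h2
    have ht := pretransitive_normal (X := X) N hN
    obtain ⟨a⟩ : Nonempty X := Fintype.card_pos_iff.1 (by omega)
    by_cases hsa : stabilizer N a = ⊥
    · -- regular
      have hreg : ∀ x : X, stabilizer N x = ⊥ := fun x => by
        rw [Subgroup.eq_bot_iff_forall]
        intro n hn
        obtain ⟨m, hm⟩ := ht.exists_smul_eq x a
        have h1 : m * n * m⁻¹ ∈ stabilizer N a := by
          rw [mem_stabilizer_iff, mul_smul, mul_smul, inv_smul_eq_iff.2 hm.symm, hn, hm]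
        rw [hsa, Subgroup.mem_bot] at h1
        simpa using h1
      rcases Nat.eq_zero_or_pos k with rfl | hk
      · exact Or.inr ⟨rfl, fun n => regular_sq_eq_one hG ht hreg (by omega) n, hreg⟩
      · exact (regular_four_false (two_of_succ_succ hcard hG (by omega)) ht hreg (by omega)).elim
    · haveI := faithful_ofStabilizer (G := G) a
      haveI : Fintype (SubMulAction.ofStabilizer G a) := Fintype.ofFinite _
      have hG' : IsMultiplyPretransitive (stabilizer G a) (SubMulAction.ofStabilizer G a) (k + 2) :=
        SubMulAction.ofStabilizer.isMultiplyPretransitive.1 hG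
      have hcard' : Fintype.card (SubMulAction.ofStabilizer G a) = Fintype.card X - 1 := by
        rw [← Nat.card_eq_fintype_card, SubMulAction.nat_card_ofStabilizer_eq, Nat.card_eq_fintype_card]
      have hN' : N.subgroupOf (stabilizer G a) ≠ ⊥ := fun h => hsa ((stabilizer_subgroupOf_eq_bot_iff N a).1 h)
      rcases ih (stabilizer G a) (SubMulAction.ofStabilizer G a) hG' (by omega) (N.subgroupOf (stabilizer G a))
        inferInstance hN' with h | ⟨rfl, _, hreg'⟩
      · exact Or.inl (pretransitive_succ_of_sub ht h)
      · -- the exception does not propagate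
        exfalso
        have hfix := hfix_of_semiregular ht hreg'
        haveI : IsPreprimitive (stabilizer G a) (SubMulAction.ofStabilizer G a) :=
          MulAction.isPreprimitive_of_is_two_pretransitive
            (two_of_succ_succ (by rw [Nat.card_eq_fintype_card]; omega) hG' (by omega))
        have hN2 : IsMultiplyPretransitive N X 2 :=
          pretransitive_succ_of_sub ht (is_one_pretransitive_iff.2 (pretransitive_normal _ hN'))
        obtain ⟨b, hb⟩ := Fintype.exists_ne_of_one_lt_card (by omega) a
        obtain ⟨t, ta, tb, _, tc⟩ := sharp_normal_swap hfix hN2 hb.symm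
        have h3 : IsMultiplyPretransitive G X 3 := two_of_succ_succ hcard hG (by omega)
        obtain ⟨c, hc⟩ : ∃ c, c ∉ ({a, b} : Finset X) := by
          by_contra hcon
          push_neg at hcon
          have := Finset.card_le_card (show Finset.univ ⊆ _ from fun x _ => hcon x)
          have := Finset.card_le_two (a := a) (b := b)
          rw [Finset.card_univ] at *
          omega
        simp only [Finset.mem_insert, Finset.mem_singleton, not_or] at hc
        have hdc : t • c ≠ c := sharp_normal_swap_fpf h3 hfix (by omega) hb.symm ta tb tc c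
        have hda : t • c ≠ a := fun h => hc.2 (MulAction.injective t (h.trans tb.symm))
        have hdb : t • c ≠ b := fun h => hc.1 (MulAction.injective t (h.trans ta.symm))
        obtain ⟨e, he⟩ : ∃ e, e ∉ ({a, b, c, t • c} : Finset X) := by
          by_contra hcon
          push_neg at hcon
          have := Finset.card_le_card (show Finset.univ ⊆ _ from fun x _ => hcon x)
          have := Finset.card_le_four (a := a) (b := b) (c := c) (d := t • c)
          rw [Finset.card_univ] at *
          omega
        simp only [Finset.mem_insert, Finset.mem_singleton, not_or] at he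
        obtain ⟨g, hg⟩ := exists_smul_tuple (two_of_succ_succ (j := 4) hcard hG (by omega))
          (x := ![a, b, c, t • c]) (y := ![a, b, c, e])
          (injective_four hb.symm (Ne.symm hc.1) hda.symm (Ne.symm hc.2) hdb.symm hdc.symm)
          (injective_four hb.symm (Ne.symm hc.1) (Ne.symm he.1) (Ne.symm hc.2) (Ne.symm he.2.1) (Ne.symm he.2.2.1))
        have h4 : g • (t • c) = e := hg 3
        rw [tc g (hg 0) (hg 1), show g • c = c from hg 2] at h4
        exact he.2.2.2 h4.symm

/-- non-regular normal subgroups of multiply primitive groups -/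
theorem primitive_normal : ∀ (k : ℕ) (G : Type u) (X : Type v) [Group G] [MulAction G X] [FaithfulSMul G X] [Fintype X],
    IsMultiplyPreprimitive G X (k + 1) → k + 1 ≤ Fintype.card X →
    (¬ ∀ σ : Equiv.Perm X, ∃ g : G, ∀ x, g • x = σ x) → ∀ N : Subgroup G, N.Normal →
    (∃ a : X, stabilizer N a ≠ ⊥) → IsMultiplyPretransitive N X (k + 1) := by
  intro k
  induction k with
  | zero =>
    rintro G X _ _ _ _ hG _ _ N hNn ⟨a, ha⟩
    haveI := hNn
    haveI := (is_one_preprimitive_iff G X).1 hG
    refine is_one_pretransitive_iff.2 (pretransitive_normal N ?_)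
    rintro rfl
    exact ha (Subsingleton.elim _ _)
  | succ k ih =>
    rintro G X _ _ _ _ hG hdeg hnf N hNn ⟨a, ha⟩
    classical
    haveI := hNn
    haveI : IsMultiplyPreprimitive G X (k + 1).succ := hG
    have hGt : IsMultiplyPretransitive G X (k + 2) := hG.isMultiplyPretransitive
    have hcard : k + 2 ≤ Nat.card X := by rw [Nat.card_eq_fintype_card]; omega
    have h2 : IsMultiplyPretransitive G X 2 := two_of_succ_succ hcard hGt (by omega)
    haveI := MulAction.isPreprimitive_of_is_two_pretransitive (G := G) (α := X) h2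
    have hN : N ≠ ⊥ := by
      rintro rfl
      exact ha (Subsingleton.elim _ _)
    have ht := pretransitive_normal (X := X) N hN
    haveI := faithful_ofStabilizer (G := G) a
    haveI : Fintype (SubMulAction.ofStabilizer G a) := Fintype.ofFinite _
    have hG' : IsMultiplyPreprimitive (stabilizer G a) (SubMulAction.ofStabilizer G a) (k + 1) :=
      isMultiplyPreprimitive_ofStabilizer (M := G) (n := k + 1) (a := a)
    have hcard' : Fintype.card (SubMulAction.ofStabilizer G a) = Fintype.card X - 1 := by
      rw [← Nat.card_eq_fintype_card, SubMulAction.nat_card_ofStabilizer_eq, Nat.card_eq_fintype_card]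
    have hN' : N.subgroupOf (stabilizer G a) ≠ ⊥ := fun h => ha ((stabilizer_subgroupOf_eq_bot_iff N a).1 h)
    by_cases hsr : ∃ b : SubMulAction.ofStabilizer G a, stabilizer (N.subgroupOf (stabilizer G a)) b ≠ ⊥
    · exact pretransitive_succ_of_sub ht (ih (stabilizer G a) (SubMulAction.ofStabilizer G a) hG' (by omega)
        (fun hf => hnf (full_of_stabilizer a hf)) (N.subgroupOf (stabilizer G a)) inferInstance hsr)
    · push_neg at hsr
      rcases Nat.eq_zero_or_pos k with rfl | hk
      · haveI := (is_one_preprimitive_iff _ _).1 hG'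
        exact pretransitive_succ_of_sub ht (is_one_pretransitive_iff.2 (pretransitive_normal _ hN'))
      exfalso
      by_cases hn : Fintype.card X ≤ 4
      · exact hnf (full_of_card_le (by omega) (by omega) hGt)
      have hfix := hfix_of_semiregular ht hsr
      haveI : IsPreprimitive (stabilizer G a) (SubMulAction.ofStabilizer G a) :=
        MulAction.isPreprimitive_of_is_two_pretransitive (by
          obtain ⟨j, rfl⟩ : ∃ j, k = j + 1 := ⟨k - 1, by omega⟩
          exact two_of_succ_succ (by rw [Nat.card_eq_fintype_card]; omega) hG'.isMultiplyPretransitive (by omega))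
      have hN2 : IsMultiplyPretransitive N X 2 :=
        pretransitive_succ_of_sub ht (is_one_pretransitive_iff.2 (pretransitive_normal _ hN'))
      obtain ⟨b, hb⟩ := Fintype.exists_ne_of_one_lt_card (by omega) a
      obtain ⟨t, ta, tb, tt, tc⟩ := sharp_normal_swap hfix hN2 hb.symm
      have hfpf := sharp_normal_swap_fpf (two_of_succ_succ hcard hGt (by omega)) hfix (by omega) hb.symm ta tb tc
      have hne : ({a, b} : Set X).ncard = 2 := Set.ncard_pair hb.symm
      haveI hprim : IsPreprimitive (fixingSubgroup G ({a, b} : Set X)) (SubMulAction.ofFixingSubgroup G ({a, b} : Set X)) := by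
        rcases Nat.lt_or_ge k 2 with h1 | h1
        · refine IsMultiplyPreprimitive.isPreprimitive_ofFixingSubgroup (α := X) G (k + 1).succ ?_
          rw [Set.encard_pair hb.symm, show (k + 1).succ = 3 by omega]
          norm_num
        · haveI : IsMultiplyPretransitive G X 4 := two_of_succ_succ hcard hGt (by omega)
          exact MulAction.isPreprimitive_of_is_two_pretransitive
            (SubMulAction.ofFixingSubgroup.isMultiplyPretransitive G ({a, b} : Set X) (by rw [hne]))
      obtain ⟨c, hc⟩ : ∃ c, c ∉ ({a, b} : Finset X) := by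
        by_contra hcon
        push_neg at hcon
        have := Finset.card_le_card (show Finset.univ ⊆ _ from fun x _ => hcon x)
        have := Finset.card_le_two (a := a) (b := b)
        rw [Finset.card_univ] at *
        omega
      simp only [Finset.mem_insert, Finset.mem_singleton, not_or] at hc
      have hmem : ∀ x : X, x ∈ SubMulAction.ofFixingSubgroup G ({a, b} : Set X) ↔ x ≠ a ∧ x ≠ b := fun x => by
        rw [SubMulAction.mem_ofFixingSubgroup_iff]; simp
      have hmap : ∀ x : X, x ≠ a ∧ x ≠ b → t • x ≠ a ∧ t • x ≠ b := fun x hx =>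
        ⟨fun h => hx.2 (MulAction.injective t (h.trans tb.symm)), fun h => hx.1 (MulAction.injective t (h.trans ta.symm))⟩
      have hall := eq_or_eq_of_commuting_invol (M := fixingSubgroup G ({a, b} : Set X))
        (f := fun x : SubMulAction.ofFixingSubgroup G ({a, b} : Set X) =>
          ⟨t • (x : X), (hmem _).2 (hmap _ ((hmem _).1 x.2))⟩)
        (fun x => Subtype.ext (tt x))
        (fun g x => Subtype.ext (tc g ((mem_fixingSubgroup_iff G).1 g.2 a (by simp))
          ((mem_fixingSubgroup_iff G).1 g.2 b (by simp)) x))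
        (x := ⟨c, (hmem c).2 hc⟩) (fun h => hfpf c (congrArg Subtype.val h))
      obtain ⟨e, he⟩ : ∃ e, e ∉ ({a, b, c, t • c} : Finset X) := by
        by_contra hcon
        push_neg at hcon
        have := Finset.card_le_card (show Finset.univ ⊆ _ from fun x _ => hcon x)
        have := Finset.card_le_four (a := a) (b := b) (c := c) (d := t • c)
        rw [Finset.card_univ] at *
        omega
      simp only [Finset.mem_insert, Finset.mem_singleton, not_or] at he
      rcases hall ⟨e, (hmem e).2 ⟨he.1, he.2.1⟩⟩ with h | h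
      · exact he.2.2.1 (congrArg Subtype.val h)
      · exact he.2.2.2 (congrArg Subtype.val h)

end CfsgLib.Perm.Groups
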