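import Mathlib
import Cfsg.Prelude.Def_Solvable
import Cfsg.Agent.Lib.Coprime.Frobenius
import Cfsg.Agent.Lib.Perm.Groups.RegularNormal
import Cfsg.Agent.Lib.Perm.Groups.JordanNormal

/-!
# Burnside's theorem on minimal normal subgroups of doubly transitive groups
-/

set_option autoImplicit false
set_option linter.unusedSectionVars false

namespace CfsgLib.Perm.Groups

open MulAction Pointwise

variable {G X : Type*} [Group G] [Finite G] [MulAction G X] [FaithfulSMul G X] [Fintype X]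

/-- An imprimitive normal transitive subgroup fixes no two points. -/
theorem eq_one_of_fix_two (h2 : IsMultiplyPretransitive G X 2) {N : Subgroup G} [N.Normal]
    {B₀ : Set X} (hB : IsBlock N B₀) (hB2 : ¬ B₀.Subsingleton) (hBu : B₀ ≠ Set.univ)
    {n : N} {x y : X} (hxy : x ≠ y) (hx : n • x = x) (hy : n • y = y) : n = 1 := by
  classical
  obtain ⟨B, ⟨hBb, hB1, hB3⟩, hmin⟩ := Set.Finite.exists_minimalFor Set.ncard
    {C : Set X | IsBlock N C ∧ ¬ C.Subsingleton ∧ C ≠ Set.univ} (Set.toFinite _) ⟨B₀, hB, hB2, hBu⟩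
  have hblock : ∀ g : G, IsBlock N (g • B) := by
    intro g
    refine isBlock_iff_smul_eq_or_disjoint.2 fun m => ?_
    have hm : g⁻¹ * (m : G) * g ∈ N := by
      simpa using Subgroup.Normal.conj_mem inferInstance (m : G) m.2 g⁻¹
    have he : m • (g • B) = g • ((⟨_, hm⟩ : N) • B) := by
      show (m : G) • g • B = g • (g⁻¹ * (m : G) * g) • B
      rw [smul_smul, smul_smul, ← mul_assoc, ← mul_assoc, mul_inv_cancel, one_mul]
    rcases isBlock_iff_smul_eq_or_disjoint.1 hBb (⟨_, hm⟩ : N) with h | h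
    · exact Or.inl (by rw [he, h])
    · exact Or.inr (by rw [he]; exact Set.disjoint_image_of_injective (MulAction.injective g) h)
  have hcardg : ∀ g : G, (g • B).ncard = B.ncard := fun g => by
    rw [← Set.image_smul]; exact Set.ncard_image_of_injective _ (MulAction.injective g)
  have hne : ∀ g : G, g • B ≠ Set.univ := fun g h => hB3 (by
    have h1 := congrArg (g⁻¹ • ·) h
    simpa using h1)
  -- two lines with two common points coincide
  have huniq : ∀ (g g' : G) (u v : X), u ≠ v → u ∈ g • B → v ∈ g • B → u ∈ g' • B → v ∈ g' • B →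
      g • B = g' • B := by
    intro g g' u v huv h1 h2' h3 h4
    have hI : (g • B ∩ g' • B) ∈ {C : Set X | IsBlock N C ∧ ¬ C.Subsingleton ∧ C ≠ Set.univ} :=
      ⟨(hblock g).inter (hblock g'), fun h => huv (h ⟨h1, h3⟩ ⟨h2', h4⟩),
        fun h => hne g (Set.univ_subset_iff.1 (h.symm.subset.trans Set.inter_subset_left))⟩
    have hle : B.ncard ≤ (g • B ∩ g' • B).ncard := by
      rcases le_total B.ncard (g • B ∩ g' • B).ncard with h | h
      · exact h
      · exact hmin hI h
    have e1 := Set.eq_of_subset_of_ncard_le Set.inter_subset_left ((hcardg g).le.trans hle)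
    have e2 := Set.eq_of_subset_of_ncard_le Set.inter_subset_right ((hcardg g').le.trans hle)
    exact e1.symm.trans e2
  have hline : ∀ u v : X, u ≠ v → ∃ g : G, u ∈ g • B ∧ v ∈ g • B := by
    intro u v huv
    obtain ⟨u', hu', v', hv', hne'⟩ := Set.not_subsingleton_iff.1 hB1
    obtain ⟨g, h1, h2'⟩ := is_two_pretransitive_iff.1 h2 hne' huv
    exact ⟨g, h1 ▸ Set.smul_mem_smul_set hu', h2' ▸ Set.smul_mem_smul_set hv'⟩
  have hfixline : ∀ (g : G) (u : X), u ∈ g • B → n • u = u → n • (g • B) = g • B := by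
    intro g u hu hnu
    rcases isBlock_iff_smul_eq_or_disjoint.1 (hblock g) n with h | h
    · exact h
    · exact absurd hu (Set.disjoint_left.1 h (hnu ▸ Set.smul_mem_smul_set hu))
  -- points off the line of two fixed points are fixed
  have hoff : ∀ (u v c : X) (g : G), u ≠ v → n • u = u → n • v = v → u ∈ g • B → v ∈ g • B → c ∉ g • B →
      n • c = c := by
    intro u v c g huv hu hv hug hvg hc
    by_contra hnc
    have huc : u ≠ c := fun h => hc (h ▸ hug)
    have hvc : v ≠ c := fun h => hc (h ▸ hvg)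
    obtain ⟨g₁, h1u, h1c⟩ := hline u c huc
    obtain ⟨g₂, h2v, h2c⟩ := hline v c hvc
    have h1c' : n • c ∈ g₁ • B := hfixline g₁ u h1u hu ▸ Set.smul_mem_smul_set h1c
    have h2c' : n • c ∈ g₂ • B := hfixline g₂ v h2v hv ▸ Set.smul_mem_smul_set h2c
    have h12 := huniq g₁ g₂ c (n • c) (Ne.symm hnc) h1c h1c' h2c h2c'
    exact hc (huniq g₁ g u v huv h1u (h12 ▸ h2v) hug hvg ▸ h1c)
  obtain ⟨g, hxg, hyg⟩ := hline x y hxy
  obtain ⟨d, hd⟩ := (Set.ne_univ_iff_exists_notMem _).1 (hne g)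
  have hdfix := hoff x y d g hxy hx hy hxg hyg hd
  refine Subtype.ext (FaithfulSMul.eq_of_smul_eq_smul (α := X) fun c => ?_)
  show (n : G) • c = (1 : G) • c
  rw [one_smul]
  by_cases hc : c ∈ g • B
  · rcases eq_or_ne c x with rfl | hcx
    · exact hx
    obtain ⟨g', hxg', hdg'⟩ := hline x d fun h => hd (h ▸ hxg)
    refine hoff x d c g' (fun h => hd (h ▸ hxg)) hx hdfix hxg' hdg' fun hc' => hd ?_
    exact huniq g' g x c (Ne.symm hcx) hxg' hc' hxg hc ▸ hdg'
  · exact hoff x y c g hxy hx hy hxg hyg hc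

/-- A non-regular minimal normal subgroup of a doubly transitive group is primitive. -/
theorem isPreprimitive_minimal (h2 : IsMultiplyPretransitive G X 2) (N : Subgroup G) [N.Normal]
    (hmin : ∀ M : Subgroup G, M.Normal → M ≤ N → M = ⊥ ∨ M = N) (htr : IsPretransitive N X)
    {a : X} (hnr : stabilizer N a ≠ ⊥) : IsPreprimitive N X := by
  classical
  haveI := htr
  refine ⟨fun {B} hB => ?_⟩
  by_contra hcon
  rw [IsTrivialBlock, not_or] at hcon
  have hfix := fun (n : N) (x y : X) (hxy : x ≠ y) (hx : n • x = x) (hy : n • y = y) =>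
    eq_one_of_fix_two h2 hB hcon.1 hcon.2 hxy hx hy
  have hn2 : 1 < Nat.card X := by
    rw [Finite.one_lt_card_iff_nontrivial]
    obtain ⟨u, -, v, -, huv⟩ := Set.not_subsingleton_iff.1 hcon.1
    exact ⟨⟨u, v, huv⟩⟩
  have hconj : ∀ (g x : N), x ∈ MulAut.conj g • stabilizer N a ↔ x • (g • a) = g • a := by
    intro g x
    rw [Subgroup.mem_pointwise_smul_iff_inv_smul_mem, mem_stabilizer_iff, MulAut.smul_def, ← map_inv,
      MulAut.conj_apply, inv_inv, mul_smul, mul_smul, inv_smul_eq_iff]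
  have hfc : Cfsg.IsFrobeniusComplement (stabilizer N a) := by
    refine ⟨hnr, fun h => ?_, fun g hg => (Subgroup.eq_bot_iff_forall _).2 fun x hx => ?_⟩
    · haveI := Finite.one_lt_card_iff_nontrivial.1 hn2
      obtain ⟨b, hb⟩ := exists_ne a
      obtain ⟨m, hm⟩ := htr.exists_smul_eq a b
      exact hb (hm ▸ (h ▸ Subgroup.mem_top m : m ∈ stabilizer N a))
    · rw [Subgroup.mem_inf, hconj] at hx
      exact hfix x (g • a) a (fun h => hg h) hx.2 hx.1
  obtain ⟨K, hKset, hKn, hKc⟩ := CfsgLib.Coprime.frob_kernel_subgroup hfc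
  have hKmem : ∀ x : N, x ∈ K ↔ x = 1 ∨ ∀ b : X, x • b ≠ b := by
    intro x
    rw [← SetLike.mem_coe, hKset]
    refine or_congr_right ⟨fun h b hb => ?_, fun h g hg => h _ ((hconj g x).1 hg)⟩
    obtain ⟨g, rfl⟩ := htr.exists_smul_eq a b
    exact h g ((hconj g x).2 hb)
  have hKnorm : (K.map N.subtype).Normal := by
    refine ⟨?_⟩
    rintro _ ⟨x, hx, rfl⟩ g
    refine ⟨⟨g * (x : G) * g⁻¹, Subgroup.Normal.conj_mem inferInstance _ x.2 g⟩, (hKmem _).2 ?_, rfl⟩
    rcases (hKmem x).1 hx with rfl | h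
    · exact Or.inl (Subtype.ext (by simp))
    · refine Or.inr fun b hb => h (g⁻¹ • b) ?_
      have h1 : (g * (x : G) * g⁻¹) • b = b := hb
      rw [mul_smul, mul_smul, smul_eq_iff_eq_inv_smul] at h1
      exact h1
  rcases hmin _ hKnorm (Subgroup.map_subtype_le _) with h | h
  · rw [Subgroup.map_eq_bot_iff_of_injective _ N.subtype_injective] at h
    have h1 := hKc.card_mul
    rw [h, Subgroup.card_bot, one_mul] at h1
    exact hfc.2.1 (Subgroup.eq_top_of_card_eq _ h1)
  · have h1 : K = ⊤ := Subgroup.map_injective N.subtype_injective (by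
      rw [h, ← MonoidHom.range_eq_map, Subgroup.range_subtype])
    exact hnr (by simpa [h1] using hKc.disjoint.eq_bot)

/-- Commuting elements agreeing at a point of a common free action have the same order. -/
theorem orderOf_eq_of_agree {s u : G} {a : X} (hc : Commute s u) (h : s • a = u • a)
    (hs : ∀ k : ℕ, s ^ k • a = a → s ^ k = 1) (hu : ∀ k : ℕ, u ^ k • a = a → u ^ k = 1) :
    orderOf s = orderOf u := by
  have hk : ∀ k : ℕ, s ^ k • a = u ^ k • a := by
    intro k
    induction k with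
    | zero => simp
    | succ k ih =>
      rw [pow_succ s, mul_smul, h, ← mul_smul, (hc.pow_left k).eq, mul_smul, ih, ← mul_smul, ← pow_succ']
  refine Nat.dvd_antisymm (orderOf_dvd_of_pow_eq_one (hs _ ?_)) (orderOf_dvd_of_pow_eq_one (hu _ ?_))
  · rw [hk, pow_orderOf_eq_one, one_smul]
  · rw [← hk, pow_orderOf_eq_one, one_smul]

/-- A non-regular minimal normal subgroup of a doubly transitive group is simple. -/
theorem isSimpleGroup_minimal (h2 : IsMultiplyPretransitive G X 2) (N : Subgroup G) [N.Normal]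
    (hN : N ≠ ⊥) (hmin : ∀ M : Subgroup G, M.Normal → M ≤ N → M = ⊥ ∨ M = N)
    (hnab : ¬ IsMulCommutative N) (hprim : IsPreprimitive N X) : IsSimpleGroup N := by
  classical
  haveI : Nontrivial N := N.nontrivial_iff_ne_bot.2 hN
  refine ⟨fun T₀ hT₀ => ?_⟩
  by_contra hcon
  rw [not_or] at hcon
  obtain ⟨T, ⟨hTN, hT0, hTnorm⟩, hTmin⟩ := Set.Finite.exists_minimal
    (Set.toFinite {T : Subgroup G | T ≤ N ∧ T ≠ ⊥ ∧ ∀ m ∈ N, ∀ t ∈ T, m * t * m⁻¹ ∈ T})
    ⟨T₀.map N.subtype, Subgroup.map_subtype_le _,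
      fun h => hcon.1 ((Subgroup.map_eq_bot_iff_of_injective _ N.subtype_injective).1 h), by
      rintro m hm _ ⟨t, ht, rfl⟩
      exact ⟨_, hT₀.conj_mem t ht ⟨m, hm⟩, rfl⟩⟩
  have htrans : ∀ R : Subgroup G, R ≤ N → R ≠ ⊥ → (∀ m ∈ N, ∀ t ∈ R, m * t * m⁻¹ ∈ R) →
      ∀ x y : X, ∃ r ∈ R, r • x = y := by
    intro R hRN hR hRn x y
    haveI := hprim
    haveI : FaithfulSMul N X := ⟨fun {m m'} h => Subtype.ext (FaithfulSMul.eq_of_smul_eq_smul (α := X) h)⟩
    haveI : (R.subgroupOf N).Normal := ⟨fun t ht m => hRn m m.2 t ht⟩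
    obtain ⟨⟨r, hr⟩, hrx⟩ := (pretransitive_normal (G := N) (X := X) (R.subgroupOf N) (fun h => hR (by
      rw [Subgroup.subgroupOf_eq_bot] at h
      exact (inf_eq_left.2 hRN).symm.trans (disjoint_iff.1 h)))).exists_smul_eq x y
    exact ⟨r, hr, hrx⟩
  have hconjP : ∀ g : G, T.map (MulAut.conj g).toMonoidHom ≤ N ∧ T.map (MulAut.conj g).toMonoidHom ≠ ⊥ ∧
      ∀ m ∈ N, ∀ t ∈ T.map (MulAut.conj g).toMonoidHom, m * t * m⁻¹ ∈ T.map (MulAut.conj g).toMonoidHom := by
    intro g
    refine ⟨?_, fun h => hT0 ((Subgroup.map_eq_bot_iff_of_injective _ (MulAut.conj g).injective).1 h), ?_⟩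
    · rintro _ ⟨t, ht, rfl⟩
      exact Subgroup.Normal.conj_mem inferInstance t (hTN ht) g
    · rintro m hm _ ⟨t, ht, rfl⟩
      refine ⟨(g⁻¹ * m * g) * t * (g⁻¹ * m * g)⁻¹, hTnorm _ (by
        simpa using Subgroup.Normal.conj_mem inferInstance m hm g⁻¹) t ht, ?_⟩
      simp only [MulEquiv.coe_toMonoidHom, MulAut.conj_apply]
      group
  -- distinct conjugates commute
  have hcomm : ∀ g : G, T.map (MulAut.conj g).toMonoidHom ≠ T →
      ∀ t ∈ T, ∀ s ∈ T.map (MulAut.conj g).toMonoidHom, Commute t s := by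
    intro g hne t ht s hs
    obtain ⟨h1, h2', h3⟩ := hconjP g
    have hbot : T ⊓ T.map (MulAut.conj g).toMonoidHom = ⊥ := by
      by_contra hI
      have hle := hTmin (y := T ⊓ T.map (MulAut.conj g).toMonoidHom)
        ⟨inf_le_left.trans hTN, hI, fun m hm x hx => ⟨hTnorm m hm x hx.1, h3 m hm x hx.2⟩⟩ inf_le_left
      refine hne (Subgroup.eq_of_le_of_card_ge (hle.trans inf_le_right) (le_of_eq ?_)).symm
      exact Subgroup.card_map_of_injective (MulAut.conj g).injective
    have hmem : t * s * t⁻¹ * s⁻¹ ∈ T ⊓ T.map (MulAut.conj g).toMonoidHom := by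
      refine Subgroup.mem_inf.2 ⟨?_, mul_mem (h3 t (hTN ht) s hs) (inv_mem hs)⟩
      rw [show t * s * t⁻¹ * s⁻¹ = t * (s * t⁻¹ * s⁻¹) by group]
      exact mul_mem ht (hTnorm s (h1 hs) t⁻¹ (inv_mem ht))
    rw [hbot, Subgroup.mem_bot] at hmem
    show t * s = s * t
    calc t * s = (t * s * t⁻¹ * s⁻¹) * (s * t) := by group
      _ = s * t := by rw [hmem, one_mul]
  -- a second conjugate
  obtain ⟨g₀, hg₀⟩ : ∃ g : G, T.map (MulAut.conj g).toMonoidHom ≠ T := by
    by_contra hall
    push Not at hall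
    rcases hmin T ⟨fun t ht g => (hall g) ▸ ⟨t, ht, rfl⟩⟩ hTN with h | h
    · exact hT0 h
    · refine hcon.2 (eq_top_iff.2 fun m _ => ?_)
      have hsub : T ≤ T₀.map N.subtype := by
        refine inf_eq_left.1 ?_
        by_contra hI
        by_cases hb : T ⊓ T₀.map N.subtype = ⊥
        · exfalso
          -- `T = N` meets the non-trivial `T₀`
          refine hcon.1 ((Subgroup.map_eq_bot_iff_of_injective _ N.subtype_injective).1 ?_)
          rw [← inf_eq_right.2 ((Subgroup.map_subtype_le T₀).trans h.ge), hb]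
        · exact hI (le_antisymm inf_le_left (hTmin (y := T ⊓ T₀.map N.subtype)
            ⟨inf_le_left.trans hTN, hb, fun k hk x hx => ⟨hTnorm k hk x hx.1, by
              obtain ⟨t, ht, rfl⟩ := hx.2
              exact ⟨_, hT₀.conj_mem t ht ⟨k, hk⟩, rfl⟩⟩⟩ inf_le_left))
      obtain ⟨t, ht, htm⟩ := hsub (h.ge m.2)
      rwa [Subtype.ext htm] at ht
  obtain ⟨hS1, hS2, hS3⟩ := hconjP g₀
  -- both are semiregular
  have hfree : ∀ t ∈ T, ∀ x : X, t • x = x → t = 1 := by
    intro t ht x hx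
    refine FaithfulSMul.eq_of_smul_eq_smul (α := X) fun y => ?_
    obtain ⟨s, hs, rfl⟩ := htrans _ hS1 hS2 hS3 x y
    rw [one_smul, ← mul_smul, (hcomm g₀ hg₀ t ht s hs).eq, mul_smul, hx]
  have hfree' : ∀ g : G, ∀ s ∈ T.map (MulAut.conj g).toMonoidHom, ∀ x : X, s • x = x → s = 1 := by
    rintro g _ ⟨t, ht, rfl⟩ x hx
    have h1 : t = 1 := hfree t ht (g⁻¹ • x) (by
      have h2' : (g * t * g⁻¹) • x = x := hx
      rwa [mul_smul, mul_smul, smul_eq_iff_eq_inv_smul] at h2')
    rw [h1, map_one]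
  obtain ⟨t₀, ht₀, ht₀1⟩ := T.bot_or_exists_ne_one.resolve_left hT0
  obtain ⟨a⟩ : Nonempty X := by
    by_contra hX
    exact ht₀1 (FaithfulSMul.eq_of_smul_eq_smul (α := X) fun x => absurd ⟨x⟩ hX)
  -- all non-trivial elements of `T` have the same order
  have hord : ∀ t ∈ T, ∀ u ∈ T, t ≠ 1 → u ≠ 1 → orderOf t = orderOf u := by
    intro t ht u hu ht1 hu1
    obtain ⟨g, hga, hgt⟩ := is_two_pretransitive_iff.1 h2
      (show a ≠ t • a from fun h => ht1 (hfree t ht a h.symm))
      (show a ≠ u • a from fun h => hu1 (hfree u hu a h.symm))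
    have hs : (g * t * g⁻¹) ∈ T.map (MulAut.conj g).toMonoidHom := ⟨t, ht, rfl⟩
    have hagree : (g * t * g⁻¹) • a = u • a := by
      rw [mul_smul, mul_smul, inv_smul_eq_iff.2 hga.symm, hgt]
    have hot : orderOf (g * t * g⁻¹) = orderOf t :=
      orderOf_injective (MulAut.conj g).toMonoidHom (MulAut.conj g).injective t
    rw [← hot]
    by_cases hT : T.map (MulAut.conj g).toMonoidHom = T
    · have h1 : u⁻¹ * (g * t * g⁻¹) = 1 := hfree _ (mul_mem (inv_mem hu) (hT ▸ hs)) a (by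
        rw [mul_smul, hagree, inv_smul_smul])
      rw [← inv_mul_eq_one.1 h1]
    · exact orderOf_eq_of_agree (hcomm g hT u hu _ hs).symm hagree
        (fun k hk => hfree' g _ (pow_mem hs k) a hk) (fun k hk => hfree _ (pow_mem hu k) a hk)
  obtain ⟨p, hp, hdvd⟩ := Nat.exists_prime_and_dvd (show orderOf t₀ ≠ 1 from fun h => ht₀1 (orderOf_eq_one_iff.1 h))
  haveI := Fact.mk hp
  have hordp : orderOf (t₀ ^ (orderOf t₀ / p)) = p := orderOf_pow_orderOf_div (orderOf_pos t₀).ne' hdvd
  have hpT : IsPGroup p T := fun t => ⟨1, by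
    rw [pow_one]
    rcases eq_or_ne t 1 with rfl | ht
    · rw [one_pow]
    · have h1 := hord t t.2 _ (pow_mem ht₀ (orderOf t₀ / p)) (fun h => ht (Subtype.ext h)) (fun h => by
        rw [h, orderOf_one] at hordp; exact hp.one_lt.ne hordp)
      rw [hordp, Subgroup.orderOf_coe] at h1
      rw [← h1, pow_orderOf_eq_one]⟩
  haveI : Nontrivial T := T.nontrivial_iff_ne_bot.2 hT0
  haveI := hpT.center_nontrivial
  have hTab : T ≤ (Subgroup.center T).map T.subtype := hTmin (y := (Subgroup.center T).map T.subtype)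
    ⟨(Subgroup.map_subtype_le _).trans hTN, fun h => by
      rw [Subgroup.map_eq_bot_iff_of_injective _ T.subtype_injective] at h
      exact (Subgroup.nontrivial_iff_ne_bot _).1 (hpT.center_nontrivial) h, by
      rintro m hm _ ⟨z, hz, rfl⟩
      refine ⟨⟨m * (z : G) * m⁻¹, hTnorm m hm _ z.2⟩, Subgroup.mem_center_iff.2 fun w => Subtype.ext ?_, rfl⟩
      have h1 : m⁻¹ * (w : G) * m ∈ T := by simpa using hTnorm m⁻¹ (inv_mem hm) _ w.2
      have h2' := congrArg Subtype.val (Subgroup.mem_center_iff.1 hz ⟨_, h1⟩)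
      simp only [Subgroup.coe_mul] at h2' ⊢
      calc (w : G) * (m * z * m⁻¹) = m * ((m⁻¹ * w * m) * z) * m⁻¹ := by group
        _ = m * (z * (m⁻¹ * w * m)) * m⁻¹ := by rw [h2']
        _ = m * z * m⁻¹ * w := by group⟩ (Subgroup.map_subtype_le _)
  have hTcomm : ∀ g : G, ∀ t ∈ T, ∀ s ∈ T.map (MulAut.conj g).toMonoidHom, Commute t s := by
    intro g t ht s hs
    by_cases hT : T.map (MulAut.conj g).toMonoidHom = T
    · obtain ⟨z, hz, rfl⟩ := hTab ht
      exact (congrArg Subtype.val (Subgroup.mem_center_iff.1 hz ⟨s, hT ▸ hs⟩)).symm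
    · exact hcomm g hT t ht s hs
  have hNC : N ≤ Subgroup.centralizer (T : Set G) := by
    have hle : Subgroup.normalClosure (T : Set G) ≤ N := Subgroup.normalClosure_le_normal hTN
    rcases hmin _ Subgroup.normalClosure_normal hle with h | h
    · exact absurd (le_bot_iff.1 (Subgroup.le_normalClosure.trans h.le)) hT0
    · rw [← h, Subgroup.normalClosure, Subgroup.closure_le]
      intro x hx
      obtain ⟨t, ht, g, rfl⟩ := by simpa [Group.mem_conjugatesOfSet_iff, isConj_iff] using hx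
      rw [SetLike.mem_coe, Subgroup.mem_centralizer_iff]
      exact fun w hw => (hTcomm g w hw _ ⟨t, ht, rfl⟩).eq
  have hZne : (Subgroup.center N).map N.subtype ≠ ⊥ := by
    intro h
    have h1 : (⟨t₀, hTN ht₀⟩ : N) ∈ Subgroup.center N := Subgroup.mem_center_iff.2 fun m =>
      Subtype.ext (Subgroup.mem_centralizer_iff.1 (hNC m.2) t₀ ht₀).symm
    have h2' : t₀ ∈ (Subgroup.center N).map N.subtype := ⟨_, h1, rfl⟩
    rw [h, Subgroup.mem_bot] at h2'
    exact ht₀1 h2'
  refine hnab ⟨⟨fun x y => ?_⟩⟩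
  obtain ⟨z, hz, hzx⟩ := ((hmin _ inferInstance (Subgroup.map_subtype_le _)).resolve_left hZne).ge x.2
  obtain rfl : z = x := Subtype.ext hzx
  exact (Subgroup.mem_center_iff.1 hz y).symm

/-- Burnside's theorem. -/
theorem burnside_minimal_normal (h2 : IsMultiplyPretransitive G X 2) (N : Subgroup G) [N.Normal]
    (hN : N ≠ ⊥) (hmin : ∀ M : Subgroup G, M.Normal → M ≤ N → M = ⊥ ∨ M = N) :
    (IsMulCommutative N ∧ (∃ p : ℕ, p.Prime ∧ ∀ n ∈ N, n ^ p = 1) ∧ ∀ a : X, stabilizer N a = ⊥) ∨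
      (IsSimpleGroup N ∧ IsPreprimitive N X) := by
  classical
  haveI := h2
  have hX : 2 ≤ Nat.card X := by
    by_contra hlt
    obtain ⟨n, hn, hn1⟩ := N.bot_or_exists_ne_one.resolve_left hN
    haveI : Subsingleton X := Finite.card_le_one_iff_subsingleton.1 (by omega)
    exact hn1 (FaithfulSMul.eq_of_smul_eq_smul (α := X) fun x => Subsingleton.elim _ _)
  haveI : IsPreprimitive G X := isPreprimitive_of_is_two_pretransitive h2
  have htr : IsPretransitive N X := pretransitive_normal N hN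
  by_cases hreg : ∀ a : X, stabilizer N a = ⊥
  · obtain ⟨p, hp, hord, hpN, -⟩ := regular_prime_order h2 htr hreg hX
    haveI := Fact.mk hp
    haveI : Nontrivial N := N.nontrivial_iff_ne_bot.2 hN
    refine Or.inl ⟨⟨⟨fun x y => ?_⟩⟩, ⟨p, hp, fun n hn => ?_⟩, hreg⟩
    · haveI := hpN.center_nontrivial
      have hne : (Subgroup.center N).map N.subtype ≠ ⊥ := fun h =>
        (Subgroup.nontrivial_iff_ne_bot _).1 hpN.center_nontrivial
          ((Subgroup.map_eq_bot_iff_of_injective _ N.subtype_injective).1 h)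
      obtain ⟨z, hz, hzx⟩ := ((hmin _ inferInstance (Subgroup.map_subtype_le _)).resolve_left hne).ge x.2
      obtain rfl : z = x := Subtype.ext hzx
      exact (Subgroup.mem_center_iff.1 hz y).symm
    · by_cases h : (⟨n, hn⟩ : N) = 1
      · rw [show n = 1 from congrArg Subtype.val h, one_pow]
      · rw [← hord _ h, ← Subgroup.orderOf_coe, pow_orderOf_eq_one]
  · push Not at hreg
    obtain ⟨a, ha⟩ := hreg
    have hnab : ¬ IsMulCommutative N := by
      intro hc
      refine ha ((Subgroup.eq_bot_iff_forall _).2 fun n hn => Subtype.ext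
        (FaithfulSMul.eq_of_smul_eq_smul (α := X) fun x => ?_))
      obtain ⟨m, rfl⟩ := htr.exists_smul_eq a x
      show n • m • a = (1 : G) • (m • a)
      rw [one_smul, ← mul_smul, hc.is_comm.comm n m, mul_smul, hn]
    have hp := isPreprimitive_minimal h2 N hmin htr ha
    exact Or.inr ⟨isSimpleGroup_minimal h2 N hN hmin hnab hp, hp⟩

end CfsgLib.Perm.Groups
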