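import Mathlib

/-!
# Small subgroups of large alternating groups centralize alternating subgroups

Orbits with equal point stabilizers may be permuted among themselves.
-/

set_option autoImplicit false

namespace CfsgLib.Perm.Groups

/-- A subgroup of a permutation group with `r` orbits of the same type centralizes a copy of `Alt r`. -/
theorem exists_alt_le_centralizer {m r : ℕ} (H : Subgroup ↥(alternatingGroup (Fin m)))
    (S : Subgroup H) (e : Fin r → Fin m) (hstab : ∀ i, MulAction.stabilizer H (e i) = S)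
    (horb : ∀ i j, e j ∈ MulAction.orbit H (e i) → i = j) :
    ∃ K : Subgroup ↥(alternatingGroup (Fin m)), Nonempty (↥K ≃* ↥(alternatingGroup (Fin r))) ∧
      K ≤ Subgroup.centralizer (H : Set ↥(alternatingGroup (Fin m))) := by
  classical
  haveI := Fintype.ofFinite (H ⧸ S)
  have heq : ∀ (h k : H) (i : Fin r), h • e i = k • e i ↔ (h : H ⧸ S) = (k : H ⧸ S) := by
    intro h k i
    rw [QuotientGroup.eq, ← hstab i, MulAction.mem_stabilizer_iff, mul_smul, inv_smul_eq_iff]
    exact eq_comm
  obtain ⟨j, hj⟩ : ∃ j : (H ⧸ S) × Fin r ↪ Fin m, ∀ (h : H) (i : Fin r), j ((h : H ⧸ S), i) = h • e i := by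
    refine ⟨⟨fun x => Quotient.liftOn' x.1 (fun h => h • e x.2) fun h k hhk => (heq h k x.2).2
      (Quotient.sound' hhk), ?_⟩, fun h i => rfl⟩
    rintro ⟨a, i⟩ ⟨b, k⟩ hab
    induction a using Quotient.inductionOn' with
    | h a =>
      induction b using Quotient.inductionOn' with
      | h b =>
        have h' : a • e i = b • e k := hab
        obtain rfl : i = k := horb i k ⟨b⁻¹ * a, by
          show (b⁻¹ * a) • e i = e k
          rw [mul_smul, h', inv_smul_smul]⟩
        exact Prod.ext ((heq a b i).1 h') rfl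
  let φ : Equiv.Perm (Fin r) →* Equiv.Perm (Fin m) :=
    { toFun := fun σ => Equiv.Perm.viaEmbeddingHom j (Equiv.prodCongrRight fun _ : H ⧸ S => σ)
      map_one' := by
        rw [show (Equiv.prodCongrRight fun _ : H ⧸ S => (1 : Equiv.Perm (Fin r))) = 1 from Equiv.ext fun _ => rfl,
          map_one]
      map_mul' := fun σ τ => by
        rw [← map_mul]
        exact congrArg _ (Equiv.ext fun _ => rfl) }
  have hφj : ∀ σ a i, φ σ (j (a, i)) = j (a, σ i) := fun σ a i =>
    Equiv.Perm.viaEmbedding_apply _ j (a, i)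
  have hφout : ∀ σ x, x ∉ Set.range j → φ σ x = x := fun σ x hx =>
    Equiv.Perm.viaEmbedding_apply_of_notMem _ j x hx
  have hsign : ∀ σ, Equiv.Perm.sign (φ σ) = Equiv.Perm.sign σ ^ Fintype.card (H ⧸ S) := by
    intro σ
    show Equiv.Perm.sign (Equiv.Perm.viaEmbedding (Equiv.prodCongrRight fun _ : H ⧸ S => σ) j) = _
    rw [Equiv.Perm.viaEmbedding, Equiv.Perm.sign_extendDomain, Equiv.Perm.sign_prodCongrRight,
      Finset.prod_const, Finset.card_univ]
  have hinj : Function.Injective φ := by
    intro σ τ h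
    ext i
    have h1 := congrArg (fun π : Equiv.Perm (Fin m) => π (j (((1 : H) : H ⧸ S), i))) h
    simp only [hφj] at h1
    exact congrArg Fin.val (Prod.ext_iff.1 (j.injective h1)).2
  let ψ : ↥(alternatingGroup (Fin r)) →* ↥(alternatingGroup (Fin m)) :=
    (φ.comp (alternatingGroup (Fin r)).subtype).codRestrict _ fun σ => by
      rw [Equiv.Perm.mem_alternatingGroup, MonoidHom.comp_apply, hsign]
      show Equiv.Perm.sign (σ : Equiv.Perm (Fin r)) ^ _ = 1
      rw [Equiv.Perm.mem_alternatingGroup.1 σ.2, one_pow]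
  have hψ : Function.Injective ψ := fun σ τ h =>
    Subtype.ext (hinj (congrArg Subtype.val h))
  refine ⟨ψ.range, ⟨(MonoidHom.ofInjective hψ).symm⟩, ?_⟩
  rintro _ ⟨σ, rfl⟩
  rw [Subgroup.mem_centralizer_iff]
  intro h hh
  refine Subtype.ext (Equiv.ext fun x => ?_)
  show (h : Equiv.Perm (Fin m)) (φ σ x) = φ σ ((h : Equiv.Perm (Fin m)) x)
  have hmove : ∀ (k : H) (i : Fin r),
      (h : Equiv.Perm (Fin m)) (j ((k : H ⧸ S), i)) = j (((⟨h, hh⟩ * k : H) : H ⧸ S), i) := by
    intro k i
    rw [hj, hj, mul_smul]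
    rfl
  by_cases hx : x ∈ Set.range j
  · obtain ⟨⟨a, i⟩, rfl⟩ := hx
    induction a using Quotient.inductionOn' with
    | h k => rw [hφj, hmove, hmove, hφj]
  · rw [hφout _ _ hx, hφout]
    rintro ⟨⟨a, i⟩, ha⟩
    apply hx
    induction a using Quotient.inductionOn' with
    | h k =>
      refine ⟨(((⟨h, hh⟩⁻¹ * k : H) : H ⧸ S), i), ?_⟩
      apply (h : Equiv.Perm (Fin m)).injective
      rw [hmove, mul_inv_cancel_left]
      exact ha

/-- The bound. -/
theorem exists_centralized_alt {m r : ℕ} (H : Subgroup ↥(alternatingGroup (Fin m)))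
    (h : Nat.card H * (2 ^ Nat.card H * r) ≤ m) :
    ∃ K : Subgroup ↥(alternatingGroup (Fin m)), Nonempty (↥K ≃* ↥(alternatingGroup (Fin r))) ∧
      K ≤ Subgroup.centralizer (H : Set ↥(alternatingGroup (Fin m))) := by
  classical
  haveI := Fintype.ofFinite (Subgroup H)
  haveI := Fintype.ofFinite (MulAction.orbitRel.Quotient H (Fin m))
  haveI := Fintype.ofFinite H
  have h1 : Fintype.card (Subgroup H) ≤ 2 ^ Nat.card H := by
    rw [Nat.card_eq_fintype_card, ← Fintype.card_set]
    exact Fintype.card_le_of_injective _ SetLike.coe_injective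
  have h2 : m ≤ Nat.card H * Fintype.card (MulAction.orbitRel.Quotient H (Fin m)) := by
    rw [Nat.card_eq_fintype_card, ← Fintype.card_prod]
    refine (le_of_eq (Fintype.card_fin m).symm).trans (Fintype.card_le_of_surjective
      (fun x : H × MulAction.orbitRel.Quotient H (Fin m) => x.1 • x.2.out) fun x => ?_)
    obtain ⟨g, hg⟩ := MulAction.orbitRel_apply.1 (Quotient.exact' (Quotient.out_eq' (Quotient.mk'' x :
      MulAction.orbitRel.Quotient H (Fin m))))
    exact ⟨(g⁻¹, Quotient.mk'' x), by simp only; rw [← hg, inv_smul_smul]⟩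
  have h3 : Fintype.card (Subgroup H) * r ≤ Fintype.card (MulAction.orbitRel.Quotient H (Fin m)) := by
    refine Nat.le_of_mul_le_mul_left ?_ (Nat.card_pos (α := H))
    exact ((Nat.mul_le_mul_left _ (Nat.mul_le_mul_right r h1)).trans h).trans h2
  obtain ⟨S, hS⟩ := Fintype.exists_le_card_fiber_of_mul_le_card
    (fun q : MulAction.orbitRel.Quotient H (Fin m) => MulAction.stabilizer H q.out) h3
  obtain ⟨t, ht, htc⟩ := Finset.exists_subset_card_eq hS
  let q : Fin r → MulAction.orbitRel.Quotient H (Fin m) := fun i => (t.equivFinOfCardEq htc).symm i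
  refine exists_alt_le_centralizer H S (fun i => (q i).out)
    (fun i => (Finset.mem_filter.1 (ht ((t.equivFinOfCardEq htc).symm i).2)).2) fun i k hik => ?_
  have hq : q k = q i := by
    rw [← Quotient.out_eq' (q k), ← Quotient.out_eq' (q i)]
    exact Quotient.sound' (MulAction.orbitRel_apply.2 hik)
  exact ((t.equivFinOfCardEq htc).symm.injective (Subtype.ext hq)).symm

end CfsgLib.Perm.Groups
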