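import Mathlib
import Cfsg.Prelude.Def_Perm
import Cfsg.Agent.Lib.Char.TITransfer

/-!
# The heart of a permutation module in characteristic `p`
-/

set_option autoImplicit false
set_option linter.unusedSectionVars false
set_option linter.style.haveILetI false

namespace CfsgLib.Perm.Heart

open MulAction

universe u v w

variable {G : Type u} [Group G] {Ω : Type w} [Fintype Ω] [MulAction G Ω] {K : Type v} [Field K]
  {p : ℕ} [hp : Fact p.Prime] [CharP K p]

theorem mem_constants {v : Ω → K} :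
    v ∈ (Cfsg.permConstants K G Ω).toSubmodule ↔ ∃ c : K, v = fun _ => c := by
  show v ∈ Submodule.span K {fun _ => (1 : K)} ↔ _
  rw [Submodule.mem_span_singleton]
  refine exists_congr fun c => ⟨fun h => h ▸ funext fun x => by simp, fun h => h ▸ funext fun x => by simp⟩

theorem mem_sumZero {v : Ω → K} : v ∈ (Cfsg.permSumZero K G Ω).toSubmodule ↔ ∑ x, v x = 0 := Iff.rfl

theorem permRep_apply (g : G) (v : Ω → K) (x : Ω) : Cfsg.permRep K G Ω g v x = v (g⁻¹ • x) := rfl

theorem permRep_single [DecidableEq Ω] (g : G) (a : Ω) :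
    Cfsg.permRep K G Ω g (Pi.single a 1) = Pi.single (g • a) 1 := by
  funext x
  rw [permRep_apply, Pi.single_apply, Pi.single_apply]
  simp only [inv_smul_eq_iff]

/-- A Sylow `p`-subgroup is transitive on a set of prime-power size on which the group is transitive. -/
theorem sylow_transitive [Finite G] [IsPretransitive G Ω] {f : ℕ} (hcard : Fintype.card Ω = p ^ f)
    (P : Sylow p G) : IsPretransitive (P : Subgroup G) Ω := by
  constructor
  intro a b
  obtain ⟨j, hj⟩ : ∃ j, Nat.card (orbit (P : Subgroup G) a) = p ^ j := by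
    obtain ⟨j, hj⟩ := P.2.card_orbit a
    exact ⟨j, hj⟩
  have h1 : Nat.card (orbit (P : Subgroup G) a) * Nat.card (stabilizer (P : Subgroup G) a) =
      Nat.card (P : Subgroup G) := by
    rw [Nat.card_coe_set_eq, ← index_stabilizer, mul_comm, Subgroup.card_mul_index]
  have h2 : Nat.card Ω * Nat.card (stabilizer G a) = Nat.card G := by
    rw [← index_stabilizer_of_transitive G a, mul_comm, Subgroup.card_mul_index]
  have h3 : Nat.card (stabilizer (P : Subgroup G) a) ∣ Nat.card (stabilizer G a) :=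
    Subgroup.card_dvd_of_injective ((((P : Subgroup G).subtype).comp
      (stabilizer (P : Subgroup G) a).subtype).codRestrict (stabilizer G a) fun x => x.2)
      fun x y h => by
        have := congrArg Subtype.val h
        exact Subtype.ext (Subtype.ext this)
  rw [Sylow.card_eq_multiplicity, hj] at h1
  rw [Nat.card_eq_fintype_card (α := Ω), hcard] at h2
  have hd : p ^ (Nat.card G).factorization p ∣ p ^ j * Nat.card (stabilizer G a) :=
    h1 ▸ mul_dvd_mul_left _ h3
  have hS : Nat.card (stabilizer G a) ≠ 0 := Nat.card_pos.ne'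
  rw [hp.out.pow_dvd_iff_le_factorization (mul_ne_zero (pow_ne_zero _ hp.out.ne_zero) hS), ← h2,
    Nat.factorization_mul (pow_ne_zero _ hp.out.ne_zero) hS, Nat.factorization_mul (pow_ne_zero _ hp.out.ne_zero) hS,
    Nat.factorization_pow, Nat.factorization_pow, hp.out.factorization] at hd
  simp only [Finsupp.smul_single, smul_eq_mul, mul_one, Finsupp.coe_add, Pi.add_apply, Finsupp.single_eq_same,
    add_le_add_iff_right] at hd
  have hfull : orbit (P : Subgroup G) a = Set.univ := by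
    apply Set.eq_of_subset_of_ncard_le (Set.subset_univ _) _ Set.finite_univ
    rw [Set.ncard_univ, Nat.card_eq_fintype_card, hcard, ← Nat.card_coe_set_eq, hj]
    exact Nat.pow_le_pow_right hp.out.pos hd
  exact MulAction.mem_orbit_iff.1 (hfull ▸ Set.mem_univ b : b ∈ orbit (P : Subgroup G) a)

variable (K p) in
/-- Invariant subspaces contain the constants when a `p`-subgroup is transitive. -/
theorem one_mem [Nonempty Ω] (P : Subgroup G) [Finite P] (hP : IsPGroup p P) [IsPretransitive P Ω]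
    (W : Submodule K (Ω → K)) (hW : ∀ (g : G), ∀ v ∈ W, Cfsg.permRep K G Ω g v ∈ W) (hne : W ≠ ⊥) :
    (fun _ => (1 : K)) ∈ W := by
  haveI := Fintype.ofFinite P
  obtain ⟨v, hv, hv0⟩ := Submodule.exists_mem_ne_zero_of_ne_bot hne
  obtain ⟨w, hw, hw0, hfix⟩ := CfsgLib.Char.TITransfer.exists_fixed_ne_zero hP
    ((Cfsg.permRep K G Ω).comp P.subtype) W (fun x v hv => hW x v hv) hv hv0
  obtain ⟨a⟩ := ‹Nonempty Ω›
  have hconst : ∀ x, w x = w a := by
    intro x
    obtain ⟨g, rfl⟩ := exists_smul_eq P a x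
    have h := congrFun (hfix g) (g • a)
    simp only [MonoidHom.comp_apply, Subgroup.coe_subtype, permRep_apply] at h
    rw [← h]
    exact congrArg w (inv_smul_smul (g : G) a)
  have hc : w a ≠ 0 := fun h => hw0 (funext fun x => by rw [hconst, h]; rfl)
  have := W.smul_mem (w a)⁻¹ hw
  rwa [show (w a)⁻¹ • w = fun _ => (1 : K) from funext fun x => by
    rw [Pi.smul_apply, smul_eq_mul, hconst x, inv_mul_cancel₀ hc]] at this

variable (K p) in
/-- Proper invariant subspaces consist of sum-zero functions. -/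
theorem proper_le_sumZero [Nonempty Ω] (P : Subgroup G) [Finite P] (hP : IsPGroup p P) [IsPretransitive P Ω]
    (W : Submodule K (Ω → K)) (hW : ∀ (g : G), ∀ v ∈ W, Cfsg.permRep K G Ω g v ∈ W) (hne : W ≠ ⊤)
    {v : Ω → K} (hv : v ∈ W) : ∑ x, v x = 0 := by
  classical
  obtain ⟨u, hu⟩ : ∃ u, u ∉ W := by
    by_contra h
    push Not at h
    exact hne (eq_top_iff.2 fun x _ => h x)
  obtain ⟨φ, hφ, hφW⟩ := Submodule.exists_dual_map_eq_bot_of_notMem hu inferInstance
  let N : Submodule K (Ω → K) :=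
    { carrier := {w | ∀ v ∈ W, ∑ x, w x * v x = 0}
      add_mem' := fun {a b} ha hb v hv => by simp [add_mul, Finset.sum_add_distrib, ha v hv, hb v hv]
      zero_mem' := fun v _ => by simp
      smul_mem' := fun c a ha v hv => by simp [mul_assoc, ← Finset.mul_sum, ha v hv] }
  have hN : ∀ g : G, ∀ w ∈ N, Cfsg.permRep K G Ω g w ∈ N := by
    intro g w hw v hv
    rw [← hw _ (hW g⁻¹ v hv)]
    refine Fintype.sum_equiv (MulAction.toPerm g⁻¹) _ _ fun x => ?_
    simp [permRep_apply]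
  have hsum : ∀ y : Ω → K, φ y = ∑ x, φ (Pi.single x 1) * y x := fun y => by
    conv_lhs => rw [pi_eq_sum_univ' y]
    simp [map_sum, mul_comm]
  have hNe : N ≠ ⊥ := by
    intro h
    have hmem : (fun x => φ (Pi.single x 1)) ∈ N := fun v hv => by
      rw [← hsum]
      exact (Submodule.mem_bot K).1 (hφW ▸ Submodule.mem_map_of_mem hv)
    rw [h, Submodule.mem_bot] at hmem
    exact hφ (by rw [hsum]; simp [fun x => congrFun hmem x])
  simpa using one_mem K p P hP N hN hNe v hv

/-- A transitive action of prime-power degree whose heart has no trivial composition factor is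
doubly transitive. -/
theorem two_transitive [Finite G] [IsPretransitive G Ω] {f : ℕ} (hcard : Fintype.card Ω = p ^ f)
    (h : ∀ W W' : Subrepresentation (Cfsg.permRep K G Ω),
      (Cfsg.permConstants K G Ω).toSubmodule ≤ W.toSubmodule → W.toSubmodule < W'.toSubmodule →
      W'.toSubmodule ≤ (Cfsg.permSumZero K G Ω).toSubmodule →
      ∃ g : G, ∃ v ∈ W'.toSubmodule, Cfsg.permRep K G Ω g v - v ∉ W.toSubmodule) :
    IsMultiplyPretransitive G Ω 2 := by
  classical
  haveI : Nonempty Ω := Fintype.card_pos_iff.1 (hcard ▸ pow_pos hp.out.pos f)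
  obtain ⟨P⟩ : Nonempty (Sylow p G) := inferInstance
  haveI := sylow_transitive hcard P
  rw [is_two_pretransitive_iff]
  intro a b c d hab hcd
  by_contra hno
  -- the invariant matrix of the orbital of `(b, a)`
  let M : Ω → Ω → K := fun x y => if ∃ g : G, g • b = x ∧ g • a = y then 1 else 0
  have hM : ∀ (k : G) (x y : Ω), M (k • x) (k • y) = M x y := by
    intro k x y
    have : (∃ g : G, g • b = k • x ∧ g • a = k • y) ↔ ∃ g : G, g • b = x ∧ g • a = y :=
      ⟨fun ⟨g, h1, h2⟩ => ⟨k⁻¹ * g, by rw [mul_smul, h1, inv_smul_smul], by rw [mul_smul, h2, inv_smul_smul]⟩,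
        fun ⟨g, h1, h2⟩ => ⟨k * g, by rw [mul_smul, h1], by rw [mul_smul, h2]⟩⟩
    simp only [M, this]
  obtain ⟨lam, hlam⟩ : ∃ lam : K, lam = ∑ x, M x a := ⟨_, rfl⟩
  have hcol : ∀ y, ∑ x, M x y = lam := by
    intro y
    obtain ⟨k, rfl⟩ := exists_smul_eq G a y
    rw [hlam]
    exact (Fintype.sum_equiv (MulAction.toPerm k) _ _ fun x => by simp [hM]).symm
  let T : (Ω → K) →ₗ[K] (Ω → K) :=
    { toFun := fun v x => (∑ y, M x y * v y) - lam * v x
      map_add' := fun u v => funext fun x => by simp [mul_add, Finset.sum_add_distrib]; ring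
      map_smul' := fun r v => funext fun x => by
        simp only [Pi.smul_apply, smul_eq_mul, RingHom.id_apply, Finset.mul_sum, mul_sub]
        congr 1
        · exact Finset.sum_congr rfl fun y _ => by ring
        · ring }
  have hTg : ∀ (g : G) (v : Ω → K), T (Cfsg.permRep K G Ω g v) = Cfsg.permRep K G Ω g (T v) := by
    intro g v
    funext x
    show (∑ y, M x y * v (g⁻¹ • y)) - lam * v (g⁻¹ • x) = (∑ y, M (g⁻¹ • x) y * v y) - lam * v (g⁻¹ • x)
    congr 1
    refine Fintype.sum_equiv (MulAction.toPerm g⁻¹) _ _ fun y => ?_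
    simp [hM]
  have hTS : ∀ v, ∑ x, T v x = 0 := by
    intro v
    show ∑ x, ((∑ y, M x y * v y) - lam * v x) = 0
    rw [Finset.sum_sub_distrib, Finset.sum_comm]
    simp [← Finset.sum_mul, hcol, ← Finset.mul_sum]
  let S := (Cfsg.permSumZero K G Ω).toSubmodule
  have hTsingle : ∀ z x, T (Pi.single z 1) x = M x z - lam * (Pi.single z 1 : Ω → K) x := by
    intro z x
    show (∑ y, M x y * (Pi.single z 1 : Ω → K) y) - _ = _
    simp [Pi.single_apply]
  let W : Subrepresentation (Cfsg.permRep K G Ω) := ⟨S.map T, fun g v hv => by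
    obtain ⟨u, hu, rfl⟩ := Submodule.mem_map.1 hv
    exact ⟨_, (Cfsg.permSumZero K G Ω).apply_mem_toSubmodule g hu, hTg g u⟩⟩
  let W' : Subrepresentation (Cfsg.permRep K G Ω) := ⟨LinearMap.range T, fun g v hv => by
    obtain ⟨u, rfl⟩ := LinearMap.mem_range.1 hv
    exact ⟨_, hTg g u⟩⟩
  -- a point outside the suborbit of `b`
  obtain ⟨e, hea, heb⟩ : ∃ e, e ≠ a ∧ ¬ ∃ g : G, g • b = e ∧ g • a = a := by
    by_contra hall
    push Not at hall
    apply hno
    obtain ⟨g₀, hg₀⟩ := exists_smul_eq G a c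
    have hd : g₀⁻¹ • d ≠ a := fun hh => hcd (by rw [← hg₀, ← hh, smul_inv_smul])
    obtain ⟨g, hg1, hg2⟩ := hall _ hd
    exact ⟨g₀ * g, by rw [mul_smul, hg2, hg₀], by rw [mul_smul, hg1, smul_inv_smul]⟩
  have hWne : W.toSubmodule ≠ ⊥ := by
    intro hbot
    have hker : ∀ z, T (Pi.single z 1) = T (Pi.single a 1) := fun z => by
      rw [← sub_eq_zero, ← map_sub]
      refine (Submodule.mem_bot K).1 (hbot ▸ Submodule.mem_map_of_mem (mem_sumZero.2 ?_))
      simp [Pi.sub_apply, Finset.sum_sub_distrib]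
    obtain ⟨k, hk⟩ := exists_smul_eq G b a
    -- row `a`: the entry is one somewhere and zero somewhere off the diagonal
    have h1 : M a (k • a) = 1 := if_pos ⟨k, hk, rfl⟩
    have hka : k • a ≠ a := fun hh => hab (smul_left_cancel k (hk.trans hh.symm)).symm
    obtain ⟨k', hk'⟩ := exists_smul_eq G e a
    have hk'a : k' • a ≠ a := fun hh => hea (smul_left_cancel k' (hk'.trans hh.symm))
    have h0 : M a (k' • a) = 0 := if_neg fun ⟨g, hg1, hg2⟩ => heb ⟨k'⁻¹ * g, by
      rw [mul_smul, hg1, inv_smul_eq_iff, hk'], by rw [mul_smul, hg2, inv_smul_smul]⟩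
    have e1 := congrFun (hker (k • a)) a
    have e2 := congrFun (hker (k' • a)) a
    rw [hTsingle, hTsingle] at e1 e2
    simp only [h1, h0, Pi.single_eq_of_ne hka.symm, Pi.single_eq_of_ne hk'a.symm] at e1 e2
    exact one_ne_zero (α := K) (by linear_combination e1 - e2)
  have hle : W.toSubmodule ≤ W'.toSubmodule := LinearMap.map_le_range
  have hlt : W.toSubmodule < W'.toSubmodule := by
    refine lt_of_le_of_ne hle fun heq => ?_
    obtain ⟨s, hs, hsa⟩ := Submodule.mem_map.1
      (show T (Pi.single a 1) ∈ S.map T by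
        rw [show S.map T = LinearMap.range T from heq]; exact LinearMap.mem_range_self T _)
    have hker : Pi.single a 1 - s ∈ LinearMap.ker T := by rw [LinearMap.mem_ker, map_sub, hsa, sub_self]
    have hproper : LinearMap.ker T ≠ ⊤ := fun hh => hWne (by
      show S.map T = ⊥
      rw [eq_bot_iff]
      rintro _ ⟨u, -, rfl⟩
      exact (Submodule.mem_bot K).2 (LinearMap.mem_ker.1 (hh ▸ Submodule.mem_top)))
    have := proper_le_sumZero K p (P : Subgroup G) P.2 (LinearMap.ker T)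
      (fun g u hu => by rw [LinearMap.mem_ker, hTg, LinearMap.mem_ker.1 hu, map_zero]) hproper hker
    rw [mem_sumZero] at hs
    simp [Finset.sum_sub_distrib, hs] at this
  have hCW : (Cfsg.permConstants K G Ω).toSubmodule ≤ W.toSubmodule := by
    show Submodule.span K {fun _ => (1 : K)} ≤ _
    rw [Submodule.span_singleton_le_iff_mem]
    exact one_mem K p (P : Subgroup G) P.2 W.toSubmodule (fun g u hu => W.apply_mem_toSubmodule g hu) hWne
  obtain ⟨g, v, hv, hgv⟩ := h W W' hCW hlt (fun v hv => by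
    obtain ⟨u, rfl⟩ := LinearMap.mem_range.1 hv
    exact hTS u)
  obtain ⟨u, rfl⟩ := LinearMap.mem_range.1 hv
  refine hgv ⟨Cfsg.permRep K G Ω g u - u, ?_, by rw [map_sub, hTg]⟩
  show ∑ x, (u (g⁻¹ • x) - u x) = 0
  rw [Finset.sum_sub_distrib, sub_eq_zero]
  exact Fintype.sum_equiv (MulAction.toPerm g⁻¹) _ _ fun x => rfl

/-- Vanishing of maps from the heart to the permutation module on pairs gives triple transitivity. -/
theorem three_transitive [Finite G] [DecidableEq Ω] [FaithfulSMul G Ω]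
    (h2 : IsMultiplyPretransitive G Ω 2) (hdvd : p ∣ Fintype.card Ω)
    (heven : ∀ a : Ω, Even (Nat.card (stabilizer G a)))
    (h : ∀ f : Representation.IntertwiningMap (Cfsg.permSumZero K G Ω).toRepresentation
        (Cfsg.permRep K G (Set.powersetCard Ω 2)),
      (∀ v : (Cfsg.permSumZero K G Ω).toSubmodule, (v : Ω → K) ∈ (Cfsg.permConstants K G Ω).toSubmodule → f v = 0) →
      f = 0) : IsMultiplyPretransitive G Ω 3 := by
  classical
  rcases isEmpty_or_nonempty Ω with hΩ | hΩ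
  · exact ⟨fun u _ => (IsEmpty.false (u 0)).elim⟩
  obtain ⟨a⟩ := hΩ
  haveI : IsPretransitive G Ω := by
    haveI := h2
    exact isPretransitive_of_is_two_pretransitive
  -- an element of order two in the stabiliser moves some point
  obtain ⟨⟨t, ht⟩, htord⟩ := exists_prime_orderOf_dvd_card' (G := stabilizer G a) 2
    (even_iff_two_dvd.1 (heven a))
  have htt : t * t = 1 := by
    have := pow_orderOf_eq_one (⟨t, ht⟩ : stabilizer G a)
    rw [htord] at this
    simpa [pow_two] using congrArg Subtype.val this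
  obtain ⟨x, hx⟩ : ∃ x, t • x ≠ x := by
    by_contra hall
    push Not at hall
    have h1 : (⟨t, ht⟩ : stabilizer G a) = 1 :=
      Subtype.ext (FaithfulSMul.eq_of_smul_eq_smul (α := Ω) fun x =>
        (hall x).trans (one_smul G x).symm)
    rw [h1, orderOf_one] at htord
    omega
  have hxa : x ≠ a := fun hh => hx (by rw [hh]; exact mem_stabilizer_iff.1 ht)
  obtain ⟨y, hy⟩ : ∃ y, y = t • x := ⟨_, rfl⟩
  rw [← hy] at hx
  have hya : y ≠ a := fun hh => hxa (smul_left_cancel t (by rw [← hy, hh, mem_stabilizer_iff.1 ht]))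
  by_contra hno
  obtain ⟨c, d, hca, hda, hcd, hcdx⟩ : ∃ c d, c ≠ a ∧ d ≠ a ∧ c ≠ d ∧
      ∀ g : G, g • a = a → ¬ ((g • x = c ∧ g • y = d) ∨ (g • x = d ∧ g • y = c)) := by
    by_contra hall
    push Not at hall
    apply hno
    have hord : ∀ c d, c ≠ a → d ≠ a → c ≠ d → ∃ g : G, g • a = a ∧ g • x = c ∧ g • y = d := by
      intro c d hca hda hcd
      obtain ⟨g, hga, hg⟩ := hall c d hca hda hcd
      rcases hg with ⟨h1, h2'⟩ | ⟨h1, h2'⟩
      · exact ⟨g, hga, h1, h2'⟩
      · refine ⟨g * t, by rw [mul_smul, mem_stabilizer_iff.1 ht, hga], by rw [mul_smul, ← hy, h2'], ?_⟩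
        rw [mul_smul, hy, ← mul_smul t t, htt, one_smul, h1]
    have key : ∀ u : Fin 3 ↪ Ω, ∃ g : G, g • a = u 0 ∧ g • x = u 1 ∧ g • y = u 2 := by
      intro u
      obtain ⟨g₀, hg₀⟩ := exists_smul_eq G a (u 0)
      have hne : ∀ i : Fin 3, i ≠ 0 → g₀⁻¹ • u i ≠ a := fun i hi hh => hi (u.injective (by
        rw [← hg₀, ← hh, smul_inv_smul]))
      obtain ⟨g, hga, hgx, hgy⟩ := hord _ _ (hne 1 (by decide)) (hne 2 (by decide))
        (fun hh => absurd (u.injective (smul_left_cancel _ hh)) (by decide))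
      exact ⟨g₀ * g, by rw [mul_smul, hga, hg₀], by rw [mul_smul, hgx, smul_inv_smul],
        by rw [mul_smul, hgy, smul_inv_smul]⟩
    refine ⟨fun u v => ?_⟩
    obtain ⟨g, g1, g2, g3⟩ := key u
    obtain ⟨k, k1, k2, k3⟩ := key v
    refine ⟨k * g⁻¹, Function.Embedding.ext fun i => ?_⟩
    show (k * g⁻¹) • u i = v i
    fin_cases i
    · show (k * g⁻¹) • u 0 = v 0
      rw [← g1, mul_smul, inv_smul_smul, k1]
    · show (k * g⁻¹) • u 1 = v 1
      rw [← g2, mul_smul, inv_smul_smul, k2]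
    · show (k * g⁻¹) • u 2 = v 2
      rw [← g3, mul_smul, inv_smul_smul, k3]
  obtain ⟨P₀, hP₀⟩ : ∃ P₀ : Set.powersetCard Ω 2, (P₀ : Finset Ω) = {x, y} :=
    ⟨⟨{x, y}, Finset.card_pair hx.symm⟩, rfl⟩
  obtain ⟨P₁, hP₁⟩ : ∃ P₁ : Set.powersetCard Ω 2, (P₁ : Finset Ω) = {c, d} :=
    ⟨⟨{c, d}, Finset.card_pair hcd⟩, rfl⟩
  have hmem : ∀ (g : G) (P : Set.powersetCard Ω 2) (z : Ω),
      g • z ∈ (↑(g • P) : Finset Ω) ↔ z ∈ (P : Finset Ω) := fun g P z => by
    rw [Set.powersetCard.coe_smul, Finset.smul_mem_smul_finset_iff]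
  have htr : ∀ P : Set.powersetCard Ω 2, ∃ g : G, P = g • P₀ := by
    intro P
    obtain ⟨u, v, huv, hP⟩ := Finset.card_eq_two.1 P.2
    obtain ⟨g, hg1, hg2⟩ := is_two_pretransitive_iff.1 h2 hx.symm huv
    refine ⟨g, Subtype.ext ?_⟩
    rw [Set.powersetCard.coe_smul, hP₀, hP, Finset.smul_finset_insert, Finset.smul_finset_singleton, hg1, hg2]
  let O : Set.powersetCard Ω 2 → Ω → Prop :=
    fun P z => ∃ g : G, g • a = z ∧ g • x ∈ (P : Finset Ω) ∧ g • y ∈ (P : Finset Ω)
  have hO : ∀ (k : G) P z, O (k • P) (k • z) ↔ O P z := by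
    intro k P z
    constructor
    · rintro ⟨g, h1, h2, h3⟩
      refine ⟨k⁻¹ * g, by rw [mul_smul, h1, inv_smul_smul], ?_, ?_⟩
      · rw [← hmem k, mul_smul, smul_inv_smul]; exact h2
      · rw [← hmem k, mul_smul, smul_inv_smul]; exact h3
    · rintro ⟨g, h1, h2, h3⟩
      refine ⟨k * g, by rw [mul_smul, h1], ?_, ?_⟩
      · rw [mul_smul, hmem]; exact h2
      · rw [mul_smul, hmem]; exact h3
  have haP₀ : a ∉ (P₀ : Finset Ω) := by simp [hP₀, hxa.symm, hya.symm]
  have hOa : O P₀ a := ⟨1, one_smul _ _, by simp [hP₀], by simp [hP₀]⟩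
  obtain ⟨e, heP, heO⟩ : ∃ e, e ∉ (P₀ : Finset Ω) ∧ ¬ O P₀ e := by
    obtain ⟨k, hk⟩ := htr P₁
    refine ⟨k⁻¹ • a, fun hh => ?_, fun hh => ?_⟩
    · rw [← hmem k, ← hk, smul_inv_smul, hP₁] at hh
      simp [hca.symm, hda.symm] at hh
    · rw [← hO k, ← hk, smul_inv_smul] at hh
      obtain ⟨g, hga, hgx, hgy⟩ := hh
      rw [hP₁, Finset.mem_insert, Finset.mem_singleton] at hgx hgy
      refine hcdx g hga ?_
      rcases hgx with h1 | h1 <;> rcases hgy with h3 | h3
      · exact absurd (smul_left_cancel g (h1.trans h3.symm)) hx.symm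
      · exact Or.inl ⟨h1, h3⟩
      · exact Or.inr ⟨h1, h3⟩
      · exact absurd (smul_left_cancel g (h1.trans h3.symm)) hx.symm
  let T : K → K → Set.powersetCard Ω 2 → Ω → K := fun d₁ d₂ P z =>
    if z ∈ (P : Finset Ω) then 0 else if O P z then d₁ else d₂
  obtain ⟨d₁, d₂, hne, hrow₀⟩ : ∃ d₁ d₂ : K, (d₁ ≠ 0 ∨ d₂ ≠ 0) ∧ ∑ z, T d₁ d₂ P₀ z = 0 := by
    have hlin : ∀ d₁ d₂ : K, ∑ z, T d₁ d₂ P₀ z = d₁ * (∑ z, T 1 0 P₀ z) + d₂ * ∑ z, T 0 1 P₀ z := by
      intro d₁ d₂
      rw [Finset.mul_sum, Finset.mul_sum, ← Finset.sum_add_distrib]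
      refine Finset.sum_congr rfl fun z _ => ?_
      simp only [T]
      split_ifs <;> simp
    by_cases hz : (∑ z, T 1 0 P₀ z) = 0
    · exact ⟨1, 0, Or.inl one_ne_zero, hz⟩
    · exact ⟨∑ z, T 0 1 P₀ z, -∑ z, T 1 0 P₀ z, Or.inr (neg_ne_zero.2 hz), by rw [hlin]; ring⟩
  have hT : ∀ (k : G) P z, T d₁ d₂ (k • P) (k • z) = T d₁ d₂ P z := fun k P z => by
    simp only [T, hmem, hO]
  have hrow : ∀ P, ∑ z, T d₁ d₂ P z = 0 := by
    intro P
    obtain ⟨k, rfl⟩ := htr P
    rw [← hrow₀]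
    exact (Fintype.sum_equiv (MulAction.toPerm k) _ _ fun z => by simp [hT]).symm
  let F : Representation.IntertwiningMap (Cfsg.permSumZero K G Ω).toRepresentation
      (Cfsg.permRep K G (Set.powersetCard Ω 2)) :=
    ⟨{ toFun := fun v P => ∑ z, T d₁ d₂ P z * (v : Ω → K) z
       map_add' := fun u v => funext fun P => by simp [mul_add, Finset.sum_add_distrib]
       map_smul' := fun r v => funext fun P => by simp [Finset.mul_sum, mul_left_comm] },
     fun g => LinearMap.ext fun v => funext fun P => by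
      show ∑ z, T d₁ d₂ P z * (v : Ω → K) (g⁻¹ • z) = ∑ z, T d₁ d₂ (g⁻¹ • P) z * (v : Ω → K) z
      refine Fintype.sum_equiv (MulAction.toPerm g⁻¹) _ _ fun z => ?_
      simp [hT]⟩
  have hF := h F fun v hv => by
    obtain ⟨r, hr⟩ := mem_constants.1 hv
    funext P
    show ∑ z, T d₁ d₂ P z * (v : Ω → K) z = 0
    simp [hr, ← Finset.sum_mul, hrow]
  have key : ∀ u w, T d₁ d₂ P₀ u = T d₁ d₂ P₀ w := by
    intro u w
    have hmemS : (Pi.single u 1 - Pi.single w 1 : Ω → K) ∈ (Cfsg.permSumZero K G Ω).toSubmodule :=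
      mem_sumZero.2 (by simp [Finset.sum_sub_distrib])
    have h1 : ∑ z, T d₁ d₂ P₀ z * (Pi.single u 1 - Pi.single w 1 : Ω → K) z = 0 :=
      congrFun (congrArg (fun f => f ⟨_, hmemS⟩) hF) P₀
    simpa [mul_sub, Finset.sum_sub_distrib, Pi.single_apply, sub_eq_zero] using h1
  have ha' : T d₁ d₂ P₀ a = d₁ := by simp only [T]; rw [if_neg haP₀, if_pos hOa]
  have he' : T d₁ d₂ P₀ e = d₂ := by simp only [T]; rw [if_neg heP, if_neg heO]
  have hx' : T d₁ d₂ P₀ x = 0 := by simp only [T]; rw [if_pos (by simp [hP₀])]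
  rcases hne with h1 | h1
  · exact h1 (ha' ▸ hx' ▸ key a x)
  · exact h1 (he' ▸ hx' ▸ key e x)

end CfsgLib.Perm.Heart
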