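import Cfsg.Agent.Lib.Perm.Groups.Heart
import Cfsg.Agent.S0673

/-!
# The heart in prime degree
-/

set_option autoImplicit false
set_option linter.unusedSectionVars false
set_option linter.style.haveILetI false

namespace CfsgLib.Perm.Heart

open MulAction Polynomial

universe u v

variable {p : ℕ} [hp : Fact p.Prime] {K : Type v} [Field K] [CharP K p]

/-- A permutation of the prime field preserving a small space of polynomial functions is affine. -/
theorem affine_of_degree_preserved (π : Equiv.Perm (ZMod p)) (V : Submodule K (ZMod p → K)) (r : ℕ)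
    (hV : ∀ f : ZMod p → K, f ∈ V ↔ ∃ P : K[X], P.degree < r ∧ ∀ j : ZMod p, f j = P.eval (ZMod.cast j : K))
    (hinv : ∀ f ∈ V, (fun x => f (π x)) ∈ V) (hr : 2 ≤ r) (hsmall : 2 * (r - 1) < p) (x : ZMod p) :
    π x = (π 1 - π 0) * x + π 0 := by
  haveI : NeZero p := ⟨hp.out.ne_zero⟩
  let ι : ZMod p →+* K := ZMod.castHom (dvd_refl p) K
  obtain ⟨f, hf⟩ : ∃ f : (ZMod p)[X], f = Lagrange.interpolate Finset.univ id π := ⟨_, rfl⟩
  have hfe : ∀ y, f.eval y = π y := fun y => by
    rw [hf]
    exact Lagrange.eval_interpolate_at_node _ Function.injective_id.injOn (Finset.mem_univ y)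
  have hfd : f.natDegree < p := by
    have h := Lagrange.degree_interpolate_lt π (s := (Finset.univ : Finset (ZMod p))) Function.injective_id.injOn
    rw [Finset.card_univ, ZMod.card, ← hf] at h
    by_cases hf0 : f = 0
    · rw [hf0, natDegree_zero]; exact hp.out.pos
    · exact (natDegree_lt_iff_degree_lt hf0).2 h
  have key : ∀ j, j < r → j * f.natDegree < p → j * f.natDegree < r := by
    intro j hj hjd
    obtain ⟨P, hP, hPe⟩ := (hV _).1 (hinv _ ((hV (fun y => ι y ^ j)).2 ⟨X ^ j, by
      rw [degree_X_pow]; exact_mod_cast hj, fun y => by simp [ι]⟩))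
    have hdeg : ((f.map ι) ^ j).natDegree = j * f.natDegree := by
      rw [natDegree_pow, natDegree_map_eq_of_injective ι.injective]
    have hPd : P.natDegree < r := by
      by_cases hP0 : P = 0
      · rw [hP0, natDegree_zero]; omega
      · exact (natDegree_lt_iff_degree_lt hP0).2 hP
    have hrp : r ≤ p := by omega
    have hz : (f.map ι) ^ j - P = 0 := by
      refine eq_zero_of_natDegree_lt_card_of_eval_eq_zero _ ι.injective (fun y => ?_) ?_
      · rw [eval_sub, eval_pow, eval_map_apply, hfe, sub_eq_zero]
        exact hPe y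
      · rw [ZMod.card]
        exact lt_of_le_of_lt (natDegree_sub_le _ _) (max_lt (hdeg ▸ hjd) (by omega))
    rw [sub_eq_zero] at hz
    rw [← hdeg, hz]
    exact hPd
  have h1 := key 1 (by omega) (by omega)
  by_cases hn : f.natDegree ≤ 1
  · obtain ⟨a, b, hab⟩ := exists_eq_X_add_C_of_natDegree_le_one hn
    rw [← hfe, ← hfe, ← hfe, hab]
    simp only [eval_add, eval_mul, eval_C, eval_X]
    ring
  exfalso
  push Not at hn
  obtain ⟨d, hd⟩ : ∃ d, d = f.natDegree := ⟨_, rfl⟩
  rw [← hd] at hn key h1
  have e1 := Nat.div_add_mod' (r - 1) d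
  have e2 := Nat.mod_lt (r - 1) (show 0 < d by omega)
  have e3 : ((r - 1) / d + 1) * d = (r - 1) / d * d + d := by ring
  have e4 : (r - 1) / d * 2 ≤ (r - 1) / d * d := Nat.mul_le_mul_left _ (by omega)
  have := key ((r - 1) / d + 1) (by omega) (by omega)
  omega

/-- Coordinates turning a transitive group of prime degree into a group containing the translations. -/
theorem exists_coordinates {α : Type u} [Fintype α] [DecidableEq α] (hα : p.Prime) (hpc : p = Fintype.card α)
    (G : Subgroup (Equiv.Perm α)) [IsPretransitive G α] :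
    ∃ (c : G) (e : ZMod p ≃ α), ∀ x y : ZMod p, c ^ y.val • e x = e (x + y) := by
  haveI : NeZero p := ⟨hα.ne_zero⟩
  obtain ⟨a₀⟩ : Nonempty α := Fintype.card_pos_iff.1 (by have := hα.pos; omega)
  have hdvd : p ∣ Nat.card G := by
    have h1 := Nat.card_congr (MulAction.orbitProdStabilizerEquivGroup G a₀)
    rw [Nat.card_prod, MulAction.orbit_eq_univ, Nat.card_coe_set_eq, Set.ncard_univ, Nat.card_eq_fintype_card,
      ← hpc] at h1
    exact ⟨_, h1.symm⟩
  obtain ⟨c, hc⟩ := exists_prime_orderOf_dvd_card' p hdvd
  have hsupp : (c : Equiv.Perm α).support = Finset.univ := by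
    have hord : orderOf (c : Equiv.Perm α) = p := by rw [Subgroup.orderOf_coe, hc]
    obtain ⟨i, hi⟩ := Equiv.Perm.cycleType_prime_order (hord.symm ▸ hα)
    have h1 := (c : Equiv.Perm α).sum_cycleType
    rw [hi, hord, Multiset.sum_replicate, smul_eq_mul] at h1
    apply Finset.eq_univ_of_card
    have h2 := Finset.card_le_univ (c : Equiv.Perm α).support
    have h3 : p ≤ (i + 1) * p := Nat.le_mul_of_pos_left p (by omega)
    omega
  have hper : ∀ a : α, MulAction.period c a = p := by
    intro a
    have h1 : MulAction.period c a ∣ p := hc ▸ MulAction.period_dvd_orderOf c a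
    refine ((Nat.dvd_prime hα).1 h1).resolve_left fun h => ?_
    have h2 : c • a = a := by
      have := MulAction.pow_period_smul c a
      rwa [h, pow_one] at this
    exact Equiv.Perm.mem_support.1 (hsupp ▸ Finset.mem_univ a) h2
  have hmod : ∀ (i : ℕ) (a : α), c ^ (i % p) • a = c ^ i • a := by
    intro i a
    conv_rhs => rw [← Nat.mod_add_div i p]
    rw [pow_add, pow_mul, ← hc, pow_orderOf_eq_one, one_pow, mul_one]
  let e₀ : ZMod p → α := fun x => c ^ x.val • a₀
  have heinj : Function.Injective e₀ := by
    intro x y h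
    apply ZMod.val_injective p
    by_contra hne
    have hlt := ZMod.val_lt x
    have hlt' := ZMod.val_lt y
    wlog hxy : x.val < y.val generalizing x y
    · exact this h.symm (Ne.symm hne) hlt' hlt (by omega)
    have h1 : c ^ (y.val - x.val) • a₀ = a₀ := by
      apply MulAction.injective (c ^ x.val)
      show c ^ x.val • c ^ (y.val - x.val) • a₀ = c ^ x.val • a₀
      rw [← mul_smul, ← pow_add, Nat.add_sub_cancel' hxy.le]
      exact h.symm
    rw [MulAction.pow_smul_eq_iff_period_dvd, hper] at h1
    have := Nat.le_of_dvd (by omega) h1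
    omega
  have hebij : Function.Bijective e₀ :=
    (Fintype.bijective_iff_injective_and_card e₀).2 ⟨heinj, by rw [ZMod.card, hpc]⟩
  let e : ZMod p ≃ α := Equiv.ofBijective e₀ hebij
  have hT : ∀ x y : ZMod p, c ^ y.val • e x = e (x + y) := by
    intro x y
    show c ^ y.val • c ^ x.val • a₀ = c ^ (x + y).val • a₀
    rw [← mul_smul, ← pow_add, ZMod.val_add, hmod, add_comm]
  exact ⟨c, e, hT⟩

/-- A group of prime degree all of whose elements are affine in some coordinates is solvable. -/
theorem solvable_of_affine {α : Type u} (G : Subgroup (Equiv.Perm α)) (e : ZMod p ≃ α) (π : G → Equiv.Perm (ZMod p))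
    (hπ : ∀ g x, e (π g x) = g • e x) (haff : ∀ g x, π g x = (π g 1 - π g 0) * x + π g 0) :
    Group.IsSolvable G := by
  have hπmul : ∀ g h x, π (g * h) x = π g (π h x) := fun g h x => e.injective (by rw [hπ, hπ, hπ, mul_smul])
  have hπone : ∀ x, π 1 x = x := fun x => e.injective (by rw [hπ, one_smul])
  let χ : G →* ZMod p :=
    { toFun := fun g => π g 1 - π g 0
      map_one' := by rw [hπone, hπone, sub_zero]
      map_mul' := fun g h => by
        rw [hπmul, hπmul, haff g (π h 1), haff g (π h 0)]
        ring }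
  obtain ⟨K, hK⟩ : ∃ K, K = χ.toHomUnits.ker := ⟨_, rfl⟩
  have hKmem : ∀ g ∈ K, ∀ x, π g x = x + π g 0 := by
    intro g hg x
    rw [hK, MonoidHom.mem_ker] at hg
    have h1 : π g 1 - π g 0 = 1 := congrArg Units.val hg
    rw [haff g x, h1, one_mul]
  haveI : Group.IsSolvable K := isSolvable_of_comm fun g h => by
    apply Subtype.ext
    apply Subtype.ext
    refine Equiv.ext fun a => ?_
    obtain ⟨x, rfl⟩ := e.surjective a
    show ((g : G) * (h : G)) • e x = ((h : G) * (g : G)) • e x
    rw [← hπ, ← hπ, hπmul, hπmul, hKmem g g.2, hKmem h h.2, hKmem h h.2 (π g x), hKmem g g.2 x]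
    congr 1
    ring
  exact solvable_of_ker_le_range K.subtype χ.toHomUnits (le_of_eq (by rw [Subgroup.range_subtype, hK]))

/-- The heart of the permutation module of an insoluble group of prime degree is irreducible. -/
theorem heart_irreducible {α : Type u} [Fintype α] [DecidableEq α] (hpc : Fintype.card α = p)
    (G : Subgroup (Equiv.Perm α)) [IsPretransitive G α] (hG : ¬ Group.IsSolvable G)
    (W : Subrepresentation (Cfsg.permRep K G α))
    (h₁ : (Cfsg.permConstants K G α).toSubmodule ≤ W.toSubmodule)
    (h₂ : W.toSubmodule ≤ (Cfsg.permSumZero K G α).toSubmodule) :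
    W = Cfsg.permConstants K G α ∨ W = Cfsg.permSumZero K G α := by
  classical
  haveI : NeZero p := ⟨hp.out.ne_zero⟩
  obtain ⟨c, e, hT⟩ := exists_coordinates hp.out hpc.symm G
  let π : G → Equiv.Perm (ZMod p) := fun g => (e.trans (MulAction.toPerm g)).trans e.symm
  have hπ : ∀ g x, e (π g x) = g • e x := fun g x => e.apply_symm_apply _
  let L : (ZMod p → K) ≃ₗ[K] (α → K) := LinearEquiv.funCongrLeft K K e.symm
  have hL : ∀ f a, L f a = f (e.symm a) := fun f a => rfl
  let V : Submodule K (ZMod p → K) := W.toSubmodule.comap L.toLinearMap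
  have hVinv : ∀ g : G, ∀ f ∈ V, (fun x => f (π g x)) ∈ V := by
    intro g f hf
    show L (fun x => f (π g x)) ∈ W.toSubmodule
    have h := W.apply_mem_toSubmodule g⁻¹ (v := L f) hf
    convert h using 1
    funext a
    rw [permRep_apply, inv_inv, hL, hL]
    show f (e.symm (g • e (e.symm a))) = _
    rw [e.apply_symm_apply]
  let N : Submodule K (ZMod p → K) :=
    V.dualAnnihilator.comap (dotProductEquiv K (ZMod p)).toLinearMap
  have hN : ∀ w, w ∈ N ↔ ∀ v ∈ V, ∑ x, w x * v x = 0 := fun w => by
    rw [Submodule.mem_comap, Submodule.mem_dualAnnihilator]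
    rfl
  have hNinv : ∀ g : G, ∀ f ∈ N, (fun x => f (π g x)) ∈ N := by
    intro g f hf
    rw [hN] at hf ⊢
    intro v hv
    rw [← hf _ (hVinv g⁻¹ v hv)]
    refine Fintype.sum_equiv (π g) _ _ fun x => ?_
    congr 2
    apply e.injective
    rw [hπ, hπ, inv_smul_smul]
  have hNdim : Module.finrank K V + Module.finrank K N = p := by
    have h := Subspace.finrank_add_finrank_dualAnnihilator_eq V
    rw [Module.finrank_fintype_fun_eq_card, ZMod.card] at h
    convert h using 2
    have e1 := ((dotProductEquiv K (ZMod p)).symm.submoduleMap V.dualAnnihilator).finrank_eq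
    rw [e1]
    have : N = V.dualAnnihilator.map ((dotProductEquiv K (ZMod p)).symm : _ →ₗ[K] (ZMod p → K)) :=
      Submodule.comap_equiv_eq_map_symm _ _
    rw [this]
  have hWV : Module.finrank K V = Module.finrank K W.toSubmodule := by
    have hV : V = W.toSubmodule.map (L.symm : (α → K) →ₗ[K] (ZMod p → K)) := Submodule.comap_equiv_eq_map_symm _ _
    rw [hV, LinearEquiv.finrank_map_eq]
  have hC : Module.finrank K (Cfsg.permConstants K G α).toSubmodule = 1 :=
    finrank_span_singleton (fun h => one_ne_zero (α := K) (congrFun h (e 0)))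
  have hS : Module.finrank K (Cfsg.permSumZero K G α).toSubmodule < p := by
    refine lt_of_lt_of_eq (Submodule.finrank_lt fun h => ?_) (by rw [Module.finrank_fintype_fun_eq_card, hpc])
    have hm : (Pi.single (e 0) 1 : α → K) ∈ (Cfsg.permSumZero K G α).toSubmodule := h ▸ Submodule.mem_top
    rw [mem_sumZero] at hm
    simp at hm
  by_contra hcon
  rw [not_or] at hcon
  have hlo : 1 < Module.finrank K W.toSubmodule := by
    rw [← hC]
    exact Submodule.finrank_lt_finrank_of_lt (lt_of_le_of_ne h₁ fun h =>
      hcon.1 (Subrepresentation.toSubmodule_injective h.symm))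
  have hhi : Module.finrank K W.toSubmodule + 1 < p := by
    have := Submodule.finrank_lt_finrank_of_lt (lt_of_le_of_ne h₂ fun h =>
      hcon.2 (Subrepresentation.toSubmodule_injective h))
    omega
  apply hG
  refine solvable_of_affine G e π hπ fun g x => ?_
  have hshift : (fun j : ZMod p => j - 1) = fun j => π (c ^ (-1 : ZMod p).val) j := funext fun j => by
    apply e.injective
    rw [hπ, hT, sub_eq_add_neg]
  have hVt : ∀ f ∈ V, (fun j => f (j - 1)) ∈ V := fun f hf => by
    have := hVinv (c ^ (-1 : ZMod p).val) f hf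
    convert this using 2 with j
    exact congrArg f (congrFun hshift j)
  have hNt : ∀ f ∈ N, (fun j => f (j - 1)) ∈ N := fun f hf => by
    have := hNinv (c ^ (-1 : ZMod p).val) f hf
    convert this using 2 with j
    exact congrArg f (congrFun hshift j)
  obtain ⟨r, -, hrd, hr⟩ := Cfsg.Agent.S0673.result V hVt
  obtain ⟨r', -, hrd', hr'⟩ := Cfsg.Agent.S0673.result N hNt
  by_cases hsm : 2 * (r - 1) < p
  · exact affine_of_degree_preserved (π g) V r hr (hVinv g) (by omega) hsm x
  · exact affine_of_degree_preserved (π g) N r' hr' (hNinv g) (by omega) (by omega) x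

end CfsgLib.Perm.Heart
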