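import Mathlib

/-!
# The Netto triple systems have no automorphism group transitive on triangles
-/

set_option autoImplicit false

namespace CfsgLib.Perm.Netto

variable {p : ℕ} [hp : Fact p.Prime]

/-- the third point of the line through `x` and `y` -/
def star (η x y : ZMod p) : ZMod p :=
  x + (if (y - x) ^ (p / 2) = 1 then η else 1 - η) * (y - x)

theorem star_pos {η : ZMod p} (x y d z : ZMod p) (hd : y - x = d) (h : d ^ (p / 2) = 1)
    (hz : z = x + η * d) : star η x y = z := by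
  rw [star, hd, if_pos h, hz]

theorem star_neg (hp2 : p ≠ 2) {η : ZMod p} (x y d z : ZMod p) (hd : y - x = d) (h : d ^ (p / 2) = -1)
    (hz : z = x + (1 - η) * d) : star η x y = z := by
  rw [star, hd, if_neg, hz]
  rw [h]
  intro e
  exact Ring.two_ne_zero (R := ZMod p) (by rw [ZMod.ringChar_zmod_n]; exact hp2) (by linear_combination -e)

/-- A preserved operation cannot be transitive on the points off a line. -/
theorem not_transitive (hp7 : 7 < p) {η : ZMod p} (hη : η * η - η + 1 = 0) (hm : Odd (p / 2))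
    (hsq : (η - 1) ^ (p / 2) = 1)
    (htr : ∀ c c' : ZMod p, c ≠ 0 → c ≠ 1 → c ≠ η → c' ≠ 0 → c' ≠ 1 → c' ≠ η →
      ∃ π : ZMod p → ZMod p, π 0 = 0 ∧ π 1 = 1 ∧ π c = c' ∧ ∀ x y, π (star η x y) = star η (π x) (π y)) :
    False := by
  have hp2 : p ≠ 2 := by omega
  have hnat : ∀ n : ℕ, 0 < n → n < p → (n : ZMod p) ≠ 0 := fun n h0 hn h => by
    rw [ZMod.natCast_eq_zero_iff] at h
    have := Nat.le_of_dvd h0 h
    omega
  have h2 : (2 : ZMod p) ≠ 0 := by exact_mod_cast hnat 2 (by norm_num) (by omega)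
  have h3 : (3 : ZMod p) ≠ 0 := by exact_mod_cast hnat 3 (by norm_num) (by omega)
  have h7 : (7 : ZMod p) ≠ 0 := by exact_mod_cast hnat 7 (by norm_num) (by omega)
  obtain ⟨m, hmd⟩ : ∃ m, m = p / 2 := ⟨_, rfl⟩
  have hη0 : η ≠ 0 := fun h => by rw [h] at hη; norm_num at hη
  have hb : (1 - η) ^ (p / 2) = -1 := by
    rw [show 1 - η = -(η - 1) by ring, hm.neg_pow, hsq]
  have he : η ^ (p / 2) = -1 := by
    have h : η ^ (p / 2) * (1 - η) ^ (p / 2) = 1 := by
      rw [← mul_pow, show η * (1 - η) = 1 by linear_combination -hη, one_pow]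
    rw [hb] at h
    linear_combination -h
  have hn1 : (-1 : ZMod p) ^ (p / 2) = -1 := hm.neg_one_pow
  have hne : (-η) ^ (p / 2) = 1 := by rw [hm.neg_pow, he, neg_neg]
  have hτ0 : 2 * η - 1 ≠ 0 := fun h => h3 (by linear_combination 4 * hη - (2 * η - 1) * h)
  have hd1 : (-1 - η : ZMod p) ^ (p / 2) = (2 * η - 1) ^ (p / 2) := by
    rw [show -1 - η = (-1) * (1 - η) * (2 * η - 1) by linear_combination -2 * hη, mul_pow, mul_pow, hn1, hb]
    ring
  have hPQ : (1 - 2 * η : ZMod p) ^ (p / 2) = -(2 * η - 1) ^ (p / 2) := by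
    rw [show 1 - 2 * η = -(2 * η - 1) by ring, hm.neg_pow]
  -- the test points
  have cA : (-η : ZMod p) ≠ 0 ∧ -η ≠ 1 ∧ -η ≠ η :=
    ⟨neg_ne_zero.2 hη0, fun h => h3 (by linear_combination hη + (η - 2) * h),
      fun h => hη0 (mul_left_cancel₀ h2 (by linear_combination -h))⟩
  have cB : (1 - η : ZMod p) ≠ 0 ∧ 1 - η ≠ 1 ∧ 1 - η ≠ η :=
    ⟨fun h => one_ne_zero (α := ZMod p) (by linear_combination hη + η * h),
      fun h => hη0 (by linear_combination -h), fun h => hτ0 (by linear_combination -h)⟩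
  have cC : (-1 : ZMod p) ≠ 0 ∧ (-1 : ZMod p) ≠ 1 ∧ (-1 : ZMod p) ≠ η :=
    ⟨neg_ne_zero.2 one_ne_zero, fun h => h2 (by linear_combination -h),
      fun h => h3 (by linear_combination hη + (η - 2) * h)⟩
  have hP : star η 0 1 = η := star_pos 0 1 1 η (by ring) (one_pow _) (by ring)
  have hQA : star η 0 (-η) = 1 - η := star_pos 0 (-η) (-η) _ (by ring) hne (by linear_combination hη)
  rcases ZMod.pow_div_two_eq_neg_one_or_one p h2 with hc2 | hc2
  · -- the number two is a square: the configuration of Pasch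
    have e1 : star η 0 (-1 : ZMod p) = η - 1 := star_neg hp2 0 (-1) (-1) _ (by ring) hn1 (by ring)
    have e2 : star η 1 (-1 : ZMod p) = 2 * η - 1 :=
      star_neg hp2 1 (-1) (-2) _ (by ring) (by rw [hm.neg_pow, hc2]) (by ring)
    have e3 : star η (η - 1) (2 * η - 1) = η :=
      star_neg hp2 (η - 1) (2 * η - 1) η _ (by ring) he (by linear_combination hη)
    obtain ⟨π, π0, π1, πc, hπ⟩ := htr (-1) (-η) cC.1 cC.2.1 cC.2.2 cA.1 cA.2.1 cA.2.2
    have h : π (star η 0 1) = π (star η (star η 0 (-1)) (star η 1 (-1))) := by rw [hP, e1, e2, e3]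
    rw [hπ, hπ (star η 0 (-1)), hπ 0 (-1), hπ 1 (-1), π0, π1, πc, hP, hQA] at h
    rcases ZMod.pow_div_two_eq_neg_one_or_one p hτ0 with hs | hs
    · rw [star_pos 1 (-η) (-1 - η) (2 - 2 * η) (by ring) (hd1.trans hs) (by linear_combination hη),
        star_neg hp2 (1 - η) (2 - 2 * η) (1 - η) (1 - 2 * η) (by ring) hb (by linear_combination -hη)] at h
      exact h7 (by linear_combination 9 * hη - (3 * η - 2) * h)
    · rw [star_neg hp2 1 (-η) (-1 - η) (η - 1) (by ring) (hd1.trans hs) (by linear_combination -hη),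
        star_pos (1 - η) (η - 1) ((-1) * 2 * (1 - η)) (-1 - η) (by ring)
          (by rw [mul_pow, mul_pow, hn1, hc2, hb]; ring) (by linear_combination -2 * hη)] at h
      exact h7 (by linear_combination 4 * hη - (2 * η - 3) * h)
  · -- the number two is not a square
    have hneg2 : (-2 * η : ZMod p) ^ (p / 2) = -1 := by
      rw [show -2 * η = (-1) * 2 * η by ring, mul_pow, mul_pow, hn1, hc2, he]; ring
    have hQB : star η 0 (1 - η) = -η :=
      star_neg hp2 0 (1 - η) (1 - η) _ (by ring) hb (by linear_combination -hη)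
    have hRB : star η 1 (1 - η) = 2 - η :=
      star_pos 1 (1 - η) (-η) _ (by ring) hne (by linear_combination hη)
    have hPQB : star η η (-η) = η - 2 :=
      star_neg hp2 η (-η) (-2 * η) _ (by ring) hneg2 (by linear_combination -2 * hη)
    have hQRB : star η (-η) (2 - η) = 2 - 3 * η :=
      star_neg hp2 (-η) (2 - η) 2 _ (by ring) hc2 (by ring)
    have hWB : star η (η - 2) (2 - 3 * η) = -2 - 3 * η :=
      star_neg hp2 (η - 2) (2 - 3 * η) (2 * 2 * (1 - η)) _ (by ring)
        (by rw [mul_pow, mul_pow, hc2, hb]; ring) (by linear_combination -4 * hη)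
    have hWA : star η (star η η (1 - η)) (star η (1 - η) (star η 1 (-η))) = 1 := by
      rcases ZMod.pow_div_two_eq_neg_one_or_one p hτ0 with hs | hs
      · rw [star_pos 1 (-η) (-1 - η) (2 - 2 * η) (by ring) (hd1.trans hs) (by linear_combination hη),
          star_neg hp2 η (1 - η) (1 - 2 * η) (-1) (by ring) (by rw [hPQ, hs]) (by linear_combination -2 * hη),
          star_neg hp2 (1 - η) (2 - 2 * η) (1 - η) (1 - 2 * η) (by ring) hb (by linear_combination -hη)]
        exact star_pos (-1) (1 - 2 * η) (2 * (1 - η)) 1 (by ring) (by rw [mul_pow, hc2, hb]; ring)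
          (by linear_combination 2 * hη)
      · rw [star_neg hp2 1 (-η) (-1 - η) (η - 1) (by ring) (hd1.trans hs) (by linear_combination -hη),
          star_pos η (1 - η) (1 - 2 * η) 2 (by ring) (by rw [hPQ, hs, neg_neg]) (by linear_combination 2 * hη),
          star_neg hp2 (1 - η) (η - 1) ((-1) * 2 * (1 - η)) (1 + η) (by ring)
            (by rw [mul_pow, mul_pow, hn1, hc2, hb]; ring) (by linear_combination 2 * hη)]
        exact star_pos 2 (1 + η) (η - 1) 1 (by ring) hsq (by linear_combination -hη)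
    obtain ⟨π, π0, π1, πc, hπ⟩ := htr (-η) (1 - η) cA.1 cA.2.1 cA.2.2 cB.1 cB.2.1 cB.2.2
    have h : π (star η (star η (star η 0 1) (star η 0 (-η))) (star η (star η 0 (-η)) (star η 1 (-η)))) = 1 := by
      rw [hP, hQA, hWA, π1]
    rw [hπ, hπ (star η 0 1), hπ (star η 0 (-η)), hπ 0 1, hπ 0 (-η), hπ 1 (-η), π0, π1, πc, hP, hQB, hRB,
      hPQB, hQRB, hWB] at h
    exact mul_ne_zero h3 h3 (by linear_combination 3 * hη + (η - 2) * h)

end CfsgLib.Perm.Netto
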