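import Cfsg.Agent.Lib.Perm.OddProductPSL
import Mathlib.Algebra.CharP.Lemmas

/-!
# Involutions of `PSL(2, p)`, `p ≡ 3 (mod 4)`, centralise no elements of order dividing `(p - 1) / 2`
-/

set_option autoImplicit false
set_option linter.unusedSectionVars false

namespace CfsgLib.Perm.PSLInvert

open Matrix CfsgLib.OddProdPSL

variable {p : ℕ} [hp : Fact p.Prime]

theorem eq_one_of_commute (hp4 : p % 4 = 3) {s w : ProjectiveSpecialLinearGroup (Fin 2) (ZMod p)}
    (hs : orderOf s = 2) (hw : w ^ (p / 2) = 1) (hsw : Commute s w) : w = 1 := by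
  obtain ⟨S, rfl⟩ := proj_surjective s
  obtain ⟨W, rfl⟩ := proj_surjective w
  have hS := tr_eq_zero S hs
  have hp2 : p ≠ 2 := by omega
  have hodd : Odd (p / 2) := by rw [Nat.odd_iff]; omega
  have h2 : (2 : ZMod p) ≠ 0 := Ring.two_ne_zero (by rw [ZMod.ringChar_zmod_n]; exact hp2)
  have hns : ∀ x : ZMod p, x * x ≠ -1 := fun x hx => by
    have : IsSquare (-1 : ZMod p) := ⟨x, hx.symm⟩
    exact ZMod.exists_sq_eq_neg_one_iff.1 this hp4
  obtain ⟨M, hM⟩ : ∃ M : Matrix (Fin 2) (Fin 2) (ZMod p), M = W.1 := ⟨_, rfl⟩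
  obtain ⟨N, hN⟩ : ∃ N : Matrix (Fin 2) (Fin 2) (ZMod p), N = S.1 := ⟨_, rfl⟩
  have hdS := det_eq S
  have hdW := det_eq W
  simp only [tr] at hS
  rw [← hN] at hdS hS
  rw [← hM] at hdW
  -- the lifts commute up to sign
  obtain ⟨r, hr, hrN⟩ : ∃ r : ZMod p, r * r = 1 ∧ N * M = r • (M * N) := by
    have h1 : proj (S * W * (W * S)⁻¹) = 1 := by
      rw [map_mul, map_inv, map_mul, map_mul, hsw.eq, mul_inv_cancel]
    obtain ⟨Z, hZd⟩ : ∃ Z, Z = S * W * (W * S)⁻¹ := ⟨_, rfl⟩
    rw [← hZd, proj_eq_one_iff] at h1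
    obtain ⟨z1, z2, z3⟩ := h1
    refine ⟨Z.1 0 0, ?_, ?_⟩
    · have := det_eq Z
      linear_combination this + Z.1 1 0 * z1 + Z.1 0 0 * z3
    · have hZ : Z.1 = Z.1 0 0 • (1 : Matrix (Fin 2) (Fin 2) (ZMod p)) := by
        ext i j
        fin_cases i <;> fin_cases j <;> simp [z1, z2, ← z3]
      have h : Z * (W * S) = S * W := by rw [hZd, inv_mul_cancel_right]
      have h' := congrArg Subtype.val h
      simp only [Matrix.SpecialLinearGroup.coe_mul] at h'
      rw [hZ, smul_mul_assoc, one_mul] at h'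
      rw [hM, hN, h']
  have e00 := congrFun (congrFun hrN 0) 0
  have e01 := congrFun (congrFun hrN 0) 1
  have e10 := congrFun (congrFun hrN 1) 0
  have e11 := congrFun (congrFun hrN 1) 1
  simp only [mul_apply, Fin.sum_univ_two, Matrix.smul_apply, smul_eq_mul] at e00 e01 e10 e11
  rcases mul_self_eq_one_iff.1 hr with rfl | rfl
  swap
  · -- anticommuting lifts
    have htW : tr W = 0 := by
      have h : (N 0 0 * N 1 1 - N 0 1 * N 1 0) * (M 0 0 + M 1 1) * 2 = 0 := by
        linear_combination N 1 1 * e00 - N 0 1 * e10 - N 1 0 * e01 + N 0 0 * e11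
      rw [hdS, one_mul] at h
      simp only [tr]
      rw [← hM]
      exact (mul_eq_zero.1 h).resolve_right h2
    by_contra hne
    have h := orderOf_proj_eq_two W htW hne
    have hdvd := orderOf_dvd_of_pow_eq_one hw
    rw [h] at hdvd
    obtain ⟨k, hk⟩ := hdvd
    rw [Nat.odd_iff] at hodd
    omega
  -- commuting lifts
  obtain ⟨α, β, hMαβ⟩ : ∃ α β : ZMod p, M = α • N + β • (1 : Matrix (Fin 2) (Fin 2) (ZMod p)) := by
    have hb : N 0 1 ≠ 0 := fun h => hns (N 0 0) (by
      linear_combination -hdS + N 0 0 * hS - N 1 0 * h)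
    refine ⟨M 0 1 * (N 0 1)⁻¹, M 0 0 - M 0 1 * (N 0 1)⁻¹ * N 0 0, ?_⟩
    have k1 : M 0 1 * (N 0 1)⁻¹ * N 0 1 = M 0 1 := inv_mul_cancel_right₀ hb _
    ext i j
    fin_cases i <;> fin_cases j <;> simp only [Matrix.add_apply, Matrix.smul_apply, smul_eq_mul, Fin.zero_eta,
      Fin.mk_one, one_apply_eq, ne_eq, zero_ne_one, one_ne_zero, not_false_eq_true, one_apply_ne, mul_zero, add_zero,
      mul_one]
    · ring
    · exact k1.symm
    · refine mul_left_cancel₀ hb ?_
      linear_combination e00 - N 1 0 * k1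
    · refine mul_left_cancel₀ hb ?_
      linear_combination e01 - (N 1 1 - N 0 0) * k1
  have hN2 : N * N = -1 := by
    ext i j
    fin_cases i <;> fin_cases j <;> simp only [mul_apply, Fin.sum_univ_two, Matrix.neg_apply, Fin.zero_eta,
      Fin.mk_one, one_apply_eq, ne_eq, zero_ne_one, one_ne_zero, not_false_eq_true, one_apply_ne, neg_zero]
    · linear_combination N 0 0 * hS - hdS
    · linear_combination N 0 1 * hS
    · linear_combination N 1 0 * hS
    · linear_combination N 1 1 * hS - hdS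
  have hNp : N ^ p = -N := by
    obtain ⟨k, hk⟩ : ∃ k, p = 2 * k + 1 := ⟨p / 2, by omega⟩
    have hk' : Odd k := by rw [Nat.odd_iff]; omega
    rw [show N ^ p = N ^ (2 * k + 1) from congrArg (N ^ ·) hk, pow_succ, pow_mul, pow_two, hN2, hk'.neg_one_pow, neg_one_mul]
  have hMp : M ^ p = β • (1 : Matrix (Fin 2) (Fin 2) (ZMod p)) - α • N := by
    rw [hMαβ, add_pow_char_of_commute p (((Commute.one_right N).smul_right β).smul_left α), smul_pow, smul_pow,
      hNp, one_pow, ZMod.pow_card, ZMod.pow_card, smul_neg]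
    abel
  have hdet : α * α + β * β = 1 := by
    have e : ∀ i j, M i j = α * N i j + β * (if i = j then 1 else 0) := fun i j => by
      rw [hMαβ]; simp [one_apply]
    rw [e 0 0, e 1 1, e 0 1, e 1 0] at hdW
    simp at hdW
    linear_combination hdW - α * β * hS - α * α * hdS
  have hM1 : M ^ (p + 1) = 1 := by
    rw [pow_succ, hMp, hMαβ, sub_mul, smul_mul_assoc, smul_mul_assoc, one_mul, mul_add, mul_smul_comm,
      mul_smul_comm, hN2, mul_one, smul_add, smul_add, smul_smul, smul_smul, smul_neg, smul_neg, smul_smul,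
      smul_smul, mul_comm α β]
    rw [show (β * α) • N + (β * β) • (1 : Matrix (Fin 2) (Fin 2) (ZMod p)) -
        (-((α * α) • 1) + (β * α) • N) = (α * α + β * β) • 1 by rw [add_smul]; abel, hdet, one_smul]
  have hW1 : W ^ (p + 1) = 1 := Subtype.ext (by rw [Matrix.SpecialLinearGroup.coe_pow, ← hM, hM1]; rfl)
  have hw1 : proj W ^ (p + 1) = 1 := by rw [← map_pow, hW1, map_one]
  have hg := pow_gcd_eq_one.2 ⟨hw, hw1⟩
  have hgcd : Nat.gcd (p / 2) (p + 1) = 1 := by
    have h1 := Nat.gcd_dvd_left (p / 2) (p + 1)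
    have h2' : Nat.gcd (p / 2) (p + 1) ∣ 2 := by
      have h3 := Nat.dvd_sub (Nat.gcd_dvd_right (p / 2) (p + 1)) (dvd_mul_of_dvd_right h1 2)
      rwa [show p + 1 - 2 * (p / 2) = 2 by omega] at h3
    rcases (Nat.dvd_prime Nat.prime_two).1 h2' with h | h
    · exact h
    · rw [h] at h1
      obtain ⟨k, hk⟩ := h1
      rw [Nat.odd_iff] at hodd
      omega
  rwa [hgcd, pow_one] at hg

end CfsgLib.Perm.PSLInvert
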