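import Mathlib

/-!
# The stabilizer of a uniform partition is maximal
-/

set_option autoImplicit false

namespace CfsgLib.Perm.Groups

open Equiv MulAction
open scoped Pointwise

theorem isCoatom_partitionStab {Ω : Type*} [Fintype Ω] [DecidableEq Ω] (a b : ℕ) (ha : 2 ≤ a) (hb : 2 ≤ b)
    (f : Ω → Fin b) (hf : ∀ i : Fin b, Nat.card {x : Ω // f x = i} = a) :
    IsCoatom (Subgroup.closure {g : Equiv.Perm Ω | ∀ x y : Ω, f x = f y ↔ f (g x) = f (g y)}) := by
  classical
  let W : Subgroup (Perm Ω) :=
    { carrier := {g | ∀ x y : Ω, f x = f y ↔ f (g x) = f (g y)}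
      one_mem' := fun x y => Iff.rfl
      mul_mem' := fun {g h} hg hh x y => (hh x y).trans (hg (h x) (h y))
      inv_mem' := fun {g} hg x y => by
        have := hg (g⁻¹ x) (g⁻¹ y)
        rw [show g (g⁻¹ x) = x from g.apply_symm_apply x, show g (g⁻¹ y) = y from g.apply_symm_apply y] at this
        exact this.symm }
  rw [show Subgroup.closure {g : Equiv.Perm Ω | ∀ x y : Ω, f x = f y ↔ f (g x) = f (g y)} = W from Subgroup.closure_eq W]
  have e : ∀ i, {x : Ω // f x = i} ≃ Fin a := fun i => Fintype.equivFinOfCardEq (by rw [← Nat.card_eq_fintype_card, hf])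
  let E : Ω ≃ (_ : Fin b) × Fin a := (Equiv.sigmaFiberEquiv f).symm.trans (Equiv.sigmaCongrRight e)
  have hE : ∀ x, (E x).1 = f x := fun x => rfl
  have hE' : ∀ q, f (E.symm q) = q.1 := fun q => by rw [← hE, E.apply_symm_apply]
  -- permutations of the labels
  let L : Perm (Fin b) → Perm (Fin a) → Perm Ω := fun π τ =>
    E.trans (((Equiv.sigmaEquivProd _ _).trans (Equiv.prodCongr π τ)).trans ((Equiv.sigmaEquivProd _ _).symm.trans E.symm))
  have hL : ∀ π τ x, L π τ x = E.symm ⟨π (E x).1, τ (E x).2⟩ := fun π τ x => rfl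
  have hLW : ∀ π τ, L π τ ∈ W := fun π τ x y => by rw [hL, hL, hE', hE', hE, hE, π.injective.eq_iff]
  have hswapW : ∀ x y, f x = f y → swap x y ∈ W := by
    intro x y hxy u v
    have hkey : ∀ w, f (swap x y w) = f w := fun w => by
      rcases eq_or_ne w x with rfl | h1
      · rw [swap_apply_left, hxy]
      rcases eq_or_ne w y with rfl | h2
      · rw [swap_apply_right, hxy]
      rw [swap_apply_of_ne_of_ne h1 h2]
    rw [hkey, hkey]
  have hsame : ∀ x, ∃ y, y ≠ x ∧ f y = f x := by
    intro x
    have : 1 < Fintype.card {y : Ω // f y = f x} := by rw [← Nat.card_eq_fintype_card, hf]; omega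
    obtain ⟨y, hy⟩ := Fintype.exists_ne_of_one_lt_card this ⟨x, rfl⟩
    exact ⟨y.1, fun h => hy (Subtype.ext h), y.2⟩
  have hfib : ∀ i, ∃ x, f x = i := fun i => ⟨E.symm ⟨i, ⟨0, by omega⟩⟩, hE' _⟩
  refine ⟨fun htop => ?_, fun M hM => ?_⟩
  · obtain ⟨x, hx⟩ := hfib ⟨0, by omega⟩
    obtain ⟨y, hy⟩ := hfib ⟨1, by omega⟩
    obtain ⟨x', hx', hfx⟩ := hsame x
    have hmem : swap x' y ∈ W := htop ▸ Subgroup.mem_top _
    have h1 := (hmem x x').1 hfx.symm
    have hxy : x ≠ y := fun h => by rw [h, hy] at hx; exact absurd hx (by simp [Fin.ext_iff])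
    rw [swap_apply_of_ne_of_ne hx'.symm hxy, swap_apply_left, hx, hy] at h1
    simp [Fin.ext_iff] at h1
  · obtain ⟨g, hgM, hgW⟩ := SetLike.exists_of_lt hM
    haveI : IsPretransitive M Ω := ⟨fun x y => ⟨⟨_, hM.le (hLW (swap (E x).1 (E y).1) (swap (E x).2 (E y).2))⟩, by
      show L _ _ x = y
      rw [hL, swap_apply_left, swap_apply_left]
      exact E.symm_apply_apply y⟩⟩
    -- blocks
    have hblock : ∀ B : Set Ω, IsBlock M B → ∀ x ∈ B, ∀ y ∈ B, x ≠ y →
        B = Set.univ ∨ B = {z | f z = f x} := by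
      intro B hB x hx y hy hxy
      have hmove : ∀ w ∈ W, ∀ z ∈ B, w z = z → ∀ u ∈ B, w u ∈ B := by
        intro w hw z hz hwz u hu
        have h1 : (⟨w, hM.le hw⟩ : M) • B = B := isBlock_iff_smul_eq_of_mem.1 hB hz (show w z ∈ B by rw [hwz]; exact hz)
        rw [← h1]
        exact Set.smul_mem_smul_set hu
      -- a whole fibre around every second point
      have hfill : ∀ u ∈ B, ∀ v ∈ B, u ≠ v → f u ≠ f v → ∀ z, f z = f v → z ∈ B := by
        intro u hu v hv huv huv' z hz
        have h1 := hmove _ (hswapW v z hz.symm) u hu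
          (swap_apply_of_ne_of_ne huv (fun h => huv' (h ▸ hz))) v hv
        rwa [swap_apply_left] at h1
      by_cases hall : ∀ u ∈ B, f u = f x
      · right
        refine Set.Subset.antisymm (fun u hu => hall u hu) fun z hz => ?_
        by_cases hzx : z = x
        · rwa [hzx]
        by_cases hzy : z = y
        · rwa [hzy]
        have h1 := hmove _ (hswapW y z ((hall y hy).trans hz.symm)) x hx
          (swap_apply_of_ne_of_ne hxy (Ne.symm hzx)) y hy
        rwa [swap_apply_left] at h1
      · push_neg at hall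
        obtain ⟨u, hu, hux⟩ := hall
        left
        have hne : x ≠ u := fun h => hux (h ▸ rfl)
        have hX := hfill u hu x hx hne.symm hux
        have hU := hfill x hx u hu hne (Ne.symm hux)
        refine Set.eq_univ_of_forall fun z => ?_
        by_cases h1 : f z = f x
        · exact hX z h1
        by_cases h2 : f z = f u
        · exact hU z h2
        have h3 := hmove _ (hLW (swap (f u) (f z)) 1) x hx (by
          rw [hL, hE, swap_apply_of_ne_of_ne (Ne.symm hux) (Ne.symm h1), Perm.one_apply]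
          exact (congrArg E.symm (Sigma.ext (hE x).symm HEq.rfl)).trans (E.symm_apply_apply x))
          (E.symm ⟨f u, (E z).2⟩) (hU _ (hE' _))
        rw [hL, E.apply_symm_apply, swap_apply_left, Perm.one_apply] at h3
        exact (congrArg E.symm (Sigma.ext (hE z).symm HEq.rfl)).trans (E.symm_apply_apply z) ▸ h3
    haveI : IsPreprimitive M Ω := by
      refine ⟨fun {B} hB => ?_⟩
      by_cases hsub : B.Subsingleton
      · exact Or.inl hsub
      right
      rw [Set.not_subsingleton_iff] at hsub
      obtain ⟨x, hx, y, hy, hxy⟩ := hsub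
      rcases hblock B hB x hx y hy hxy with h | h
      · exact h
      exfalso
      apply hgW
      have hfwd : ∀ w ∈ M, ∀ u v, f u = f v → f (w u) = f (w v) := by
        intro w hw u v huv
        let t : M := ⟨_, hM.le (hLW (swap (f x) (f u)) 1)⟩
        have hBu : t • B = {z | f z = f u} := by
          ext z
          rw [Set.mem_smul_set_iff_inv_smul_mem, h]
          obtain ⟨z', rfl⟩ := (L (swap (f x) (f u)) 1).surjective z
          show f (((L (swap (f x) (f u)) 1)⁻¹) (L (swap (f x) (f u)) 1 z')) = f x ↔ f (L (swap (f x) (f u)) 1 z') = f u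
          rw [show (L (swap (f x) (f u)) 1)⁻¹ (L (swap (f x) (f u)) 1 z') = z' from (L (swap (f x) (f u)) 1).symm_apply_apply z', hL, hE', hE]
          constructor
          · intro h1
            rw [h1, swap_apply_left]
          · intro h1
            have h2 := congrArg (swap (f x) (f u)) h1
            rwa [swap_apply_self, swap_apply_right] at h2
        have hb2 : IsBlock M ((⟨w, hw⟩ : M) • (t • B)) := (hB.translate t).translate ⟨w, hw⟩
        obtain ⟨u', hu', hfu'⟩ := hsame u
        have hin : ∀ z, f z = f u → w z ∈ (⟨w, hw⟩ : M) • (t • B) := fun z hz =>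
          Set.smul_mem_smul_set (a := (⟨w, hw⟩ : M)) (by rw [hBu]; exact hz)
        rcases hblock _ hb2 (w u) (hin u rfl) (w u') (hin u' hfu') (w.injective.ne hu'.symm) with h1 | h1
        · exfalso
          obtain ⟨z, hz⟩ : ∃ z, f z ≠ f u := by
            obtain ⟨i, hi⟩ := Fintype.exists_ne_of_one_lt_card (α := Fin b) (by rw [Fintype.card_fin]; omega) (f u)
            obtain ⟨z, rfl⟩ := hfib i
            exact ⟨z, hi⟩
          have h2 : (⟨w, hw⟩ : M) • z ∈ (⟨w, hw⟩ : M) • (t • B) := h1 ▸ Set.mem_univ _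
          rw [Set.smul_mem_smul_set_iff, hBu] at h2
          exact hz h2
        · have h2 := hin v huv.symm
          rw [h1] at h2
          exact Eq.symm h2
      intro u v
      exact ⟨hfwd g hgM u v, fun huv => by simpa using hfwd g⁻¹ (inv_mem hgM) _ _ huv⟩
    obtain ⟨x, hx⟩ := hfib ⟨0, by omega⟩
    obtain ⟨x', hx', hfx⟩ := hsame x
    exact Perm.subgroup_eq_top_of_isPreprimitive_of_isSwap_mem inferInstance (swap x x') ⟨x, x', hx'.symm, rfl⟩
      (hM.le (hswapW x x' hfx.symm))

end CfsgLib.Perm.Groups
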