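import Mathlib

/-!
# The stabilizer of a uniform partition in the alternating group is maximal
-/

set_option autoImplicit false
set_option linter.all false

namespace CfsgLib.Perm.Groups.PartitionAlt

open Equiv MulAction
open scoped Pointwise

variable {Ω : Type*} [Fintype Ω] [DecidableEq Ω] {b : ℕ}

/-- the permutations preserving the partition by fibres -/
def wr (f : Ω → Fin b) : Subgroup (Perm Ω) where
  carrier := {g | ∀ x y : Ω, f x = f y ↔ f (g x) = f (g y)}
  one_mem' := fun x y => Iff.rfl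
  mul_mem' := fun {g h} hg hh x y => (hh x y).trans (hg (h x) (h y))
  inv_mem' := fun {g} hg x y => by
    have := hg (g⁻¹ x) (g⁻¹ y)
    rw [show g (g⁻¹ x) = x from g.apply_symm_apply x, show g (g⁻¹ y) = y from g.apply_symm_apply y] at this
    exact this.symm

variable {f : Ω → Fin b}

theorem swap_mem {x y : Ω} (hxy : f x = f y) : swap x y ∈ wr f := by
  intro u v
  have hkey : ∀ w, f (swap x y w) = f w := fun w => by
    rcases eq_or_ne w x with rfl | h1
    · rw [swap_apply_left, hxy]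
    rcases eq_or_ne w y with rfl | h2
    · rw [swap_apply_right, hxy]
    rw [swap_apply_of_ne_of_ne h1 h2]
  rw [hkey, hkey]

/-- adjust the sign with a transposition inside a block -/
theorem exists_even {h : Perm Ω} (hh : h ∈ wr f) {p q : Ω} (hpq : p ≠ q) (hf : f p = f q) :
    ∃ w, w ∈ wr f ⊓ alternatingGroup Ω ∧ (∀ r, r ≠ p → r ≠ q → w r = h r) ∧ (∀ r, f (w r) = f (h r)) := by
  rcases Int.units_eq_one_or (Perm.sign h) with hs | hs
  · exact ⟨h, ⟨hh, Perm.mem_alternatingGroup.2 hs⟩, fun r _ _ => rfl, fun r => rfl⟩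
  refine ⟨h * swap p q, ⟨(wr f).mul_mem hh (swap_mem hf), Perm.mem_alternatingGroup.2 ?_⟩, fun r h1 h2 => ?_, fun r => ?_⟩
  · rw [map_mul, hs, Perm.sign_swap hpq]; rfl
  · rw [Perm.mul_apply, swap_apply_of_ne_of_ne h1 h2]
  · rw [Perm.mul_apply]
    refine (hh _ _).1 ?_
    rcases eq_or_ne r p with rfl | h1
    · rw [swap_apply_left, hf]
    rcases eq_or_ne r q with rfl | h2
    · rw [swap_apply_right, hf]
    rw [swap_apply_of_ne_of_ne h1 h2]

theorem isCoatom_inf_alternating (a : ℕ) (h8 : Fintype.card Ω ≠ 8) (ha : 2 ≤ a) (hb : 2 ≤ b) (f : Ω → Fin b)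
    (hf : ∀ i : Fin b, Nat.card {x : Ω // f x = i} = a) :
    IsCoatom ((wr f ⊓ alternatingGroup Ω).subgroupOf (alternatingGroup Ω)) := by
  classical
  have e : ∀ i, {x : Ω // f x = i} ≃ Fin a := fun i => Fintype.equivFinOfCardEq (by rw [← Nat.card_eq_fintype_card, hf])
  let E : Ω ≃ (_ : Fin b) × Fin a := (Equiv.sigmaFiberEquiv f).symm.trans (Equiv.sigmaCongrRight e)
  have hE : ∀ x, (E x).1 = f x := fun x => rfl
  have hE' : ∀ q, f (E.symm q) = q.1 := fun q => by rw [← hE, E.apply_symm_apply]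
  have hEE : ∀ x, E.symm ⟨f x, (E x).2⟩ = x := fun x =>
    (congrArg E.symm (Sigma.ext (hE x).symm HEq.rfl)).trans (E.symm_apply_apply x)
  let L : Perm (Fin b) → Perm (Fin a) → Perm Ω := fun π τ =>
    E.trans (((Equiv.sigmaEquivProd _ _).trans (Equiv.prodCongr π τ)).trans ((Equiv.sigmaEquivProd _ _).symm.trans E.symm))
  have hL : ∀ π τ x, L π τ x = E.symm ⟨π (E x).1, τ (E x).2⟩ := fun π τ x => rfl
  have hLW : ∀ π τ, L π τ ∈ wr f := fun π τ x y => by rw [hL, hL, hE', hE', hE, hE, π.injective.eq_iff]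
  have hcard : Fintype.card Ω = b * a := by
    rw [Fintype.card_congr E, Fintype.card_congr (Equiv.sigmaEquivProd _ _), Fintype.card_prod, Fintype.card_fin,
      Fintype.card_fin]
  have hsame : ∀ x, ∃ y, y ≠ x ∧ f y = f x := by
    intro x
    have : 1 < Fintype.card {y : Ω // f y = f x} := by rw [← Nat.card_eq_fintype_card, hf]; omega
    obtain ⟨y, hy⟩ := Fintype.exists_ne_of_one_lt_card this ⟨x, rfl⟩
    exact ⟨y.1, fun h => hy (Subtype.ext h), y.2⟩
  have hpair : ∀ i, ∃ p q : Ω, p ≠ q ∧ f p = i ∧ f q = i := fun i => by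
    obtain ⟨q, hq, hfq⟩ := hsame (E.symm ⟨i, ⟨0, by omega⟩⟩)
    exact ⟨_, q, hq.symm, hE' _, hfq.trans (hE' _)⟩
  have hother : ∀ i : Fin b, ∃ j, j ≠ i := fun i =>
    Fintype.exists_ne_of_one_lt_card (α := Fin b) (by rw [Fintype.card_fin]; omega) i
  -- not the whole group
  refine ⟨fun htop => ?_, fun M hM => ?_⟩
  · obtain ⟨x, x', hx', hfx, hfx'⟩ := hpair ⟨0, by omega⟩
    obtain ⟨y, -, -, hfy, -⟩ := hpair ⟨1, by omega⟩
    have hxy : x ≠ y := fun h => by rw [h, hfy] at hfx; simp [Fin.ext_iff] at hfx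
    have hx'y : x' ≠ y := fun h => by rw [h, hfy] at hfx'; simp [Fin.ext_iff] at hfx'
    have hA : swap x y * swap x x' ∈ alternatingGroup Ω := by
      rw [Perm.mem_alternatingGroup, map_mul, Perm.sign_swap hxy, Perm.sign_swap hx']
      rfl
    have hmem : (⟨_, hA⟩ : alternatingGroup Ω) ∈ (wr f ⊓ alternatingGroup Ω).subgroupOf (alternatingGroup Ω) :=
      htop ▸ Subgroup.mem_top _
    have h1 : f ((swap x y * swap x x') x) = f ((swap x y * swap x x') x') := (hmem.1 x x').1 (hfx.trans hfx'.symm)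
    simp only [Perm.mul_apply, swap_apply_left, swap_apply_right,
      swap_apply_of_ne_of_ne hx'.symm hx'y] at h1
    rw [hfx', hfy] at h1
    simp [Fin.ext_iff] at h1
  let N : Subgroup (Perm Ω) := M.map (alternatingGroup Ω).subtype
  have hWN : wr f ⊓ alternatingGroup Ω ≤ N := fun w hw => ⟨⟨w, hw.2⟩, hM.le hw, rfl⟩
  have hNA : N ≤ alternatingGroup Ω := Subgroup.map_subtype_le M
  suffices halt : alternatingGroup Ω ≤ N by
    refine eq_top_iff.2 fun x _ => ?_
    obtain ⟨y, hy, hyx⟩ := halt x.2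
    rwa [Subtype.ext hyx] at hy
  obtain ⟨g₀, hg₀M, hg₀W⟩ := SetLike.exists_of_lt hM
  have hgN : (g₀ : Perm Ω) ∈ N := ⟨g₀, hg₀M, rfl⟩
  have hgW : (g₀ : Perm Ω) ∉ wr f := fun h => hg₀W ⟨h, g₀.2⟩
  -- two blocks of size two
  by_cases h22 : b = 2 ∧ a = 2
  · have h4 : Nat.card Ω = 4 := by rw [Nat.card_eq_fintype_card, hcard, h22.1, h22.2]
    haveI : Nontrivial Ω := Fintype.one_lt_card_iff_nontrivial.1 (by rw [hcard, h22.1, h22.2]; norm_num)
    have hA : Nat.card (alternatingGroup Ω) = 12 := by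
      rw [nat_card_alternatingGroup, h4]
      decide
    obtain ⟨S, hS⟩ : ∃ S, S = (wr f ⊓ alternatingGroup Ω).subgroupOf (alternatingGroup Ω) := ⟨_, rfl⟩
    rw [← hS] at hM
    have h4le : 4 ≤ Nat.card S := by
      obtain ⟨x, x', hx', hfx, hfx'⟩ := hpair ⟨0, by omega⟩
      obtain ⟨y, y', hy', hfy, hfy'⟩ := hpair ⟨1, by omega⟩
      have hne : ∀ u v, f u = (⟨0, by omega⟩ : Fin b) → f v = (⟨1, by omega⟩ : Fin b) → u ≠ v := fun u v h1 h2 h => by
        rw [h, h2] at h1; simp [Fin.ext_iff] at h1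
      obtain ⟨m, hm, hme, hmf⟩ := exists_even (hLW (swap ⟨0, by omega⟩ ⟨1, by omega⟩) 1) hy' (hfy.trans hfy'.symm)
      have hd : swap x x' * swap y y' ∈ wr f ⊓ alternatingGroup Ω :=
        ⟨(wr f).mul_mem (swap_mem (hfx.trans hfx'.symm)) (swap_mem (hfy.trans hfy'.symm)), Perm.mem_alternatingGroup.2 (by
          rw [map_mul, Perm.sign_swap hx', Perm.sign_swap hy']; rfl)⟩
      have hdx : (swap x x' * swap y y') x = x' := by
        rw [Perm.mul_apply, swap_apply_of_ne_of_ne (hne x y hfx hfy) (hne x y' hfx hfy'), swap_apply_left]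
      have hmx : ∀ u, f u = (⟨0, by omega⟩ : Fin b) → f (m u) = (⟨1, by omega⟩ : Fin b) := fun u hu => by
        rw [hmf, hL, hE', hE, hu, swap_apply_left]
      let s : Fin 4 → S := ![1, ⟨⟨_, hd.2⟩, hS ▸ hd⟩, ⟨⟨_, hm.2⟩, hS ▸ hm⟩,
        ⟨⟨_, hm.2⟩, hS ▸ hm⟩ * ⟨⟨_, hd.2⟩, hS ▸ hd⟩]
      let img : S → Ω := fun z => (z.1 : Perm Ω) x
      have himg : Function.Injective (img ∘ s) := by
        intro i j hij
        have hmne : ∀ u, f u = (⟨0, by omega⟩ : Fin b) → m u ≠ x ∧ m u ≠ x' := fun u hu =>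
          ⟨(hne x _ hfx (hmx u hu)).symm, (hne x' _ hfx' (hmx u hu)).symm⟩
        have e0 : (img ∘ s) 0 = x := rfl
        have e1 : (img ∘ s) 1 = x' := hdx
        have e2 : (img ∘ s) 2 = m x := rfl
        have e3 : (img ∘ s) 3 = m x' := congrArg m hdx
        fin_cases i <;> fin_cases j <;> first
          | rfl
          | (exfalso; simp only [Fin.zero_eta, Fin.mk_one, Fin.reduceFinMk, e0, e1, e2, e3] at hij
             first
              | exact hx' hij | exact hx' hij.symm | exact (hmne x hfx).1 hij | exact (hmne x hfx).1 hij.symm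
              | exact (hmne x hfx).2 hij | exact (hmne x hfx).2 hij.symm | exact (hmne x' hfx').1 hij
              | exact (hmne x' hfx').1 hij.symm | exact (hmne x' hfx').2 hij | exact (hmne x' hfx').2 hij.symm
              | exact hx' (m.injective hij) | exact hx' (m.injective hij).symm)
      have := Nat.card_le_card_of_injective s (himg.of_comp)
      rwa [Nat.card_fin] at this
    have h1 := Subgroup.card_dvd_of_le hM.le
    have h2 := M.card_subgroup_dvd_card
    rw [hA] at h2
    have h3 : Nat.card S < Nat.card M := lt_of_le_of_ne (Subgroup.card_le_of_le hM.le) fun e =>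
      hM.ne (Subgroup.eq_of_le_of_card_ge hM.le e.ge)
    have h12 : Nat.card M = 12 := by
      have hle := Nat.le_of_dvd (by norm_num) h2
      interval_cases hc : Nat.card M <;> (try omega) <;> interval_cases hs : Nat.card S <;> omega
    have hMtop : M = ⊤ := Subgroup.eq_top_of_card_eq M (by rw [h12, hA])
    intro x hx
    exact ⟨⟨x, hx⟩, hMtop ▸ Subgroup.mem_top _, rfl⟩
  have h3 : 3 ≤ a ∨ 3 ≤ b := by omega
  have hpt : ∀ (x y : Ω), ∃ w ∈ wr f ⊓ alternatingGroup Ω, w x = y := by
    intro x y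
    obtain ⟨j, hj⟩ := hother (f x)
    obtain ⟨p, q, hpq, hp, hq⟩ := hpair j
    obtain ⟨w, hw, hwe, -⟩ := exists_even (hLW (swap (E x).1 (E y).1) (swap (E x).2 (E y).2)) hpq (hp.trans hq.symm)
    refine ⟨w, hw, ?_⟩
    rw [hwe x (fun h => hj (hp.symm.trans (congrArg f h).symm)) (fun h => hj (hq.symm.trans (congrArg f h).symm)),
      hL, swap_apply_left, swap_apply_left]
    exact E.symm_apply_apply y
  haveI : IsPretransitive N Ω := ⟨fun x y => by
    obtain ⟨w, hw, hwx⟩ := hpt x y
    exact ⟨⟨w, hWN hw⟩, hwx⟩⟩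
  have hblock : ∀ B : Set Ω, IsBlock N B → ∀ x ∈ B, ∀ y ∈ B, x ≠ y →
      B = Set.univ ∨ B = {z | f z = f x} := by
    intro B hB x hx y hy hxy
    have hmove : ∀ w ∈ wr f ⊓ alternatingGroup Ω, ∀ z ∈ B, w z = z → ∀ u ∈ B, w u ∈ B := by
      intro w hw z hz hwz u hu
      have h1 : (⟨w, hWN hw⟩ : N) • B = B := isBlock_iff_smul_eq_of_mem.1 hB hz (show w z ∈ B by rw [hwz]; exact hz)
      rw [← h1]
      exact Set.smul_mem_smul_set hu
    have hfill : ∀ u ∈ B, ∀ v ∈ B, f u ≠ f v → ∀ z, f z = f v → z ∈ B := by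
      intro u hu v hv huv z hz
      have huz : u ≠ z := fun h => huv (h ▸ hz)
      have huv' : u ≠ v := fun h => huv (h ▸ rfl)
      rcases eq_or_ne z v with rfl | hzv
      · exact hv
      obtain ⟨p, q, hpq, hpqf, hp, hq⟩ : ∃ p q, p ≠ q ∧ f p = f q ∧ (p ≠ u ∧ p ≠ v ∧ p ≠ z) ∧ (q ≠ u ∧ q ≠ v ∧ q ≠ z) := by
        rcases h3 with h3 | h3
        · have : 2 ≤ (({r : Ω | f r = f u} : Finset Ω).erase u).card := by
            rw [Finset.card_erase_of_mem (by simp)]
            have := hf (f u)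
            rw [Nat.card_eq_fintype_card, Fintype.card_subtype] at this
            omega
          obtain ⟨p, hp, q, hq, hpq⟩ := Finset.one_lt_card.1 this
          simp only [Finset.mem_erase, Finset.mem_filter, Finset.mem_univ, true_and] at hp hq
          refine ⟨p, q, hpq, hp.2.trans hq.2.symm, ⟨hp.1, fun h => huv ?_, fun h => huv ?_⟩,
            ⟨hq.1, fun h => huv ?_, fun h => huv ?_⟩⟩
          · rw [← hp.2, h]
          · rw [← hp.2, h, hz]
          · rw [← hq.2, h]
          · rw [← hq.2, h, hz]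
        · obtain ⟨j, hj⟩ : ∃ j, j ∉ ({f u, f v} : Finset (Fin b)) := by
            by_contra hcon
            push Not at hcon
            have := Finset.card_le_card (show (Finset.univ : Finset (Fin b)) ⊆ {f u, f v} from fun j _ => hcon j)
            rw [Finset.card_univ, Fintype.card_fin] at this
            have := Finset.card_le_two (a := f u) (b := f v)
            omega
          simp only [Finset.mem_insert, Finset.mem_singleton, not_or] at hj
          obtain ⟨p, q, hpq, hp, hq⟩ := hpair j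
          exact ⟨p, q, hpq, hp.trans hq.symm, ⟨fun h => hj.1 (by rw [← hp, h]), fun h => hj.2 (by rw [← hp, h]),
            fun h => hj.2 (by rw [← hp, h, hz])⟩, ⟨fun h => hj.1 (by rw [← hq, h]), fun h => hj.2 (by rw [← hq, h]),
            fun h => hj.2 (by rw [← hq, h, hz])⟩⟩
      obtain ⟨w, hw, hwe, -⟩ := exists_even (swap_mem (x := v) (y := z) hz.symm) hpq hpqf
      have h1 := hmove w hw u hu (by rw [hwe u hp.1.symm hq.1.symm, swap_apply_of_ne_of_ne huv' huz]) v hv
      rwa [hwe v hp.2.1.symm hq.2.1.symm, swap_apply_left] at h1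
    by_cases hall : ∀ u ∈ B, f u = f x
    · right
      refine Set.Subset.antisymm (fun u hu => hall u hu) fun z hz => ?_
      replace hz : f z = f x := hz
      by_cases hzx : z = x
      · rwa [hzx]
      by_cases hzy : z = y
      · rwa [hzy]
      obtain ⟨j, hj⟩ := hother (f x)
      obtain ⟨p, q, hpq, hp, hq⟩ := hpair j
      have hne : ∀ r, f r = f x → r ≠ p ∧ r ≠ q := fun r hr =>
        ⟨fun h => hj (by rw [← hp, ← h, hr]), fun h => hj (by rw [← hq, ← h, hr])⟩
      obtain ⟨w, hw, hwe, -⟩ := exists_even (swap_mem (x := y) (y := z) ((hall y hy).trans hz.symm)) hpq (hp.trans hq.symm)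
      have h1 := hmove w hw x hx (by
        rw [hwe x (hne x rfl).1 (hne x rfl).2, swap_apply_of_ne_of_ne hxy (Ne.symm hzx)]) y hy
      rwa [hwe y (hne y (hall y hy)).1 (hne y (hall y hy)).2, swap_apply_left] at h1
    · push Not at hall
      obtain ⟨u, hu, hux⟩ := hall
      left
      have hX := hfill u hu x hx hux
      have hU := hfill x hx u hu (Ne.symm hux)
      refine Set.eq_univ_of_forall fun z => ?_
      by_cases h1 : f z = f x
      · exact hX z h1
      by_cases h2 : f z = f u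
      · exact hU z h2
      obtain ⟨u', hu', hfu'⟩ := hsame u
      obtain ⟨w, hw, hwe, hwf⟩ := exists_even (hLW (swap (f u) (f z)) 1) hu' hfu'
      have hwx : w x = x := by
        rw [hwe x (fun h => hux (by rw [h, hfu'])) (fun h => hux (by rw [h])), hL, hE,
          swap_apply_of_ne_of_ne (Ne.symm hux) (Ne.symm h1), Perm.one_apply]
        exact hEE x
      have hsrc : f (w⁻¹ z) = f u := by
        have h4 := hwf (w⁻¹ z)
        rw [show w (w⁻¹ z) = z from w.apply_symm_apply z, hL, hE', hE] at h4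
        replace h4 : f z = swap (f u) (f z) (f (w⁻¹ z)) := h4
        rw [← swap_apply_self (f u) (f z) (f (w⁻¹ z)), ← h4, swap_apply_right]
      have h5 := hmove w hw x hx hwx _ (hU _ hsrc)
      rwa [show w (w⁻¹ z) = z from w.apply_symm_apply z] at h5
  haveI hprim : IsPreprimitive N Ω := by
    refine ⟨fun {B} hB => ?_⟩
    by_cases hsub : B.Subsingleton
    · exact Or.inl hsub
    right
    rw [Set.not_subsingleton_iff] at hsub
    obtain ⟨x, hx, y, hy, hxy⟩ := hsub
    rcases hblock B hB x hx y hy hxy with h | h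
    · exact h
    exfalso
    apply hgW
    have hfwd : ∀ w ∈ N, ∀ u v, f u = f v → f (w u) = f (w v) := by
      intro w hw u v huv
      obtain ⟨t, ht, htx⟩ := hpt x u
      have hBu : (⟨t, hWN ht⟩ : N) • B = {z | f z = f u} := by
        ext z
        rw [Set.mem_smul_set_iff_inv_smul_mem, h]
        show f (t⁻¹ z) = f x ↔ f z = f u
        rw [ht.1 (t⁻¹ z) x, show t (t⁻¹ z) = z from t.apply_symm_apply z, htx]
      have hb2 : IsBlock N ((⟨w, hw⟩ : N) • ((⟨t, hWN ht⟩ : N) • B)) := (hB.translate _).translate _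
      obtain ⟨u', hu', hfu'⟩ := hsame u
      have hin : ∀ z, f z = f u → w z ∈ (⟨w, hw⟩ : N) • ((⟨t, hWN ht⟩ : N) • B) := fun z hz =>
        Set.smul_mem_smul_set (a := (⟨w, hw⟩ : N)) (by rw [hBu]; exact hz)
      rcases hblock _ hb2 (w u) (hin u rfl) (w u') (hin u' hfu') (w.injective.ne hu'.symm) with h1 | h1
      · exfalso
        obtain ⟨j, hj⟩ := hother (f u)
        obtain ⟨z, -, -, hz, -⟩ := hpair j
        have h2 : (⟨w, hw⟩ : N) • z ∈ (⟨w, hw⟩ : N) • ((⟨t, hWN ht⟩ : N) • B) := h1 ▸ Set.mem_univ _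
        rw [Set.smul_mem_smul_set_iff, hBu] at h2
        exact hj (hz.symm.trans h2)
      · have h2 := hin v huv.symm
        rw [h1] at h2
        exact Eq.symm h2
    intro u v
    exact ⟨hfwd _ hgN u v, fun huv => by simpa using hfwd _ (inv_mem hgN) _ _ huv⟩
  -- a three-cycle
  suffices h3c : ∃ c ∈ N, Perm.IsThreeCycle c by
    obtain ⟨c, hc, hc3⟩ := h3c
    exact Perm.alternatingGroup_le_of_isPreprimitive_of_isThreeCycle_mem hprim hc3 hc
  rcases Nat.lt_or_ge a 3 with ha3 | ha3
  swap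
  · obtain ⟨x, -, -, -, -⟩ := hpair ⟨0, by omega⟩
    have : 2 < ({r : Ω | f r = f x} : Finset Ω).card := by
      have := hf (f x)
      rw [Nat.card_eq_fintype_card, Fintype.card_subtype] at this
      omega
    obtain ⟨p, q, r, hp, hq, hr, hpq, hpr, hqr⟩ := Finset.two_lt_card_iff.1 this
    simp only [Finset.mem_filter, Finset.mem_univ, true_and] at hp hq hr
    have hc := Perm.isThreeCycle_swap_mul_swap_same hpq hpr hqr
    exact ⟨_, hWN ⟨(wr f).mul_mem (swap_mem (hp.trans hq.symm)) (swap_mem (hp.trans hr.symm)),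
      hc.mem_alternatingGroup⟩, hc⟩
  have ha2 : a = 2 := by omega
  subst ha2
  have hb3 : 3 ≤ b := by omega
  have huniq : ∀ x y z, y ≠ x → z ≠ x → f y = f x → f z = f x → y = z := by
    intro x y z hy hz hfy hfz
    by_contra hne
    have h := hf (f x)
    rw [Nat.card_eq_fintype_card, Fintype.card_subtype] at h
    have h2 : 2 < ({r : Ω | f r = f x} : Finset Ω).card :=
      Finset.two_lt_card_iff.2 ⟨x, y, z, by simp, by simp [hfy], by simp [hfz], hy.symm, hz.symm, hne⟩
    omega
  choose bar hbar hfbar using hsame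
  have hflip : ∀ x y, f x ≠ f y → swap x (bar x) * swap y (bar y) ∈ wr f ⊓ alternatingGroup Ω := fun x y _ =>
    ⟨(wr f).mul_mem (swap_mem (hfbar x).symm) (swap_mem (hfbar y).symm), Perm.mem_alternatingGroup.2 (by
      rw [map_mul, Perm.sign_swap (hbar x).symm, Perm.sign_swap (hbar y).symm]; rfl)⟩
  -- a block carried onto a non-block
  obtain ⟨x₀, hx₀⟩ : ∃ x, f ((g₀ : Perm Ω) (bar x)) ≠ f ((g₀ : Perm Ω) x) := by
    by_contra hcon
    push Not at hcon
    refine hgW fun x y => ⟨fun h => ?_, fun h => ?_⟩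
    · rcases eq_or_ne y x with rfl | hyx
      · rfl
      rw [huniq x y (bar x) hyx (hbar x) h.symm (hfbar x), hcon]
    · rcases eq_or_ne y x with rfl | hyx
      · rfl
      have h1 := huniq ((g₀ : Perm Ω) x) ((g₀ : Perm Ω) y) ((g₀ : Perm Ω) (bar x))
        ((g₀ : Perm Ω).injective.ne hyx) ((g₀ : Perm Ω).injective.ne (hbar x)) h.symm (hcon x)
      rw [(g₀ : Perm Ω).injective h1, hfbar]
  obtain ⟨g, hg⟩ : ∃ g, g = (g₀ : Perm Ω) := ⟨_, rfl⟩
  rw [← hg] at hx₀ hgN
  obtain ⟨A, hA⟩ : ∃ A, A = g x₀ := ⟨_, rfl⟩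
  obtain ⟨B, hB⟩ : ∃ B, B = g (bar x₀) := ⟨_, rfl⟩
  rw [← hA, ← hB] at hx₀
  have hAB : A ≠ B := fun h => hx₀ (by rw [h])
  obtain ⟨x₁, hx₁, hne⟩ : ∃ x₁, f x₁ ≠ f x₀ ∧
      ¬ (g x₁ = bar A ∧ g (bar x₁) = bar B ∨ g x₁ = bar B ∧ g (bar x₁) = bar A) := by
    by_contra hcon
    push Not at hcon
    obtain ⟨j, hj⟩ := hother (f x₀)
    obtain ⟨j', hj'⟩ : ∃ j', j' ∉ ({f x₀, j} : Finset (Fin b)) := by
      by_contra hc
      push Not at hc
      have := Finset.card_le_card (show (Finset.univ : Finset (Fin b)) ⊆ {f x₀, j} from fun i _ => hc i)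
      rw [Finset.card_univ, Fintype.card_fin] at this
      have := Finset.card_le_two (a := f x₀) (b := j)
      omega
    simp only [Finset.mem_insert, Finset.mem_singleton, not_or] at hj'
    obtain ⟨p, -, -, hp, -⟩ := hpair j
    obtain ⟨p', -, -, hp', -⟩ := hpair j'
    have hd : ∀ r, f r = j → ∀ r', f r' = j' → g r ≠ g r' := fun r hr r' hr' h =>
      hj'.2 (by rw [← hr', ← g.injective h, hr])
    rcases hcon p (by rw [hp]; exact hj) with ⟨h1, h2⟩ | ⟨h1, h2⟩ <;>
      rcases hcon p' (by rw [hp']; exact hj'.1) with ⟨h1', h2'⟩ | ⟨h1', h2'⟩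
    · exact hd p hp p' hp' (h1.trans h1'.symm)
    · exact hd p hp (bar p') (by rw [hfbar, hp']) (h1.trans h2'.symm)
    · exact hd p hp (bar p') (by rw [hfbar, hp']) (h1.trans h2'.symm)
    · exact hd p hp p' hp' (h1.trans h1'.symm)
  obtain ⟨C, hC⟩ : ∃ C, C = g x₁ := ⟨_, rfl⟩
  obtain ⟨D, hD⟩ : ∃ D, D = g (bar x₁) := ⟨_, rfl⟩
  rw [← hC, ← hD] at hne
  have hdN : swap A B * swap C D ∈ N := by
    rw [hA, hB, hC, hD, swap_apply_apply, swap_apply_apply]
    have h := N.mul_mem (N.mul_mem hgN (hWN (hflip x₀ x₁ (Ne.symm hx₁)))) (N.inv_mem hgN)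
    convert h using 1
    group
  have hne01 : ∀ r r', f r = f x₀ → f r' = f x₁ → g r ≠ g r' := fun r r' hr hr' h =>
    hx₁ (by rw [← hr', ← g.injective h, hr])
  have hAC : A ≠ C := hA ▸ hC ▸ hne01 _ _ rfl rfl
  have hAD : A ≠ D := hA ▸ hD ▸ hne01 _ _ rfl (hfbar _)
  have hBC : B ≠ C := hB ▸ hC ▸ hne01 _ _ (hfbar _) rfl
  have hBD : B ≠ D := hB ▸ hD ▸ hne01 _ _ (hfbar _) (hfbar _)
  have hCD : C ≠ D := hC ▸ hD ▸ g.injective.ne (hbar x₁).symm
  have hAbB : A ≠ bar B := fun h => hx₀ (by rw [h, hfbar])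
  have hBbA : B ≠ bar A := fun h => hx₀ (by rw [h, hfbar])
  have hbarAB : bar A ≠ bar B := fun h => hx₀ (by rw [← hfbar B, ← h, hfbar])
  by_cases hin : C = bar A ∨ C = bar B ∨ D = bar A ∨ D = bar B
  · -- the product with a transposition of two blocks
    have hs : swap A B * swap (bar A) (bar B) ∈ wr f ⊓ alternatingGroup Ω := by
      refine ⟨fun u v => ?_, Perm.mem_alternatingGroup.2 (by
        rw [map_mul, Perm.sign_swap hAB, Perm.sign_swap hbarAB]; rfl)⟩
      have hkey : ∀ r, f ((swap A B * swap (bar A) (bar B)) r) = swap (f A) (f B) (f r) := by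
        intro r
        rw [Perm.mul_apply]
        rcases eq_or_ne r (bar A) with rfl | h1
        · rw [swap_apply_left, swap_apply_of_ne_of_ne hAbB.symm (hbar B), hfbar, hfbar, swap_apply_left]
        rcases eq_or_ne r (bar B) with rfl | h2
        · rw [swap_apply_right, swap_apply_of_ne_of_ne (hbar A) hBbA.symm, hfbar, hfbar, swap_apply_right]
        rw [swap_apply_of_ne_of_ne h1 h2]
        rcases eq_or_ne r A with rfl | h3
        · rw [swap_apply_left, swap_apply_left]
        rcases eq_or_ne r B with rfl | h4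
        · rw [swap_apply_right, swap_apply_right]
        rw [swap_apply_of_ne_of_ne h3 h4, swap_apply_of_ne_of_ne (fun h => h1 (huniq A r _ h3 (hbar A) h (hfbar A)))
          (fun h => h2 (huniq B r _ h4 (hbar B) h (hfbar B)))]
      rw [hkey, hkey, (swap (f A) (f B)).injective.eq_iff]
    have hprod := N.mul_mem hdN (hWN hs)
    have hcomm : swap A B * swap C D = swap C D * swap A B := by
      ext r
      simp only [Perm.mul_apply, swap_apply_def]
      grind
    rw [hcomm, mul_assoc, ← mul_assoc (swap A B), swap_mul_self, one_mul] at hprod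
    refine ⟨_, hprod, ?_⟩
    have h4 : ∀ {x y z : Ω}, x ≠ y → x ≠ z → y ≠ z → (swap x y * swap x z).IsThreeCycle := fun h h' h'' =>
      Perm.isThreeCycle_swap_mul_swap_same h h' h''
    rcases hin with h | h | h | h
    · subst h
      exact h4 hCD hbarAB fun h => hne (Or.inl ⟨rfl, h⟩)
    · subst h
      rw [swap_comm (bar A) (bar B)]
      exact h4 hCD hbarAB.symm fun h => hne (Or.inr ⟨rfl, h⟩)
    · subst h
      rw [swap_comm C]
      exact h4 hCD.symm hbarAB fun h => hne (Or.inr ⟨h, rfl⟩)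
    · subst h
      rw [swap_comm C, swap_comm (bar A) (bar B)]
      exact h4 hCD.symm hbarAB.symm fun h => hne (Or.inl ⟨h, rfl⟩)
  · push Not at hin
    obtain ⟨hCA, hCB, hDA, hDB⟩ := hin
    have hfC : f C ≠ f A ∧ f C ≠ f B := ⟨fun h => hCA (huniq A C _ hAC.symm (hbar A) h (hfbar A)),
      fun h => hCB (huniq B C _ hBC.symm (hbar B) h (hfbar B))⟩
    have hfD : f D ≠ f A ∧ f D ≠ f B := ⟨fun h => hDA (huniq A D _ hAD.symm (hbar A) h (hfbar A)),
      fun h => hDB (huniq B D _ hBD.symm (hbar B) h (hfbar B))⟩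
    obtain ⟨p, hpA, hpB, hp⟩ : ∃ p, f p ≠ f A ∧ f p ≠ f B ∧
        (({p, bar p} : Set Ω) = {C, D} ∨ (C ≠ p ∧ C ≠ bar p ∧ D ≠ p ∧ D ≠ bar p)) := by
      rcases eq_or_ne (f C) (f D) with h | h
      · refine ⟨C, hfC.1, hfC.2, Or.inl ?_⟩
        rw [huniq C (bar C) D (hbar C) hCD.symm (hfbar C) h.symm]
      · obtain ⟨j, hj⟩ : ∃ j, j ∉ ({f A, f B, f C, f D} : Finset (Fin b)) := by
          by_contra hc
          push Not at hc
          have h1 := Finset.card_le_card (show (Finset.univ : Finset (Fin b)) ⊆ {f A, f B, f C, f D} from fun i _ => hc i)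
          rw [Finset.card_univ, Fintype.card_fin] at h1
          have h2 : ({f A, f B, f C, f D} : Finset (Fin b)).card ≤ 4 := Finset.card_le_four
          have h3' : ({f A, f B, f C, f D} : Finset (Fin b)).card = 4 := by
            rw [Finset.card_insert_of_notMem (by simp [Ne.symm hx₀, hfC.1.symm, hfD.1.symm]),
              Finset.card_insert_of_notMem (by simp [hfC.2.symm, hfD.2.symm]), Finset.card_pair h]
          have h4 : 4 ≤ b := by
            have := Finset.card_le_univ ({f A, f B, f C, f D} : Finset (Fin b))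
            rw [h3', Fintype.card_fin] at this
            exact this
          omega
        simp only [Finset.mem_insert, Finset.mem_singleton, not_or] at hj
        obtain ⟨p, -, -, hp, -⟩ := hpair j
        subst hp
        refine ⟨p, hj.1, hj.2.1, Or.inr ⟨fun h => hj.2.2.1 (by rw [h]), fun h => hj.2.2.1 (by rw [h, hfbar]),
          fun h => hj.2.2.2 (by rw [h]), fun h => hj.2.2.2 (by rw [h, hfbar])⟩⟩
    obtain ⟨u, hu⟩ : ∃ u, u = swap B (bar B) * swap p (bar p) := ⟨_, rfl⟩
    have hnp : ∀ r, f p ≠ f r → r ≠ p ∧ r ≠ bar p := fun r hr =>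
      ⟨fun h => hr (by rw [h]), fun h => hr (by rw [h, hfbar])⟩
    have huA : u A = A := by
      rw [hu, Perm.mul_apply, swap_apply_of_ne_of_ne (hnp A hpA).1 (hnp A hpA).2, swap_apply_of_ne_of_ne hAB hAbB]
    have huB : u B = bar B := by
      rw [hu, Perm.mul_apply, swap_apply_of_ne_of_ne (hnp B hpB).1 (hnp B hpB).2, swap_apply_left]
    have huCD : swap (u C) (u D) = swap C D := by
      rcases hp with hp | ⟨h1, h2, h3, h4⟩
      · have hp1 : p = C ∨ p = D := by
          have : p ∈ ({C, D} : Set Ω) := hp ▸ Set.mem_insert _ _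
          simpa using this
        have hp2 : bar p = C ∨ bar p = D := by
          have : bar p ∈ ({C, D} : Set Ω) := hp ▸ Set.mem_insert_of_mem _ rfl
          simpa using this
        rcases hp1 with rfl | rfl
        · have e := hp2.resolve_left (hbar p)
          subst e
          rw [hu, Perm.mul_apply, Perm.mul_apply, swap_apply_left, swap_apply_right,
            swap_apply_of_ne_of_ne hBD.symm hDB, swap_apply_of_ne_of_ne hBC.symm hCB, swap_comm]
        · have e := hp2.resolve_right (hbar p)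
          subst e
          rw [hu, Perm.mul_apply, Perm.mul_apply, swap_apply_left, swap_apply_right,
            swap_apply_of_ne_of_ne hBD.symm hDB, swap_apply_of_ne_of_ne hBC.symm hCB, swap_comm]
      · rw [hu, Perm.mul_apply, Perm.mul_apply, swap_apply_of_ne_of_ne h1 h2, swap_apply_of_ne_of_ne h3 h4,
          swap_apply_of_ne_of_ne hBC.symm hCB, swap_apply_of_ne_of_ne hBD.symm hDB]
    have huN : u ∈ N := hu ▸ hWN (hflip B p (Ne.symm hpB))
    have h2 := N.mul_mem hdN (N.mul_mem (N.mul_mem huN hdN) (N.inv_mem huN))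
    rw [show u * (swap A B * swap C D) * u⁻¹ = (u * swap A B * u⁻¹) * (u * swap C D * u⁻¹) by group,
      ← swap_apply_apply, ← swap_apply_apply, huA, huB, huCD] at h2
    have h5 : swap C D * swap A (bar B) = swap A (bar B) * swap C D := by
      ext r
      simp only [Perm.mul_apply, swap_apply_def]
      grind
    rw [mul_assoc, ← mul_assoc (swap C D), h5, mul_assoc, swap_mul_self, mul_one] at h2
    exact ⟨_, h2, Perm.isThreeCycle_swap_mul_swap_same hAB hAbB (hbar B).symm⟩

end CfsgLib.Perm.Groups.PartitionAlt
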