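import Mathlib
import Cfsg.Prelude.Def_Perm
import Cfsg.Agent.Lib.Char.Perm

/-!
# The permutation module and its centraliser ring

Multiplicities, Schur scalars and commutativity of the intertwining algebra.
-/

set_option autoImplicit false
set_option linter.unusedSectionVars false

namespace CfsgLib.Perm.Module'

open Cfsg CfsgLib.Char Representation
open scoped ComplexConjugate

universe u v w

variable {G : Type u} [Group G] [Fintype G] {Ω : Type v} [Fintype Ω] [MulAction G Ω]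

theorem character_permRep :
    (Cfsg.permRep ℂ G Ω).character = permChar G Ω := by
  classical
  funext g
  rw [Representation.character, LinearMap.trace_eq_matrix_trace ℂ (Pi.basisFun ℂ Ω)]
  have e : ∀ x : Ω, LinearMap.toMatrix (Pi.basisFun ℂ Ω) (Pi.basisFun ℂ Ω) (Cfsg.permRep ℂ G Ω g) x x =
      if g • x = x then 1 else 0 := by
    intro x
    simp only [LinearMap.toMatrix_apply, Pi.basisFun_apply, Pi.basisFun_repr]
    show (Pi.single x (1 : ℂ) : Ω → ℂ) (g⁻¹ • x) = _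
    rw [Pi.single_apply]
    exact if_congr (inv_smul_eq_iff.trans ⟨Eq.symm, Eq.symm⟩) rfl rfl
  rw [Matrix.trace]
  simp only [Matrix.diag, e]
  rw [Finset.sum_boole, permChar, Nat.card_eq_fintype_card, ← Fintype.card_subtype]
  exact congrArg _ (Fintype.card_congr (Equiv.subtypeEquivRight fun x => Iff.rfl))

theorem mem_invariants {S : (Ω → ℂ) →ₗ[ℂ] (Ω → ℂ)}
    (h : S ∈ ((Cfsg.permRep ℂ G Ω).linHom (Cfsg.permRep ℂ G Ω)).invariants) (g : G) :
    S ∘ₗ Cfsg.permRep ℂ G Ω g = Cfsg.permRep ℂ G Ω g ∘ₗ S := by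
  have h1 : Cfsg.permRep ℂ G Ω g ∘ₗ S ∘ₗ Cfsg.permRep ℂ G Ω g⁻¹ = S := h g
  calc S ∘ₗ Cfsg.permRep ℂ G Ω g
      = (Cfsg.permRep ℂ G Ω g ∘ₗ S ∘ₗ Cfsg.permRep ℂ G Ω g⁻¹) ∘ₗ Cfsg.permRep ℂ G Ω g := by rw [h1]
    _ = _ := by simp only [← Module.End.mul_eq_comp, mul_assoc, ← map_mul, inv_mul_cancel, map_one, mul_one]

theorem invariants_mem {S : (Ω → ℂ) →ₗ[ℂ] (Ω → ℂ)}
    (h : ∀ g : G, S ∘ₗ Cfsg.permRep ℂ G Ω g = Cfsg.permRep ℂ G Ω g ∘ₗ S) :
    S ∈ ((Cfsg.permRep ℂ G Ω).linHom (Cfsg.permRep ℂ G Ω)).invariants := by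
  intro g
  show Cfsg.permRep ℂ G Ω g ∘ₗ S ∘ₗ Cfsg.permRep ℂ G Ω g⁻¹ = S
  rw [← LinearMap.comp_assoc, ← h g]
  simp only [← Module.End.mul_eq_comp, mul_assoc, ← map_mul, mul_inv_cancel, map_one, mul_one]

section Schur

variable {W : Type w} [AddCommGroup W] [Module ℂ W] [FiniteDimensional ℂ W]

theorem nontrivial_of_irreducible (σ : Representation ℂ G W) [hσ : σ.IsIrreducible] : Nontrivial W := by
  by_contra h
  rw [not_nontrivial_iff_subsingleton] at h
  have : Nontrivial (Subrepresentation σ) := hσ.toNontrivial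
  obtain ⟨a, b, hab⟩ := exists_pair_ne (Subrepresentation σ)
  exact hab (Subrepresentation.toSubmodule_injective (Subsingleton.elim _ _))

/-- A linear map commuting with an irreducible representation is a scalar. -/
theorem scalar_of_comm (σ : Representation ℂ G W) [σ.IsIrreducible] (T : W →ₗ[ℂ] W)
    (h : ∀ g : G, T ∘ₗ σ g = σ g ∘ₗ T) :
    T = (LinearMap.trace ℂ W T / Module.finrank ℂ W : ℂ) • LinearMap.id := by
  haveI := nontrivial_of_irreducible σ
  obtain ⟨c, hc⟩ := (IsIrreducible.algebraMap_intertwiningMap_bijective_of_isAlgClosed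
    (ρ := σ)).surjective ⟨T, h⟩
  have hTc : T = c • LinearMap.id := by
    have := congrArg IntertwiningMap.toLinearMap hc
    simp only [IntertwiningMap.algebraMap_apply, IntertwiningMap.toLinearMap_smul] at this
    rw [← this]
    rfl
  have hd : (Module.finrank ℂ W : ℂ) ≠ 0 := by exact_mod_cast Module.finrank_pos.ne'
  rw [hTc, map_smul, LinearMap.trace_id, smul_eq_mul, mul_div_assoc, div_self hd, mul_one]

/-- A non-zero intertwining map out of an irreducible representation is injective. -/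
theorem injective_of_irreducible {V : Type v} [AddCommGroup V] [Module ℂ V] {σ : Representation ℂ G W}
    [hσ : σ.IsIrreducible] {ρ : Representation ℂ G V} (f : IntertwiningMap σ ρ) (hf : f ≠ 0) :
    Function.Injective f.toLinearMap := by
  rw [← LinearMap.ker_eq_bot]
  let K : Subrepresentation σ := ⟨LinearMap.ker f.toLinearMap, fun g x hx => by
    show f.toLinearMap (σ g x) = 0
    rw [show f.toLinearMap (σ g x) = ρ g (f.toLinearMap x) from congr($(f.isIntertwining' g) x),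
      LinearMap.mem_ker.1 hx, map_zero]⟩
  rcases IsSimpleOrder.eq_bot_or_eq_top K with h | h
  · exact congrArg Subrepresentation.toSubmodule h
  · refine absurd ?_ hf
    have h1 : LinearMap.ker f.toLinearMap = ⊤ := congrArg Subrepresentation.toSubmodule h
    exact IntertwiningMap.ext (LinearMap.ext fun x => LinearMap.mem_ker.1 (h1 ▸ Submodule.mem_top : x ∈ LinearMap.ker f.toLinearMap))

/-- Averaging a linear map. -/
noncomputable def avg {V : Type v} [AddCommGroup V] [Module ℂ V] (σ : Representation ℂ G W)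
    (ρ : Representation ℂ G V) (p : V →ₗ[ℂ] W) : V →ₗ[ℂ] W :=
  (Nat.card G : ℂ)⁻¹ • ∑ g : G, σ g ∘ₗ p ∘ₗ ρ g⁻¹

theorem avg_comm {V : Type v} [AddCommGroup V] [Module ℂ V] (σ : Representation ℂ G W)
    (ρ : Representation ℂ G V) (p : V →ₗ[ℂ] W) (h : G) : avg σ ρ p ∘ₗ ρ h = σ h ∘ₗ avg σ ρ p := by
  refine LinearMap.ext fun v => ?_
  simp only [avg, LinearMap.comp_apply, LinearMap.smul_apply, LinearMap.sum_apply, map_smul, map_sum]
  congr 1
  refine Fintype.sum_equiv (Equiv.mulLeft h⁻¹) _ _ fun g => ?_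
  simp only [Equiv.coe_mulLeft, ← Module.End.mul_apply, ← map_mul, mul_inv_rev, inv_inv,
    mul_inv_cancel_left]

/-- Averaging composed with an intertwining map. -/
theorem avg_comp {V : Type v} [AddCommGroup V] [Module ℂ V] (σ : Representation ℂ G W) [σ.IsIrreducible]
    (ρ : Representation ℂ G V) (p : V →ₗ[ℂ] W) (f : IntertwiningMap σ ρ) :
    avg σ ρ p ∘ₗ f.toLinearMap =
      (LinearMap.trace ℂ W (p ∘ₗ f.toLinearMap) / Module.finrank ℂ W : ℂ) • LinearMap.id := by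
  have hf : ∀ g, f.toLinearMap ∘ₗ σ g = ρ g ∘ₗ f.toLinearMap := f.isIntertwining'
  rw [scalar_of_comm σ (avg σ ρ p ∘ₗ f.toLinearMap) fun g => by
    rw [LinearMap.comp_assoc, hf, ← LinearMap.comp_assoc, avg_comm, LinearMap.comp_assoc]]
  congr 2
  have e : avg σ ρ p ∘ₗ f.toLinearMap = (Nat.card G : ℂ)⁻¹ • ∑ g : G, σ g * (p ∘ₗ f.toLinearMap) * σ g⁻¹ := by
    refine LinearMap.ext fun x => ?_
    simp only [avg, LinearMap.comp_apply, LinearMap.smul_apply, LinearMap.sum_apply, Module.End.mul_apply]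
    congr 1
    exact Finset.sum_congr rfl fun g _ => by
      rw [show ρ g⁻¹ (f.toLinearMap x) = f.toLinearMap (σ g⁻¹ x) from congr($((hf g⁻¹).symm) x)]
  rw [e, map_smul, map_sum, Finset.sum_congr rfl (g := fun _ => LinearMap.trace ℂ W (p ∘ₗ f.toLinearMap))
    fun g _ => ?_, Finset.sum_const, Finset.card_univ, nsmul_eq_mul, smul_eq_mul, ← Nat.card_eq_fintype_card,
    ← mul_assoc, inv_mul_cancel₀ card_ne_zero', one_mul]
  rw [mul_assoc, LinearMap.trace_mul_comm, mul_assoc, ← map_mul, inv_mul_cancel, map_one, mul_one]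

/-- Two independent intertwining maps from an irreducible representation have an equivariant
simultaneous left inverse. -/
theorem exists_left_inverse {σ : Representation ℂ G W} [σ.IsIrreducible]
    (f₁ f₂ : IntertwiningMap σ (Cfsg.permRep ℂ G Ω)) (hind : ∀ c : ℂ, c • f₂.toLinearMap ≠ f₁.toLinearMap) :
    ∃ p : (Ω → ℂ) →ₗ[ℂ] W, (∀ g, p ∘ₗ Cfsg.permRep ℂ G Ω g = σ g ∘ₗ p) ∧
      p ∘ₗ f₁.toLinearMap = LinearMap.id ∧ p ∘ₗ f₂.toLinearMap = 0 := by
  classical
  haveI := nontrivial_of_irreducible σ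
  obtain ⟨b⟩ : Nonempty (Module.Basis (Fin (Module.finrank ℂ W)) ℂ W) := ⟨Module.finBasis ℂ W⟩
  obtain ⟨F, hF, hF0⟩ := Submodule.exists_dual_map_eq_bot_of_notMem
    (p := Submodule.span ℂ ({f₂.toLinearMap} : Set (W →ₗ[ℂ] (Ω → ℂ)))) (x := f₁.toLinearMap)
    (by rw [Submodule.mem_span_singleton]; rintro ⟨c, hc⟩; exact hind c hc) inferInstance
  have hF2 : F f₂.toLinearMap = 0 :=
    (Submodule.mem_bot ℂ).1 (hF0 ▸ Submodule.mem_map_of_mem (Submodule.mem_span_singleton_self _))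
  let el : Fin (Module.finrank ℂ W) → Ω → W →ₗ[ℂ] (Ω → ℂ) := fun j x => (b.coord j).smulRight (Pi.single x 1)
  let P : (Ω → ℂ) →ₗ[ℂ] W := ∑ x, (LinearMap.proj x).smulRight (∑ j, F (el j x) • b j)
  have hP : ∀ f : W →ₗ[ℂ] (Ω → ℂ), LinearMap.trace ℂ W (P ∘ₗ f) = F f := by
    intro f
    have hf : f = ∑ j, ∑ x, f (b j) x • el j x := by
      refine b.ext fun i => funext fun y => ?_
      simp [el, LinearMap.sum_apply, Finsupp.single_apply, ite_apply, Finset.sum_apply, Pi.single_apply]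
    conv_rhs => rw [hf]
    rw [map_sum, LinearMap.trace_eq_matrix_trace ℂ b, Matrix.trace]
    refine Finset.sum_congr rfl fun i _ => ?_
    simp only [Matrix.diag, LinearMap.toMatrix_apply, LinearMap.comp_apply, P, LinearMap.sum_apply,
      LinearMap.smulRight_apply, LinearMap.proj_apply, map_sum, map_smul, Finsupp.coe_finset_sum,
      Finset.sum_apply, Finsupp.coe_smul, Pi.smul_apply, smul_eq_mul]
    refine Finset.sum_congr rfl fun x _ => ?_
    simp [Finsupp.single_apply]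
  have hd : (Module.finrank ℂ W : ℂ) ≠ 0 := by exact_mod_cast Module.finrank_pos.ne'
  refine ⟨avg σ _ (((Module.finrank ℂ W : ℂ) / F f₁.toLinearMap) • P), avg_comm σ _ _, ?_, ?_⟩
  · rw [avg_comp, LinearMap.smul_comp, map_smul, hP, smul_eq_mul, div_mul_cancel₀ _ hF, div_self hd, one_smul]
  · rw [avg_comp, LinearMap.smul_comp, map_smul, hP, hF2, smul_zero, zero_div, zero_smul]

end Schur

theorem classInner_eq_finrank {W : Type w} [AddCommGroup W] [Module ℂ W] [FiniteDimensional ℂ W]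
    (σ : Representation ℂ G W) :
    classInner (permChar G Ω) σ.character =
      (Module.finrank ℂ (IntertwiningMap σ (Cfsg.permRep ℂ G Ω)) : ℂ) := by
  rw [← classInner_char, character_permRep]

theorem isCharacter_permModule : IsCharacter G (permChar G Ω) := isCharacter_permChar Ω

/-- A multiplicity-free permutation character gives a commutative centraliser ring. -/
theorem comm_of_multiplicityFree
    (h : ∀ χ : G → ℂ, IsIrrCharacter G χ → classInner (permChar G Ω) χ = 0 ∨ classInner (permChar G Ω) χ = 1)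
    (S T : (Ω → ℂ) →ₗ[ℂ] (Ω → ℂ)) (hS : ∀ g : G, S ∘ₗ Cfsg.permRep ℂ G Ω g = Cfsg.permRep ℂ G Ω g ∘ₗ S)
    (hT : ∀ g : G, T ∘ₗ Cfsg.permRep ℂ G Ω g = Cfsg.permRep ℂ G Ω g ∘ₗ T) : S ∘ₗ T = T ∘ₗ S := by
  have key := rep_induction (fun V _ _ σ => ∀ f : IntertwiningMap σ (Cfsg.permRep ℂ G Ω),
    S ∘ₗ T ∘ₗ f.toLinearMap = T ∘ₗ S ∘ₗ f.toLinearMap) ?_ ?_ ?_ (Ω → ℂ) (Cfsg.permRep ℂ G Ω)
    (IntertwiningMap.id _)
  · simpa using key
  · intro V _ _ _ σ f
    exact LinearMap.ext fun x => by simp [Subsingleton.elim x 0]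
  · intro V _ _ _ σ hσ f
    by_cases hf : f = 0
    · simp [hf]
    have hle : Module.finrank ℂ (IntertwiningMap σ (Cfsg.permRep ℂ G Ω)) ≤ 1 := by
      rcases h σ.character (isIrrCharacter_character σ) with h1 | h1 <;> rw [classInner_eq_finrank] at h1
      · rw [show Module.finrank ℂ _ = 0 from by exact_mod_cast h1]; omega
      · rw [show Module.finrank ℂ _ = 1 from by exact_mod_cast h1]
    obtain ⟨g₀, hg₀⟩ := finrank_le_one_iff.1 hle
    have hscal : ∀ U : (Ω → ℂ) →ₗ[ℂ] (Ω → ℂ), (∀ g : G, U ∘ₗ Cfsg.permRep ℂ G Ω g = Cfsg.permRep ℂ G Ω g ∘ₗ U) →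
        ∃ c : ℂ, U ∘ₗ f.toLinearMap = c • f.toLinearMap := by
      intro U hU
      obtain ⟨a, ha⟩ := hg₀ f
      obtain ⟨b, hb⟩ := hg₀ ⟨U ∘ₗ f.toLinearMap, fun g => by
        rw [LinearMap.comp_assoc, f.isIntertwining' g, ← LinearMap.comp_assoc, hU, LinearMap.comp_assoc]⟩
      have ha0 : a ≠ 0 := fun h0 => hf (by rw [← ha, h0, zero_smul])
      refine ⟨b / a, ?_⟩
      have hb' := congrArg IntertwiningMap.toLinearMap hb
      simp only [IntertwiningMap.toLinearMap_smul] at hb'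
      rw [← hb', ← ha, IntertwiningMap.toLinearMap_smul, smul_smul, div_mul_cancel₀ _ ha0]
    obtain ⟨s, hs⟩ := hscal S hS
    obtain ⟨t, ht⟩ := hscal T hT
    rw [ht, hs, LinearMap.comp_smul, LinearMap.comp_smul, hs, ht, smul_smul, smul_smul, mul_comm]
  · intro V _ _ _ σ A B hAB hA hB f
    have h1 := hA ⟨f.toLinearMap ∘ₗ A.toSubmodule.subtype, fun g => LinearMap.ext fun x => by
      exact congr($(f.isIntertwining' g) (x : V))⟩
    have h2 := hB ⟨f.toLinearMap ∘ₗ B.toSubmodule.subtype, fun g => LinearMap.ext fun x => by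
      exact congr($(f.isIntertwining' g) (x : V))⟩
    refine LinearMap.ext fun x => ?_
    obtain ⟨a, ha, b, hb, rfl⟩ := Submodule.mem_sup.1
      ((isCompl_toSubmodule hAB).sup_eq_top ▸ Submodule.mem_top : x ∈ A.toSubmodule ⊔ B.toSubmodule)
    have e1 : S (T (f.toLinearMap a)) = T (S (f.toLinearMap a)) := congr($h1 ⟨a, ha⟩)
    have e2 : S (T (f.toLinearMap b)) = T (S (f.toLinearMap b)) := congr($h2 ⟨b, hb⟩)
    simp only [LinearMap.comp_apply, map_add, e1, e2]

/-- A commutative centraliser ring forces multiplicities at most one. -/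
theorem multiplicityFree_of_comm
    (h : ∀ S T : (Ω → ℂ) →ₗ[ℂ] (Ω → ℂ), (∀ g : G, S ∘ₗ Cfsg.permRep ℂ G Ω g = Cfsg.permRep ℂ G Ω g ∘ₗ S) →
      (∀ g : G, T ∘ₗ Cfsg.permRep ℂ G Ω g = Cfsg.permRep ℂ G Ω g ∘ₗ T) → S ∘ₗ T = T ∘ₗ S)
    (χ : G → ℂ) (hχ : IsIrrCharacter G χ) :
    classInner (permChar G Ω) χ = 0 ∨ classInner (permChar G Ω) χ = 1 := by
  obtain ⟨n, σ, hσ, rfl⟩ := hχ
  rw [classInner_eq_finrank]
  by_contra hcon
  have h2 : 1 < Module.finrank ℂ (IntertwiningMap σ (Cfsg.permRep ℂ G Ω)) := by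
    rw [not_or, Nat.cast_eq_zero, Nat.cast_eq_one] at hcon
    omega
  haveI : Nontrivial (IntertwiningMap σ (Cfsg.permRep ℂ G Ω)) := Module.nontrivial_of_finrank_pos (R := ℂ) (by omega)
  obtain ⟨f₁, hf₁⟩ := exists_ne (0 : IntertwiningMap σ (Cfsg.permRep ℂ G Ω))
  obtain ⟨f₂, hf₂⟩ : ∃ f₂, f₂ ∉ Submodule.span ℂ ({f₁} : Set (IntertwiningMap σ (Cfsg.permRep ℂ G Ω))) := by
    by_contra hall
    push Not at hall
    have := finrank_le_one f₁ fun w => Submodule.mem_span_singleton.1 (hall w)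
    omega
  have hinj := injective_of_irreducible f₁ hf₁
  have hi21 : ∀ c : ℂ, c • f₁.toLinearMap ≠ f₂.toLinearMap := fun c hc => hf₂ (Submodule.mem_span_singleton.2
    ⟨c, IntertwiningMap.ext (by rw [IntertwiningMap.toLinearMap_smul]; exact hc)⟩)
  have hi12 : ∀ c : ℂ, c • f₂.toLinearMap ≠ f₁.toLinearMap := by
    intro c hc
    rcases eq_or_ne c 0 with rfl | hc0
    · exact hf₁ (IntertwiningMap.ext (by rw [← hc, zero_smul]; rfl))
    · exact hi21 c⁻¹ (by rw [← hc, smul_smul, inv_mul_cancel₀ hc0, one_smul])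
  obtain ⟨p₁, hp₁, h11, h12⟩ := exists_left_inverse f₁ f₂ hi12
  obtain ⟨p₂, hp₂, h22, h21⟩ := exists_left_inverse f₂ f₁ hi21
  have hc := h (f₁.toLinearMap ∘ₗ p₂) (f₂.toLinearMap ∘ₗ p₁)
    (fun g => by rw [LinearMap.comp_assoc, hp₂, ← LinearMap.comp_assoc, f₁.isIntertwining' g, LinearMap.comp_assoc])
    (fun g => by rw [LinearMap.comp_assoc, hp₁, ← LinearMap.comp_assoc, f₂.isIntertwining' g, LinearMap.comp_assoc])
  haveI := nontrivial_of_irreducible σ
  obtain ⟨x, hx⟩ := exists_ne (0 : Fin n → ℂ)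
  have h3 := congr($hc (f₁.toLinearMap x))
  simp only [LinearMap.comp_apply] at h3
  rw [show p₁ (f₁.toLinearMap x) = x from congr($h11 x), show p₂ (f₂.toLinearMap x) = x from congr($h22 x),
    show p₂ (f₁.toLinearMap x) = 0 from congr($h21 x), map_zero, map_zero, map_zero] at h3
  exact hx (hinj (h3.trans (map_zero f₁.toLinearMap).symm))

end CfsgLib.Perm.Module'
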