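import Cfsg.Agent.Lib.Perm.Groups.PrimeIndex
import Cfsg.Agent.S0675

/-!
# Insoluble groups of prime degree whose Sylow normaliser contains the squares

The stabiliser of two points has at most two orbits on the remaining points.
-/

set_option autoImplicit false
set_option linter.unusedSectionVars false
set_option linter.style.haveILetI false

namespace CfsgLib.Perm.Heart

open MulAction
open scoped Pointwise

universe u

variable {α : Type u} [Fintype α] [DecidableEq α] {p : ℕ} [hp : Fact p.Prime]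

/-- Coordinates in which the group contains the translations and all multiplications by squares. -/
theorem exists_square_coordinates (hpc : Fintype.card α = p) (G : Subgroup (Equiv.Perm α)) [IsPretransitive G α]
    (P : Sylow p G) (hN : p * (p - 1) ≤ 2 * Nat.card (Subgroup.normalizer ((P : Subgroup G) : Set G))) :
    ∃ (c : G) (e : ZMod p ≃ α), (∀ x y : ZMod p, c ^ y.val • e x = e (x + y)) ∧
      ∀ s : ZMod p, s ^ (p / 2) = 1 → ∃ t : G, ∀ x, t • e x = e (s * x) := by
  classical
  haveI : NeZero p := ⟨hp.out.ne_zero⟩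
  haveI : Fact (1 < p) := ⟨hp.out.one_lt⟩
  obtain ⟨c, e, hT⟩ := exists_coordinates hp.out hpc.symm G
  have hc1 : ∀ x, c • e x = e (x + 1) := fun x => by
    have h := hT x 1
    rwa [ZMod.val_one, pow_one] at h
  have hcn : ∀ (n : ℕ) (x : ZMod p), c ^ n • e x = e (x + (n : ZMod p)) := by
    intro n
    induction n with
    | zero => intro x; simp
    | succ n ih => intro x; rw [pow_succ', mul_smul, ih, hc1, Nat.cast_succ, add_assoc]
  have hcp : c ^ p = 1 := by
    refine Subtype.ext (Equiv.ext fun a => ?_)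
    obtain ⟨x, rfl⟩ := e.surjective a
    show c ^ p • e x = e x
    rw [hcn, ZMod.natCast_self, add_zero]
  have hord : orderOf c = p := orderOf_eq_prime hcp fun h => by
    have := hc1 0
    rw [h, one_smul, zero_add] at this
    exact one_ne_zero (e.injective this).symm
  have hpG := sq_not_dvd hpc G
  obtain ⟨k, hk⟩ : ∃ k : G, MulAut.conj k • (P : Subgroup G) = Subgroup.zpowers c := by
    have hcp' : IsPGroup p (Subgroup.zpowers c) := IsPGroup.of_card (n := 1) (by rw [Nat.card_zpowers, hord, pow_one])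
    obtain ⟨Q, hQ⟩ := hcp'.exists_le_sylow
    have hQc : Nat.card (Q : Subgroup G) ≤ Nat.card (Subgroup.zpowers c) := by
      obtain ⟨n, hn⟩ := IsPGroup.iff_card.1 Q.2
      rw [hn, Nat.card_zpowers, hord]
      rcases n with _ | _ | n
      · simp; exact hp.out.pos
      · simp
      · exact absurd ((pow_dvd_pow p (by omega)).trans (hn ▸ Subgroup.card_subgroup_dvd_card (Q : Subgroup G))) hpG
    obtain ⟨k, hk⟩ := MulAction.exists_smul_eq G P Q
    exact ⟨k, by rw [Subgroup.eq_of_le_of_card_ge hQ hQc, ← hk]; rfl⟩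
  -- the multipliers
  let A : Subgroup (ZMod p)ˣ :=
    { carrier := {r | ∃ g : G, ∀ x, g • e x = e ((r : ZMod p) * x)}
      one_mem' := ⟨1, fun x => by simp⟩
      mul_mem' := by
        rintro r s ⟨g, hg⟩ ⟨h, hh⟩
        exact ⟨g * h, fun x => by rw [mul_smul, hh, hg, Units.val_mul, mul_assoc]⟩
      inv_mem' := by
        rintro r ⟨g, hg⟩
        exact ⟨g⁻¹, fun x => by rw [inv_smul_eq_iff, hg, ← mul_assoc, ← Units.val_mul, mul_inv_cancel,
          Units.val_one, one_mul]⟩ }
  have hmain : ∀ n : Subgroup.normalizer ((P : Subgroup G) : Set G), ∃ br : ZMod p × A,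
      ∀ x, (k * (n : G) * k⁻¹) • e x = e (br.1 + ((br.2 : (ZMod p)ˣ) : ZMod p) * x) := by
    rintro ⟨s₀, hs₀⟩
    obtain ⟨s, hs⟩ : ∃ s, s = k * s₀ * k⁻¹ := ⟨_, rfl⟩
    obtain ⟨i, hi⟩ : ∃ i : ℕ, s * c * s⁻¹ = c ^ i := by
      have hc' : k⁻¹ * c * k ∈ (P : Subgroup G) := by
        have h : c ∈ MulAut.conj k • (P : Subgroup G) := hk ▸ Subgroup.mem_zpowers c
        obtain ⟨y, hy, hyc⟩ := Subgroup.mem_smul_pointwise_iff_exists _ _ _ |>.1 h
        rw [MulAut.smul_def, MulAut.conj_apply] at hyc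
        rw [← hyc]
        convert hy using 1
        group
      have h1 := (Subgroup.mem_normalizer_iff.1 hs₀ _).1 hc'
      have h2 : MulAut.conj k • (s₀ * (k⁻¹ * c * k) * s₀⁻¹) ∈ Subgroup.zpowers c :=
        hk ▸ Subgroup.smul_mem_pointwise_smul _ _ _ h1
      rw [MulAut.smul_def, MulAut.conj_apply] at h2
      obtain ⟨n, hn⟩ := Submonoid.mem_powers_iff _ _ |>.1
        ((isOfFinOrder_of_finite c).mem_powers_iff_mem_zpowers.2 h2)
      refine ⟨n, ?_⟩
      rw [hn, hs]
      group
    let π : ZMod p → ZMod p := fun x => e.symm (s • e x)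
    have hπ : ∀ x, e (π x) = s • e x := fun x => e.apply_symm_apply _
    have hstep : ∀ x, π (x + 1) = π x + i := fun x => e.injective (by
      rw [hπ, ← hc1, ← mul_smul, show s * c = c ^ i * s from by rw [← hi]; group, mul_smul, ← hπ, hcn])
    have hlin : ∀ n : ℕ, π (n : ZMod p) = π 0 + n * (i : ZMod p) := by
      intro n
      induction n with
      | zero => simp
      | succ n ih => rw [Nat.cast_succ, hstep, ih]; ring
    have haff : ∀ x, π x = π 0 + x * (i : ZMod p) := fun x => by
      have := hlin x.val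
      rwa [ZMod.natCast_zmod_val] at this
    have hi0 : (i : ZMod p) ≠ 0 := fun h => by
      have h1 : π 1 = π 0 := by rw [haff 1, h, mul_zero, add_zero]
      exact one_ne_zero (e.injective (smul_left_cancel s ((hπ 1).symm.trans ((congrArg e h1).trans (hπ 0)))))
    have hmul : Units.mk0 _ hi0 ∈ A := by
      refine ⟨c ^ (-π 0).val * s, fun x => ?_⟩
      rw [mul_smul, ← hπ, hT, haff x, Units.val_mk0]
      congr 1
      ring
    refine ⟨(π 0, ⟨_, hmul⟩), fun x => ?_⟩
    show (k * s₀ * k⁻¹) • e x = e (π 0 + (i : ZMod p) * x)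
    rw [← hs, ← hπ, haff x, mul_comm]
  choose φ hφ using hmain
  have hinj : Function.Injective φ := by
    intro n n' h
    have h1 : k * (n : G) * k⁻¹ = k * (n' : G) * k⁻¹ := by
      refine Subtype.ext (Equiv.ext fun a => ?_)
      obtain ⟨x, rfl⟩ := e.surjective a
      show (k * (n : G) * k⁻¹) • e x = (k * (n' : G) * k⁻¹) • e x
      rw [hφ, hφ, h]
    exact Subtype.ext (mul_left_cancel (mul_right_cancel h1))
  have hA : p - 1 ≤ 2 * Nat.card A := by
    have h1 := Nat.card_le_card_of_injective φ hinj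
    rw [Nat.card_prod, Nat.card_zmod] at h1
    have h2 : p * (p - 1) ≤ p * (2 * Nat.card A) := by linarith
    exact Nat.le_of_mul_le_mul_left h2 hp.out.pos
  have hsq : ∀ y : (ZMod p)ˣ, y ^ 2 ∈ A := by
    intro y
    have hmul := Subgroup.card_mul_index A
    rw [Nat.card_eq_fintype_card (α := (ZMod p)ˣ), ZMod.card_units] at hmul
    have hi2 : A.index ≤ 2 := by
      by_contra hlt
      have hpos : 0 < Nat.card A := Nat.card_pos
      have h3 : Nat.card A * 3 ≤ Nat.card A * A.index := Nat.mul_le_mul_left _ (by omega)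
      omega
    have hi0 : A.index ≠ 0 := Subgroup.index_ne_zero_of_finite
    rcases (show A.index = 1 ∨ A.index = 2 by omega) with h | h
    · rw [Subgroup.index_eq_one.1 h]; trivial
    · exact Subgroup.sq_mem_of_index_two h y
  refine ⟨c, e, hT, fun s hs => ?_⟩
  by_cases hp2 : p = 2
  · refine ⟨1, fun x => ?_⟩
    subst hp2
    rw [show s = 1 by simpa using hs, one_smul, one_mul]
  have hs0 : s ≠ 0 := by
    rintro rfl
    rw [zero_pow (by have := hp.out.two_le; omega)] at hs
    exact zero_ne_one hs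
  obtain ⟨y, hy⟩ := (ZMod.euler_criterion_units p (Units.mk0 s hs0)).2 (Units.ext (by simpa using hs))
  obtain ⟨t, ht⟩ := hsq y
  refine ⟨t, fun x => ?_⟩
  rw [ht, hy]
  rfl

/-- Three points cannot lie in three different orbits of the stabiliser of two other points. -/
theorem two_point_orbits (hpc : Fintype.card α = p) (hp2 : p ≠ 2) (G : Subgroup (Equiv.Perm α))
    [IsPretransitive G α] (hG : ¬ Group.IsSolvable G) (P : Sylow p G)
    (hN : p * (p - 1) ≤ 2 * Nat.card (Subgroup.normalizer ((P : Subgroup G) : Set G))) {a b : α} (hab : a ≠ b)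
    (v : Fin 3 → α) (hva : ∀ i, v i ≠ a) (hvb : ∀ i, v i ≠ b) :
    ∃ i j, i ≠ j ∧ ∃ g : G, g • a = a ∧ g • b = b ∧ g • v i = v j := by
  classical
  by_contra hno
  push Not at hno
  haveI : NeZero p := ⟨hp.out.ne_zero⟩
  haveI : Fact (1 < p) := ⟨hp.out.one_lt⟩
  obtain ⟨c, e, hT, hS⟩ := exists_square_coordinates hpc G P hN
  obtain ⟨δ₀, hδ₀⟩ := FiniteField.exists_nonsquare (F := ZMod p) (by rw [ZMod.ringChar_zmod_n]; exact hp2)
  have hδne : δ₀ ≠ 0 := fun h => hδ₀ (h ▸ IsSquare.zero)
  have hδ : δ₀ ^ (p / 2) = -1 := by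
    rcases ZMod.pow_div_two_eq_neg_one_or_one p hδne with h | h
    · exact absurd ((ZMod.euler_criterion p hδne).2 h) hδ₀
    · exact h
  obtain ⟨w, hw⟩ : ∃ w : Fin 4 → α, w = Fin.cons a v := ⟨_, rfl⟩
  have hw0 : w 0 = a := by rw [hw]; rfl
  have hws : ∀ i : Fin 3, w i.succ = v i := fun i => by rw [hw]; rfl
  have hwb : ∀ i, w i ≠ b := by
    intro i
    refine Fin.cases ?_ ?_ i
    · rw [hw0]; exact hab
    · exact fun j => by rw [hws]; exact hvb j
  have hsep : ∀ i j, i ≠ j → ∀ g : G, g • a = a → g • b = b → g • w i ≠ w j := by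
    intro i j
    refine Fin.cases ?_ (fun i' => ?_) i
    · refine Fin.cases ?_ (fun j' => ?_) j
      · exact fun h => absurd rfl h
      · intro _ g ga gb
        rw [hw0, hws, ga]
        exact (hva j').symm
    · refine Fin.cases ?_ (fun j' => ?_) j
      · intro _ g ga gb h
        rw [hw0, hws] at h
        exact hva i' (smul_left_cancel g (h.trans ga.symm))
      · intro hne g ga gb
        rw [hws, hws]
        exact hno i' j' (fun h => hne (h ▸ rfl)) g ga gb
  -- the orbital functions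
  let O : Fin 4 → α × α → α → ZMod p := fun i P z =>
    if ∃ g : G, g • a = P.1 ∧ g • b = P.2 ∧ g • w i = z then 1 else 0
  have hO : ∀ (k : G) i P z, O i (k • P) (k • z) = O i P z := by
    intro k i P z
    have : (∃ g : G, g • a = (k • P).1 ∧ g • b = (k • P).2 ∧ g • w i = k • z) ↔
        ∃ g : G, g • a = P.1 ∧ g • b = P.2 ∧ g • w i = z :=
      ⟨fun ⟨g, h1, h2, h3⟩ => ⟨k⁻¹ * g, by rw [mul_smul, h1, Prod.smul_fst, inv_smul_smul],
          by rw [mul_smul, h2, Prod.smul_snd, inv_smul_smul], by rw [mul_smul, h3, inv_smul_smul]⟩,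
        fun ⟨g, h1, h2, h3⟩ => ⟨k * g, by rw [mul_smul, h1, Prod.smul_fst],
          by rw [mul_smul, h2, Prod.smul_snd], by rw [mul_smul, h3]⟩⟩
    simp only [O, this]
  let u : α → ZMod p := fun z => e.symm z
  let Φ : (Fin 4 → ZMod p) →ₗ[ZMod p] (Fin 3 → ZMod p) :=
    { toFun := fun l => ![∑ z, ∑ i, l i * O i (a, b) z, ∑ z, (∑ i, l i * O i (e 0, e 1) z) * u z,
        ∑ z, (∑ i, l i * O i (e 0, e δ₀) z) * u z]
      map_add' := fun l l' => by
        funext j
        fin_cases j <;> simp [add_mul, Finset.sum_add_distrib]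
      map_smul' := fun r l => by
        funext j
        fin_cases j <;> simp [Finset.mul_sum, Finset.sum_mul, mul_assoc] }
  obtain ⟨l, hl, hl0⟩ := Submodule.exists_mem_ne_zero_of_ne_bot
    (LinearMap.ker_ne_bot_of_finrank_lt (f := Φ) (by simp))
  rw [LinearMap.mem_ker] at hl
  let T : α × α → α → ZMod p := fun P z => ∑ i, l i * O i P z
  have hTk : ∀ (k : G) P z, T (k • P) (k • z) = T P z := fun k P z => by simp only [T, hO]
  have hl1 : ∑ z, T (a, b) z = 0 := congrFun hl 0
  have hl2 : ∑ z, T (e 0, e 1) z * u z = 0 := congrFun hl 1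
  have hl3 : ∑ z, T (e 0, e δ₀) z * u z = 0 := congrFun hl 2
  have hrow : ∀ P, ∑ z, T P z = 0 := by
    intro P
    by_cases h : ∃ g : G, g • a = P.1 ∧ g • b = P.2
    · obtain ⟨g, g1, g2⟩ := h
      have hP : g • (a, b) = P := Prod.ext g1 g2
      rw [← hP, ← hl1]
      exact (Fintype.sum_equiv (MulAction.toPerm g) _ _ fun z => by rw [MulAction.toPerm_apply, hTk]).symm
    · refine Finset.sum_eq_zero fun z _ => Finset.sum_eq_zero fun i _ => ?_
      simp only [O]
      rw [if_neg fun ⟨g, g1, g2, _⟩ => h ⟨g, g1, g2⟩, mul_zero]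
  obtain ⟨F, hF⟩ : ∃ F : α × α → ZMod p, F = fun P => ∑ z, T P z * u z := ⟨_, rfl⟩
  have hFt : ∀ (y : ZMod p) P, F (c ^ y.val • P) = F P := by
    intro y P
    rw [hF]
    show ∑ z, T (c ^ y.val • P) z * u z = ∑ z, T P z * u z
    rw [← Equiv.sum_comp (MulAction.toPerm (c ^ y.val))]
    have hu : ∀ z, u (c ^ y.val • z) = u z + y := fun z => by
      obtain ⟨x, rfl⟩ := e.surjective z
      simp [u, hT]
    simp only [MulAction.toPerm_apply, hTk, hu, mul_add, Finset.sum_add_distrib, ← Finset.sum_mul, hrow,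
      zero_mul, add_zero]
  have hFs : ∀ (s : ZMod p), s ^ (p / 2) = 1 → ∀ x y, F (e x, e y) = 0 → F (e (s * x), e (s * y)) = 0 := by
    intro s hs x y h
    obtain ⟨t, ht⟩ := hS s hs
    rw [show (e (s * x), e (s * y)) = t • (e x, e y) from (Prod.ext (ht x) (ht y)).symm, hF]
    show ∑ z, T (t • (e x, e y)) z * u z = 0
    rw [← Equiv.sum_comp (MulAction.toPerm t)]
    have hu : ∀ z, u (t • z) = s * u z := fun z => by
      obtain ⟨x', rfl⟩ := e.surjective z
      simp [u, ht]
    rw [hF] at h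
    simp only [MulAction.toPerm_apply, hTk, hu, mul_left_comm _ s, ← Finset.mul_sum, h, mul_zero]
  have hF0 : ∀ P, F P = 0 := by
    intro P
    obtain ⟨x, hx⟩ := e.surjective P.1
    obtain ⟨y, hy⟩ := e.surjective P.2
    have hP : P = c ^ x.val • (e 0, e (y - x)) := by
      refine Prod.ext ?_ ?_
      · rw [Prod.smul_fst, hT, zero_add, hx]
      · rw [Prod.smul_snd, hT, sub_add_cancel, hy]
    rw [hP, hFt]
    by_cases hd : y - x = 0
    · rw [hd, hF]
      refine Finset.sum_eq_zero fun z _ => ?_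
      have : T (e 0, e 0) z = 0 := Finset.sum_eq_zero fun i _ => by
        simp only [O]
        rw [if_neg fun ⟨g, g1, g2, _⟩ => hab (smul_left_cancel g (g1.trans g2.symm)), mul_zero]
      rw [this, zero_mul]
    rcases ZMod.pow_div_two_eq_neg_one_or_one p hd with h | h
    · have := hFs (y - x) h 0 1 (by rw [hF]; exact hl2)
      rwa [mul_zero, mul_one] at this
    · have hs : ((y - x) * δ₀⁻¹) ^ (p / 2) = 1 := by
        rw [mul_pow, inv_pow, h, hδ, inv_neg, inv_one, neg_mul_neg, one_mul]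
      have := hFs _ hs 0 δ₀ (by rw [hF]; exact hl3)
      rwa [mul_zero, inv_mul_cancel_right₀ hδne] at this
  -- the kernel is the whole heart
  let W : Subrepresentation (Cfsg.permRep (ZMod p) G α) :=
    ⟨{ carrier := {f | ∑ z, f z = 0 ∧ ∀ P, ∑ z, T P z * f z = 0}
       add_mem' := fun {f f'} hf hf' => ⟨by simp [Finset.sum_add_distrib, hf.1, hf'.1],
         fun P => by simp [mul_add, Finset.sum_add_distrib, hf.2 P, hf'.2 P]⟩
       zero_mem' := ⟨by simp, fun P => by simp⟩
       smul_mem' := fun r f hf => ⟨by simp [← Finset.mul_sum, hf.1],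
         fun P => by simp [mul_left_comm _ r, ← Finset.mul_sum, hf.2 P]⟩ },
      fun g f hf => ⟨(Fintype.sum_equiv (MulAction.toPerm g⁻¹) _ _ fun z => rfl).trans hf.1, fun P => by
        rw [← hf.2 (g⁻¹ • P)]
        refine Fintype.sum_equiv (MulAction.toPerm g⁻¹) _ _ fun z => ?_
        rw [MulAction.toPerm_apply, hTk]
        rfl⟩⟩
  have hCW : (Cfsg.permConstants (ZMod p) G α).toSubmodule ≤ W.toSubmodule := by
    intro f hf
    obtain ⟨r, rfl⟩ := mem_constants.1 hf
    exact ⟨by simp [hpc], fun P => by simp [← Finset.sum_mul, hrow]⟩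
  have hWS : W.toSubmodule ≤ (Cfsg.permSumZero (ZMod p) G α).toSubmodule := fun f hf => hf.1
  have hu0 : ∑ z, u z = 0 := by
    have hsum : ∑ z, u z = ∑ x : ZMod p, x := (Fintype.sum_equiv e _ _ fun x => by simp [u]).symm
    have h2ne : (2 : ZMod p) ≠ 0 := Ring.two_ne_zero (by rw [ZMod.ringChar_zmod_n]; exact hp2)
    have h := Fintype.sum_equiv (Equiv.neg (ZMod p)) (fun x => x) (fun x => -x) fun x => by simp
    rw [Finset.sum_neg_distrib] at h
    rw [hsum]
    exact (mul_eq_zero.1 (show (2 : ZMod p) * ∑ x : ZMod p, x = 0 by linear_combination h)).resolve_left h2ne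
  have huW : u ∈ W.toSubmodule := ⟨hu0, fun P => by have := hF0 P; rwa [hF] at this⟩
  have hWeq : W = Cfsg.permSumZero (ZMod p) G α := by
    refine (heart_irreducible hpc G hG W hCW hWS).resolve_left fun h => ?_
    rw [h, mem_constants] at huW
    obtain ⟨r, hr⟩ := huW
    have e0 := congrFun hr (e 0)
    have e1 := congrFun hr (e 1)
    simp only [u, Equiv.symm_apply_apply] at e0 e1
    exact zero_ne_one (e0.trans e1.symm)
  have key : ∀ z, T (a, b) z = T (a, b) b := by
    intro z
    have hmem : (Pi.single z 1 - Pi.single b 1 : α → ZMod p) ∈ W.toSubmodule := by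
      rw [hWeq]
      exact mem_sumZero.2 (by simp [Finset.sum_sub_distrib])
    simpa [mul_sub, Finset.sum_sub_distrib, Pi.single_apply, sub_eq_zero] using hmem.2 (a, b)
  have hTb : T (a, b) b = 0 := Finset.sum_eq_zero fun i _ => by
    simp only [O]
    rw [if_neg fun ⟨g, _, g2, g3⟩ => hwb i (smul_left_cancel g (g3.trans g2.symm)), mul_zero]
  refine hl0 (funext fun i => ?_)
  have h := (key (w i)).trans hTb
  simp only [T] at h
  rw [Finset.sum_eq_single i (fun j _ hji => ?_) (fun h' => absurd (Finset.mem_univ i) h')] at h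
  · simp only [O] at h
    rwa [if_pos ⟨1, one_smul _ _, one_smul _ _, one_smul _ _⟩, mul_one] at h
  · simp only [O]
    rw [if_neg fun ⟨g, g1, g2, g3⟩ => hsep j i hji g g1 g2 g3, mul_zero]

end CfsgLib.Perm.Heart
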