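import Cfsg.Agent.Lib.Perm.Groups.PrimeHalf

/-!
# Two-point stabilisers in insoluble groups of prime degree with half normaliser, abstract actions
-/

set_option autoImplicit false
set_option linter.unusedSectionVars false
set_option linter.style.haveILetI false

namespace CfsgLib.Perm.Heart

open MulAction

universe u v

variable {G : Type u} {Ω : Type v} [Group G] [Finite G] [MulAction G Ω] [FaithfulSMul G Ω] [Finite Ω]
  {p : ℕ} [hp : Fact p.Prime]

theorem two_ne_of_insoluble (hΩ : Nat.card Ω = p) (hins : ¬ Group.IsSolvable G) : p ≠ 2 := by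
  rintro rfl
  apply hins
  have := Fintype.ofFinite Ω
  classical
  have hφ : Function.Injective (MulAction.toPermHom G Ω) := MulAction.toPerm_injective
  have hcomm : ∀ x y : Equiv.Perm Ω, x * y = y * x := by
    have h2 : Nat.card (Equiv.Perm Ω) = 2 := by
      rw [Nat.card_eq_fintype_card, Fintype.card_perm, ← Nat.card_eq_fintype_card, hΩ]; rfl
    haveI : IsCyclic (Equiv.Perm Ω) := isCyclic_of_prime_card h2
    exact fun x y => IsCyclic.commGroup.mul_comm x y
  exact isSolvable_of_comm fun x y => hφ (by rw [map_mul, map_mul, hcomm])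

variable [IsPretransitive G Ω]

theorem two_transitive_of_insoluble (hΩ : Nat.card Ω = p) (hins : ¬ Group.IsSolvable G) :
    IsMultiplyPretransitive G Ω 2 := by
  classical
  have := Fintype.ofFinite Ω
  obtain ⟨φ, hφd⟩ : ∃ φ, φ = MulAction.toPermHom G Ω := ⟨_, rfl⟩
  have hφ : Function.Injective φ := hφd ▸ MulAction.toPerm_injective
  have happ : ∀ (g : G) x, φ g x = g • x := fun g x => by rw [hφd]; rfl
  haveI : IsPretransitive φ.range Ω := ⟨fun x y => by
    obtain ⟨g, hg⟩ := exists_smul_eq G x y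
    exact ⟨⟨φ g, g, rfl⟩, by rw [← hg, ← happ]; rfl⟩⟩
  have hins' : ¬ Group.IsSolvable φ.range := fun h => hins
    (solvable_of_solvable_injective (f := (MonoidHom.ofInjective hφ).toMonoidHom)
      (MonoidHom.ofInjective hφ).injective)
  have h2 := (Cfsg.Agent.S0675.result (by rw [← Nat.card_eq_fintype_card, hΩ]; exact hp.out) φ.range).resolve_left
    hins'
  rw [is_two_pretransitive_iff] at h2 ⊢
  intro a b c d hab hcd
  obtain ⟨⟨_, g, rfl⟩, h1, h3⟩ := h2 hab hcd
  exact ⟨g, by rw [← happ]; exact h1, by rw [← happ]; exact h3⟩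

/-- Three points cannot lie in three different orbits of the stabiliser of two other points. -/
theorem two_point_orbits' (hΩ : Nat.card Ω = p) (hins : ¬ Group.IsSolvable G) (P : Sylow p G)
    (hN : p * (p - 1) ≤ 2 * Nat.card (Subgroup.normalizer ((P : Subgroup G) : Set G))) {a b : Ω} (hab : a ≠ b)
    (v : Fin 3 → Ω) (hva : ∀ i, v i ≠ a) (hvb : ∀ i, v i ≠ b) :
    ∃ i j, i ≠ j ∧ ∃ g : G, g • a = a ∧ g • b = b ∧ g • v i = v j := by
  classical
  have := Fintype.ofFinite Ω
  obtain ⟨φ, hφd⟩ : ∃ φ, φ = MulAction.toPermHom G Ω := ⟨_, rfl⟩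
  have hφ : Function.Injective φ := hφd ▸ MulAction.toPerm_injective
  have happ : ∀ (g : G) x, φ g x = g • x := fun g x => by rw [hφd]; rfl
  haveI : IsPretransitive φ.range Ω := ⟨fun x y => by
    obtain ⟨g, hg⟩ := exists_smul_eq G x y
    exact ⟨⟨φ g, g, rfl⟩, by rw [← hg, ← happ]; rfl⟩⟩
  obtain ⟨e, he⟩ : ∃ e : G ≃* φ.range, e = MonoidHom.ofInjective hφ := ⟨_, rfl⟩
  have hins' : ¬ Group.IsSolvable φ.range := fun h => hins
    (solvable_of_solvable_injective (f := e.toMonoidHom) e.injective)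
  let P' : Sylow p φ.range := P.mapSurjective (f := e.toMonoidHom) e.surjective
  have hP' : Nat.card (Subgroup.normalizer ((P' : Subgroup φ.range) : Set φ.range)) =
      Nat.card (Subgroup.normalizer ((P : Subgroup G) : Set G)) := by
    rw [show (P' : Subgroup φ.range) = (P : Subgroup G).map e.toMonoidHom from rfl, ← Subgroup.map_equiv_normalizer_eq]
    exact Subgroup.card_map_of_injective e.injective
  obtain ⟨i, j, hij, ⟨_, g, rfl⟩, h1, h2, h3⟩ := two_point_orbits (by rw [← Nat.card_eq_fintype_card, hΩ])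
    (two_ne_of_insoluble hΩ hins) φ.range hins' P' (by rw [hP']; exact hN) hab v hva hvb
  exact ⟨i, j, hij, g, by rw [← happ]; exact h1, by rw [← happ]; exact h2, by rw [← happ]; exact h3⟩

/-- Either the group is triply transitive, or the stabiliser of any two points has exactly four orbits. -/
theorem three_transitive_or_four_orbits (hΩ : Nat.card Ω = p) (hins : ¬ Group.IsSolvable G) (P : Sylow p G)
    (hN : p * (p - 1) ≤ 2 * Nat.card (Subgroup.normalizer ((P : Subgroup G) : Set G))) :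
    IsMultiplyPretransitive G Ω 3 ∨
    ∀ a b : Ω, a ≠ b →
      Nat.card (orbitRel.Quotient ↥(stabilizer G a ⊓ stabilizer G b) Ω) = 4 := by
  classical
  have h2 := two_transitive_of_insoluble hΩ hins
  rw [is_two_pretransitive_iff] at h2
  rw [or_iff_not_imp_left]
  intro hno a b hab
  have hrel : ∀ x y : Ω, x ∈ orbit ↥(stabilizer G a ⊓ stabilizer G b) y ↔
      ∃ g : G, g • a = a ∧ g • b = b ∧ g • y = x :=
    fun x y => ⟨fun ⟨g, hg⟩ => ⟨g, g.2.1, g.2.2, hg⟩, fun ⟨g, g1, g2, g3⟩ => ⟨⟨g, g1, g2⟩, g3⟩⟩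
  have hp3 : 3 ≤ p := by
    have := hp.out.two_le
    have := two_ne_of_insoluble hΩ hins
    omega
  obtain ⟨c, hca, hcb⟩ : ∃ c, c ≠ a ∧ c ≠ b := by
    by_contra hall
    push Not at hall
    have hu : (Set.univ : Set Ω) ⊆ {a, b} := fun z _ => by
      by_cases h : z = a
      · exact Or.inl h
      · exact Or.inr (hall z h)
    have h1 := Set.ncard_le_ncard hu (Set.toFinite _)
    rw [Set.ncard_univ, hΩ, Set.ncard_pair hab] at h1
    omega
  obtain ⟨d, hda, hdb, hd⟩ : ∃ d, d ≠ a ∧ d ≠ b ∧ ∀ g : G, g • a = a → g • b = b → g • c ≠ d := by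
    by_contra hall
    push Not at hall
    apply hno
    have key : ∀ u : Fin 3 ↪ Ω, ∃ g : G, g • a = u 0 ∧ g • b = u 1 ∧ g • c = u 2 := by
      intro u
      obtain ⟨g₀, g1, g2⟩ := h2 hab (u.injective.ne (show (0 : Fin 3) ≠ 1 by decide))
      obtain ⟨g, ga, gb, gc⟩ := hall (g₀⁻¹ • u 2)
        (fun h => u.injective.ne (show (2 : Fin 3) ≠ 0 by decide) (by rw [← g1, ← h, smul_inv_smul]))
        (fun h => u.injective.ne (show (2 : Fin 3) ≠ 1 by decide) (by rw [← g2, ← h, smul_inv_smul]))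
      exact ⟨g₀ * g, by rw [mul_smul, ga, g1], by rw [mul_smul, gb, g2], by rw [mul_smul, gc, smul_inv_smul]⟩
    refine ⟨fun u v => ?_⟩
    obtain ⟨g, g1, g2, g3⟩ := key u
    obtain ⟨k, k1, k2, k3⟩ := key v
    refine ⟨k * g⁻¹, Function.Embedding.ext fun i => ?_⟩
    show (k * g⁻¹) • u i = v i
    fin_cases i
    · show (k * g⁻¹) • u 0 = v 0
      rw [← g1, mul_smul, inv_smul_smul, k1]
    · show (k * g⁻¹) • u 1 = v 1
      rw [← g2, mul_smul, inv_smul_smul, k2]
    · show (k * g⁻¹) • u 2 = v 2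
      rw [← g3, mul_smul, inv_smul_smul, k3]
  obtain ⟨q, hq⟩ : ∃ q : Fin 4 → orbitRel.Quotient ↥(stabilizer G a ⊓ stabilizer G b) Ω,
      q = ![Quotient.mk'' a, Quotient.mk'' b, Quotient.mk'' c, Quotient.mk'' d] := ⟨_, rfl⟩
  have hne : ∀ x y : Ω, (∀ g : G, g • a = a → g • b = b → g • x ≠ y) →
      (Quotient.mk'' x : orbitRel.Quotient ↥(stabilizer G a ⊓ stabilizer G b) Ω) ≠ Quotient.mk'' y := by
    intro x y h e
    obtain ⟨g, g1, g2, g3⟩ := (hrel y x).1 (orbitRel_apply.1 (Quotient.eq''.1 e.symm))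
    exact h g g1 g2 g3
  rw [← Nat.card_eq_of_bijective q ⟨?_, ?_⟩, Nat.card_fin]
  · intro i j hij
    rw [hq] at hij
    have n1 := hne a b fun g g1 _ => by rw [g1]; exact hab
    have n2 := hne a c fun g g1 _ => by rw [g1]; exact hca.symm
    have n3 := hne a d fun g g1 _ => by rw [g1]; exact hda.symm
    have n4 := hne b c fun g _ g2 => by rw [g2]; exact hcb.symm
    have n5 := hne b d fun g _ g2 => by rw [g2]; exact hdb.symm
    have n6 := hne c d hd
    fin_cases i <;> fin_cases j <;>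
      simp [n1, n2, n3, n4, n5, n6, n1.symm, n2.symm, n3.symm, n4.symm, n5.symm, n6.symm] at hij <;> rfl
  · intro C
    induction C using Quotient.inductionOn' with
    | h s =>
      rw [hq]
      by_cases hsa : s = a
      · exact ⟨0, by rw [hsa]; rfl⟩
      by_cases hsb : s = b
      · exact ⟨1, by rw [hsb]; rfl⟩
      obtain ⟨i, j, hij, g, g1, g2, g3⟩ := two_point_orbits' hΩ hins P hN hab ![c, d, s]
        (fun i => by fin_cases i <;> simp [hca, hda, hsa]) (fun i => by fin_cases i <;> simp [hcb, hdb, hsb])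
      have gi1 : g⁻¹ • a = a := inv_smul_eq_iff.2 g1.symm
      have gi2 : g⁻¹ • b = b := inv_smul_eq_iff.2 g2.symm
      fin_cases i <;> fin_cases j <;> simp at hij g3
      · exact absurd g3 (hd g g1 g2)
      · exact ⟨2, (Quotient.eq''.2 (orbitRel_apply.2 ((hrel s c).2 ⟨g, g1, g2, g3⟩))).symm⟩
      · exact absurd (inv_smul_eq_iff.2 g3.symm) (hd g⁻¹ gi1 gi2)
      · exact ⟨3, (Quotient.eq''.2 (orbitRel_apply.2 ((hrel s d).2 ⟨g, g1, g2, g3⟩))).symm⟩
      · exact ⟨2, Quotient.eq''.2 (orbitRel_apply.2 ((hrel c s).2 ⟨g, g1, g2, g3⟩))⟩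
      · exact ⟨3, Quotient.eq''.2 (orbitRel_apply.2 ((hrel d s).2 ⟨g, g1, g2, g3⟩))⟩

end CfsgLib.Perm.Heart
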