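import Cfsg.Agent.Lib.Perm.Groups.HeartPrime
import Cfsg.Agent.S0675

/-!
# Insoluble groups of prime degree with Sylow normaliser of even order are triply transitive
-/

set_option autoImplicit false
set_option linter.unusedSectionVars false
set_option linter.style.haveILetI false

namespace CfsgLib.Perm.Heart

open MulAction
open scoped Pointwise

universe u

variable {α : Type u} [Fintype α] [DecidableEq α] {p : ℕ} [hp : Fact p.Prime]

/-- A reflection in coordinates of the prime field. -/
theorem exists_reflection (hpc : Fintype.card α = p) (hp2 : p ≠ 2) (G : Subgroup (Equiv.Perm α)) [IsPretransitive G α]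
    (P : Sylow p G) (heven : Even (Nat.card (Subgroup.normalizer ((P : Subgroup G) : Set G)))) :
    ∃ (c t : G) (e : ZMod p ≃ α), (∀ x y : ZMod p, c ^ y.val • e x = e (x + y)) ∧ ∀ x, t • e x = e (-x) := by
  classical
  haveI : NeZero p := ⟨hp.out.ne_zero⟩
  obtain ⟨c, e, hT⟩ := exists_coordinates hp.out hpc.symm G
  haveI : Fact (1 < p) := ⟨hp.out.one_lt⟩
  have hc1 : ∀ x, c • e x = e (x + 1) := fun x => by
    have h := hT x 1
    rwa [ZMod.val_one, pow_one] at h
  have hcn : ∀ (n : ℕ) (x : ZMod p), c ^ n • e x = e (x + (n : ZMod p)) := by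
    intro n
    induction n with
    | zero => intro x; simp
    | succ n ih => intro x; rw [pow_succ', mul_smul, ih, hc1, Nat.cast_succ, add_assoc]
  have hcp : c ^ p = 1 := by
    refine Subtype.ext (Equiv.ext fun a => ?_)
    obtain ⟨x, rfl⟩ := e.surjective a
    show c ^ p • e x = e x
    rw [hcn, ZMod.natCast_self, add_zero]
  have hord : orderOf c = p := orderOf_eq_prime hcp fun h => by
    have := hc1 0
    rw [h, one_smul, zero_add] at this
    exact one_ne_zero (e.injective this).symm
  have hpG : ¬ p ^ 2 ∣ Nat.card G := by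
    intro h
    have h1 : Nat.card G ∣ p.factorial := by
      have := Subgroup.card_subgroup_dvd_card G
      rwa [Nat.card_eq_fintype_card (α := Equiv.Perm α), Fintype.card_perm, hpc] at this
    have h2 := h.trans h1
    obtain ⟨n, hn⟩ : ∃ n, p = n + 1 := ⟨p - 1, by have := hp.out.pos; omega⟩
    rw [pow_two, hn, Nat.factorial_succ, Nat.mul_dvd_mul_iff_left (by omega)] at h2
    rw [← hn] at h2
    rw [hp.out.dvd_factorial] at h2
    omega
  obtain ⟨k, hk⟩ : ∃ k : G, MulAut.conj k • (P : Subgroup G) = Subgroup.zpowers c := by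
    have hcp' : IsPGroup p (Subgroup.zpowers c) := IsPGroup.of_card (n := 1) (by rw [Nat.card_zpowers, hord, pow_one])
    obtain ⟨Q, hQ⟩ := hcp'.exists_le_sylow
    have hQc : Nat.card (Q : Subgroup G) ≤ Nat.card (Subgroup.zpowers c) := by
      obtain ⟨n, hn⟩ := IsPGroup.iff_card.1 Q.2
      rw [hn, Nat.card_zpowers, hord]
      rcases n with _ | _ | n
      · simp; exact hp.out.pos
      · simp
      · exact absurd ((pow_dvd_pow p (by omega)).trans (hn ▸ Subgroup.card_subgroup_dvd_card (Q : Subgroup G))) hpG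
    obtain ⟨k, hk⟩ := MulAction.exists_smul_eq G P Q
    exact ⟨k, by rw [Subgroup.eq_of_le_of_card_ge hQ hQc, ← hk]; rfl⟩
  obtain ⟨⟨s₀, hs₀⟩, hs₀o⟩ := exists_prime_orderOf_dvd_card' 2 (even_iff_two_dvd.1 heven)
  obtain ⟨s, hs⟩ : ∃ s, s = k * s₀ * k⁻¹ := ⟨_, rfl⟩
  have hs2 : s * s = 1 := by
    have h := congrArg Subtype.val (pow_orderOf_eq_one
      (⟨s₀, hs₀⟩ : Subgroup.normalizer ((P : Subgroup G) : Set G)))
    rw [hs₀o] at h
    have h' : s₀ * s₀ = 1 := by simpa [pow_two] using h
    rw [hs, show k * s₀ * k⁻¹ * (k * s₀ * k⁻¹) = k * (s₀ * s₀) * k⁻¹ from by group, h', mul_one, mul_inv_cancel]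
  have hs1 : s ≠ 1 := fun h => by
    have h0 : s₀ = 1 := by
      rw [h] at hs
      calc s₀ = k⁻¹ * (k * s₀ * k⁻¹) * k := by group
        _ = 1 := by rw [← hs]; group
    have : orderOf (⟨s₀, hs₀⟩ : Subgroup.normalizer ((P : Subgroup G) : Set G)) = 1 :=
      orderOf_eq_one_iff.2 (Subtype.ext h0)
    omega
  obtain ⟨i, hi⟩ : ∃ i : ℕ, s * c * s⁻¹ = c ^ i := by
    have hc' : k⁻¹ * c * k ∈ (P : Subgroup G) := by
      have h : c ∈ MulAut.conj k • (P : Subgroup G) := hk ▸ Subgroup.mem_zpowers c
      obtain ⟨y, hy, hyc⟩ := Subgroup.mem_smul_pointwise_iff_exists _ _ _ |>.1 h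
      rw [MulAut.smul_def, MulAut.conj_apply] at hyc
      rw [← hyc]
      convert hy using 1
      group
    have h1 := (Subgroup.mem_normalizer_iff.1 hs₀ _).1 hc'
    have h2 : MulAut.conj k • (s₀ * (k⁻¹ * c * k) * s₀⁻¹) ∈ Subgroup.zpowers c :=
      hk ▸ Subgroup.smul_mem_pointwise_smul _ _ _ h1
    rw [MulAut.smul_def, MulAut.conj_apply] at h2
    obtain ⟨n, hn⟩ := Submonoid.mem_powers_iff _ _ |>.1
      ((isOfFinOrder_of_finite c).mem_powers_iff_mem_zpowers.2 h2)
    refine ⟨n, ?_⟩
    rw [hn, hs]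
    group
  let π : ZMod p → ZMod p := fun x => e.symm (s • e x)
  have hπ : ∀ x, e (π x) = s • e x := fun x => e.apply_symm_apply _
  have hstep : ∀ x, π (x + 1) = π x + i := fun x => e.injective (by
    rw [hπ, ← hc1, ← mul_smul, show s * c = c ^ i * s from by rw [← hi]; group, mul_smul, ← hπ, hcn])
  have hlin : ∀ n : ℕ, π (n : ZMod p) = π 0 + n * (i : ZMod p) := by
    intro n
    induction n with
    | zero => simp
    | succ n ih => rw [Nat.cast_succ, hstep, ih]; ring
  have haff : ∀ x, π x = π 0 + x * (i : ZMod p) := fun x => by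
    have := hlin x.val
    rwa [ZMod.natCast_zmod_val] at this
  have hinv : ∀ x, π (π x) = x := fun x => e.injective (by rw [hπ, hπ, ← mul_smul, hs2, one_smul])
  have hi2 : ((i : ZMod p) - 1) * ((i : ZMod p) + 1) = 0 := by
    have h0 := hinv 0
    have h1 := hinv 1
    rw [haff (π 0)] at h0
    rw [haff (π 1), haff 1] at h1
    linear_combination h1 - h0
  have hneg : (i : ZMod p) = -1 := by
    rcases mul_eq_zero.1 hi2 with h | h
    · exfalso
      rw [sub_eq_zero] at h
      have h0 := hinv 0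
      rw [haff (π 0), h, mul_one, ← two_mul, mul_eq_zero] at h0
      have h2 : (2 : ZMod p) ≠ 0 := by
        intro h2
        have h3 : ((2 : ℕ) : ZMod p) = 0 := by exact_mod_cast h2
        rw [ZMod.natCast_eq_zero_iff] at h3
        exact hp2 ((Nat.prime_dvd_prime_iff_eq hp.out Nat.prime_two).1 h3)
      apply hs1
      refine Subtype.ext (Equiv.ext fun a => ?_)
      obtain ⟨x, rfl⟩ := e.surjective a
      show s • e x = e x
      rw [← hπ, haff, h0.resolve_left h2, h, zero_add, mul_one]
    · exact eq_neg_of_add_eq_zero_left h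
  refine ⟨c, c ^ (-π 0).val * s, e, hT, fun x => ?_⟩
  rw [mul_smul, ← hπ, hT, haff x, hneg]
  congr 1
  ring

/-- Triple transitivity. -/
theorem prime_three_transitive (hpc : Fintype.card α = p) (G : Subgroup (Equiv.Perm α)) [IsPretransitive G α]
    (hG : ¬ Group.IsSolvable G) (P : Sylow p G)
    (heven : Even (Nat.card (Subgroup.normalizer ((P : Subgroup G) : Set G)))) : IsMultiplyPretransitive G α 3 := by
  classical
  haveI : NeZero p := ⟨hp.out.ne_zero⟩
  have hp2 : p ≠ 2 := by
    rintro rfl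
    apply hG
    haveI : Fintype G := Fintype.ofFinite G
    have h1 : Nat.card G ∣ 2 := by
      have := Subgroup.card_subgroup_dvd_card G
      rwa [Nat.card_eq_fintype_card (α := Equiv.Perm α), Fintype.card_perm, hpc] at this
    rcases (Nat.dvd_prime Nat.prime_two).1 h1 with h | h
    · haveI := (Nat.card_eq_one_iff_unique.1 h).1
      exact isSolvable_of_comm fun a b => Subsingleton.elim _ _
    · haveI : IsCyclic G := isCyclic_of_prime_card h
      exact isSolvable_of_comm IsCyclic.commGroup.mul_comm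
  obtain ⟨c, t, e, hT, ht⟩ := exists_reflection hpc hp2 G P heven
  have h2 : IsMultiplyPretransitive G α 2 :=
    (Cfsg.Agent.S0675.result (by rw [hpc]; exact hp.out) G).resolve_left hG
  have h2ne : (2 : ZMod p) ≠ 0 := by
    intro h2
    have h3 : ((2 : ℕ) : ZMod p) = 0 := by exact_mod_cast h2
    rw [ZMod.natCast_eq_zero_iff] at h3
    exact hp2 ((Nat.prime_dvd_prime_iff_eq hp.out Nat.prime_two).1 h3)
  haveI : FaithfulSMul G α := inferInstance
  refine three_transitive (K := ZMod p) (p := p) h2 hpc.symm.dvd (fun a => ?_) fun f hf => ?_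
  · obtain ⟨g, rfl⟩ := exists_smul_eq G (e 0) a
    have hmem : g * t * g⁻¹ ∈ stabilizer G (g • e 0) := by
      rw [mem_stabilizer_iff, mul_smul, mul_smul, inv_smul_smul, ht, neg_zero]
    have h1 : orderOf (⟨g * t * g⁻¹, hmem⟩ : stabilizer G (g • e 0)) = 2 := by
      refine orderOf_eq_prime (Subtype.ext (Subtype.ext (Equiv.ext fun a => ?_))) fun h => ?_
      · obtain ⟨b, rfl⟩ : ∃ b, g • b = a := ⟨g⁻¹ • a, smul_inv_smul g a⟩
        obtain ⟨x, rfl⟩ := e.surjective b
        show ((g * t * g⁻¹) ^ 2) • g • e x = g • e x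
        rw [pow_two, show g * t * g⁻¹ * (g * t * g⁻¹) = g * (t * t) * g⁻¹ from by group, mul_smul, inv_smul_smul,
          mul_smul, mul_smul, ht, ht, neg_neg]
      · have h' : g * t * g⁻¹ = 1 := congrArg Subtype.val h
        have : t = 1 := by
          calc t = g⁻¹ * (g * t * g⁻¹) * g := by group
            _ = 1 := by rw [h']; group
        have h3 := ht 1
        rw [this, one_smul] at h3
        exact h2ne (by linear_combination e.injective h3)
    rw [even_iff_two_dvd, ← h1]
    exact orderOf_dvd_natCard _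
  · obtain ⟨u, hu⟩ : ∃ u : α → ZMod p, u = fun a => e.symm a := ⟨_, rfl⟩
    have hu0 : u ∈ (Cfsg.permSumZero (ZMod p) G α).toSubmodule := by
      rw [mem_sumZero]
      have hsum : ∑ a, u a = ∑ x : ZMod p, x := (Fintype.sum_equiv e _ _ fun x => by simp [hu]).symm
      rw [hsum]
      have h := Fintype.sum_equiv (Equiv.neg (ZMod p)) (fun x => x) (fun x => -x) fun x => by simp
      rw [Finset.sum_neg_distrib] at h
      exact (mul_eq_zero.1 (show (2 : ZMod p) * ∑ x : ZMod p, x = 0 by linear_combination h)).resolve_left h2ne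
    have heq : ∀ g v, f ((Cfsg.permSumZero (ZMod p) G α).toRepresentation g v) =
        Cfsg.permRep (ZMod p) G (Set.powersetCard α 2) g (f v) := fun g v => congr($(f.isIntertwining' g) v)
    have htrans : ∀ y : ZMod p, Cfsg.permRep (ZMod p) G (Set.powersetCard α 2) (c ^ y.val) (f ⟨u, hu0⟩) =
        f ⟨u, hu0⟩ := by
      intro y
      have hconst : (fun _ : α => -y) ∈ (Cfsg.permSumZero (ZMod p) G α).toSubmodule := by
        rw [mem_sumZero, Finset.sum_const, Finset.card_univ, hpc]; simp
      have h1 : (Cfsg.permSumZero (ZMod p) G α).toRepresentation (c ^ y.val) ⟨u, hu0⟩ =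
          (⟨u, hu0⟩ : (Cfsg.permSumZero (ZMod p) G α).toSubmodule) + ⟨fun _ => -y, hconst⟩ := by
        refine Subtype.ext (funext fun a => ?_)
        obtain ⟨x, rfl⟩ := e.surjective a
        show u ((c ^ y.val)⁻¹ • e x) = u (e x) + -y
        rw [show (c ^ y.val)⁻¹ • e x = e (x - y) from inv_smul_eq_iff.2 (by rw [hT, sub_add_cancel]), hu]
        simp [sub_eq_add_neg]
      rw [← heq, h1, map_add, hf ⟨fun _ => -y, hconst⟩ (mem_constants.2 ⟨-y, rfl⟩), add_zero]
    have hneg : Cfsg.permRep (ZMod p) G (Set.powersetCard α 2) t (f ⟨u, hu0⟩) = -f ⟨u, hu0⟩ := by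
      have h1 : (Cfsg.permSumZero (ZMod p) G α).toRepresentation t ⟨u, hu0⟩ =
          -(⟨u, hu0⟩ : (Cfsg.permSumZero (ZMod p) G α).toSubmodule) := by
        refine Subtype.ext (funext fun a => ?_)
        obtain ⟨x, rfl⟩ := e.surjective a
        show u (t⁻¹ • e x) = -u (e x)
        rw [show t⁻¹ • e x = e (-x) from inv_smul_eq_iff.2 (by rw [ht, neg_neg]), hu]
        simp
      rw [← heq, h1, map_neg]
    have hfu : f ⟨u, hu0⟩ = 0 := by
      funext P
      obtain ⟨a, b, hab, hP⟩ := Finset.card_eq_two.1 P.2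
      obtain ⟨x, rfl⟩ := e.surjective a
      obtain ⟨y, rfl⟩ := e.surjective b
      -- the reflection carries a pair to one of its translates
      have hmove : t⁻¹ • P = (c ^ (x + y).val)⁻¹ • P := by
        refine Subtype.ext ?_
        show t⁻¹ • (P : Finset α) = (c ^ (x + y).val)⁻¹ • (P : Finset α)
        rw [hP, Finset.smul_finset_insert,
          Finset.smul_finset_singleton, Finset.smul_finset_insert, Finset.smul_finset_singleton,
          show t⁻¹ • e x = e (-x) from inv_smul_eq_iff.2 (by rw [ht, neg_neg]),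
          show t⁻¹ • e y = e (-y) from inv_smul_eq_iff.2 (by rw [ht, neg_neg]),
          show (c ^ (x + y).val)⁻¹ • e x = e (-y) from inv_smul_eq_iff.2 (by rw [hT]; congr 1; ring),
          show (c ^ (x + y).val)⁻¹ • e y = e (-x) from inv_smul_eq_iff.2 (by rw [hT]; congr 1; ring),
          Finset.pair_comm]
      have h1 : f ⟨u, hu0⟩ (t⁻¹ • P) = -f ⟨u, hu0⟩ P := congrFun hneg P
      have h2' : f ⟨u, hu0⟩ ((c ^ (x + y).val)⁻¹ • P) = f ⟨u, hu0⟩ P := congrFun (htrans (x + y)) P
      rw [hmove, h2'] at h1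
      exact (mul_eq_zero.1 (show (2 : ZMod p) * f ⟨u, hu0⟩ P = 0 by linear_combination h1)).resolve_left h2ne
    let W : Subrepresentation (Cfsg.permRep (ZMod p) G α) :=
      ⟨(LinearMap.ker f.toLinearMap).map (Cfsg.permSumZero (ZMod p) G α).toSubmodule.subtype, fun g v hv => by
        obtain ⟨w, hw, rfl⟩ := Submodule.mem_map.1 hv
        refine ⟨(Cfsg.permSumZero (ZMod p) G α).toRepresentation g w, ?_, rfl⟩
        refine LinearMap.mem_ker.2 ?_; replace hw := LinearMap.mem_ker.1 hw
        show f _ = 0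
        rw [heq, show f w = 0 from hw, map_zero]⟩
    have hCW : (Cfsg.permConstants (ZMod p) G α).toSubmodule ≤ W.toSubmodule := by
      intro v hv
      obtain ⟨r, rfl⟩ := mem_constants.1 hv
      have hmem : (fun _ : α => r) ∈ (Cfsg.permSumZero (ZMod p) G α).toSubmodule := by
        rw [mem_sumZero, Finset.sum_const, Finset.card_univ, hpc]; simp
      exact ⟨⟨_, hmem⟩, hf _ hv, rfl⟩
    have hWS : W.toSubmodule ≤ (Cfsg.permSumZero (ZMod p) G α).toSubmodule := by
      rintro _ ⟨w, -, rfl⟩
      exact w.2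
    rcases heart_irreducible hpc G hG W hCW hWS with h | h
    · exfalso
      have : u ∈ W.toSubmodule := ⟨⟨u, hu0⟩, hfu, rfl⟩
      rw [h, mem_constants] at this
      obtain ⟨r, hr⟩ := this
      have e0 := congrFun hr (e 0)
      have e1 := congrFun hr (e 1)
      simp only [hu, Equiv.symm_apply_apply] at e0 e1
      exact zero_ne_one (e0.trans e1.symm)
    · refine Representation.IntertwiningMap.ext (LinearMap.ext fun v => ?_)
      have : (v : α → ZMod p) ∈ W.toSubmodule := by rw [h]; exact v.2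
      obtain ⟨w, hw, hwv⟩ := Submodule.mem_map.1 this
      rw [show w = v from Subtype.ext hwv] at hw
      exact LinearMap.mem_ker.1 hw

end CfsgLib.Perm.Heart
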