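import Cfsg.Agent.Lib.Perm.Groups.PrimeHalfAction
import Cfsg.Agent.Lib.Perm.Groups.PrimeTriple
import Cfsg.Agent.Lib.Perm.Groups.NettoTriples

/-!
# Point stabilisers in insoluble groups of prime degree with half normaliser are primitive
-/

set_option autoImplicit false
set_option linter.unusedSectionVars false
set_option linter.style.haveILetI false

namespace CfsgLib.Perm.Heart

open MulAction

universe u v

variable {G : Type u} {Ω : Type v} [Group G] [Finite G] [MulAction G Ω] [FaithfulSMul G Ω] [Finite Ω]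
  {p : ℕ} [hp : Fact p.Prime] [IsPretransitive G Ω]

theorem exists_square_coordinates' (hΩ : Nat.card Ω = p) (P : Sylow p G)
    (hN : p * (p - 1) ≤ 2 * Nat.card (Subgroup.normalizer ((P : Subgroup G) : Set G))) :
    ∃ e : ZMod p ≃ Ω, ∀ s y : ZMod p, s ^ (p / 2) = 1 → ∃ g : G, ∀ x, g • e x = e (s * x + y) := by
  classical
  have := Fintype.ofFinite Ω
  obtain ⟨φ, hφd⟩ : ∃ φ, φ = MulAction.toPermHom G Ω := ⟨_, rfl⟩
  have hφ : Function.Injective φ := hφd ▸ MulAction.toPerm_injective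
  have happ : ∀ (g : G) x, φ g x = g • x := fun g x => by rw [hφd]; rfl
  haveI : IsPretransitive φ.range Ω := ⟨fun x y => by
    obtain ⟨g, hg⟩ := exists_smul_eq G x y
    exact ⟨⟨φ g, g, rfl⟩, by rw [← hg, ← happ]; rfl⟩⟩
  obtain ⟨e', he⟩ : ∃ e' : G ≃* φ.range, e' = MonoidHom.ofInjective hφ := ⟨_, rfl⟩
  let P' : Sylow p φ.range := P.mapSurjective (f := e'.toMonoidHom) e'.surjective
  have hP' : Nat.card (Subgroup.normalizer ((P' : Subgroup φ.range) : Set φ.range)) =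
      Nat.card (Subgroup.normalizer ((P : Subgroup G) : Set G)) := by
    rw [show (P' : Subgroup φ.range) = (P : Subgroup G).map e'.toMonoidHom from rfl,
      ← Subgroup.map_equiv_normalizer_eq]
    exact Subgroup.card_map_of_injective e'.injective
  obtain ⟨c, e, hT, hS⟩ := exists_square_coordinates (by rw [← Nat.card_eq_fintype_card, hΩ]) φ.range P'
    (by rw [hP']; exact hN)
  refine ⟨e, fun s y hs => ?_⟩
  obtain ⟨t, ht⟩ := hS s hs
  obtain ⟨g, hg⟩ := (c ^ y.val * t).2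
  refine ⟨g, fun x => ?_⟩
  rw [← happ, hg, ← hT, ← ht, ← mul_smul]
  rfl

theorem three_transitive_of_one_mod_four (hΩ : Nat.card Ω = p) (hins : ¬ Group.IsSolvable G) (P : Sylow p G)
    (hN : 2 * Nat.card (Subgroup.normalizer ((P : Subgroup G) : Set G)) = p * (p - 1)) (hp4 : p % 4 = 1) :
    IsMultiplyPretransitive G Ω 3 := by
  classical
  have := Fintype.ofFinite Ω
  obtain ⟨φ, hφd⟩ : ∃ φ, φ = MulAction.toPermHom G Ω := ⟨_, rfl⟩
  have hφ : Function.Injective φ := hφd ▸ MulAction.toPerm_injective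
  have happ : ∀ (g : G) x, φ g x = g • x := fun g x => by rw [hφd]; rfl
  haveI : IsPretransitive φ.range Ω := ⟨fun x y => by
    obtain ⟨g, hg⟩ := exists_smul_eq G x y
    exact ⟨⟨φ g, g, rfl⟩, by rw [← hg, ← happ]; rfl⟩⟩
  obtain ⟨e', he⟩ : ∃ e' : G ≃* φ.range, e' = MonoidHom.ofInjective hφ := ⟨_, rfl⟩
  have hins' : ¬ Group.IsSolvable φ.range := fun h => hins
    (solvable_of_solvable_injective (f := e'.toMonoidHom) e'.injective)
  let P' : Sylow p φ.range := P.mapSurjective (f := e'.toMonoidHom) e'.surjective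
  have hP' : Nat.card (Subgroup.normalizer ((P' : Subgroup φ.range) : Set φ.range)) =
      Nat.card (Subgroup.normalizer ((P : Subgroup G) : Set G)) := by
    rw [show (P' : Subgroup φ.range) = (P : Subgroup G).map e'.toMonoidHom from rfl,
      ← Subgroup.map_equiv_normalizer_eq]
    exact Subgroup.card_map_of_injective e'.injective
  have heven : Even (Nat.card (Subgroup.normalizer ((P' : Subgroup φ.range) : Set φ.range))) := by
    rw [hP']
    obtain ⟨k, hk⟩ : 4 ∣ p - 1 := by omega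
    rw [hk] at hN
    exact ⟨p * k, by linarith⟩
  have h3 := prime_three_transitive (by rw [← Nat.card_eq_fintype_card, hΩ]) φ.range hins' P' heven
  refine ⟨fun u v => ?_⟩
  obtain ⟨⟨_, g, rfl⟩, hg⟩ := h3.exists_smul_eq u v
  refine ⟨g, Function.Embedding.ext fun i => ?_⟩
  show g • u i = v i
  rw [← happ]
  exact DFunLike.congr_fun hg i

/-- A group of prime degree `p > 7` in which the stabiliser of a point has a non-trivial block. -/
theorem false_of_block (hΩ : Nat.card Ω = p) (hins : ¬ Group.IsSolvable G) (P : Sylow p G)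
    (hN : p * (p - 1) ≤ 2 * Nat.card (Subgroup.normalizer ((P : Subgroup G) : Set G))) (hp7 : 7 < p)
    (hp4 : p % 4 = 3) {α₀ b₀ x₀ y₀ : Ω} (S : Set Ω)
    (hblk : ∀ g : G, g • α₀ = α₀ → ∀ x ∈ S, g • x ∈ S → ∀ y ∈ S, g • y ∈ S)
    (hb : b₀ ∈ S) (hx : x₀ ∈ S) (hbx : b₀ ≠ x₀) (hαS : α₀ ∉ S) (hy : y₀ ∉ S) (hyα : y₀ ≠ α₀) : False := by
  classical
  have := Fintype.ofFinite Ω
  have hp2 : p ≠ 2 := by omega
  have hab : α₀ ≠ b₀ := fun h => hαS (h ▸ hb)
  have hαx : x₀ ≠ α₀ := fun h => hαS (h ▸ hx)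
  have hyb : y₀ ≠ b₀ := fun h => hy (h ▸ hb)
  have h2 := two_transitive_of_insoluble hΩ hins
  rw [is_two_pretransitive_iff] at h2
  have hblk' : ∀ g : G, g • α₀ = α₀ → ∀ x ∈ S, g • x ∈ S → ∀ y, g • y ∈ S → y ∈ S := by
    intro g ga x hxS hgx y hgy
    have := hblk g⁻¹ (inv_smul_eq_iff.2 ga.symm) (g • x) hgx (by rw [inv_smul_smul]; exact hxS) (g • y) hgy
    rwa [inv_smul_smul] at this
  have inv1 : ∀ {g : G}, g • α₀ = α₀ → g⁻¹ • α₀ = α₀ := fun h => inv_smul_eq_iff.2 h.symm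
  have inv2 : ∀ {g : G}, g • b₀ = b₀ → g⁻¹ • b₀ = b₀ := fun h => inv_smul_eq_iff.2 h.symm
  -- the two orbits
  have hin : ∀ z ∈ S, z ≠ b₀ → ∃ g : G, g • α₀ = α₀ ∧ g • b₀ = b₀ ∧ g • x₀ = z := by
    intro z hz hzb
    by_cases hzx : z = x₀
    · exact ⟨1, one_smul _ _, one_smul _ _, by rw [one_smul, hzx]⟩
    obtain ⟨i, j, hij, g, g1, g2, g3⟩ := two_point_orbits' hΩ hins P hN hab ![x₀, z, y₀]
      (fun i => by fin_cases i <;> simp [hαx, hyα, show z ≠ α₀ from fun h => hαS (h ▸ hz)])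
      (fun i => by fin_cases i <;> simp [hbx.symm, hzb, hyb])
    fin_cases i <;> fin_cases j <;> simp at hij g3
    · exact ⟨g, g1, g2, g3⟩
    · exact absurd (g3 ▸ hblk g g1 b₀ hb (g2.symm ▸ hb) x₀ hx) hy
    · exact ⟨g⁻¹, inv1 g1, inv2 g2, inv_smul_eq_iff.2 g3.symm⟩
    · exact absurd (g3 ▸ hblk g g1 b₀ hb (g2.symm ▸ hb) z hz) hy
    · exact absurd (hblk' g g1 b₀ hb (g2.symm ▸ hb) y₀ (g3.symm ▸ hx)) hy
    · exact absurd (hblk' g g1 b₀ hb (g2.symm ▸ hb) y₀ (g3.symm ▸ hz)) hy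
  have hout : ∀ z, z ≠ α₀ → z ∉ S → ∃ g : G, g • α₀ = α₀ ∧ g • b₀ = b₀ ∧ g • y₀ = z := by
    intro z hzα hz
    obtain ⟨i, j, hij, g, g1, g2, g3⟩ := two_point_orbits' hΩ hins P hN hab ![x₀, z, y₀]
      (fun i => by fin_cases i <;> simp [hαx, hyα, hzα])
      (fun i => by fin_cases i <;> simp [hbx.symm, hyb, show z ≠ b₀ from fun h => hz (h ▸ hb)])
    fin_cases i <;> fin_cases j <;> simp at hij g3
    · exact absurd (g3 ▸ hblk g g1 b₀ hb (g2.symm ▸ hb) x₀ hx) hz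
    · exact absurd (g3 ▸ hblk g g1 b₀ hb (g2.symm ▸ hb) x₀ hx) hy
    · exact absurd (hblk' g g1 b₀ hb (g2.symm ▸ hb) z (g3.symm ▸ hx)) hz
    · exact ⟨g⁻¹, inv1 g1, inv2 g2, inv_smul_eq_iff.2 g3.symm⟩
    · exact absurd (hblk' g g1 b₀ hb (g2.symm ▸ hb) y₀ (g3.symm ▸ hx)) hy
    · exact ⟨g, g1, g2, g3⟩
  -- collinear triples
  let R : Ω → Ω → Ω → Prop := fun a b c => ∃ g : G, g • α₀ = a ∧ g • b₀ = b ∧ g • x₀ = c
  have R1 : ∀ (k : G) {a b c}, R a b c → R (k • a) (k • b) (k • c) := fun k a b c ⟨g, g1, g2, g3⟩ =>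
    ⟨k * g, by rw [mul_smul, g1], by rw [mul_smul, g2], by rw [mul_smul, g3]⟩
  have R1' : ∀ (k : G) {a b c}, R (k • a) (k • b) (k • c) → R a b c := fun k a b c h => by
    have := R1 k⁻¹ h
    rwa [inv_smul_smul, inv_smul_smul, inv_smul_smul] at this
  have hbase : ∀ z, R α₀ b₀ z ↔ z ∈ S ∧ z ≠ b₀ := fun z =>
    ⟨fun ⟨g, g1, g2, g3⟩ => ⟨g3 ▸ hblk g g1 b₀ hb (g2.symm ▸ hb) x₀ hx,
        fun h => hbx (smul_left_cancel g (g2.trans (g3.trans h).symm))⟩, fun h => hin z h.1 h.2⟩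
  obtain ⟨g₁, g₁a, g₁b⟩ : ∃ g : G, g • α₀ = α₀ ∧ g • b₀ = x₀ := h2 hab hαx.symm
  have hg₁ : ∀ y ∈ S, g₁⁻¹ • y ∈ S := fun y hyS => hblk g₁⁻¹ (inv1 g₁a) x₀ hx
    (by rw [← g₁b, inv_smul_smul]; exact hb) y hyS
  have hflip : R α₀ x₀ b₀ := by
    have h : R α₀ b₀ (g₁⁻¹ • b₀) := (hbase _).2 ⟨hg₁ b₀ hb, fun h => hbx (by
      rw [← g₁b]; exact inv_smul_eq_iff.1 h)⟩
    have := R1 g₁ h
    rwa [g₁a, g₁b, smul_inv_smul] at this
  have R2 : ∀ {a b c}, R a b c → R a c b := fun {a b c} ⟨g, g1, g2, g3⟩ => by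
    have := R1 g hflip
    rwa [g1, g2, g3] at this
  obtain ⟨g₀, g₀a, g₀b⟩ : ∃ g : G, g • α₀ = b₀ ∧ g • b₀ = α₀ := h2 hab hab.symm
  have hswap : R b₀ α₀ x₀ := by
    by_cases hw : g₀ • x₀ ∈ S
    · have hwb : g₀ • x₀ ≠ b₀ := fun h => hαx (smul_left_cancel g₀ (h.trans g₀a.symm))
      obtain ⟨k, k1, k2, k3⟩ := hin _ hw hwb
      exact ⟨k⁻¹ * g₀, by rw [mul_smul, g₀a, inv2 k2], by rw [mul_smul, g₀b, inv1 k1],
        by rw [mul_smul, ← k3, inv_smul_smul]⟩
    exfalso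
    have hwα : g₀ • x₀ ≠ α₀ := fun h => hbx (smul_left_cancel g₀ (g₀b.trans h.symm))
    have hfix : ∀ k : G, k • α₀ = α₀ → k • b₀ = b₀ →
        (g₀ * k * g₀⁻¹) • α₀ = α₀ ∧ (g₀ * k * g₀⁻¹) • b₀ = b₀ := fun k k1 k2 =>
      ⟨by rw [mul_smul, mul_smul, inv_smul_eq_iff.2 g₀b.symm, k2, g₀b],
        by rw [mul_smul, mul_smul, inv_smul_eq_iff.2 g₀a.symm, k1, g₀a]⟩
    obtain ⟨T, hTd⟩ : ∃ T : Finset Ω, T = Finset.univ.filter fun z => z ≠ α₀ ∧ z ≠ b₀ := ⟨_, rfl⟩
    have himg : (T.filter (· ∈ S)).image (g₀ • ·) = T.filter (· ∉ S) := by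
      ext z
      simp only [Finset.mem_image, Finset.mem_filter, hTd, Finset.mem_univ, true_and]
      constructor
      · rintro ⟨w, ⟨⟨-, hwb⟩, hwS⟩, rfl⟩
        obtain ⟨k, k1, k2, rfl⟩ := hin w hwS hwb
        obtain ⟨c1, c2⟩ := hfix k k1 k2
        have e : g₀ • k • x₀ = (g₀ * k * g₀⁻¹) • g₀ • x₀ := by rw [mul_smul, mul_smul, inv_smul_smul]
        refine ⟨⟨fun h => ?_, fun h => ?_⟩, fun h => ?_⟩
        · rw [e] at h; exact hwα (smul_left_cancel _ (h.trans c1.symm))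
        · rw [e] at h; exact hw (by rw [show g₀ • x₀ = b₀ from smul_left_cancel _ (h.trans c2.symm)]; exact hb)
        · rw [e] at h; exact hw (hblk' _ c1 b₀ hb (c2.symm ▸ hb) _ h)
      · rintro ⟨⟨hzα, hzb⟩, hzS⟩
        have hza : g₀⁻¹ • z ≠ α₀ := fun h => hzb (by rw [inv_smul_eq_iff.1 h, g₀a])
        have hzb' : g₀⁻¹ • z ≠ b₀ := fun h => hzα (by rw [inv_smul_eq_iff.1 h, g₀b])
        refine ⟨g₀⁻¹ • z, ⟨⟨hza, hzb'⟩, ?_⟩, smul_inv_smul _ _⟩
        obtain ⟨k, k1, k2, k3⟩ := hout _ hzα hzS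
        obtain ⟨l, l1, l2, l3⟩ := hout _ hwα hw
        have e : g₀⁻¹ • z = (g₀⁻¹ * (k * l⁻¹) * g₀) • x₀ := by
          rw [mul_smul, mul_smul, mul_smul, ← l3, inv_smul_smul, k3]
        have c1 : (g₀⁻¹ * (k * l⁻¹) * g₀) • α₀ = α₀ := by
          rw [mul_smul, mul_smul, mul_smul, g₀a, inv2 l2, k2, inv_smul_eq_iff.2 g₀a.symm]
        have c2 : (g₀⁻¹ * (k * l⁻¹) * g₀) • b₀ = b₀ := by
          rw [mul_smul, mul_smul, mul_smul, g₀b, inv1 l1, k1, inv_smul_eq_iff.2 g₀b.symm]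
        rw [e]
        exact hblk _ c1 b₀ hb (c2.symm ▸ hb) x₀ hx
    have hc := congrArg Finset.card himg
    rw [Finset.card_image_of_injective _ (MulAction.injective g₀)] at hc
    have hsum := Finset.card_filter_add_card_filter_not (s := T) (p := (· ∈ S))
    have hTc : T.card = p - 2 := by
      rw [hTd, show (Finset.univ.filter fun z : Ω => z ≠ α₀ ∧ z ≠ b₀) = ({α₀, b₀} : Finset Ω)ᶜ by
        ext; simp [not_or], Finset.card_compl, Finset.card_pair hab, ← Nat.card_eq_fintype_card, hΩ]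
    omega
  have R3 : ∀ {a b c}, R a b c → R b a c := fun {a b c} ⟨g, g1, g2, g3⟩ => by
    have := R1 g hswap
    rwa [g1, g2, g3] at this
  have R4 : ∀ {a b c d}, R a b c → R a b d → c ≠ d → R a c d := by
    intro a b c d ⟨g, g1, g2, g3⟩ hd hcd
    have hd' : R α₀ b₀ (g⁻¹ • d) := R1' g (by rw [g1, g2, smul_inv_smul]; exact hd)
    obtain ⟨hdS, -⟩ := (hbase _).1 hd'
    have h : R α₀ b₀ (g₁⁻¹ • g⁻¹ • d) := (hbase _).2 ⟨hg₁ _ hdS, fun h => hcd (by
      rw [← g3, ← g₁b, ← inv_smul_eq_iff.1 h, smul_inv_smul])⟩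
    have := R1 g (R1 g₁ h)
    rwa [g₁a, g₁b, g1, g3, smul_inv_smul, smul_inv_smul] at this
  have Rne : ∀ {a b c}, R a b c → c ≠ a ∧ c ≠ b := fun {a b c} ⟨g, g1, g2, g3⟩ =>
    ⟨fun h => hαx (smul_left_cancel g (g3.trans (h.trans g1.symm))),
      fun h => hbx (smul_left_cancel g (g3.trans (h.trans g2.symm))).symm⟩
  let Q : Ω → Ω → Ω → Prop := fun a b w => w = a ∨ w = b ∨ R a b w
  have Qc : ∀ a b w, Q a b w ↔ Q b a w := fun a b w =>
    ⟨fun h => h.elim (fun h => Or.inr (Or.inl h)) (fun h => h.elim Or.inl fun h => Or.inr (Or.inr (R3 h))),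
      fun h => h.elim (fun h => Or.inr (Or.inl h)) (fun h => h.elim Or.inl fun h => Or.inr (Or.inr (R3 h)))⟩
  have Qeq : ∀ {a b c}, Q a b c → c ≠ a → ∀ w, Q a b w ↔ Q a c w := by
    intro a b c hc hca w
    rcases hc with h | h | h
    · exact absurd h hca
    · rw [h]
    have key : ∀ {b c}, R a b c → Q a b w → Q a c w := by
      intro b c h hw
      rcases hw with hw | hw | hw
      · exact Or.inl hw
      · exact Or.inr (Or.inr (hw ▸ R2 h))
      · by_cases hwc : w = c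
        · exact Or.inr (Or.inl hwc)
        · exact Or.inr (Or.inr (R4 h hw (Ne.symm hwc)))
    exact ⟨key h, key (R2 h)⟩
  -- coordinates
  obtain ⟨e, he⟩ := exists_square_coordinates' hΩ P hN
  haveI : NeZero p := ⟨hp.out.ne_zero⟩
  obtain ⟨m, hm⟩ : ∃ m, m = p / 2 := ⟨_, rfl⟩
  rw [← hm] at he
  have hmodd : Odd m := by rw [hm, Nat.odd_iff]; omega
  have hsgn : ∀ d : ZMod p, d ≠ 0 → d ^ m = 1 ∨ (-d) ^ m = 1 := fun d hd => by
    rcases ZMod.pow_div_two_eq_neg_one_or_one p hd with h | h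
    · exact Or.inl (hm ▸ h)
    · exact Or.inr (by rw [hmodd.neg_pow, hm, h, neg_neg])
  have hnat : ∀ n : ℕ, 0 < n → n < p → (n : ZMod p) ≠ 0 := fun n h0 hn h => by
    rw [ZMod.natCast_eq_zero_iff] at h
    have := Nat.le_of_dvd h0 h
    omega
  have h20 : (2 : ZMod p) ≠ 0 := by exact_mod_cast hnat 2 (by norm_num) (by omega)
  have h30 : (3 : ZMod p) ≠ 0 := by exact_mod_cast hnat 3 (by norm_num) (by omega)
  let C : ZMod p → ZMod p → ZMod p → Prop := fun x y w => R (e x) (e y) (e w)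
  have Caff : ∀ {s : ZMod p}, s ^ m = 1 → ∀ (t x y w : ZMod p),
      C x y w ↔ C (s * x + t) (s * y + t) (s * w + t) := by
    intro s hs t x y w
    obtain ⟨g, hg⟩ := he s t hs
    simp only [C, ← hg]
    exact ⟨R1 g, R1' g⟩
  have e01 : e 0 ≠ e 1 := fun h => zero_ne_one (e.injective h)
  obtain ⟨k, k1, k2⟩ : ∃ k : G, k • α₀ = e 0 ∧ k • b₀ = e 1 := h2 hab e01
  obtain ⟨η, hη⟩ := e.surjective (k • x₀)
  have hCη : C 0 1 η := ⟨k, k1, k2, hη.symm⟩
  obtain ⟨hη0', hη1'⟩ := Rne hCη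
  have hη0 : η ≠ 0 := fun h => hη0' (congrArg e h)
  have hη1 : η ≠ 1 := fun h => hη1' (congrArg e h)
  obtain ⟨M, hMd⟩ : ∃ M : Finset (ZMod p), M = Finset.univ.filter fun w => Q (e 0) (e 1) (e w) := ⟨_, rfl⟩
  have hM : ∀ w, w ∈ M ↔ w = 0 ∨ w = 1 ∨ C 0 1 w := fun w => by simp [hMd, Q, C, e.injective.eq_iff]
  have h0M : (0 : ZMod p) ∈ M := (hM 0).2 (Or.inl rfl)
  have h1M : (1 : ZMod p) ∈ M := (hM 1).2 (Or.inr (Or.inl rfl))
  have hηM : η ∈ M := (hM η).2 (Or.inr (Or.inr hCη))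
  have hMne : M ≠ Finset.univ := by
    intro h
    obtain ⟨w, hw⟩ := e.surjective (k • y₀)
    rcases (hM w).1 (h ▸ Finset.mem_univ w) with h' | h' | h'
    · exact hyα (smul_left_cancel k (by rw [k1, ← hw, h']))
    · exact hyb (smul_left_cancel k (by rw [k2, ← hw, h']))
    · have : R α₀ b₀ y₀ := R1' k (by rw [k1, k2, ← hw]; exact h')
      exact hy ((hbase _).1 this).1
  -- the line through 0 and 1 is carried onto itself
  let Pres : ZMod p → ZMod p → Prop := fun s t => s ^ m = 1 ∧ M.image (fun x => s * x + t) = M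
  have hpair : ∀ i ∈ M, ∀ j ∈ M, (j - i) ^ m = 1 → Pres (j - i) i := by
    intro i hi j hj hs
    refine ⟨hs, ?_⟩
    have hij : i ≠ j := fun h => by
      rw [h, sub_self, zero_pow hmodd.pos.ne'] at hs
      exact zero_ne_one hs
    have hline : ∀ w, Q (e 0) (e 1) w ↔ Q (e i) (e j) w := by
      intro w
      have hiQ : Q (e 0) (e 1) (e i) := by simpa [hMd] using hi
      have hjQ : Q (e 0) (e 1) (e j) := by simpa [hMd] using hj
      by_cases hi0 : i = 0
      · subst hi0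
        exact Qeq hjQ (fun h => hij (e.injective h).symm) w
      · have h0 := Qeq hiQ (fun h => hi0 (e.injective h))
        rw [h0 w, Qc (e 0)]
        have hjQ' : Q (e i) (e 0) (e j) := (Qc _ _ _).1 ((h0 _).1 hjQ)
        exact Qeq hjQ' (fun h => hij (e.injective h).symm) w
    refine Finset.eq_of_subset_of_card_le (fun w hw => ?_) (le_of_eq (Finset.card_image_of_injective _
      fun x y h => ?_).symm)
    · obtain ⟨x, hx', rfl⟩ := Finset.mem_image.1 hw
      simp only [hMd, Finset.mem_filter, Finset.mem_univ, true_and]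
      rw [hline]
      rcases (hM x).1 hx' with h | h | h
      · exact Or.inl (by rw [h, mul_zero, zero_add])
      · exact Or.inr (Or.inl (by rw [h, mul_one, sub_add_cancel]))
      · have := (Caff hs i 0 1 x).1 h
        rw [mul_zero, zero_add, mul_one, sub_add_cancel] at this
        exact Or.inr (Or.inr this)
    · refine mul_left_cancel₀ (fun h' => ?_) (add_right_cancel h)
      rw [h', zero_pow hmodd.pos.ne'] at hs
      exact zero_ne_one hs
  have hpres : ∀ {s t}, Pres s t → ∀ x ∈ M, s * x + t ∈ M := fun h x hx' => by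
    rw [← h.2]; exact Finset.mem_image_of_mem _ hx'
  have hcomm : ∀ {s t s' t'}, Pres s t → Pres s' t' → s * t' + t = s' * t + t' := by
    intro s t s' t' h h'
    by_contra hne
    obtain ⟨δ, hδd⟩ : ∃ δ, δ = (s * t' + t) - (s' * t + t') := ⟨_, rfl⟩
    have hδ : δ ≠ 0 := hδd ▸ sub_ne_zero.2 hne
    have hstep : ∀ w ∈ M, w + δ ∈ M := by
      intro w hw
      rw [← h'.2] at hw
      obtain ⟨w₁, hw₁, rfl⟩ := Finset.mem_image.1 hw
      rw [← h.2] at hw₁
      obtain ⟨w₂, hw₂, rfl⟩ := Finset.mem_image.1 hw₁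
      have := hpres h _ (hpres h' _ hw₂)
      rwa [show s * (s' * w₂ + t') + t = s' * (s * w₂ + t) + t' + δ by rw [hδd]; ring] at this
    have hall : ∀ n : ℕ, (n : ZMod p) * δ ∈ M := by
      intro n
      induction n with
      | zero => simpa using h0M
      | succ n ih => rw [Nat.cast_succ, add_mul, one_mul]; exact hstep _ ih
    refine hMne (Finset.eq_univ_iff_forall.2 fun w => ?_)
    have := hall (w * δ⁻¹).val
    rwa [ZMod.natCast_zmod_val, inv_mul_cancel_right₀ hδ] at this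
  have hpair' : ∀ i ∈ M, ∀ j ∈ M, i ≠ j → ∃ s t, Pres s t ∧
      ((t = i ∧ s + t = j ∧ s = j - i) ∨ (t = j ∧ s + t = i ∧ s = i - j)) := by
    intro i hi j hj hij
    rcases hsgn (j - i) (sub_ne_zero.2 hij.symm) with h | h
    · exact ⟨_, _, hpair i hi j hj h, Or.inl ⟨rfl, by ring, rfl⟩⟩
    · rw [neg_sub] at h
      exact ⟨_, _, hpair j hj i hi h, Or.inr ⟨rfl, by ring, rfl⟩⟩
  obtain ⟨s₀, t₀, hP₀, hs₀⟩ : ∃ s t, Pres s t ∧ s ≠ 1 := by
    obtain ⟨s, t, hP1, h⟩ := hpair' 0 h0M η hηM hη0.symm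
    by_cases hs : s = 1
    · obtain ⟨s', t', hP2, h'⟩ := hpair' 1 h1M η hηM hη1.symm
      refine ⟨s', t', hP2, fun hs' => ?_⟩
      rw [hs] at h
      rw [hs'] at h'
      rcases h with ⟨-, -, h⟩ | ⟨-, -, h⟩
      · exact hη1 (by linear_combination -h)
      · rcases h' with ⟨-, -, h'⟩ | ⟨-, -, h'⟩
        · exact h30 (by linear_combination h + h')
        · exact one_ne_zero (α := ZMod p) (by linear_combination h - h')
    · exact ⟨s, t, hP1, hs⟩
  obtain ⟨z, hz₀⟩ : ∃ z, s₀ * z + t₀ = z := ⟨t₀ * (1 - s₀)⁻¹, by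
    linear_combination -t₀ * mul_inv_cancel₀ (sub_ne_zero.2 (Ne.symm hs₀))⟩
  have hzfix : ∀ {s t}, Pres s t → s * z + t = z := fun {s t} h => by
    have hc := hcomm h hP₀
    refine mul_left_cancel₀ (sub_ne_zero.2 (Ne.symm hs₀)) ?_
    linear_combination hc - (s - 1) * hz₀
  have hzM : z ∉ M := by
    intro hz
    have hno : ∀ i ∈ M, ∀ j ∈ M, i ≠ j → (z = i → z = 0 ∨ z = 1) ∧ (z = 0 ∨ z = 1 → z = i ∨ z = j) := by
      intro i hi j hj hij
      obtain ⟨s, t, hP, h⟩ := hpair' i hi j hj hij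
      have hz' := hzfix hP
      have hs0 : s ≠ 0 := fun e' => by
        have := hP.1; rw [e', zero_pow hmodd.pos.ne'] at this; exact zero_ne_one this
      refine ⟨fun hzi => ?_, fun h' => ?_⟩
      · rcases h with ⟨h1, -, -⟩ | ⟨-, h1, -⟩
        · exact Or.inl (mul_left_cancel₀ hs0 (by linear_combination hz' + hzi - h1))
        · exact Or.inr (mul_left_cancel₀ hs0 (by linear_combination hz' + hzi - h1))
      · rcases h' with h' | h' <;> rw [h'] at hz' ⊢ <;> rcases h with ⟨h1, h3, -⟩ | ⟨h1, h3, -⟩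
        · exact Or.inl (by linear_combination h1 - hz')
        · exact Or.inr (by linear_combination h1 - hz')
        · exact Or.inr (by linear_combination h3 - hz')
        · exact Or.inl (by linear_combination h3 - hz')
    rcases eq_or_ne z 0 with h0 | h0
    · rcases (hno 1 h1M η hηM hη1.symm).2 (Or.inl h0) with h | h
      · exact one_ne_zero (h.symm.trans h0)
      · exact hη0 (h.symm.trans h0)
    rcases eq_or_ne z 1 with h1 | h1
    · rcases (hno 0 h0M η hηM hη0.symm).2 (Or.inr h1) with h | h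
      · exact h0 h
      · exact hη1 (h.symm.trans h1)
    exact ((hno z hz 0 h0M h0).1 rfl).elim h0 h1
  have hz0 : z ≠ 0 := fun h => hzM (h ▸ h0M)
  have hdeg : ∀ v ∈ M, ∀ w ∈ M, ∀ w' ∈ M, (w - v) ^ m = 1 → (w' - v) ^ m = 1 → w = w' := by
    intro v hv w hw w' hw' h h'
    exact sub_left_injective (mul_right_cancel₀ hz0
      (by linear_combination hzfix (hpair v hv w hw h) - hzfix (hpair v hv w' hw' h')))
  have h01 : ((1 : ZMod p) - 0) ^ m = 1 := by rw [sub_zero, one_pow]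
  have hη0s : ((0 : ZMod p) - η) ^ m = 1 := by
    rcases hsgn (0 - η) (sub_ne_zero.2 hη0.symm) with h | h
    · exact h
    · exact absurd (hdeg 0 h0M η hηM 1 h1M (by rwa [neg_sub] at h) h01) hη1
  have h1ηs : (η - 1) ^ m = 1 := by
    rcases hsgn (η - 1) (sub_ne_zero.2 hη1) with h | h
    · exact h
    · exact absurd (hdeg η hηM 1 h1M 0 h0M (by rwa [neg_sub] at h) hη0s) one_ne_zero
  have hM3 : ∀ w ∈ M, w = 0 ∨ w = 1 ∨ w = η := by
    intro θ hθ
    by_contra hno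
    push Not at hno
    have hθ0 : (0 - θ) ^ m = 1 := by
      rcases hsgn (0 - θ) (sub_ne_zero.2 hno.1.symm) with h | h
      · exact h
      · exact absurd (hdeg 0 h0M θ hθ 1 h1M (by rwa [neg_sub] at h) h01) hno.2.1
    rcases hsgn (θ - η) (sub_ne_zero.2 hno.2.2) with h | h
    · exact hno.1 (hdeg η hηM θ hθ 0 h0M h hη0s)
    · exact hη0 (hdeg θ hθ η hηM 0 h0M (by rwa [neg_sub] at h) hθ0)
  have hηeq : η * η - η + 1 = 0 := by
    have h := hpres (hpair η hηM 0 h0M hη0s) η hηM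
    rcases hM3 _ h with h' | h' | h'
    · exact absurd (mul_left_cancel₀ hη0 (by linear_combination -h')) hη1
    · linear_combination -h'
    · exact absurd (mul_self_eq_zero.1 (show η * η = 0 by linear_combination -h')) hη0
  -- the third point
  have h01w : ∀ w, C 0 1 w ↔ w = η := fun w => ⟨fun h => by
    obtain ⟨w0, w1⟩ := Rne h
    exact ((hM3 w ((hM w).2 (Or.inr (Or.inr h)))).resolve_left fun e' => w0 (congrArg e e')).resolve_left
      fun e' => w1 (congrArg e e'), fun h => h ▸ hCη⟩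
  have hCstar : ∀ x y w, x ≠ y → (C x y w ↔ w = Netto.star η x y) := by
    intro x y w hxy
    have hfwd : ∀ {x y w : ZMod p}, (y - x) ^ m = 1 → (C x y w ↔ w = x + η * (y - x)) := by
      intro x y w h
      have hd : y - x ≠ 0 := fun e' => by rw [e', zero_pow hmodd.pos.ne'] at h; exact zero_ne_one h
      have := Caff h x 0 1 ((w - x) * (y - x)⁻¹)
      rw [mul_zero, zero_add, mul_one, sub_add_cancel, mul_comm (y - x), inv_mul_cancel_right₀ hd,
        sub_add_cancel] at this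
      rw [← this, h01w, mul_inv_eq_iff_eq_mul₀ hd, sub_eq_iff_eq_add']
    rw [Netto.star, ← hm]
    rcases hsgn (y - x) (sub_ne_zero.2 hxy.symm) with h | h
    · rw [if_pos h, hfwd h]
    · have hneg : (y - x) ^ m ≠ 1 := fun e' => by
        rw [hmodd.neg_pow, e'] at h
        exact h20 (by linear_combination -h)
      rw [neg_sub] at h
      rw [if_neg hneg, show C x y w ↔ C y x w from ⟨R3, R3⟩, hfwd h,
        show y + η * (x - y) = x + (1 - η) * (y - x) by ring]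
  refine Netto.not_transitive hp7 hηeq (hm ▸ hmodd) (hm ▸ h1ηs) fun c c' c0 c1 cη c0' c1' cη' => ?_
  have hmove : ∀ w, w ≠ 0 → w ≠ 1 → w ≠ η →
      ∃ g : G, g • α₀ = e 0 ∧ g • b₀ = e 1 ∧ g • y₀ = e w := by
    intro w w0 w1 wη
    have hnS : k⁻¹ • e w ∉ S := fun h => wη ((h01w w).1 (by
      have := R1 k ((hbase _).2 ⟨h, fun h' => w1 (e.injective (by rw [← k2, ← h', smul_inv_smul]))⟩)
      rwa [k1, k2, smul_inv_smul] at this))
    obtain ⟨g, g1, g2, g3⟩ := hout _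
      (fun h' => w0 (e.injective (by rw [← k1, ← h', smul_inv_smul]))) hnS
    exact ⟨k * g, by rw [mul_smul, g1, k1], by rw [mul_smul, g2, k2], by rw [mul_smul, g3, smul_inv_smul]⟩
  obtain ⟨g, g1, g2, g3⟩ := hmove c c0 c1 cη
  obtain ⟨g', g1', g2', g3'⟩ := hmove c' c0' c1' cη'
  have hgi : ∀ {u u' : Ω} {v : Ω}, g • v = u → g' • v = u' → (g' * g⁻¹) • u = u' := by
    rintro u u' v rfl rfl
    rw [mul_smul, inv_smul_smul]
  refine ⟨fun x => e.symm ((g' * g⁻¹) • e x), by simp [hgi g1 g1'], by simp [hgi g2 g2'],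
    by simp [hgi g3 g3'], fun x y => ?_⟩
  by_cases hxy : x = y
  · subst hxy; simp [Netto.star]
  have h := R1 (g' * g⁻¹) ((hCstar x y _ hxy).2 rfl)
  have hne : e.symm ((g' * g⁻¹) • e x) ≠ e.symm ((g' * g⁻¹) • e y) := fun h' =>
    hxy (e.injective (smul_left_cancel _ (e.symm.injective h')))
  refine (hCstar _ _ _ hne).1 ?_
  simpa [C] using h

/-- The stabiliser of a point is primitive on the other points. -/
theorem stabilizer_primitive (hΩ : Nat.card Ω = p) (hins : ¬ Group.IsSolvable G) (P : Sylow p G)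
    (hN : 2 * Nat.card (Subgroup.normalizer ((P : Subgroup G) : Set G)) = p * (p - 1)) (hp7 : 7 < p) (α₀ : Ω) :
    IsPreprimitive ↥(stabilizer G α₀) ↥(SubMulAction.ofStabilizer G α₀) := by
  classical
  have htr : IsPretransitive ↥(stabilizer G α₀) ↥(SubMulAction.ofStabilizer G α₀) := by
    have h2 := two_transitive_of_insoluble hΩ hins
    rw [SubMulAction.ofStabilizer.isMultiplyPretransitive (a := α₀), is_one_pretransitive_iff] at h2
    exact h2
  by_cases h3 : IsMultiplyPretransitive G Ω 3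
  · rw [SubMulAction.ofStabilizer.isMultiplyPretransitive (a := α₀)] at h3
    exact isPreprimitive_of_is_two_pretransitive h3
  have hp4 : p % 4 = 3 := by
    have := hp.out.eq_two_or_odd
    rcases (show p % 4 = 1 ∨ p % 4 = 3 by omega) with h | h
    · exact absurd (three_transitive_of_one_mod_four hΩ hins P hN h) h3
    · exact h
  refine @IsPreprimitive.mk _ _ _ htr fun {B} hB => ?_
  by_contra hnt
  rw [IsTrivialBlock, not_or, Set.not_subsingleton_iff] at hnt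
  obtain ⟨⟨b, hb, x, hx, hbx⟩, hne⟩ := hnt
  obtain ⟨y, hy⟩ := (Set.ne_univ_iff_exists_notMem B).1 hne
  rw [isBlock_iff_smul_eq_of_mem] at hB
  refine false_of_block hΩ hins P hN.ge hp7 hp4 (α₀ := α₀) (Subtype.val '' B) ?_ ⟨b, hb, rfl⟩ ⟨x, hx, rfl⟩
    (fun h => hbx (Subtype.ext h)) ?_ ?_ y.2
  · rintro g hg _ ⟨w, hw, rfl⟩ ⟨w', hw', hww⟩ _ ⟨u, hu, rfl⟩
    have hmem : (⟨g, hg⟩ : stabilizer G α₀) • w ∈ B := by
      rw [show (⟨g, hg⟩ : stabilizer G α₀) • w = w' from Subtype.ext hww.symm]; exact hw'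
    exact ⟨(⟨g, hg⟩ : stabilizer G α₀) • u, hB hw hmem ▸ Set.smul_mem_smul_set hu, rfl⟩
  · rintro ⟨w, -, hw⟩
    exact w.2 hw
  · rintro ⟨w, hw, hwy⟩
    exact hy (Subtype.ext hwy ▸ hw)

end CfsgLib.Perm.Heart
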