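import Cfsg.Agent.Lib.Perm.Groups.PrimeTwinAction
import Cfsg.Agent.Lib.Perm.Groups.PSLTorusInvert
import Cfsg.Agent.Lib.Classical.ProjLine
import Cfsg.Agent.Lib.Invol.Basic
import Cfsg.Agent.S3572

/-!
# Proper overgroups of `PSL(2, p)` on `p + 1` points consisting of even permutations
-/

set_option autoImplicit false
set_option linter.unusedSectionVars false
set_option linter.style.haveILetI false

namespace CfsgLib.Perm.PrimePlusOne

open MulAction

universe u v

variable {p : ℕ} [hp : Fact p.Prime]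

/-- The normaliser of a subgroup of order `p` in the symmetric group on `p` points is not contained in
the alternating group. -/
theorem normalizer_not_le_alternating {α : Type*} [Fintype α] [DecidableEq α] (hpc : Fintype.card α = p)
    (hp2 : p ≠ 2) (Q : Subgroup (Equiv.Perm α)) (hQ : Nat.card Q = p) :
    ¬ Subgroup.normalizer (Q : Set (Equiv.Perm α)) ≤ alternatingGroup α := by
  intro hle
  haveI : Nontrivial α := Fintype.one_lt_card_iff_nontrivial.1 (hpc ▸ hp.out.one_lt)
  have hfac : (Nat.card (Equiv.Perm α)).factorization p = 1 := by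
    rw [Nat.card_eq_fintype_card, Fintype.card_perm, hpc]
    obtain ⟨n, hn⟩ : ∃ n, p = n + 1 := ⟨p - 1, by have := hp.out.pos; omega⟩
    nth_rewrite 1 [hn]
    rw [Nat.factorial_succ, Nat.factorization_mul (by omega) (Nat.factorial_ne_zero n), Finsupp.coe_add,
      Pi.add_apply, ← hn, hp.out.factorization_self,
      Nat.factorization_eq_zero_of_not_dvd (fun h => by rw [hp.out.dvd_factorial] at h; omega), add_zero]
  obtain ⟨S, hS⟩ : ∃ S : Sylow p (Equiv.Perm α), (S : Subgroup (Equiv.Perm α)) = Q :=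
    ⟨Sylow.ofCard Q (by rw [hfac, pow_one, hQ]), rfl⟩
  have hQA : (S : Subgroup (Equiv.Perm α)) ≤ alternatingGroup α := by
    rw [hS]
    exact Subgroup.le_normalizer.trans hle
  have h := Sylow.normalizer_sup_eq_top' S hQA
  have hle' : Subgroup.normalizer ((S : Subgroup (Equiv.Perm α)) : Set (Equiv.Perm α)) ≤ alternatingGroup α := by
    rw [hS]; exact hle
  have htop : alternatingGroup α = ⊤ := top_le_iff.1 (h ▸ sup_le hle' le_rfl)
  have := alternatingGroup.index_eq_two (α := α)
  rw [htop, Subgroup.index_top] at this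
  omega

theorem four_transitive {X : Type u} {Ω : Type v} [Group X] [Finite X] [MulAction X Ω] [FaithfulSMul X Ω]
    [Fintype Ω] [DecidableEq Ω] (hp7 : 7 < p) (hΩ : Fintype.card Ω = p + 1)
    (heven : ∀ x : X, Equiv.Perm.sign (MulAction.toPerm x : Equiv.Perm Ω) = 1)
    (L : Subgroup X) (hL : Nonempty (↥L ≃* Matrix.ProjectiveSpecialLinearGroup (Fin 2) (ZMod p)))
    (hLt : IsMultiplyPretransitive ↥L Ω 2) (hLX : L ≠ ⊤) : IsMultiplyPretransitive X Ω 4 := by
  classical
  obtain ⟨eL⟩ := hL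
  haveI : NeZero p := ⟨hp.out.ne_zero⟩
  have hp2 : p ≠ 2 := by omega
  have hodd : p % 2 = 1 := hp.out.eq_two_or_odd.resolve_left hp2
  obtain ⟨m, hm⟩ : ∃ m, m = p / 2 := ⟨_, rfl⟩
  have hpm : p - 1 = 2 * m := by omega
  have hcardL : Nat.card L = (p + 1) * (p * m) := by
    have h := CfsgLib.Classical.card_psl2 (F := ZMod p)
    rw [ZMod.card, ← Nat.card_congr eL.toEquiv, show Nat.gcd 2 (p - 1) = 2 from
      Nat.gcd_eq_left (by rw [hpm]; exact dvd_mul_right 2 m), hpm] at h
    have h' : 2 * Nat.card L = 2 * ((p + 1) * (p * m)) := by rw [h]; ring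
    exact Nat.eq_of_mul_eq_mul_left (by norm_num) h'
  rw [is_two_pretransitive_iff] at hLt
  have h2X : IsMultiplyPretransitive X Ω 2 := by
    rw [is_two_pretransitive_iff]
    intro a b c d hab hcd
    obtain ⟨⟨g, hg⟩, h1, h2⟩ := hLt hab hcd
    exact ⟨g, h1, h2⟩
  haveI : IsPretransitive X Ω := by haveI := h2X; exact isPretransitive_of_is_two_pretransitive
  obtain ⟨a, b, hab⟩ := Fintype.exists_pair_of_one_lt_card (α := Ω) (by rw [hΩ]; omega)
  haveI hLtr : IsPretransitive L Ω := ⟨fun x y => by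
    rcases eq_or_ne x y with rfl | hxy
    · exact ⟨1, one_smul _ _⟩
    · obtain ⟨g, h1, -⟩ := hLt hxy hxy.symm
      exact ⟨g, h1⟩⟩
  let Ωa := SubMulAction.ofStabilizer X a
  haveI : Fintype Ωa := Fintype.ofFinite _
  have hcard : Nat.card Ωa = p := by
    rw [Nat.card_congr (Equiv.subtypeEquivRight fun x => SubMulAction.mem_ofStabilizer_iff X a),
      Nat.card_eq_fintype_card, Fintype.card_subtype_compl, Fintype.card_subtype_eq, hΩ, Nat.add_sub_cancel]
  haveI hGtr : IsPretransitive (stabilizer X a) Ωa := by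
    have h := h2X
    rw [SubMulAction.ofStabilizer.isMultiplyPretransitive (a := a), is_one_pretransitive_iff] at h
    exact h
  haveI : FaithfulSMul (stabilizer X a) Ωa := ⟨fun {g h} e => Subtype.ext (FaithfulSMul.eq_of_smul_eq_smul
    (α := Ω) fun x => by
      rcases eq_or_ne x a with rfl | hx
      · exact g.2.trans h.2.symm
      · exact congrArg Subtype.val (e ⟨x, (SubMulAction.mem_ofStabilizer_iff X a).2 hx⟩))⟩
  -- even permutations
  have hφeven : (MulAction.toPermHom (stabilizer X a) Ωa).range ≤ alternatingGroup Ωa := by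
    rintro _ ⟨g, rfl⟩
    have h₁ : ∀ x, (MulAction.toPerm (g : X) : Equiv.Perm Ω) x ∈ Ωa ↔ x ∈ Ωa := fun x => by
      simp only [Ωa, SubMulAction.mem_ofStabilizer_iff, MulAction.toPerm_apply, ne_eq]
      rw [not_congr]
      exact ⟨fun h => smul_left_cancel (g : X) (h.trans g.2.symm), fun h => h ▸ g.2⟩
    rw [Equiv.Perm.mem_alternatingGroup,
      show MulAction.toPermHom (stabilizer X a) Ωa g = (MulAction.toPerm (g : X) : Equiv.Perm Ω).subtypePerm h₁ from
        Equiv.ext fun x => rfl]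
    refine Eq.trans ?_ (heven (g : X))
    convert Equiv.Perm.sign_subtypePerm (MulAction.toPerm (g : X) : Equiv.Perm Ω) h₁ (fun x hx => ?_) using 3
    refine (SubMulAction.mem_ofStabilizer_iff X a).2 ?_
    rintro rfl
    exact hx g.2
  -- the stabiliser in `L`
  obtain ⟨LG, hLG⟩ : ∃ LG : Subgroup (stabilizer X a), LG = L.subgroupOf (stabilizer X a) := ⟨_, rfl⟩
  have hcardLG : Nat.card LG = p * m := by
    have e : Nat.card LG = Nat.card (stabilizer L a) := by
      refine Nat.card_congr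
        { toFun := fun x => ⟨⟨(x : stabilizer X a), by have := x.2; simp only [hLG, Subgroup.mem_subgroupOf] at this; exact this⟩,
            (x : stabilizer X a).2⟩
          invFun := fun y => ⟨⟨((y : L) : X), y.2⟩, by rw [hLG]; exact (y : L).2⟩
          left_inv := fun x => rfl
          right_inv := fun y => rfl }
    have h := (stabilizer L a).card_mul_index
    rw [index_stabilizer_of_transitive, Nat.card_eq_fintype_card (α := Ω), hΩ, ← e, hcardL,
      mul_comm (p + 1)] at h
    exact Nat.eq_of_mul_eq_mul_right (by omega) h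
  haveI hLGtr : IsPretransitive LG Ωa := ⟨fun x y => by
    have hx := (SubMulAction.mem_ofStabilizer_iff X a).1 x.2
    have hy := (SubMulAction.mem_ofStabilizer_iff X a).1 y.2
    obtain ⟨⟨g, hg⟩, h1, h2⟩ := hLt hx.symm hy.symm
    exact ⟨⟨⟨g, h1⟩, by rw [hLG]; exact hg⟩, Subtype.ext h2⟩⟩
  obtain ⟨P⟩ : Nonempty (Sylow p LG) := inferInstance
  have hPc : Nat.card P = p := by
    rw [P.card_eq_multiplicity, hcardLG, Nat.factorization_mul hp.out.ne_zero (by omega), Finsupp.coe_add,
      Pi.add_apply, hp.out.factorization_self,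
      Nat.factorization_eq_zero_of_not_dvd (fun h => by have := Nat.le_of_dvd (by omega) h; omega), add_zero, pow_one]
  have hcount : ∀ {H : Type u} [Group H] [Finite H] (S : Sylow p H), Nat.card (Sylow p H) < p + 1 →
      (S : Subgroup H).Normal := by
    intro H _ _ S hS
    have h1 := card_sylow_modEq_one p H
    have hpos : 0 < Nat.card (Sylow p H) := Nat.card_pos
    have h2 : Nat.card (Sylow p H) = 1 := by
      rcases Nat.lt_or_ge (Nat.card (Sylow p H)) p with h | h
      · exact h1.eq_of_lt_of_lt h hp.out.one_lt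
      · rw [show Nat.card (Sylow p H) = p by omega, Nat.ModEq, Nat.mod_self, Nat.one_mod_eq_one.2 hp.out.ne_one] at h1
        omega
    rw [← Subgroup.normalizer_eq_top_iff, ← Subgroup.index_eq_one]
    rw [← h2]
    exact S.card_eq_index_normalizer.symm
  haveI hPn : (P : Subgroup LG).Normal := by
    refine hcount P ?_
    have h := P.card_dvd_index
    have hi := (P : Subgroup LG).card_mul_index
    rw [show Nat.card (P : Subgroup LG) = p from hPc, hcardLG] at hi
    rw [Nat.eq_of_mul_eq_mul_left hp.out.pos hi] at h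
    have := Nat.le_of_dvd (by omega) h
    omega
  -- the Sylow subgroup of the stabiliser
  have hφinj : Function.Injective (MulAction.toPermHom (stabilizer X a) Ωa) := MulAction.toPerm_injective
  have hpΩ : Fintype.card Ωa = p := by rw [← Nat.card_eq_fintype_card, hcard]
  have hsq : ¬ p ^ 2 ∣ Nat.card (stabilizer X a) := by
    rw [Nat.card_congr (MonoidHom.ofInjective hφinj).toEquiv]
    exact CfsgLib.Perm.Heart.sq_not_dvd hpΩ _
  obtain ⟨Q, hQ⟩ : ∃ Q : Sylow p (stabilizer X a), (Q : Subgroup (stabilizer X a)) = (P : Subgroup LG).map LG.subtype := by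
    refine ⟨Sylow.ofCard _ ?_, rfl⟩
    show Nat.card ((P : Subgroup LG).map LG.subtype) = _
    rw [Subgroup.card_map_of_injective LG.subtype_injective, show Nat.card (P : Subgroup LG) = p from hPc]
    have h1 : 1 ≤ (Nat.card (stabilizer X a)).factorization p := by
      rw [← hp.out.pow_dvd_iff_le_factorization Nat.card_pos.ne', pow_one]
      exact (dvd_mul_right p m).trans (hcardLG ▸ Subgroup.card_subgroup_dvd_card LG)
    have h2 : ¬ 2 ≤ (Nat.card (stabilizer X a)).factorization p := by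
      rwa [← hp.out.pow_dvd_iff_le_factorization Nat.card_pos.ne']
    rw [show (Nat.card (stabilizer X a)).factorization p = 1 by omega, pow_one]
  have hQc : Nat.card (Q : Subgroup (stabilizer X a)) = p := by
    rw [hQ, Subgroup.card_map_of_injective LG.subtype_injective]; exact hPc
  have hLGN : LG ≤ Subgroup.normalizer ((Q : Subgroup (stabilizer X a)) : Set (stabilizer X a)) := by
    intro g hg
    rw [Subgroup.mem_normalizer_iff]
    intro y
    rw [hQ]
    simp only [SetLike.mem_coe, Subgroup.mem_map]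
    constructor
    · rintro ⟨z, hz, rfl⟩
      exact ⟨⟨g, hg⟩ * z * ⟨g, hg⟩⁻¹, hPn.conj_mem z hz _, rfl⟩
    · rintro ⟨z, hz, hzy⟩
      refine ⟨⟨g, hg⟩⁻¹ * z * ⟨g, hg⟩, by simpa using hPn.conj_mem z hz (⟨g, hg⟩ : LG)⁻¹, ?_⟩
      show g⁻¹ * LG.subtype z * g = y
      rw [hzy]; group
  have hN : 2 * Nat.card (Subgroup.normalizer ((Q : Subgroup (stabilizer X a)) : Set (stabilizer X a))) =
      p * (p - 1) := by
    obtain ⟨Qi, hQi⟩ : ∃ Qi, Qi = (Q : Subgroup (stabilizer X a)).map (MulAction.toPermHom (stabilizer X a) Ωa) :=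
      ⟨_, rfl⟩
    have hQic : Nat.card Qi = p := by rw [hQi, Subgroup.card_map_of_injective hφinj, hQc]
    have hle : (Subgroup.normalizer ((Q : Subgroup (stabilizer X a)) : Set (stabilizer X a))).map
        (MulAction.toPermHom (stabilizer X a) Ωa) ≤ Subgroup.normalizer (Qi : Set (Equiv.Perm Ωa)) := by
      rw [hQi]; exact Subgroup.le_normalizer_map _
    have hfull := CfsgLib.Perm.Groups.card_normalizer_of_card_prime (p := p)
      (by rw [hpΩ]; have := hp.out.pos; omega) Qi hQic
    rw [hpΩ, Nat.sub_self, Nat.factorial_zero, one_mul] at hfull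
    have hdvd := Subgroup.card_dvd_of_le hle
    rw [Subgroup.card_map_of_injective hφinj, hfull] at hdvd
    have hdvd' : p * m ∣ Nat.card (Subgroup.normalizer ((Q : Subgroup (stabilizer X a)) : Set (stabilizer X a))) :=
      hcardLG ▸ Subgroup.card_dvd_of_le hLGN
    have hne : Nat.card (Subgroup.normalizer ((Q : Subgroup (stabilizer X a)) : Set (stabilizer X a))) ≠
        p * (p - 1) := by
      intro e
      refine normalizer_not_le_alternating hpΩ hp2 Qi hQic ?_
      have heq := Subgroup.eq_of_le_of_card_ge hle (le_of_eq (by rw [hfull, Subgroup.card_map_of_injective hφinj, e]))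
      rw [← heq]
      exact (Subgroup.map_le_range _ _).trans hφeven
    obtain ⟨k, hk⟩ := hdvd'
    rw [hk] at hne hdvd ⊢
    rw [hpm, show p * (2 * m) = p * m * 2 by ring] at hdvd hne ⊢
    have hk2 : k ∣ 2 := Nat.dvd_of_mul_dvd_mul_left (Nat.mul_pos hp.out.pos (by omega)) hdvd
    rcases (Nat.dvd_prime Nat.prime_two).1 hk2 with rfl | rfl
    · ring
    · exact absurd rfl hne
  have hins : ¬ Group.IsSolvable (stabilizer X a) := by
    intro hsol
    haveI : IsPretransitive (MulAction.toPermHom (stabilizer X a) Ωa).range Ωa := ⟨fun x y => by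
      obtain ⟨g, hg⟩ := exists_smul_eq (stabilizer X a) x y
      exact ⟨⟨_, g, rfl⟩, hg⟩⟩
    have hdvd := CfsgLib.Perm.Heart.card_dvd_of_solvable hpΩ (MulAction.toPermHom (stabilizer X a) Ωa).range
      (haveI := hsol; solvable_of_surjective (MonoidHom.rangeRestrict_surjective _))
    rw [← Nat.card_congr (MonoidHom.ofInjective hφinj).toEquiv, hpm, show p * (2 * m) = p * m * 2 by ring] at hdvd
    obtain ⟨k, hk⟩ : p * m ∣ Nat.card (stabilizer X a) := hcardLG ▸ Subgroup.card_subgroup_dvd_card LG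
    rw [hk] at hdvd
    rcases (Nat.dvd_prime Nat.prime_two).1 (Nat.dvd_of_mul_dvd_mul_left (Nat.mul_pos hp.out.pos (by omega)) hdvd)
      with rfl | rfl
    · apply hLX
      refine Subgroup.eq_top_of_card_eq L ?_
      have h := (stabilizer X a).card_mul_index
      rw [index_stabilizer_of_transitive, Nat.card_eq_fintype_card (α := Ω), hΩ, hk] at h
      rw [hcardL, ← h]; ring
    · have hQn := hcount Q (by
        have h := Q.card_dvd_index
        have hi := (Q : Subgroup (stabilizer X a)).card_mul_index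
        rw [hQc, hk, mul_assoc] at hi
        rw [Nat.eq_of_mul_eq_mul_left hp.out.pos hi] at h
        have := Nat.le_of_dvd (by omega) h
        omega)
      rw [Subgroup.normalizer_eq_top_iff.2 hQn, Subgroup.card_top, hk, hpm] at hN
      have hpos : 0 < p * m := Nat.mul_pos hp.out.pos (by omega)
      rw [show p * (2 * m) = 2 * (p * m) by ring] at hN
      omega
  rw [SubMulAction.ofStabilizer.isMultiplyPretransitive (a := a)]
  by_contra h3
  have hp4 : p % 4 = 3 := by
    rcases (show p % 4 = 1 ∨ p % 4 = 3 by omega) with h | h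
    · exact absurd (CfsgLib.Perm.Heart.three_transitive_of_one_mod_four hcard hins Q hN h) h3
    · exact h
  have hmodd : Odd m := by rw [Nat.odd_iff]; omega
  obtain ⟨b', hb'⟩ : ∃ b' : Ωa, (b' : Ω) = b := ⟨⟨b, (SubMulAction.mem_ofStabilizer_iff X a).2 hab.symm⟩, rfl⟩
  have hprim := CfsgLib.Perm.Heart.stabilizer_primitive hcard hins Q hN hp7 b'
  -- the setwise stabiliser of two points
  let K : Subgroup X :=
    { carrier := {g | (g • a = a ∧ g • b = b) ∨ (g • a = b ∧ g • b = a)}
      one_mem' := Or.inl ⟨one_smul _ _, one_smul _ _⟩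
      mul_mem' := by
        rintro g k (⟨g1, g2⟩ | ⟨g1, g2⟩) (⟨k1, k2⟩ | ⟨k1, k2⟩)
        · exact Or.inl ⟨by rw [mul_smul, k1, g1], by rw [mul_smul, k2, g2]⟩
        · exact Or.inr ⟨by rw [mul_smul, k1, g2], by rw [mul_smul, k2, g1]⟩
        · exact Or.inr ⟨by rw [mul_smul, k1, g1], by rw [mul_smul, k2, g2]⟩
        · exact Or.inl ⟨by rw [mul_smul, k1, g2], by rw [mul_smul, k2, g1]⟩
      inv_mem' := by
        rintro g (⟨g1, g2⟩ | ⟨g1, g2⟩)
        · exact Or.inl ⟨inv_smul_eq_iff.2 g1.symm, inv_smul_eq_iff.2 g2.symm⟩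
        · exact Or.inr ⟨inv_smul_eq_iff.2 g2.symm, inv_smul_eq_iff.2 g1.symm⟩ }
  let T := {x : Ω // x ≠ a ∧ x ≠ b}
  have hKT : ∀ (g : K) (x : Ω), x ≠ a ∧ x ≠ b → (g : X) • x ≠ a ∧ (g : X) • x ≠ b := by
    intro g x hx
    rcases g.2 with ⟨g1, g2⟩ | ⟨g1, g2⟩
    · exact ⟨fun h => hx.1 (smul_left_cancel _ (h.trans g1.symm)), fun h => hx.2 (smul_left_cancel _ (h.trans g2.symm))⟩
    · exact ⟨fun h => hx.2 (smul_left_cancel _ (h.trans g2.symm)), fun h => hx.1 (smul_left_cancel _ (h.trans g1.symm))⟩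
  letI : MulAction K T :=
    { smul := fun g x => ⟨(g : X) • x.1, hKT g x.1 x.2⟩
      one_smul := fun x => Subtype.ext (one_smul X x.1)
      mul_smul := fun g k x => Subtype.ext (mul_smul (g : X) (k : X) x.1) }
  have hKsmul : ∀ (g : K) (x : T), ((g • x : T) : Ω) = (g : X) • (x : Ω) := fun g x => rfl
  have hTc : Nat.card T = 2 * m := by
    rw [Nat.card_eq_fintype_card, Fintype.card_subtype,
      show (Finset.univ.filter fun z : Ω => z ≠ a ∧ z ≠ b) = ({a, b} : Finset Ω)ᶜ by ext; simp [not_or],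
      Finset.card_compl, Finset.card_pair hab, hΩ]
    omega
  haveI : FaithfulSMul K T := ⟨fun {g h} e => by
    have hk : ∀ z : Ω, z ≠ a → z ≠ b → ((h : X)⁻¹ * g) • z = z := fun z za zb => by
      rw [mul_smul, show (g : X) • z = (h : X) • z from congrArg Subtype.val (e ⟨z, za, zb⟩), inv_smul_smul]
    rcases (h⁻¹ * g).2 with ⟨k1, k2⟩ | ⟨k1, k2⟩
    · refine (inv_mul_eq_one.1 (Subtype.ext (FaithfulSMul.eq_of_smul_eq_smul (α := Ω) fun z => ?_) : h⁻¹ * g = 1)).symm
      show ((h : X)⁻¹ * g) • z = (1 : X) • z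
      rw [one_smul]
      rcases eq_or_ne z a with rfl | za
      · exact k1
      rcases eq_or_ne z b with rfl | zb
      · exact k2
      exact hk z za zb
    · exfalso
      have hsw : (MulAction.toPerm ((h : X)⁻¹ * g) : Equiv.Perm Ω) = Equiv.swap a b := Equiv.ext fun z => by
        rw [MulAction.toPerm_apply]
        rcases eq_or_ne z a with rfl | za
        · rw [Equiv.swap_apply_left]; exact k1
        rcases eq_or_ne z b with rfl | zb
        · rw [Equiv.swap_apply_right]; exact k2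
        rw [Equiv.swap_apply_of_ne_of_ne za zb, hk z za zb]
      have h1 := heven ((h : X)⁻¹ * g)
      rw [hsw, Equiv.Perm.sign_swap hab] at h1
      exact absurd h1 (by decide)⟩
  haveI hKprim : IsPreprimitive K T := by
    let ψ : stabilizer (stabilizer X a) b' → K := fun g => ⟨((g : stabilizer X a) : X), Or.inl
      ⟨(g : stabilizer X a).2, by rw [← hb']; exact congrArg Subtype.val g.2⟩⟩
    let f : SubMulAction.ofStabilizer (stabilizer X a) b' →ₑ[ψ] T :=
      { toFun := fun z => ⟨((z : Ωa) : Ω), (SubMulAction.mem_ofStabilizer_iff X a).1 (z : Ωa).2,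
          fun h => (SubMulAction.mem_ofStabilizer_iff (stabilizer X a) b').1 z.2 (Subtype.ext (h.trans hb'.symm))⟩
        map_smul' := fun g z => rfl }
    haveI := hprim
    refine IsPreprimitive.of_surjective (f := f) fun x => ?_
    exact ⟨⟨⟨x.1, (SubMulAction.mem_ofStabilizer_iff X a).2 x.2.1⟩,
      (SubMulAction.mem_ofStabilizer_iff (stabilizer X a) b').2 fun h => x.2.2 ((congrArg Subtype.val h).trans hb')⟩,
      Subtype.ext rfl⟩
  -- the cyclic torus
  obtain ⟨Cb, hCb⟩ : ∃ Cb : Subgroup LG, Cb = stabilizer LG b' := ⟨_, rfl⟩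
  have hCbc : Nat.card Cb = m := by
    have h := (stabilizer LG b').card_mul_index
    rw [index_stabilizer_of_transitive, hcard, ← hCb, hcardLG, mul_comm p m] at h
    exact Nat.eq_of_mul_eq_mul_right hp.out.pos h
  haveI : Fact (Nat.card (P : Subgroup LG)).Prime := ⟨by rw [show Nat.card (P : Subgroup LG) = p from hPc]; exact hp.out⟩
  haveI hPtr : IsPretransitive (P : Subgroup LG) Ωa := by
    constructor
    intro x y
    obtain ⟨j, hj⟩ : ∃ j, Nat.card (orbit (P : Subgroup LG) x) = p ^ j := P.2.card_orbit x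
    have hle : Nat.card (orbit (P : Subgroup LG) x) ≤ p := (Finite.card_subtype_le _).trans_eq hcard
    rcases j with _ | j
    · exfalso
      rw [pow_zero, Nat.card_eq_one_iff_unique] at hj
      haveI := hj.1
      have hfix : ∀ q ∈ (P : Subgroup LG), q • x = x := fun q hq => congrArg Subtype.val (Subsingleton.elim
        (⟨(⟨q, hq⟩ : (P : Subgroup LG)) • x, MulAction.mem_orbit _ _⟩ : orbit (P : Subgroup LG) x)
        ⟨x, MulAction.mem_orbit_self x⟩)
      have hall : ∀ q ∈ (P : Subgroup LG), q = 1 := fun q hq => by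
        refine Subtype.ext (FaithfulSMul.eq_of_smul_eq_smul (α := Ωa) fun z => ?_)
        obtain ⟨g, rfl⟩ := exists_smul_eq LG x z
        show q • g • x = (1 : stabilizer X a) • g • x
        rw [one_smul]
        have := hfix _ (hPn.conj_mem q hq g⁻¹)
        rw [inv_inv, mul_smul, mul_smul, inv_smul_eq_iff] at this
        exact this
      have h1 : Nat.card (P : Subgroup LG) = 1 := by
        rw [Subgroup.eq_bot_iff_forall _ |>.2 hall, Subgroup.card_bot]
      rw [show Nat.card (P : Subgroup LG) = p from hPc] at h1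
      exact hp.out.ne_one h1
    · have hfull : orbit (P : Subgroup LG) x = Set.univ := by
        apply Set.eq_of_subset_of_ncard_le (Set.subset_univ _) _ Set.finite_univ
        rw [Set.ncard_univ, hcard, ← Nat.card_coe_set_eq, hj]
        exact Nat.le_self_pow (Nat.succ_ne_zero j) p
      exact MulAction.mem_orbit_iff.1 (hfull ▸ Set.mem_univ y : y ∈ orbit (P : Subgroup LG) x)
  have hPfree : ∀ q : (P : Subgroup LG), q • b' = b' → q = 1 := by
    intro q hq
    have h := (stabilizer (P : Subgroup LG) b').card_mul_index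
    rw [index_stabilizer_of_transitive, hcard, show Nat.card (P : Subgroup LG) = p from hPc] at h
    have h1 : Nat.card (stabilizer (P : Subgroup LG) b') = 1 := by
      apply Nat.eq_of_mul_eq_mul_right hp.out.pos
      rw [h, one_mul]
    have := Subgroup.eq_bot_of_card_eq _ h1
    exact (Subgroup.eq_bot_iff_forall _).1 this q hq
  have hcinj : Function.Injective ((MulAut.conjNormal : LG →* MulAut (P : Subgroup LG)).comp Cb.subtype) := by
    rw [injective_iff_map_eq_one]
    intro x hx
    refine Subtype.ext (Subtype.ext (FaithfulSMul.eq_of_smul_eq_smul (α := Ωa) fun z => ?_))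
    obtain ⟨q, rfl⟩ := exists_smul_eq (P : Subgroup LG) b' z
    show (x : LG) • (q : LG) • b' = (1 : stabilizer X a) • (q : LG) • b'
    rw [one_smul]
    have hc := congrArg Subtype.val (DFunLike.congr_fun hx q)
    rw [MonoidHom.comp_apply, MulAut.conjNormal_apply] at hc
    change (x : LG) * q * (x : LG)⁻¹ = q at hc
    have hxb : (x : LG) • b' = b' := by
      have := x.2
      simp only [hCb, mem_stabilizer_iff] at this
      exact this
    rw [← mul_smul, mul_inv_eq_iff_eq_mul.1 hc, mul_smul, hxb]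
  haveI hCcyc : IsCyclic Cb := by
    haveI : IsCyclic (P : Subgroup LG) := isCyclic_of_prime_card rfl
    have hinj2 : Function.Injective ((IsCyclic.mulAutMulEquiv (P : Subgroup LG)).toMonoidHom.comp
        ((MulAut.conjNormal : LG →* MulAut (P : Subgroup LG)).comp Cb.subtype)) :=
      (IsCyclic.mulAutMulEquiv (P : Subgroup LG)).injective.comp hcinj
    exact isCyclic_of_injective _ hinj2
  have hsemi : ∀ x ∈ Cb, ∀ z : Ωa, z ≠ b' → x • z = z → x = 1 := by
    intro x hx z hz hxz
    have hxb : x • b' = b' := by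
      rw [hCb] at hx
      exact hx
    obtain ⟨q, rfl⟩ := exists_smul_eq (P : Subgroup LG) b' z
    have hq1 : q ≠ 1 := fun h => hz (by rw [h, one_smul])
    have hfix : ((q : LG)⁻¹ * (x * q * x⁻¹)) • b' = b' := by
      rw [mul_smul, mul_smul, mul_smul, inv_smul_eq_iff.2 hxb.symm, show x • (q : LG) • b' = (q : LG) • b' from hxz,
        inv_smul_smul]
    have hmem : (q : LG)⁻¹ * (x * q * x⁻¹) ∈ (P : Subgroup LG) :=
      mul_mem (inv_mem q.2) (hPn.conj_mem _ q.2 x)
    have hc : x * q * x⁻¹ = q := (inv_mul_eq_one.1 (congrArg Subtype.val (hPfree ⟨_, hmem⟩ hfix))).symm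
    have hone : MulAut.conjNormal x = (1 : MulAut (P : Subgroup LG)) := by
      refine MulEquiv.ext fun y => Subtype.ext ?_
      rw [MulAut.conjNormal_apply, MulAut.one_apply]
      obtain ⟨n, rfl⟩ := Submonoid.mem_powers_iff _ _ |>.1 (mem_powers_of_prime_card (p := p) hPc (g := q) (g' := y) hq1)
      rw [Subgroup.coe_pow, ← conj_pow, hc]
    exact congrArg Subtype.val (hcinj (a₁ := ⟨x, hx⟩) (a₂ := 1) (by rw [map_one]; exact hone))
  -- elements of `L` fixing both points
  have hC : ∀ y ∈ L, y • a = a → y • b = b → ∃ c ∈ Cb, ((c : stabilizer X a) : X) = y := by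
    intro y hy ya yb
    refine ⟨⟨⟨y, ya⟩, by rw [hLG]; exact hy⟩, ?_, rfl⟩
    rw [hCb, mem_stabilizer_iff]
    refine Subtype.ext ?_
    show y • (b' : Ω) = b'
    rw [hb', yb]
  have hCpow : ∀ y ∈ L, y • a = a → y • b = b → y ^ m = 1 := by
    intro y hy ya yb
    obtain ⟨c, hc, rfl⟩ := hC y hy ya yb
    have h := pow_card_eq_one' (x := (⟨c, hc⟩ : Cb))
    rw [hCbc] at h
    exact congrArg (fun z : Cb => (((z : LG) : stabilizer X a) : X)) h
  have hCcomm : ∀ y ∈ L, y • a = a → y • b = b → ∀ z ∈ L, z • a = a → z • b = b → y * z = z * y := by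
    intro y hy ya yb z hz za zb
    obtain ⟨c, hc, rfl⟩ := hC y hy ya yb
    obtain ⟨d, hd, rfl⟩ := hC z hz za zb
    exact congrArg (fun w : Cb => (((w : LG) : stabilizer X a) : X))
      (IsCyclic.commGroup.mul_comm (⟨c, hc⟩ : Cb) ⟨d, hd⟩)
  obtain ⟨g₀, hg₀⟩ := IsCyclic.exists_monoid_generator (α := Cb)
  obtain ⟨r, hr⟩ : ∃ r : X, r = (((g₀ : LG) : stabilizer X a) : X) := ⟨_, rfl⟩
  have hrL : r ∈ L := by
    have := ((g₀ : LG)).2
    simp only [hLG, Subgroup.mem_subgroupOf] at this
    rw [hr]; exact this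
  have hra : r • a = a := hr ▸ ((g₀ : LG) : stabilizer X a).2
  have hrb : r • b = b := by
    have := g₀.2
    simp only [hCb, mem_stabilizer_iff] at this
    have := congrArg Subtype.val this
    rw [← hb', hr]
    exact this
  have hrord : orderOf r = m := by
    rw [hr, ← hCbc, ← orderOf_eq_card_of_forall_mem_zpowers (g := g₀) fun x =>
      Subgroup.mem_zpowers_iff.2 (by obtain ⟨n, hn⟩ := Submonoid.mem_powers_iff _ _ |>.1 (hg₀ x)
                                     exact ⟨n, by rw [zpow_natCast]; exact hn⟩)]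
    rw [Subgroup.orderOf_coe, Subgroup.orderOf_coe, Subgroup.orderOf_coe]
  obtain ⟨⟨t, htL⟩, t1, t2⟩ := hLt hab hab.symm
  change t • a = b at t1
  change t • b = a at t2
  have hodd' : ∀ d : X, d • a = b → d • b = a → ∀ n, Odd n → d ^ n • a = b ∧ d ^ n • b = a := by
    intro d d1 d2 n hn
    obtain ⟨j, rfl⟩ := hn
    induction j with
    | zero => exact ⟨by rw [mul_zero, zero_add, pow_one, d1], by rw [mul_zero, zero_add, pow_one, d2]⟩
    | succ j ih =>
      rw [show 2 * (j + 1) + 1 = 2 * j + 1 + 1 + 1 by ring, pow_succ, pow_succ]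
      exact ⟨by rw [mul_smul, mul_smul, d1, d2, ih.1], by rw [mul_smul, mul_smul, d2, d1, ih.2]⟩
  obtain ⟨s, hsd⟩ : ∃ s, s = t ^ m := ⟨_, rfl⟩
  have hsL : s ∈ L := hsd ▸ pow_mem htL m
  obtain ⟨hs1, hs2⟩ : s • a = b ∧ s • b = a := hsd ▸ hodd' t t1 t2 m hmodd
  have hss : s * s = 1 := by
    rw [hsd, ← pow_add, ← two_mul, pow_mul, pow_two]
    exact hCpow _ (mul_mem htL htL) (by rw [mul_smul, t1, t2]) (by rw [mul_smul, t2, t1])
  have hs1' : s ≠ 1 := fun h => hab (by rw [h, one_smul] at hs1; exact hs1)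
  -- the involution inverts the torus
  have hu : r * (s * r * s) = 1 := by
    obtain ⟨u, hud⟩ : ∃ u, u = r * (s * r * s) := ⟨_, rfl⟩
    have hv1 : (s * r * s) • a = a := by rw [mul_smul, mul_smul, hs1, hrb, hs2]
    have hv2 : (s * r * s) • b = b := by rw [mul_smul, mul_smul, hs2, hra, hs1]
    have hvL : s * r * s ∈ L := mul_mem (mul_mem hsL hrL) hsL
    have huL : u ∈ L := hud ▸ mul_mem hrL hvL
    have hum : u ^ m = 1 := hCpow u huL (by rw [hud, mul_smul, hv1, hra]) (by rw [hud, mul_smul, hv2, hrb])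
    have hcomm : s * u = u * s := by
      rw [hud]
      calc s * (r * (s * r * s)) = s * r * s * r * s := by group
        _ = r * (s * r * s) * s := by rw [← hCcomm r hrL hra hrb _ hvL hv1 hv2]
    have he : eL ⟨u, huL⟩ = 1 := by
      refine CfsgLib.Perm.PSLInvert.eq_one_of_commute hp4 (s := eL ⟨s, hsL⟩) ?_ ?_ ?_
      · rw [MulEquiv.orderOf_eq]
        refine orderOf_eq_prime (Subtype.ext (by rw [Subgroup.coe_pow, pow_two]; exact hss))
          fun h => hs1' (congrArg Subtype.val h)
      · rw [← map_pow, ← hm, show (⟨u, huL⟩ : L) ^ m = 1 from Subtype.ext hum, map_one]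
      · exact Commute.map (show Commute (⟨s, hsL⟩ : L) ⟨u, huL⟩ from Subtype.ext hcomm) eL.toMonoidHom
    rw [← hud]
    exact congrArg Subtype.val ((MulEquiv.map_eq_one_iff eL).1 he)
  obtain ⟨sK, hsK⟩ : ∃ sK : K, (sK : X) = s := ⟨⟨s, Or.inr ⟨hs1, hs2⟩⟩, rfl⟩
  obtain ⟨rK, hrK⟩ : ∃ rK : K, (rK : X) = r := ⟨⟨r, Or.inl ⟨hra, hrb⟩⟩, rfl⟩
  have hx2 : orderOf sK = 2 := orderOf_eq_prime
    (Subtype.ext (by rw [Subgroup.coe_pow, hsK, pow_two, hss]; rfl))
    fun h => hs1' (by rw [← hsK, h]; rfl)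
  have hy2 : orderOf (sK * rK) = 2 := by
    refine orderOf_eq_prime (Subtype.ext ?_) fun h => ?_
    · rw [Subgroup.coe_pow, Subgroup.coe_mul, hsK, hrK, pow_two]
      calc s * r * (s * r) = (s * r * s) * r := by group
        _ = 1 := by
          rw [← hu]
          exact (hCcomm r hrL hra hrb _ (mul_mem (mul_mem hsL hrL) hsL) (by rw [mul_smul, mul_smul, hs1, hrb, hs2])
            (by rw [mul_smul, mul_smul, hs2, hra, hs1])).symm
    · have h' : ((sK * rK : K) : X) • a = ((1 : K) : X) • a := by rw [h]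
      rw [Subgroup.coe_mul, hsK, hrK, mul_smul, hra, hs1, Subgroup.coe_one, one_smul] at h'
      exact hab h'.symm
  have hxy : sK * (sK * rK) = rK := by
    rw [← mul_assoc, show sK * sK = 1 from Subtype.ext (by rw [Subgroup.coe_mul, hsK, hss]; rfl), one_mul]
  have hord : orderOf (sK * (sK * rK)) = m := by rw [hxy, ← Subgroup.orderOf_coe, hrK, hrord]
  obtain ⟨D, hDd⟩ : ∃ D, D = (CfsgLib.Invol.dihedralHom hx2 hy2).range := ⟨_, rfl⟩
  have hDL : ∀ d ∈ D, (d : X) ∈ L := by
    intro d hd
    rw [hDd, CfsgLib.Invol.dihedralHom_range] at hd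
    have hle : Subgroup.closure ({sK, sK * rK} : Set K) ≤ L.comap K.subtype := by
      rw [Subgroup.closure_le]
      rintro z (rfl | rfl)
      · show (z : X) ∈ L
        rw [hsK]; exact hsL
      · show ((sK * rK : K) : X) ∈ L
        rw [Subgroup.coe_mul, hsK, hrK]; exact mul_mem hsL hrL
    exact hle hd
  have hDc : Nat.card D = 2 * m := by
    rw [hDd, ← Nat.card_congr (MonoidHom.ofInjective (CfsgLib.Invol.dihedralHom_injective hx2 hy2)).toEquiv,
      DihedralGroup.nat_card, hord]
  have hfree : ∀ (d : D) (z : T), d • z = z → d = 1 := by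
    intro d z hz
    have hz' : ((d : K) : X) • (z : Ω) = z := congrArg Subtype.val hz
    rcases (d : K).2 with ⟨d1, d2⟩ | ⟨d1, d2⟩
    · obtain ⟨c, hc, hcd⟩ := hC _ (hDL _ d.2) d1 d2
      have h1 : c = 1 := hsemi c hc ⟨z.1, (SubMulAction.mem_ofStabilizer_iff X a).2 z.2.1⟩
        (fun h => z.2.2 ((congrArg Subtype.val h).trans hb')) (Subtype.ext (by
          show ((c : stabilizer X a) : X) • z.1 = z.1
          rw [hcd]; exact hz'))
      exact Subtype.ext (Subtype.ext (by rw [← hcd, h1]; rfl))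
    · exfalso
      have hpow : ((⟨((d : K) : X), hDL _ d.2⟩ : L)) ^ Nat.card (stabilizer L (z : Ω)) = 1 := by
        have h := pow_card_eq_one' (x := (⟨⟨((d : K) : X), hDL _ d.2⟩, hz'⟩ : stabilizer L (z : Ω)))
        exact congrArg Subtype.val h
      have hcz : Nat.card (stabilizer L (z : Ω)) = p * m := by
        have h := (stabilizer L (z : Ω)).card_mul_index
        rw [index_stabilizer_of_transitive, Nat.card_eq_fintype_card (α := Ω), hΩ, hcardL,
          mul_comm (p + 1)] at h
        exact Nat.eq_of_mul_eq_mul_right (by omega) h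
      rw [hcz] at hpow
      have := (hodd' _ d1 d2 (p * m) ((Nat.odd_iff.2 hodd).mul hmodd)).1
      rw [show ((d : K) : X) ^ (p * m) = 1 from congrArg Subtype.val hpow, one_smul] at this
      exact hab this
  have hDtr : IsPretransitive D T := by
    constructor
    intro x y
    have hinj : Function.Injective fun d : D => d • x := fun d e h =>
      (inv_mul_eq_one.1 (hfree (e⁻¹ * d) x (by
        rw [mul_smul, show d • x = e • x from h, inv_smul_smul]))).symm
    exact (((Nat.bijective_iff_injective_and_card _).2 ⟨hinj, by rw [hDc, hTc]⟩).2 y)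
  have hK2 : IsMultiplyPretransitive K T 2 := Cfsg.Agent.S3572.result hKprim D _
    ⟨(MulEquiv.subgroupCongr hDd).trans (MonoidHom.ofInjective (CfsgLib.Invol.dihedralHom_injective hx2 hy2)).symm⟩
    ⟨hDtr, fun z => (Subgroup.eq_bot_iff_forall _).2 fun d hd => hfree d z hd⟩
  rw [is_two_pretransitive_iff] at hK2
  -- triple transitivity of the point stabiliser
  apply h3
  obtain ⟨c, hc⟩ : Nonempty T := Finite.card_pos_iff.1 (by rw [hTc]; omega)
  obtain ⟨d₀, hd₀⟩ : ∃ d₀ : T, d₀ ≠ ⟨c, hc⟩ := by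
    haveI : Nontrivial T := Finite.one_lt_card_iff_nontrivial.1 (by rw [hTc]; omega)
    exact exists_ne _
  let R : Ω → Prop := fun z => ∃ g : X, g • a = a ∧ g • b = b ∧ g • c = c ∧ g • (d₀ : Ω) = z
  have hall : ∀ z : Ω, z ≠ a → z ≠ b → z ≠ c → R z := by
    by_contra hno
    push Not at hno
    obtain ⟨z₁, za, zb, zc, hz₁⟩ := hno
    obtain ⟨k₁, k1c, k1d⟩ := hK2 hd₀.symm (show (⟨c, hc⟩ : T) ≠ ⟨z₁, za, zb⟩ from fun h => zc (congrArg Subtype.val h).symm)
    have k1c' : (k₁ : X) • c = c := congrArg Subtype.val k1c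
    have k1d' : (k₁ : X) • (d₀ : Ω) = z₁ := congrArg Subtype.val k1d
    obtain ⟨k1a, k1b⟩ : (k₁ : X) • a = b ∧ (k₁ : X) • b = a :=
      k₁.2.resolve_left fun h => hz₁ ⟨k₁, h.1, h.2, k1c', k1d'⟩
    obtain ⟨U, hU⟩ : ∃ U : Finset Ω, U = Finset.univ.filter fun z => z ≠ a ∧ z ≠ b ∧ z ≠ c := ⟨_, rfl⟩
    have hUc : U.card = 2 * m - 1 := by
      rw [hU, show (Finset.univ.filter fun z : Ω => z ≠ a ∧ z ≠ b ∧ z ≠ c) = ({a, b, c} : Finset Ω)ᶜ by
        ext; simp [not_or], Finset.card_compl, Finset.card_eq_three.2 ⟨a, b, c, hab, hc.1.symm, hc.2.symm, rfl⟩, hΩ]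
      omega
    have key : ∀ z, z ≠ a → z ≠ b → z ≠ c → (R ((k₁ : X) • z) ↔ ¬ R z) := by
      intro z za zb zc
      constructor
      · rintro ⟨h, ha, hb, hc', hd⟩ ⟨g, ga, gb, gc, gd⟩
        -- then `k₁ g` and `h` agree on `d₀`
        apply hz₁
        have i1 : g⁻¹ • a = a := inv_smul_eq_iff.2 ga.symm
        have e : ((h⁻¹ * (k₁ : X) * g) • (d₀ : Ω)) = d₀ := by
          rw [mul_smul, mul_smul, gd, ← hd, inv_smul_smul]
        refine ⟨(k₁ : X) * (h⁻¹ * (k₁ : X) * g)⁻¹, ?_, ?_, ?_, ?_⟩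
        · rw [mul_smul, inv_smul_eq_iff.2 (show a = (h⁻¹ * (k₁ : X) * g) • b by
            rw [mul_smul, mul_smul, gb, k1b, inv_smul_eq_iff.2 ha.symm]), k1b]
        · rw [mul_smul, inv_smul_eq_iff.2 (show b = (h⁻¹ * (k₁ : X) * g) • a by
            rw [mul_smul, mul_smul, ga, k1a, inv_smul_eq_iff.2 hb.symm]), k1a]
        · rw [mul_smul, inv_smul_eq_iff.2 (show c = (h⁻¹ * (k₁ : X) * g) • c by
            rw [mul_smul, mul_smul, gc, k1c', inv_smul_eq_iff.2 hc'.symm]), k1c']
        · rw [mul_smul, inv_smul_eq_iff.2 e.symm, k1d']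
      · intro hz
        obtain ⟨k, kc, kd⟩ := hK2 hd₀.symm (show (⟨c, hc⟩ : T) ≠ ⟨z, za, zb⟩ from fun h => zc (congrArg Subtype.val h).symm)
        have kc' : (k : X) • c = c := congrArg Subtype.val kc
        have kd' : (k : X) • (d₀ : Ω) = z := congrArg Subtype.val kd
        obtain ⟨ka, kb⟩ : (k : X) • a = b ∧ (k : X) • b = a := k.2.resolve_left fun h => hz ⟨k, h.1, h.2, kc', kd'⟩
        exact ⟨(k₁ : X) * k, by rw [mul_smul, ka, k1b], by rw [mul_smul, kb, k1a], by rw [mul_smul, kc', k1c'],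
          by rw [mul_smul, kd']⟩
    have himg : (U.filter fun z => ¬ R z).image ((k₁ : X) • ·) = U.filter R := by
      ext z
      simp only [Finset.mem_image, Finset.mem_filter, hU, Finset.mem_univ, true_and]
      constructor
      · rintro ⟨w, ⟨⟨wa, wb, wc⟩, hw⟩, rfl⟩
        exact ⟨⟨fun h => wb (smul_left_cancel _ (h.trans k1b.symm)), fun h => wa (smul_left_cancel _ (h.trans k1a.symm)),
          fun h => wc (smul_left_cancel _ (h.trans k1c'.symm))⟩, (key w wa wb wc).2 hw⟩
      · rintro ⟨⟨za, zb, zc⟩, hz⟩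
        have wa : (k₁ : X)⁻¹ • z ≠ a := fun h => zb (by rw [inv_smul_eq_iff.1 h, k1a])
        have wb : (k₁ : X)⁻¹ • z ≠ b := fun h => za (by rw [inv_smul_eq_iff.1 h, k1b])
        have wc : (k₁ : X)⁻¹ • z ≠ c := fun h => zc (by rw [inv_smul_eq_iff.1 h, k1c'])
        exact ⟨(k₁ : X)⁻¹ • z, ⟨⟨wa, wb, wc⟩, (key _ wa wb wc).1 (by rwa [smul_inv_smul])⟩, smul_inv_smul _ _⟩
    have hcard2 := congrArg Finset.card himg
    rw [Finset.card_image_of_injective _ (MulAction.injective (k₁ : X))] at hcard2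
    have hsum := Finset.card_filter_add_card_filter_not (s := U) (p := R)
    omega
  refine CfsgLib.Perm.Heart.three_transitive_of_two_orbit
    (CfsgLib.Perm.Heart.two_transitive_of_insoluble hcard hins)
    (a := b') (b := ⟨c, (SubMulAction.mem_ofStabilizer_iff X a).2 hc.1⟩)
    (c := ⟨(d₀ : Ω), (SubMulAction.mem_ofStabilizer_iff X a).2 d₀.2.1⟩)
    (fun h => hc.2 ((congrArg Subtype.val h).symm.trans hb')) fun z zb zc => ?_
  obtain ⟨g, ga, gb, gc, gd⟩ := hall z.1 ((SubMulAction.mem_ofStabilizer_iff X a).1 z.2)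
    (fun h => zb (Subtype.ext (h.trans hb'.symm))) (fun h => zc (Subtype.ext h))
  refine ⟨⟨g, ga⟩, Subtype.ext ?_, Subtype.ext gc, Subtype.ext gd⟩
  show g • (b' : Ω) = b'
  rw [hb', gb]

end CfsgLib.Perm.PrimePlusOne
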