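import Mathlib

/-!
# Wagner's theorem

A non-trivial normal subgroup of a triply transitive group of odd degree at least five is triply transitive.
-/

set_option autoImplicit false
set_option linter.unusedSectionVars false
set_option linter.style.haveILetI false

namespace CfsgLib.Perm.Wagner

open MulAction Subgroup

universe u v

variable {G : Type u} [Group G] [Finite G] {α : Type v} [Fintype α] [DecidableEq α] [MulAction G α]
  [FaithfulSMul G α]

/-- Triple transitivity on distinct points. -/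
theorem exists_three (h : IsMultiplyPretransitive G α 3) {a b c x y z : α} (hab : a ≠ b) (hac : a ≠ c) (hbc : b ≠ c)
    (hxy : x ≠ y) (hxz : x ≠ z) (hyz : y ≠ z) : ∃ g : G, g • a = x ∧ g • b = y ∧ g • c = z := by
  let u : Fin 3 ↪ α := ⟨![a, b, c], by
    intro i j e
    fin_cases i <;> fin_cases j <;> simp_all [hab.symm, hac.symm, hbc.symm]⟩
  let v : Fin 3 ↪ α := ⟨![x, y, z], by
    intro i j e
    fin_cases i <;> fin_cases j <;> simp_all [hxy.symm, hxz.symm, hyz.symm]⟩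
  obtain ⟨g, hg⟩ := h.exists_smul_eq u v
  exact ⟨g, DFunLike.congr_fun hg 0, DFunLike.congr_fun hg 1, DFunLike.congr_fun hg 2⟩

theorem exists_third (h5 : 5 ≤ Fintype.card α) (s : Finset α) (hs : s.card ≤ 4) : ∃ z, z ∉ s := by
  obtain ⟨z, -, hz⟩ := Finset.exists_mem_notMem_of_card_lt_card
    (show s.card < (Finset.univ : Finset α).card by rw [Finset.card_univ]; omega)
  exact ⟨z, hz⟩

/-- The normal subgroup is transitive. -/
theorem transitive (h5 : 5 ≤ Fintype.card α) (h3 : IsMultiplyPretransitive G α 3) (N : Subgroup G) [hN : N.Normal]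
    (hne : N ≠ ⊥) : ∀ x y : α, ∃ g ∈ N, g • x = y := by
  obtain ⟨m, hm, hm1⟩ : ∃ m ∈ N, m ≠ (1 : G) := by
    by_contra hall
    push Not at hall
    exact hne ((Subgroup.eq_bot_iff_forall N).2 hall)
  obtain ⟨u, hu⟩ : ∃ u : α, m • u ≠ u := by
    by_contra hall
    push Not at hall
    exact hm1 (FaithfulSMul.eq_of_smul_eq_smul (α := α) fun u => by rw [one_smul, hall u])
  intro x y
  rcases eq_or_ne x y with rfl | hxy
  · exact ⟨1, one_mem N, one_smul _ _⟩
  obtain ⟨w, hw⟩ := exists_third h5 {u, m • u} (Finset.card_le_two.trans (by omega))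
  obtain ⟨z, hz⟩ := exists_third h5 {x, y} (Finset.card_le_two.trans (by omega))
  simp only [Finset.mem_insert, Finset.mem_singleton, not_or] at hw hz
  obtain ⟨g, g1, g2, -⟩ := exists_three h3 hu.symm (Ne.symm hw.1) (Ne.symm hw.2) hxy (Ne.symm hz.1) (Ne.symm hz.2)
  exact ⟨g * m * g⁻¹, hN.conj_mem m hm g, by rw [← g1, mul_smul, mul_smul, inv_smul_smul, g2]⟩

/-- The normal subgroup is doubly transitive. -/
theorem two_transitive (hodd : Odd (Fintype.card α)) (h5 : 5 ≤ Fintype.card α) (h3 : IsMultiplyPretransitive G α 3)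
    (N : Subgroup G) [hN : N.Normal] (hne : N ≠ ⊥) (a : α) :
    ∀ x y : α, x ≠ a → y ≠ a → ∃ g ∈ N, g • a = a ∧ g • x = y := by
  by_cases hfix : ∃ g ∈ N, g • a = a ∧ g ≠ 1
  · obtain ⟨g, hg, hga, hg1⟩ := hfix
    obtain ⟨u, hu⟩ : ∃ u : α, g • u ≠ u := by
      by_contra hall
      push Not at hall
      exact hg1 (FaithfulSMul.eq_of_smul_eq_smul (α := α) fun u => by rw [one_smul, hall u])
    intro x y hx hy
    rcases eq_or_ne x y with rfl | hxy
    · exact ⟨1, one_mem N, one_smul _ _, one_smul _ _⟩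
    have hua : u ≠ a := fun h => hu (by rw [h, hga])
    have hgua : g • u ≠ a := fun h => hua (smul_left_cancel g (h.trans hga.symm))
    obtain ⟨k, k1, k2, k3⟩ := exists_three h3 hua.symm hgua.symm hu.symm hx.symm hy.symm hxy
    refine ⟨k * g * k⁻¹, hN.conj_mem g hg k, ?_, by rw [← k2, mul_smul, mul_smul, inv_smul_smul, k3]⟩
    rw [mul_smul, mul_smul, show k⁻¹ • a = a from inv_smul_eq_iff.2 k1.symm, hga, k1]
  · exfalso
    push Not at hfix
    have htr := transitive h5 h3 N hne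
    have hcard : Nat.card N = Fintype.card α := by
      rw [← Nat.card_eq_fintype_card]
      refine Nat.card_eq_of_bijective (fun x : N => (x : G) • a) ⟨fun x y h => ?_, fun b => ?_⟩
      · exact Subtype.ext (inv_mul_eq_one.1 (hfix _ (mul_mem (inv_mem y.2) x.2)
          (by rw [mul_smul, show (x : G) • a = (y : G) • a from h, inv_smul_smul]))).symm
      · obtain ⟨g, hg, hgb⟩ := htr a b
        exact ⟨⟨g, hg⟩, hgb⟩
    obtain ⟨b, hb⟩ := exists_third h5 {a} (by simp)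
    rw [Finset.mem_singleton] at hb
    obtain ⟨x, hx, hxb⟩ := htr a b
    have hx1 : x ≠ 1 := fun h => hb (by rw [← hxb, h, one_smul])
    have hxx : x⁻¹ • a ≠ x • a := by
      intro h
      have h2 : x * x = 1 := hfix _ (mul_mem hx hx) (by rw [mul_smul, ← h, smul_inv_smul])
      have hord : orderOf (⟨x, hx⟩ : N) = 2 := orderOf_eq_prime (Subtype.ext (by rw [pow_two]; exact h2))
        fun h' => hx1 (congrArg Subtype.val h')
      have := orderOf_dvd_natCard (⟨x, hx⟩ : N)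
      rw [hord, hcard] at this
      exact Nat.not_even_iff_odd.2 hodd (even_iff_two_dvd.2 this)
    have hxa : x • a ≠ a := fun h => hx1 (hfix x hx h)
    have hxa' : x⁻¹ • a ≠ a := fun h => hxa (by conv_lhs => rw [← h, smul_inv_smul])
    obtain ⟨y, hy⟩ := exists_third h5 {a, x • a, x⁻¹ • a} (Finset.card_le_three.trans (by omega))
    simp only [Finset.mem_insert, Finset.mem_singleton, not_or] at hy
    obtain ⟨g, g1, g2, g3⟩ := exists_three h3 hxa.symm hxa'.symm hxx.symm hxa.symm (Ne.symm hy.1) (Ne.symm hy.2.1)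
    have hga : g⁻¹ • a = a := inv_smul_eq_iff.2 g1.symm
    have hconj : g * x * g⁻¹ = x := by
      refine inv_mul_eq_one.1 (hfix (x⁻¹ * (g * x * g⁻¹)) (mul_mem (inv_mem hx) (hN.conj_mem x hx g)) ?_) |>.symm
      rw [mul_smul, mul_smul, mul_smul, hga, g2, inv_smul_smul]
    apply hy.2.2
    rw [← g3, ← mul_smul, show g * x⁻¹ = x⁻¹ * g from by
      calc g * x⁻¹ = (g * x * g⁻¹)⁻¹ * g := by group
        _ = x⁻¹ * g := by rw [hconj], mul_smul, g1]

/-- **Wagner's theorem**. -/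
theorem three_transitive (hodd : Odd (Fintype.card α)) (h5 : 5 ≤ Fintype.card α)
    (h3 : IsMultiplyPretransitive G α 3) (N : Subgroup G) [hN : N.Normal] (hne : N ≠ ⊥) :
    IsMultiplyPretransitive N α 3 := by
  classical
  have htr := transitive h5 h3 N hne
  have h2 := two_transitive hodd h5 h3 N hne
  have hpair : ∀ {x y z w : α}, x ≠ y → z ≠ w → ∃ g ∈ N, g • x = z ∧ g • y = w := by
    intro x y z w hxy hzw
    obtain ⟨g, hg, hgx⟩ := htr x z
    obtain ⟨k, hk, hkz, hky⟩ := h2 z (g • y) w (fun h => hxy (smul_left_cancel g (hgx.trans h.symm))) hzw.symm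
    exact ⟨k * g, mul_mem hk hg, by rw [mul_smul, hgx, hkz], by rw [mul_smul, hky]⟩
  suffices hkey : ∀ a b c d : α, a ≠ b → c ≠ a → c ≠ b → d ≠ a → d ≠ b →
      ∃ g ∈ N, g • a = a ∧ g • b = b ∧ g • c = d by
    refine ⟨fun u v => ?_⟩
    have hu : ∀ i j, i ≠ j → u i ≠ u j := fun i j h e => h (u.injective e)
    have hv : ∀ i j, i ≠ j → v i ≠ v j := fun i j h e => h (v.injective e)
    obtain ⟨g, hg, hg0, hg1⟩ := hpair (hu 0 1 (by decide)) (hv 0 1 (by decide))
    obtain ⟨k, hk, hk0, hk1, hk2⟩ := hkey (v 0) (v 1) (g • u 2) (v 2) (hv 0 1 (by decide))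
      (fun h => hu 0 2 (by decide) (smul_left_cancel g (hg0.trans h.symm)))
      (fun h => hu 1 2 (by decide) (smul_left_cancel g (hg1.trans h.symm)))
      (hv 2 0 (by decide)) (hv 2 1 (by decide))
    refine ⟨⟨k * g, mul_mem hk hg⟩, Function.Embedding.ext fun i => ?_⟩
    show (k * g) • u i = v i
    fin_cases i
    · show (k * g) • u 0 = v 0
      rw [mul_smul, hg0, hk0]
    · show (k * g) • u 1 = v 1
      rw [mul_smul, hg1, hk1]
    · show (k * g) • u 2 = v 2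
      rw [mul_smul, hk2]
  intro a b c₀ d₀ hab hc₀a hc₀b hd₀a hd₀b
  by_contra hno
  -- the groups
  let T : Subgroup G := N ⊓ stabilizer G a ⊓ stabilizer G b
  have hT : ∀ {g : G}, g ∈ T ↔ g ∈ N ∧ g • a = a ∧ g • b = b := fun {g} => by
    simp [T, Subgroup.mem_inf, and_assoc, mem_stabilizer_iff]
  let S : Subgroup G :=
    { carrier := {g | g ∈ N ∧ ((g • a = a ∧ g • b = b) ∨ (g • a = b ∧ g • b = a))}
      one_mem' := ⟨one_mem N, Or.inl ⟨one_smul _ _, one_smul _ _⟩⟩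
      mul_mem' := by
        rintro g k ⟨hg, hg'⟩ ⟨hk, hk'⟩
        refine ⟨mul_mem hg hk, ?_⟩
        rcases hg' with ⟨g1, g2⟩ | ⟨g1, g2⟩ <;> rcases hk' with ⟨k1, k2⟩ | ⟨k1, k2⟩
        · exact Or.inl ⟨by rw [mul_smul, k1, g1], by rw [mul_smul, k2, g2]⟩
        · exact Or.inr ⟨by rw [mul_smul, k1, g2], by rw [mul_smul, k2, g1]⟩
        · exact Or.inr ⟨by rw [mul_smul, k1, g1], by rw [mul_smul, k2, g2]⟩
        · exact Or.inl ⟨by rw [mul_smul, k1, g2], by rw [mul_smul, k2, g1]⟩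
      inv_mem' := by
        rintro g ⟨hg, hg'⟩
        refine ⟨inv_mem hg, ?_⟩
        rcases hg' with ⟨g1, g2⟩ | ⟨g1, g2⟩
        · exact Or.inl ⟨inv_smul_eq_iff.2 g1.symm, inv_smul_eq_iff.2 g2.symm⟩
        · exact Or.inr ⟨inv_smul_eq_iff.2 g2.symm, inv_smul_eq_iff.2 g1.symm⟩ }
  have hS : ∀ {g : G}, g ∈ S ↔ g ∈ N ∧ ((g • a = a ∧ g • b = b) ∨ (g • a = b ∧ g • b = a)) := Iff.rfl
  obtain ⟨t, htN, hta, htb⟩ := hpair hab hab.symm
  have htS : t ∈ S := hS.2 ⟨htN, Or.inr ⟨hta, htb⟩⟩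
  have hcardS : Nat.card S = 2 * Nat.card T := by
    have hsub : ∀ g ∈ T, g ∈ S := fun g hg => hS.2 ⟨(hT.1 hg).1, Or.inl (hT.1 hg).2⟩
    have hbij : Function.Bijective fun p : Bool × T =>
        (⟨(if p.1 then t else 1) * (p.2 : G), mul_mem (by split_ifs; exacts [htS, one_mem S]) (hsub _ p.2.2)⟩ : S) := by
      constructor
      · rintro ⟨i, x⟩ ⟨j, y⟩ h
        have h' := congrArg Subtype.val h
        simp only at h'
        have ha' := congrArg (fun g : G => g • a) h'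
        simp only [mul_smul, (hT.1 x.2).2.1, (hT.1 y.2).2.1] at ha'
        have hij : i = j := by
          cases i <;> cases j <;> simp [hta, hab, hab.symm] at ha' ⊢
        subst hij
        exact Prod.ext rfl (Subtype.ext (mul_left_cancel h'))
      · rintro ⟨g, hg⟩
        rcases (hS.1 hg).2 with h | ⟨h1, h2⟩
        · exact ⟨(false, ⟨g, hT.2 ⟨(hS.1 hg).1, h⟩⟩), Subtype.ext (by simp)⟩
        · refine ⟨(true, ⟨t⁻¹ * g, hT.2 ⟨mul_mem (inv_mem htN) (hS.1 hg).1, ?_, ?_⟩⟩), Subtype.ext (by simp)⟩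
          · rw [mul_smul, h1, inv_smul_eq_iff, hta]
          · rw [mul_smul, h2, inv_smul_eq_iff, htb]
    rw [← Nat.card_eq_of_bijective _ hbij, Nat.card_prod, Nat.card_eq_fintype_card (α := Bool), Fintype.card_bool]
  -- a Sylow 2-subgroup of `S` fixes a third point
  haveI := Fact.mk Nat.prime_two
  obtain ⟨R⟩ : Nonempty (Sylow 2 S) := inferInstance
  have hSab : ∀ {g : G}, g ∈ S → ∀ x, x ≠ a → x ≠ b → g • x ≠ a ∧ g • x ≠ b := by
    intro g hg x hxa hxb
    rcases (hS.1 hg).2 with ⟨g1, g2⟩ | ⟨g1, g2⟩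
    · exact ⟨fun h => hxa (smul_left_cancel g (h.trans g1.symm)), fun h => hxb (smul_left_cancel g (h.trans g2.symm))⟩
    · exact ⟨fun h => hxb (smul_left_cancel g (h.trans g2.symm)), fun h => hxa (smul_left_cancel g (h.trans g1.symm))⟩
  let rest := {x : α // x ≠ a ∧ x ≠ b}
  letI : MulAction (R : Subgroup S) rest :=
    { smul := fun r x => ⟨((r : S) : G) • x.1, hSab (r : S).2 x.1 x.2.1 x.2.2⟩
      one_smul := fun x => Subtype.ext (one_smul G x.1)
      mul_smul := fun r s x => Subtype.ext (mul_smul ((r : S) : G) ((s : S) : G) x.1) }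
  have hrest : Nat.card rest = Fintype.card α - 2 := by
    rw [Nat.card_eq_fintype_card, Fintype.card_subtype, ← Finset.card_pair hab, ← Finset.card_univ,
      ← Finset.card_sdiff_of_subset (Finset.subset_univ _)]
    congr 1
    ext x
    simp [not_or]
  obtain ⟨⟨c, hca, hcb⟩, hc⟩ : ∃ c : rest, c ∈ fixedPoints (R : Subgroup S) rest := by
    have h : ¬ 2 ∣ Nat.card rest := by
      rw [hrest]
      obtain ⟨k, hk⟩ := hodd
      omega
    exact R.2.nonempty_fixed_point_of_prime_not_dvd_card rest h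
  have hRc : ∀ r : (R : Subgroup S), ((r : S) : G) • c = c := fun r => congrArg Subtype.val (hc r)
  -- the orbits of `T`
  let O : α → Finset α := fun x => Finset.univ.filter fun y => ∃ g ∈ T, g • x = y
  have hOmem : ∀ {x y}, y ∈ O x ↔ ∃ g ∈ T, g • x = y := fun {x y} => by simp [O]
  have hOeq : ∀ {x y}, y ∈ O x → O y = O x := by
    intro x y h
    obtain ⟨g, hg, rfl⟩ := hOmem.1 h
    ext z
    rw [hOmem, hOmem]
    exact ⟨fun ⟨k, hk, e⟩ => ⟨k * g, mul_mem hk hg, by rw [mul_smul, e]⟩,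
      fun ⟨k, hk, e⟩ => ⟨k * g⁻¹, mul_mem hk (inv_mem hg), by rw [mul_smul, inv_smul_smul, e]⟩⟩
  have hnormT : ∀ h : G, h • a = a → h • b = b → ∀ g ∈ T, h * g * h⁻¹ ∈ T := by
    intro h ha hb g hg
    obtain ⟨g0, g1, g2⟩ := hT.1 hg
    refine hT.2 ⟨hN.conj_mem g g0 h, ?_, ?_⟩
    · rw [mul_smul, mul_smul, inv_smul_eq_iff.2 ha.symm, g1, ha]
    · rw [mul_smul, mul_smul, inv_smul_eq_iff.2 hb.symm, g2, hb]
  have hmove : ∀ d, d ≠ a → d ≠ b → ∃ h : G, h • a = a ∧ h • b = b ∧ h • c = d := fun d hda hdb =>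
    exists_three h3 hab hca.symm hcb.symm hab hda.symm hdb.symm
  have hOcard : ∀ d, d ≠ a → d ≠ b → (O d).card = (O c).card := by
    intro d hda hdb
    obtain ⟨h, ha, hb, rfl⟩ := hmove d hda hdb
    refine (Finset.card_equiv (MulAction.toPerm h) fun y => ?_).symm
    rw [hOmem, hOmem]
    constructor
    · rintro ⟨g, hg, rfl⟩
      exact ⟨h * g * h⁻¹, hnormT h ha hb g hg, by rw [MulAction.toPerm_apply, mul_smul, mul_smul, inv_smul_smul]⟩
    · rintro ⟨g, hg, e⟩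
      refine ⟨h⁻¹ * g * h⁻¹⁻¹, hnormT h⁻¹ (inv_smul_eq_iff.2 ha.symm) (inv_smul_eq_iff.2 hb.symm) g hg, ?_⟩
      rw [inv_inv, mul_smul, mul_smul, e, MulAction.toPerm_apply, inv_smul_smul]
  have hOrest : ∀ d, d ≠ a → d ≠ b → ∀ y ∈ O d, y ≠ a ∧ y ≠ b := by
    intro d hda hdb y hy
    obtain ⟨g, hg, rfl⟩ := hOmem.1 hy
    obtain ⟨g0, g1, g2⟩ := hT.1 hg
    exact hSab (hS.2 ⟨g0, Or.inl ⟨g1, g2⟩⟩) d hda hdb
  have hlodd : ¬ 2 ∣ (O c).card := by
    intro h
    obtain ⟨s, hs⟩ : ∃ s, s = (Finset.univ : Finset α) \ {a, b} := ⟨_, rfl⟩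
    have hmem : ∀ x, x ∈ s ↔ x ≠ a ∧ x ≠ b := fun x => by simp [hs, not_or]
    have h1 : s.card = ∑ B ∈ s.image O, (s.filter fun x => O x = B).card :=
      Finset.card_eq_sum_card_image O s
    have h2' : ∀ B ∈ s.image O, (s.filter fun x => O x = B).card = (O c).card := by
      intro B hB
      obtain ⟨d, hd, rfl⟩ := Finset.mem_image.1 hB
      rw [hmem] at hd
      rw [← hOcard d hd.1 hd.2]
      congr 1
      ext y
      rw [Finset.mem_filter, hmem]
      refine ⟨fun hy => hy.2 ▸ hOmem.2 ⟨1, one_mem _, one_smul _ _⟩, fun hy => ⟨hOrest d hd.1 hd.2 y hy, hOeq hy⟩⟩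
    rw [Finset.sum_congr rfl h2', Finset.sum_const, smul_eq_mul] at h1
    have h3' : 2 ∣ s.card := h1 ▸ dvd_mul_of_dvd_right h _
    rw [hs, Finset.card_sdiff_of_subset (Finset.subset_univ _), Finset.card_univ, Finset.card_pair hab] at h3'
    obtain ⟨k, hk⟩ := hodd
    omega
  obtain ⟨d, hda, hdb, hdc⟩ : ∃ d, d ≠ a ∧ d ≠ b ∧ d ∉ O c := by
    by_contra hall
    push Not at hall
    obtain ⟨g, hg, e⟩ := hOmem.1 (hall c₀ hc₀a hc₀b)
    obtain ⟨k, hk, e'⟩ := hOmem.1 (hall d₀ hd₀a hd₀b)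
    have hm := hT.1 (mul_mem hk (inv_mem hg))
    exact hno ⟨k * g⁻¹, hm.1, hm.2.1, hm.2.2, by rw [mul_smul, ← e, inv_smul_smul, e']⟩
  -- every element of `R` preserves the orbit of `d`
  have hpres : ∀ r : (R : Subgroup S), ∀ y ∈ O d, ((r : S) : G) • y ∈ O d := by
    intro r y hy
    obtain ⟨h, ha, hb, hhc⟩ := hmove d hda hdb
    obtain ⟨rN, hr⟩ := hS.1 (r : S).2
    obtain ⟨g, hg, rfl⟩ := hOmem.1 hy
    obtain ⟨g0, g1, g2⟩ := hT.1 hg
    obtain ⟨ρ, hρ⟩ : ∃ ρ, ρ = ((r : S) : G) := ⟨_, rfl⟩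
    rw [← hρ] at rN hr ⊢
    have hgT : ρ * g * ρ⁻¹ ∈ T := by
      refine hT.2 ⟨hN.conj_mem g g0 ρ, ?_, ?_⟩
      · rcases hr with ⟨r1, r2⟩ | ⟨r1, r2⟩
        · rw [mul_smul, mul_smul, inv_smul_eq_iff.2 r1.symm, g1, r1]
        · rw [mul_smul, mul_smul, inv_smul_eq_iff.2 r2.symm, g2, r2]
      · rcases hr with ⟨r1, r2⟩ | ⟨r1, r2⟩
        · rw [mul_smul, mul_smul, inv_smul_eq_iff.2 r2.symm, g2, r2]
        · rw [mul_smul, mul_smul, inv_smul_eq_iff.2 r1.symm, g1, r1]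
    have hcomT : ρ * (h * ρ⁻¹ * h⁻¹) ∈ T := by
      have hha : h⁻¹ • a = a := inv_smul_eq_iff.2 ha.symm
      have hhb : h⁻¹ • b = b := inv_smul_eq_iff.2 hb.symm
      refine hT.2 ⟨mul_mem rN (hN.conj_mem _ (inv_mem rN) h), ?_, ?_⟩
      · rcases hr with ⟨r1, r2⟩ | ⟨r1, r2⟩
        · rw [mul_smul, mul_smul, mul_smul, hha, inv_smul_eq_iff.2 r1.symm, ha, r1]
        · rw [mul_smul, mul_smul, mul_smul, hha, inv_smul_eq_iff.2 r2.symm, hb, r2]
      · rcases hr with ⟨r1, r2⟩ | ⟨r1, r2⟩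
        · rw [mul_smul, mul_smul, mul_smul, hhb, inv_smul_eq_iff.2 r2.symm, hb, r2]
        · rw [mul_smul, mul_smul, mul_smul, hhb, inv_smul_eq_iff.2 r1.symm, ha, r1]
    refine hOmem.2 ⟨(ρ * g * ρ⁻¹) * (ρ * (h * ρ⁻¹ * h⁻¹)), mul_mem hgT hcomT, ?_⟩
    have hρc : ρ⁻¹ • c = c := inv_smul_eq_iff.2 (hρ ▸ (hRc r).symm)
    rw [show (ρ * g * ρ⁻¹) * (ρ * (h * ρ⁻¹ * h⁻¹)) = ρ * g * (h * ρ⁻¹ * h⁻¹) from by group, mul_smul, mul_smul,
      mul_smul, mul_smul, show h⁻¹ • d = c from inv_smul_eq_iff.2 hhc.symm, hρc, hhc]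
  let orb := {y : α // y ∈ O d}
  letI : MulAction (R : Subgroup S) orb :=
    { smul := fun r x => ⟨((r : S) : G) • x.1, hpres r x.1 x.2⟩
      one_smul := fun x => Subtype.ext (one_smul G x.1)
      mul_smul := fun r s x => Subtype.ext (mul_smul ((r : S) : G) ((s : S) : G) x.1) }
  obtain ⟨⟨d₁, hd₁⟩, hfix⟩ := R.2.nonempty_fixed_point_of_prime_not_dvd_card orb
    (by rw [Nat.card_eq_fintype_card, Fintype.card_coe, hOcard d hda hdb]; exact hlodd)
  have hRd : ∀ r : (R : Subgroup S), ((r : S) : G) • d₁ = d₁ := fun r => congrArg Subtype.val (hfix r)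
  have hcd : c ≠ d₁ := by
    intro h
    apply hdc
    rw [← h] at hd₁
    rw [hOeq hd₁]
    exact hOmem.2 ⟨1, one_mem _, one_smul _ _⟩
  -- `R` lies in a conjugate of `T`
  obtain ⟨g, hg, hgc, hgd⟩ := hpair hcd hab
  have hdvd : Nat.card (R : Subgroup S) ∣ Nat.card T := by
    let φ : (R : Subgroup S) →* T :=
      (((MulAut.conj g).toMonoidHom.comp S.subtype).comp (R : Subgroup S).subtype).codRestrict T fun r => by
        refine hT.2 ⟨hN.conj_mem _ (hS.1 (r : S).2).1 g, ?_, ?_⟩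
        · show (g * ((r : S) : G) * g⁻¹) • a = a
          rw [mul_smul, mul_smul, inv_smul_eq_iff.2 hgc.symm, hRc r, hgc]
        · show (g * ((r : S) : G) * g⁻¹) • b = b
          rw [mul_smul, mul_smul, inv_smul_eq_iff.2 hgd.symm, hRd r, hgd]
    refine Subgroup.card_dvd_of_injective φ fun x y h => ?_
    have h' : g * ((x : S) : G) * g⁻¹ = g * ((y : S) : G) * g⁻¹ := congrArg Subtype.val h
    exact Subtype.ext (Subtype.ext (mul_left_cancel (mul_right_cancel h')))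
  rw [Sylow.card_eq_multiplicity, hcardS, Nat.prime_two.pow_dvd_iff_le_factorization Nat.card_pos.ne',
    Nat.factorization_mul (by norm_num) Nat.card_pos.ne', Finsupp.coe_add, Pi.add_apply,
    Nat.Prime.factorization_self Nat.prime_two] at hdvd
  omega

end CfsgLib.Perm.Wagner
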