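import Cfsg.Agent.Lib.Perm.Groups.PrimeHalfPrimitive
import Cfsg.Agent.Lib.Perm.Groups.PrimeNormalizer
import Cfsg.Agent.Lib.Perm.Groups.Wagner

/-!
# Prime degree `p = q + 2` with half normaliser
-/

set_option autoImplicit false
set_option linter.unusedSectionVars false
set_option linter.style.haveILetI false

namespace CfsgLib.Perm.Heart

open MulAction

universe u

variable {α : Type u} [Fintype α] [DecidableEq α] {p : ℕ} [hp : Fact p.Prime]

/-- A soluble group of prime degree has order dividing `p (p - 1)`. -/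
theorem card_dvd_of_solvable (hpc : Fintype.card α = p) (G : Subgroup (Equiv.Perm α)) [IsPretransitive G α]
    (hG : Group.IsSolvable G) : Nat.card G ∣ p * (p - 1) := by
  classical
  haveI : Nonempty α := Fintype.card_pos_iff.1 (hpc ▸ hp.out.pos)
  obtain ⟨a₀⟩ := ‹Nonempty α›
  obtain ⟨A, hAn, hAne, hAab⟩ : ∃ A : Subgroup G, A.Normal ∧ A ≠ ⊥ ∧ ∀ x ∈ A, ∀ y ∈ A, x * y = y * x := by
    have hex : ∃ n, derivedSeries G n = ⊥ := (Group.isSolvable_def G).1 hG
    obtain ⟨n, hn⟩ : ∃ n, n = Nat.find hex := ⟨_, rfl⟩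
    have hspec : derivedSeries G n = ⊥ := hn ▸ Nat.find_spec hex
    rcases n with _ | n
    · exfalso
      rw [derivedSeries_zero] at hspec
      obtain ⟨b, hb⟩ := Fintype.exists_ne_of_one_lt_card (hpc ▸ hp.out.one_lt) a₀
      obtain ⟨g, hg⟩ := exists_smul_eq G a₀ b
      have hg1 : g = 1 := Subgroup.mem_bot.1 (hspec ▸ Subgroup.mem_top g)
      rw [hg1, one_smul] at hg
      exact hb hg.symm
    · refine ⟨derivedSeries G n, derivedSeries_normal G n, fun h => Nat.find_min hex (by omega) h, ?_⟩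
      rw [derivedSeries_succ, Subgroup.commutator_eq_bot_iff_le_centralizer] at hspec
      exact fun x hx y hy => (Subgroup.mem_centralizer_iff.1 (hspec hx) y hy).symm
  haveI := hAn
  haveI : IsPreprimitive G α := IsPreprimitive.of_prime_card
    (by rw [Nat.card_eq_fintype_card, hpc]; exact hp.out)
  have hAtr : IsPretransitive A α := by
    apply IsQuasiPreprimitive.isPretransitive_of_normal
    intro hall
    apply hAne
    rw [eq_bot_iff]
    intro x hx
    rw [Subgroup.mem_bot]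
    refine Subtype.ext (Equiv.ext fun a => ?_)
    exact (Set.eq_univ_iff_forall.1 hall a) ⟨x, hx⟩
  have hAcard : Nat.card A = p := by
    rw [← hpc, ← Nat.card_eq_fintype_card]
    refine Nat.card_eq_of_bijective (fun x : A => (x : G) • a₀) ⟨fun x y h => ?_, fun b => ?_⟩
    · refine Subtype.ext (Subtype.ext (Equiv.ext fun b => ?_))
      obtain ⟨⟨z, hz⟩, rfl⟩ := exists_smul_eq A a₀ b
      show (x : G) • z • a₀ = (y : G) • z • a₀
      rw [← mul_smul, ← mul_smul, hAab _ x.2 z hz, hAab _ y.2 z hz, mul_smul, mul_smul]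
      exact congrArg (z • ·) h
    · obtain ⟨x, hx⟩ := exists_smul_eq A a₀ b
      exact ⟨x, hx⟩
  have hH : Nat.card (A.map G.subtype) = p := by
    rw [Subgroup.card_map_of_injective G.subtype_injective, hAcard]
  have hle : G ≤ Subgroup.normalizer ((A.map G.subtype : Subgroup (Equiv.Perm α)) : Set (Equiv.Perm α)) := by
    intro g hg
    rw [Subgroup.mem_normalizer_iff]
    intro y
    simp only [SetLike.mem_coe, Subgroup.mem_map]
    constructor
    · rintro ⟨z, hz, rfl⟩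
      exact ⟨⟨g, hg⟩ * z * ⟨g, hg⟩⁻¹, hAn.conj_mem z hz _, rfl⟩
    · rintro ⟨z, hz, hzy⟩
      refine ⟨⟨g, hg⟩⁻¹ * z * ⟨g, hg⟩, by simpa using hAn.conj_mem z hz (⟨g, hg⟩ : G)⁻¹, ?_⟩
      show g⁻¹ * G.subtype z * g = y
      rw [hzy]; group
  have h := Subgroup.card_dvd_of_le hle
  rwa [CfsgLib.Perm.Groups.card_normalizer_of_card_prime (by rw [hpc]; have := hp.out.pos; omega) _ hH,
    hpc, Nat.sub_self, Nat.factorial_zero, one_mul] at h

theorem three_transitive_of_two_orbit {G : Type*} [Group G] {Ω : Type*} [MulAction G Ω]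
    (h2 : IsMultiplyPretransitive G Ω 2) {a b c : Ω} (hab : a ≠ b)
    (hall : ∀ d, d ≠ a → d ≠ b → ∃ g : G, g • a = a ∧ g • b = b ∧ g • c = d) :
    IsMultiplyPretransitive G Ω 3 := by
  rw [is_two_pretransitive_iff] at h2
  have key : ∀ u : Fin 3 ↪ Ω, ∃ g : G, g • a = u 0 ∧ g • b = u 1 ∧ g • c = u 2 := by
    intro u
    obtain ⟨g₀, g1, g2⟩ := h2 hab (u.injective.ne (show (0 : Fin 3) ≠ 1 by decide))
    obtain ⟨g, ga, gb, gc⟩ := hall (g₀⁻¹ • u 2)
      (fun h => u.injective.ne (show (2 : Fin 3) ≠ 0 by decide) (by rw [← g1, ← h, smul_inv_smul]))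
      (fun h => u.injective.ne (show (2 : Fin 3) ≠ 1 by decide) (by rw [← g2, ← h, smul_inv_smul]))
    exact ⟨g₀ * g, by rw [mul_smul, ga, g1], by rw [mul_smul, gb, g2], by rw [mul_smul, gc, smul_inv_smul]⟩
  refine ⟨fun u v => ?_⟩
  obtain ⟨g, g1, g2, g3⟩ := key u
  obtain ⟨k, k1, k2, k3⟩ := key v
  refine ⟨k * g⁻¹, Function.Embedding.ext fun i => ?_⟩
  show (k * g⁻¹) • u i = v i
  fin_cases i
  · show (k * g⁻¹) • u 0 = v 0
    rw [← g1, mul_smul, inv_smul_smul, k1]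
  · show (k * g⁻¹) • u 1 = v 1
    rw [← g2, mul_smul, inv_smul_smul, k2]
  · show (k * g⁻¹) • u 2 = v 2
    rw [← g3, mul_smul, inv_smul_smul, k3]

/-- Triple transitivity when `p - 2` is prime. -/
theorem twin_three_transitive (hpc : Fintype.card α = p) (G : Subgroup (Equiv.Perm α)) [IsPretransitive G α]
    (hG : ¬ Group.IsSolvable G) (P : Sylow p G)
    (hN : 2 * Nat.card (Subgroup.normalizer ((P : Subgroup G) : Set G)) = p * (p - 1))
    {q : ℕ} (hq : q.Prime) (hpq : p = q + 2) (hp7 : 7 < p) : IsMultiplyPretransitive G α 3 := by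
  classical
  have hΩ : Nat.card α = p := by rw [Nat.card_eq_fintype_card, hpc]
  rcases (show p % 4 = 1 ∨ p % 4 = 3 by have := hp.out.eq_two_or_odd; omega) with hp4 | hp4
  · exact three_transitive_of_one_mod_four hΩ hG P hN hp4
  by_contra hno
  have h2 := two_transitive_of_insoluble hΩ hG
  obtain ⟨a, b, hab⟩ := Fintype.exists_pair_of_one_lt_card (α := α) (hpc ▸ hp.out.one_lt)
  obtain ⟨T, hTd⟩ : ∃ T : Finset α, T = Finset.univ.filter fun z => z ≠ a ∧ z ≠ b := ⟨_, rfl⟩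
  have hT : ∀ z, z ∈ T ↔ z ≠ a ∧ z ≠ b := fun z => by simp [hTd]
  have hTc : T.card = q := by
    rw [hTd, show (Finset.univ.filter fun z : α => z ≠ a ∧ z ≠ b) = ({a, b} : Finset α)ᶜ by
      ext; simp [not_or], Finset.card_compl, Finset.card_pair hab, hpc, hpq, Nat.add_sub_cancel]
  let orb : α → Finset α := fun x => Finset.univ.filter fun z => ∃ g : G, g • a = a ∧ g • b = b ∧ g • x = z
  have horb : ∀ x z, z ∈ orb x ↔ ∃ g : G, g • a = a ∧ g • b = b ∧ g • x = z := fun x z => by simp [orb]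
  have horbT : ∀ x ∈ T, orb x ⊆ T := by
    intro x hx z hz
    obtain ⟨g, g1, g2, rfl⟩ := (horb x z).1 hz
    rw [hT] at hx ⊢
    exact ⟨fun h => hx.1 (smul_left_cancel g (h.trans g1.symm)), fun h => hx.2 (smul_left_cancel g (h.trans g2.symm))⟩
  obtain ⟨c, hc⟩ : T.Nonempty := Finset.card_pos.1 (hTc ▸ hq.pos)
  obtain ⟨d, hd, hcd⟩ : ∃ d ∈ T, d ∉ orb c := by
    by_contra hall
    push Not at hall
    exact hno (three_transitive_of_two_orbit h2 hab fun d da db => (horb c d).1 (hall d ((hT d).2 ⟨da, db⟩)))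
  have horbsymm : ∀ x z, z ∈ orb x → x ∈ orb z := by
    intro x z hz
    obtain ⟨g, g1, g2, g3⟩ := (horb x z).1 hz
    exact (horb z x).2 ⟨g⁻¹, inv_smul_eq_iff.2 g1.symm, inv_smul_eq_iff.2 g2.symm, inv_smul_eq_iff.2 g3.symm⟩
  have horbtrans : ∀ x y z, y ∈ orb x → z ∈ orb y → z ∈ orb x := by
    intro x y z hy hz
    obtain ⟨g, g1, g2, g3⟩ := (horb x y).1 hy
    obtain ⟨k, k1, k2, k3⟩ := (horb y z).1 hz
    exact (horb x z).2 ⟨k * g, by rw [mul_smul, g1, k1], by rw [mul_smul, g2, k2], by rw [mul_smul, g3, k3]⟩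
  obtain ⟨x₀, hx₀, y₀, hy₀, hxy, hsmall⟩ : ∃ x₀ ∈ T, ∃ y₀ ∈ T, y₀ ∉ orb x₀ ∧
      (orb x₀).card ≤ (orb y₀).card := by
    rcases le_total (orb c).card (orb d).card with h | h
    · exact ⟨c, hc, d, hd, hcd, h⟩
    · exact ⟨d, hd, c, hc, fun h' => hcd (horbsymm _ _ h'), h⟩
  have hcover : ∀ z ∈ T, z ∉ orb x₀ → z ∈ orb y₀ := by
    intro z hz hzx
    rw [hT] at hx₀ hy₀ hz
    obtain ⟨i, j, hij, g, g1, g2, g3⟩ := two_point_orbits' hΩ hG P hN.ge hab ![x₀, y₀, z]
      (fun i => by fin_cases i <;> simp [hx₀.1, hy₀.1, hz.1]) (fun i => by fin_cases i <;> simp [hx₀.2, hy₀.2, hz.2])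
    have hm : ∀ {x w : α}, g • x = w → w ∈ orb x := fun h => (horb _ _).2 ⟨g, g1, g2, h⟩
    fin_cases i <;> fin_cases j <;> simp at hij g3
    · exact absurd (hm g3) hxy
    · exact absurd (hm g3) hzx
    · exact absurd (horbsymm _ _ (hm g3)) hxy
    · exact hm g3
    · exact absurd (horbsymm _ _ (hm g3)) hzx
    · exact horbsymm _ _ (hm g3)
  obtain ⟨k, hk⟩ : ∃ k, k = (orb x₀).card := ⟨_, rfl⟩
  have hsplit : orb y₀ = T \ orb x₀ := by
    ext z
    rw [Finset.mem_sdiff]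
    exact ⟨fun h => ⟨horbT y₀ hy₀ h, fun h' => hxy (horbtrans _ _ _ h' (horbsymm _ _ h))⟩,
      fun h => hcover z h.1 h.2⟩
  have hsum : (orb y₀).card = q - k := by
    rw [hsplit, Finset.card_sdiff_of_subset (horbT x₀ hx₀), hTc, hk]
  -- the graph on the points other than `a`
  let out : α → Finset α := fun y => Finset.univ.filter fun z => ∃ g : G, g • a = a ∧ g • b = y ∧ g • x₀ = z
  have hout : ∀ y z, z ∈ out y ↔ ∃ g : G, g • a = a ∧ g • b = y ∧ g • x₀ = z := fun y z => by simp [out]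
  have houtb : out b = orb x₀ := rfl
  have hequiv : ∀ g : G, g • a = a → ∀ y z, (g • z ∈ out (g • y) ↔ z ∈ out y) := by
    intro g ga y z
    rw [hout, hout]
    exact ⟨fun ⟨h, h1, h2', h3⟩ => ⟨g⁻¹ * h, by rw [mul_smul, h1, inv_smul_eq_iff, ga],
        by rw [mul_smul, h2', inv_smul_smul], by rw [mul_smul, h3, inv_smul_smul]⟩,
      fun ⟨h, h1, h2', h3⟩ => ⟨g * h, by rw [mul_smul, h1, ga], by rw [mul_smul, h2'],
        by rw [mul_smul, h3]⟩⟩
  have houtcard : ∀ y, y ≠ a → (out y).card = k := by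
    intro y hy
    obtain ⟨g, ga, gb⟩ := is_two_pretransitive_iff.1 h2 hab hy.symm
    rw [hk, ← houtb]
    refine (Finset.card_equiv (MulAction.toPerm g) fun z => ?_).symm
    rw [MulAction.toPerm_apply, ← gb, hequiv g ga]
  have houtne : ∀ y z, z ∈ out y → z ≠ a ∧ z ≠ y := by
    intro y z hz
    obtain ⟨g, g1, g2, g3⟩ := (hout y z).1 hz
    rw [hT] at hx₀
    exact ⟨fun h => hx₀.1 (smul_left_cancel g (g3.trans (h.trans g1.symm))),
      fun h => hx₀.2 (smul_left_cancel g (g3.trans (h.trans g2.symm)))⟩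
  have hx : ∀ y ∈ orb x₀, ((orb y₀).filter (· ∈ out y)).card = ((orb y₀).filter (· ∈ out x₀)).card := by
    intro y hy
    obtain ⟨g, g1, g2, rfl⟩ := (horb _ _).1 hy
    refine (Finset.card_equiv (MulAction.toPerm g) fun z => ?_).symm
    simp only [Finset.mem_filter, MulAction.toPerm_apply, hequiv g g1]
    refine and_congr_left fun _ => ⟨fun h => horbtrans _ _ _ h ((horb z _).2 ⟨g, g1, g2, rfl⟩),
      fun h => horbtrans _ _ _ h (horbsymm _ _ ((horb z _).2 ⟨g, g1, g2, rfl⟩))⟩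
  have hμ : ∀ z ∈ orb y₀, ((orb x₀).filter (z ∈ out ·)).card = ((orb x₀).filter (y₀ ∈ out ·)).card := by
    intro z hz
    obtain ⟨g, g1, g2, rfl⟩ := (horb _ _).1 hz
    refine (Finset.card_equiv (MulAction.toPerm g) fun y => ?_).symm
    simp only [Finset.mem_filter, MulAction.toPerm_apply, hequiv g g1]
    refine and_congr_left fun _ => ⟨fun h => horbtrans _ _ _ h ((horb y _).2 ⟨g, g1, g2, rfl⟩),
      fun h => horbtrans _ _ _ h (horbsymm _ _ ((horb y _).2 ⟨g, g1, g2, rfl⟩))⟩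
  obtain ⟨xc, hxc⟩ : ∃ xc, xc = ((orb y₀).filter (· ∈ out x₀)).card := ⟨_, rfl⟩
  obtain ⟨μ, hμd⟩ : ∃ μ, μ = ((orb x₀).filter (y₀ ∈ out ·)).card := ⟨_, rfl⟩
  have hcount : k * xc = (q - k) * μ := by
    have h1 : ∑ y ∈ orb x₀, ((orb y₀).filter (· ∈ out y)).card =
        ∑ z ∈ orb y₀, ((orb x₀).filter (z ∈ out ·)).card := by
      simp only [Finset.card_filter]
      exact Finset.sum_comm
    rwa [Finset.sum_congr rfl hx, Finset.sum_congr rfl hμ, Finset.sum_const, Finset.sum_const, smul_eq_mul,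
      smul_eq_mul, ← hxc, ← hμd, ← hk, hsum] at h1
  have hk0 : 0 < k := hk ▸ Finset.card_pos.2 ⟨x₀, (horb _ _).2 ⟨1, one_smul _ _, one_smul _ _, one_smul _ _⟩⟩
  have hk2 : 2 * k < q := by
    rw [hsum, ← hk] at hsmall
    have := hq.eq_two_or_odd
    omega
  have hxμ : xc + μ = 0 := by
    have hx' : xc ≤ k := by
      rw [hxc, ← houtcard x₀ ((hT x₀).1 hx₀).1]
      exact Finset.card_le_card fun z hz => (Finset.mem_filter.1 hz).2
    have hμ' : μ ≤ k := by rw [hμd, hk]; exact Finset.card_filter_le _ _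
    have hdvd : q ∣ k * (xc + μ) := by
      refine ⟨μ, ?_⟩
      rw [mul_add, hcount, ← add_mul, Nat.sub_add_cancel (by omega)]
    rcases hq.dvd_mul.1 hdvd with h | h
    · have := Nat.le_of_dvd hk0 h; omega
    · exact Nat.eq_zero_of_dvd_of_lt h (by omega)
  -- a block
  obtain ⟨B, hBd⟩ : ∃ B : Finset α, B = insert b (orb x₀) := ⟨_, rfl⟩
  have hB : ∀ z, z ∈ B ↔ z = b ∨ z ∈ orb x₀ := fun z => by simp [hBd]
  have hbB : b ∈ B := (hB b).2 (Or.inl rfl)
  have hxB : x₀ ∈ B := (hB x₀).2 (Or.inr ((horb _ _).2 ⟨1, one_smul _ _, one_smul _ _, one_smul _ _⟩))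
  have hbnot : b ∉ orb x₀ := fun h => ((hT b).1 (horbT x₀ hx₀ h)).2 rfl
  have hclique : ∀ y ∈ B, out y = B.erase y := by
    intro y hy
    rcases (hB y).1 hy with rfl | hy'
    · rw [houtb, hBd, Finset.erase_insert hbnot]
    refine Finset.eq_of_subset_of_card_le (fun z hz => ?_) ?_
    · obtain ⟨za, zy⟩ := houtne y z hz
      refine Finset.mem_erase.2 ⟨zy, (hB z).2 ?_⟩
      by_cases hzb : z = b
      · exact Or.inl hzb
      refine Or.inr ?_
      by_contra hzx
      have hz' : z ∈ (orb y₀).filter (· ∈ out y) :=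
        Finset.mem_filter.2 ⟨hcover z ((hT z).2 ⟨za, hzb⟩) hzx, hz⟩
      have : 0 < ((orb y₀).filter (· ∈ out y)).card := Finset.card_pos.2 ⟨z, hz'⟩
      rw [hx y hy', ← hxc] at this
      omega
    · rw [Finset.card_erase_of_mem hy, hBd, Finset.card_insert_of_notMem hbnot, ← hk,
        houtcard y ((hT y).1 (horbT x₀ hx₀ hy')).1]
      omega
  rw [hT] at hx₀ hy₀
  refine false_of_block hΩ hG P hN.ge hp7 hp4 (α₀ := a) (b₀ := b) (x₀ := x₀) (y₀ := y₀) (↑B : Set α) ?_ hbB hxB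
    hx₀.2.symm ?_ ?_ hy₀.1
  · intro g ga x hx hgx y hy
    simp only [Finset.mem_coe] at hx hgx hy ⊢
    by_cases hxy' : y = x
    · rwa [hxy']
    have h : g • y ∈ out (g • x) := (hequiv g ga x y).2 (by rw [hclique x hx]; exact Finset.mem_erase.2 ⟨hxy', hy⟩)
    rw [hclique _ hgx] at h
    exact (Finset.mem_erase.1 h).2
  · simp only [Finset.mem_coe, hB]
    rintro (h | h)
    · exact hab h
    · exact ((hT a).1 (horbT x₀ ((hT x₀).2 hx₀) h)).1 rfl
  · simp only [Finset.mem_coe, hB]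
    rintro (h | h)
    · exact hy₀.2 h
    · exact hxy h

theorem eq_top_false (hpc : Fintype.card α = p) (G : Subgroup (Equiv.Perm α)) (P : Sylow p G)
    (hN : 2 * Nat.card (Subgroup.normalizer ((P : Subgroup G) : Set G)) = p * (p - 1)) (htop : G = ⊤) : False := by
  subst htop
  have hcard : Nat.card (P : Subgroup (⊤ : Subgroup (Equiv.Perm α))) = p := by
    rw [Sylow.card_eq_multiplicity, Subgroup.card_top, Nat.card_eq_fintype_card, Fintype.card_perm, hpc]
    have h : p.factorial.factorization p = 1 := by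
      obtain ⟨n, hn⟩ : ∃ n, p = n + 1 := ⟨p - 1, by have := hp.out.pos; omega⟩
      nth_rewrite 1 [hn]
      rw [Nat.factorial_succ, Nat.factorization_mul (by omega) (Nat.factorial_ne_zero n), Finsupp.coe_add,
        Pi.add_apply, ← hn, hp.out.factorization_self,
        Nat.factorization_eq_zero_of_not_dvd (fun h => by rw [hp.out.dvd_factorial] at h; omega), add_zero]
    rw [h, pow_one]
  have h := CfsgLib.Perm.Groups.card_normalizer_of_card_prime (p := p)
    (by rw [hpc]; have := hp.out.pos; omega)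
    ((P : Subgroup (⊤ : Subgroup (Equiv.Perm α))).map Subgroup.topEquiv.toMonoidHom)
    (by rw [Subgroup.card_map_of_injective Subgroup.topEquiv.injective, hcard])
  rw [← Subgroup.map_equiv_normalizer_eq, Subgroup.card_map_of_injective Subgroup.topEquiv.injective, hpc,
    Nat.sub_self, Nat.factorial_zero, one_mul] at h
  rw [h] at hN
  have : 0 < p * (p - 1) := Nat.mul_pos hp.out.pos (by have := hp.out.two_le; omega)
  omega

/-- Quintuple transitivity when `p - 2` is prime. -/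
theorem twin_five_transitive (hpc : Fintype.card α = p) (G : Subgroup (Equiv.Perm α)) [IsPretransitive G α]
    (hG : ¬ Group.IsSolvable G) (P : Sylow p G)
    (hN : 2 * Nat.card (Subgroup.normalizer ((P : Subgroup G) : Set G)) = p * (p - 1))
    {q : ℕ} (hq : q.Prime) (hq5 : 5 < q) (hpq : p = q + 2) : IsMultiplyPretransitive G α 5 := by
  classical
  have hΩ : Nat.card α = p := by rw [Nat.card_eq_fintype_card, hpc]
  have h3 := twin_three_transitive hpc G hG P hN hq hpq (by omega)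
  have h2 := two_transitive_of_insoluble hΩ hG
  obtain ⟨a, b, hab⟩ := Fintype.exists_pair_of_one_lt_card (α := α) (hpc ▸ hp.out.one_lt)
  haveI := Fact.mk hq
  let Mg : Subgroup G :=
    { carrier := {g | (g • a = a ∧ g • b = b) ∨ (g • a = b ∧ g • b = a)}
      one_mem' := Or.inl ⟨one_smul _ _, one_smul _ _⟩
      mul_mem' := by
        rintro g k (⟨g1, g2⟩ | ⟨g1, g2⟩) (⟨k1, k2⟩ | ⟨k1, k2⟩)
        · exact Or.inl ⟨by rw [mul_smul, k1, g1], by rw [mul_smul, k2, g2]⟩
        · exact Or.inr ⟨by rw [mul_smul, k1, g2], by rw [mul_smul, k2, g1]⟩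
        · exact Or.inr ⟨by rw [mul_smul, k1, g1], by rw [mul_smul, k2, g2]⟩
        · exact Or.inl ⟨by rw [mul_smul, k1, g2], by rw [mul_smul, k2, g1]⟩
      inv_mem' := by
        rintro g (⟨g1, g2⟩ | ⟨g1, g2⟩)
        · exact Or.inl ⟨inv_smul_eq_iff.2 g1.symm, inv_smul_eq_iff.2 g2.symm⟩
        · exact Or.inr ⟨inv_smul_eq_iff.2 g2.symm, inv_smul_eq_iff.2 g1.symm⟩ }
  have hMβ : ∀ g : Mg, ∀ x : α, (((g : G) : Equiv.Perm α) x ≠ a ∧ ((g : G) : Equiv.Perm α) x ≠ b) ↔
      (x ≠ a ∧ x ≠ b) := by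
    intro g x
    show ((g : G) • x ≠ a ∧ (g : G) • x ≠ b) ↔ _
    rcases g.2 with ⟨g1, g2⟩ | ⟨g1, g2⟩
    · have e1 : (g : G) • x = a ↔ x = a := ⟨fun h => smul_left_cancel _ (h.trans g1.symm), fun h => h ▸ g1⟩
      have e2 : (g : G) • x = b ↔ x = b := ⟨fun h => smul_left_cancel _ (h.trans g2.symm), fun h => h ▸ g2⟩
      rw [Ne, Ne, e1, e2]
    · have e1 : (g : G) • x = a ↔ x = b := ⟨fun h => smul_left_cancel _ (h.trans g2.symm), fun h => h ▸ g2⟩
      have e2 : (g : G) • x = b ↔ x = a := ⟨fun h => smul_left_cancel _ (h.trans g1.symm), fun h => h ▸ g1⟩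
      rw [Ne, Ne, e1, e2, and_comm]
  let ψ : Mg →* Equiv.Perm {x : α // x ≠ a ∧ x ≠ b} :=
    { toFun := fun g => ((g : G) : Equiv.Perm α).subtypePerm (hMβ g)
      map_one' := Equiv.ext fun x => rfl
      map_mul' := fun g k => Equiv.ext fun x => rfl }
  have hψ : ∀ (g : Mg) x, (ψ g x : α) = (g : G) • (x : α) := fun g x => rfl
  have hψinj : Function.Injective ψ := by
    rw [injective_iff_map_eq_one]
    intro g hg
    have hfix : ∀ x, x ≠ a → x ≠ b → (g : G) • x = x := fun x xa xb => by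
      rw [← hψ g ⟨x, xa, xb⟩, hg]; rfl
    rcases g.2 with ⟨g1, g2⟩ | ⟨g1, g2⟩
    · refine Subtype.ext (Subtype.ext (Equiv.ext fun x => ?_))
      show (g : G) • x = x
      rcases eq_or_ne x a with rfl | xa
      · exact g1
      rcases eq_or_ne x b with rfl | xb
      · exact g2
      exact hfix x xa xb
    · exfalso
      refine eq_top_false hpc G P hN (Equiv.Perm.subgroup_eq_top_of_isPreprimitive_of_isSwap_mem
        (isPreprimitive_of_is_two_pretransitive h2) (Equiv.swap a b) ⟨a, b, hab, rfl⟩ ?_)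
      rw [show Equiv.swap a b = ((g : G) : Equiv.Perm α) from ?_]
      · exact (g : G).2
      refine Equiv.ext fun x => ?_
      show Equiv.swap a b x = (g : G) • x
      rcases eq_or_ne x a with rfl | xa
      · rw [Equiv.swap_apply_left, g1]
      rcases eq_or_ne x b with rfl | xb
      · rw [Equiv.swap_apply_right, g2]
      rw [Equiv.swap_apply_of_ne_of_ne xa xb, hfix x xa xb]
  have hβc : Fintype.card {x : α // x ≠ a ∧ x ≠ b} = q := by
    rw [Fintype.card_subtype, show (Finset.univ.filter fun z : α => z ≠ a ∧ z ≠ b) = ({a, b} : Finset α)ᶜ by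
      ext; simp [not_or], Finset.card_compl, Finset.card_pair hab, hpc, hpq, Nat.add_sub_cancel]
  obtain ⟨M, hMd⟩ : ∃ M, M = ψ.range := ⟨_, rfl⟩
  -- elements fixing both points
  obtain ⟨H, hHd⟩ : ∃ H : Subgroup Mg, H = ((stabilizer G a ⊓ stabilizer G b).subgroupOf Mg) := ⟨_, rfl⟩
  have hH : ∀ g : Mg, g ∈ H ↔ (g : G) • a = a ∧ (g : G) • b = b := fun g => by
    simp [hHd, Subgroup.mem_subgroupOf]
  obtain ⟨N, hNd⟩ : ∃ N : Subgroup M, N = (H.map ψ).subgroupOf M := ⟨_, rfl⟩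
  have hex3 : ∀ {x y z u v w : α}, x ≠ y → x ≠ z → y ≠ z → u ≠ v → u ≠ w → v ≠ w →
      ∃ g : G, g • x = u ∧ g • y = v ∧ g • z = w := Wagner.exists_three h3
  haveI hMtr : IsPretransitive M {x : α // x ≠ a ∧ x ≠ b} := ⟨fun x y => by
    obtain ⟨g, g1, g2, g3⟩ := hex3 hab x.2.1.symm x.2.2.symm hab y.2.1.symm y.2.2.symm
    exact ⟨⟨ψ ⟨g, Or.inl ⟨g1, g2⟩⟩, hMd ▸ ⟨_, rfl⟩⟩, Subtype.ext g3⟩⟩
  obtain ⟨NP, hNPd⟩ : ∃ NP : Subgroup (Equiv.Perm {x : α // x ≠ a ∧ x ≠ b}), NP = H.map ψ := ⟨_, rfl⟩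
  haveI : IsPretransitive NP {x : α // x ≠ a ∧ x ≠ b} := ⟨fun x y => by
    obtain ⟨g, g1, g2, g3⟩ := hex3 hab x.2.1.symm x.2.2.symm hab y.2.1.symm y.2.2.symm
    exact ⟨⟨ψ ⟨g, Or.inl ⟨g1, g2⟩⟩, hNPd ▸ ⟨_, (hH _).2 ⟨g1, g2⟩, rfl⟩⟩, Subtype.ext g3⟩⟩
  have hqNP : q ∣ Nat.card NP := by
    obtain ⟨x₁⟩ : Nonempty {x : α // x ≠ a ∧ x ≠ b} := Fintype.card_pos_iff.1 (hβc ▸ hq.pos)
    have h := (stabilizer NP x₁).index_dvd_card
    rwa [index_stabilizer_of_transitive, Nat.card_eq_fintype_card, hβc] at h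
  have hNPins : ¬ Group.IsSolvable NP := by
    intro hsol
    obtain ⟨e, he⟩ := hqNP
    have hdvd := card_dvd_of_solvable hβc NP hsol
    rw [he] at hdvd
    have he' : e ∣ q - 1 := Nat.dvd_of_mul_dvd_mul_left hq.pos hdvd
    -- the order of the group
    have hstab : Nat.card (stabilizer G a ⊓ stabilizer G b : Subgroup G) = q * e := by
      rw [← he, hNPd, Subgroup.card_map_of_injective hψinj, hHd]
      exact (Nat.card_congr (Subgroup.subgroupOfEquivOfLe fun g hg => Or.inl hg).toEquiv).symm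
    have hidx : (stabilizer G a ⊓ stabilizer G b).index = p * (p - 1) := by
      haveI : IsMultiplyPretransitive G α 2 := h2
      have h := IsMultiplyPretransitive.index_of_fixingSubgroup_mul (G := G) h2 (s := {a, b}) (Set.ncard_pair hab)
      rw [show fixingSubgroup G ({a, b} : Set α) = stabilizer G a ⊓ stabilizer G b by
        ext g; simp [mem_fixingSubgroup_iff], hΩ] at h
      obtain ⟨n, rfl⟩ : ∃ n, p = n + 2 := ⟨p - 2, by omega⟩
      rw [Nat.add_sub_cancel, Nat.factorial_succ, Nat.factorial_succ, ← mul_assoc] at h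
      exact Nat.eq_of_mul_eq_mul_right (Nat.factorial_pos _) h
    have hcardG : Nat.card G = p * (p - 1) * (q * e) := by
      rw [← hstab, ← hidx, mul_comm, Subgroup.card_mul_index]
    have hNn := Subgroup.card_mul_index (Subgroup.normalizer ((P : Subgroup G) : Set G))
    rw [show (Subgroup.normalizer ((P : Subgroup G) : Set G)).index = Nat.card (Sylow p G) from
      P.card_eq_index_normalizer.symm, hcardG] at hNn
    have hnp : Nat.card (Sylow p G) = 2 * (q * e) := by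
      refine Nat.eq_of_mul_eq_mul_left (Nat.mul_pos hp.out.pos (show 0 < p - 1 by omega)) ?_
      calc p * (p - 1) * Nat.card (Sylow p G)
          = 2 * (Nat.card (Subgroup.normalizer ((P : Subgroup G) : Set G)) * Nat.card (Sylow p G)) := by
            rw [← hN]; ring
        _ = p * (p - 1) * (2 * (q * e)) := by rw [hNn]; ring
    have hmod := card_sylow_modEq_one p G
    rw [hnp] at hmod
    have hp4e : p ∣ 4 * e + 1 := by
      rw [← ZMod.natCast_eq_zero_iff]
      rw [← ZMod.natCast_eq_natCast_iff] at hmod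
      push_cast at hmod ⊢
      have hq2 : (q : ZMod p) = -2 := by
        have : ((q + 2 : ℕ) : ZMod p) = 0 := by rw [← hpq, ZMod.natCast_self]
        push_cast at this
        linear_combination this
      rw [hq2] at hmod
      linear_combination -hmod
    obtain ⟨j, hj⟩ := hp4e
    obtain ⟨i, hi⟩ := he'
    have hle : e ≤ q - 1 := Nat.le_of_dvd (by omega) ⟨i, hi⟩
    have hj4 : j < 4 := by
      refine Nat.lt_of_mul_lt_mul_left (a := p) ?_
      omega
    rcases (show j = 0 ∨ j = 1 ∨ j = 2 ∨ j = 3 by omega) with rfl | rfl | rfl | rfl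
    · omega
    · have : e ∣ 4 * e - 2 := ⟨i, by rw [← hi]; omega⟩
      have : e ∣ 2 := by
        have h' := Nat.dvd_sub (dvd_mul_left e 4) this
        rwa [show 4 * e - (4 * e - 2) = 2 by omega] at h'
      have := Nat.le_of_dvd (by norm_num) this
      have hp9 : p ≠ 9 := fun h => by have := hp.out; rw [h] at this; norm_num at this
      omega
    · omega
    · have h' : e ∣ 4 * e - 8 := ⟨3 * i, by rw [mul_left_comm, ← hi]; omega⟩
      have : e ∣ 8 := by
        have h'' := Nat.dvd_sub (dvd_mul_left e 4) h'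
        rwa [show 4 * e - (4 * e - 8) = 8 by omega] at h''
      have h8 := Nat.le_of_dvd (by norm_num) this
      have hnp9 : ¬ q = 9 := fun h => by rw [h] at hq; norm_num at hq
      interval_cases e <;> omega
  have hNPM : NP ≤ M := by rw [hNPd, hMd]; exact Subgroup.map_le_range ψ H
  haveI hNnorm : N.Normal := by
    refine ⟨fun n hn m => ?_⟩
    obtain ⟨m, hm⟩ := m
    obtain ⟨n, hn'⟩ := n
    simp only [hNd, Subgroup.mem_subgroupOf, Subgroup.coe_mul, InvMemClass.coe_inv] at hn ⊢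
    obtain ⟨h, hh, rfl⟩ := hn
    obtain ⟨k, rfl⟩ := hMd ▸ hm
    refine ⟨k * h * k⁻¹, (hH _).2 ?_, by rw [map_mul, map_mul, map_inv]⟩
    obtain ⟨h1, h2'⟩ := (hH h).1 hh
    simp only [Subgroup.coe_mul, InvMemClass.coe_inv]
    rcases k.2 with ⟨k1, k2⟩ | ⟨k1, k2⟩
    · exact ⟨by rw [mul_smul, mul_smul, inv_smul_eq_iff.2 k1.symm, h1, k1],
        by rw [mul_smul, mul_smul, inv_smul_eq_iff.2 k2.symm, h2', k2]⟩
    · exact ⟨by rw [mul_smul, mul_smul, inv_smul_eq_iff.2 k2.symm, h2', k2],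
        by rw [mul_smul, mul_smul, inv_smul_eq_iff.2 k1.symm, h1, k1]⟩
  have hMins : ¬ Group.IsSolvable M := fun h => hNPins
    (haveI := h; solvable_of_solvable_injective (f := Subgroup.inclusion hNPM) (Subgroup.inclusion_injective hNPM))
  obtain ⟨t, t1, t2⟩ := is_two_pretransitive_iff.1 h2 hab hab.symm
  obtain ⟨τ, hτ⟩ : ∃ τ : M, (τ : Equiv.Perm {x : α // x ≠ a ∧ x ≠ b}) = ψ ⟨t, Or.inr ⟨t1, t2⟩⟩ :=
    ⟨⟨_, hMd ▸ ⟨_, rfl⟩⟩, rfl⟩
  have hτN : τ ∉ N := by
    rw [hNd, Subgroup.mem_subgroupOf, hτ]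
    rintro ⟨h, hh, e'⟩
    rw [hψinj e'] at hh
    exact hab ((((hH _).1 hh).1).symm.trans t1)
  have hmemN : ∀ (k : Mg) (hk : ψ k ∈ M), (⟨ψ k, hk⟩ : M) ∈ N ↔ k ∈ H := fun k hk => by
    rw [hNd, Subgroup.mem_subgroupOf]
    exact ⟨fun ⟨h, hh, e'⟩ => hψinj e' ▸ hh, fun h => ⟨k, h, rfl⟩⟩
  have hidx2 : N.index = 2 := by
    rw [Subgroup.index_eq_two_iff]
    refine ⟨τ, fun m => ?_⟩
    obtain ⟨m, hm⟩ := m
    obtain ⟨k, rfl⟩ : ∃ k, ψ k = m := by rw [hMd] at hm; exact hm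
    have hprod : (⟨ψ k, hm⟩ : M) * τ = ⟨ψ (k * ⟨t, Or.inr ⟨t1, t2⟩⟩), hMd ▸ ⟨_, rfl⟩⟩ := Subtype.ext (by
      rw [Subgroup.coe_mul, hτ, ← map_mul])
    rw [hprod, hmemN, hmemN, hH, hH, Subgroup.coe_mul, mul_smul, mul_smul]
    show Xor ((k : G) • t • a = a ∧ (k : G) • t • b = b) _
    rw [t1, t2]
    rcases k.2 with ⟨k1, k2⟩ | ⟨k1, k2⟩
    · refine Or.inr ⟨⟨k1, k2⟩, fun h => hab ?_⟩
      exact h.1.symm.trans k2
    · refine Or.inl ⟨⟨k2, k1⟩, fun h => hab ?_⟩
      exact h.1.symm.trans k1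
  have hMeven : ∀ Q : Sylow q M, Even (Nat.card (Subgroup.normalizer ((Q : Subgroup M) : Set M))) := by
    intro Q
    have hQN : (Q : Subgroup M) ≤ N := by
      intro x hx
      rw [← QuotientGroup.eq_one_iff, ← orderOf_eq_one_iff]
      refine Nat.eq_one_of_dvd_coprimes (a := orderOf (⟨x, hx⟩ : (Q : Subgroup M))) (b := 2) ?_ ?_ ?_
      · obtain ⟨n, hn⟩ := IsPGroup.iff_orderOf.1 Q.2 ⟨x, hx⟩
        rw [hn]
        exact Nat.Coprime.pow_left _ ((Nat.coprime_primes hq Nat.prime_two).2 (by omega))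
      · rw [Subgroup.orderOf_mk]
        exact orderOf_map_dvd (QuotientGroup.mk' N) x
      · rw [← hidx2, Subgroup.index_eq_card]
        exact orderOf_dvd_natCard _
    have hsup := Sylow.normalizer_sup_eq_top' Q hQN
    have hnot : ¬ Subgroup.normalizer ((Q : Subgroup M) : Set M) ≤ N := fun h => by
      have : (⊤ : Subgroup M) ≤ N := hsup ▸ sup_le h le_rfl
      exact hτN (this (Subgroup.mem_top τ))
    obtain ⟨n, hn, hnN⟩ := Set.not_subset.1 hnot
    rw [even_iff_two_dvd]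
    have h1 : orderOf (QuotientGroup.mk' N n) = 2 := by
      have hd : orderOf (QuotientGroup.mk' N n) ∣ 2 := by
        rw [← hidx2, Subgroup.index_eq_card]
        exact orderOf_dvd_natCard _
      rcases (Nat.dvd_prime Nat.prime_two).1 hd with h | h
      · exact absurd ((QuotientGroup.eq_one_iff n).1 (orderOf_eq_one_iff.1 h)) hnN
      · exact h
    rw [← h1]
    refine (orderOf_map_dvd (QuotientGroup.mk' N) n).trans ?_
    have h2' := orderOf_dvd_natCard (⟨n, hn⟩ : Subgroup.normalizer ((Q : Subgroup M) : Set M))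
    rwa [Subgroup.orderOf_mk] at h2'
  obtain ⟨Q⟩ : Nonempty (Sylow q M) := inferInstance
  have hM3 := prime_three_transitive hβc M hMins Q (hMeven Q)
  have hNne : N ≠ ⊥ := by
    intro h
    rw [hNd, Subgroup.subgroupOf_eq_bot, ← hNPd, disjoint_iff, inf_eq_left.2 hNPM] at h
    apply hNPins
    rw [h]
    infer_instance
  have hN3 := Wagner.three_transitive (by rw [hβc]; exact hq.eq_two_or_odd'.resolve_left (by omega))
    (by rw [hβc]; omega) hM3 N hNne
  -- five points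
  have key : ∀ (x : Fin 3 ↪ {x : α // x ≠ a ∧ x ≠ b}) (u : Fin 5 ↪ α), ∃ g : G, g • a = u 0 ∧ g • b = u 1 ∧
      g • (x 0 : α) = u 2 ∧ g • (x 1 : α) = u 3 ∧ g • (x 2 : α) = u 4 := by
    intro x u
    obtain ⟨g₀, g1, g2⟩ := is_two_pretransitive_iff.1 h2 hab (u.injective.ne (show (0 : Fin 5) ≠ 1 by decide))
    have hne : ∀ i : Fin 5, i ≠ 0 → i ≠ 1 → g₀⁻¹ • u i ≠ a ∧ g₀⁻¹ • u i ≠ b := fun i h0 h1 =>
      ⟨fun h => h0 (u.injective (by rw [← g1, ← h, smul_inv_smul])),
        fun h => h1 (u.injective (by rw [← g2, ← h, smul_inv_smul]))⟩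
    have hne' : ∀ i : Fin 3, (2 + i.val : ℕ) < 5 := fun i => by omega
    let y : Fin 3 ↪ {x : α // x ≠ a ∧ x ≠ b} :=
      ⟨fun i => ⟨g₀⁻¹ • u ⟨2 + i.val, hne' i⟩, hne _ (fun h => by have h' := congrArg Fin.val h; simp only [Fin.val_zero] at h'; omega)
          (fun h => by have h' := congrArg Fin.val h; simp only [Fin.val_one] at h'; omega)⟩,
        fun i j h => by
          have := u.injective (smul_left_cancel _ (congrArg Subtype.val h))
          have h' := congrArg Fin.val this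
          simp only at h'
          exact Fin.ext (by omega)⟩
    obtain ⟨⟨⟨m, hm⟩, hmN⟩, hmx⟩ := hN3.exists_smul_eq x y
    rw [hNd, Subgroup.mem_subgroupOf] at hmN
    obtain ⟨k, hk, hkm⟩ := hmN
    obtain ⟨k1, k2⟩ := (hH k).1 hk
    have hi : ∀ i : Fin 3, (k : G) • (x i : α) = g₀⁻¹ • u ⟨2 + i.val, hne' i⟩ := fun i => by
      rw [← hψ k (x i), hkm]
      exact congrArg Subtype.val (DFunLike.congr_fun hmx i)
    exact ⟨g₀ * k, by rw [mul_smul, k1, g1], by rw [mul_smul, k2, g2],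
      by rw [mul_smul, hi, smul_inv_smul]; rfl, by rw [mul_smul, hi, smul_inv_smul]; rfl,
      by rw [mul_smul, hi, smul_inv_smul]; rfl⟩
  obtain ⟨x⟩ : Nonempty (Fin 3 ↪ {x : α // x ≠ a ∧ x ≠ b}) :=
    Function.Embedding.nonempty_of_card_le (by rw [hβc, Fintype.card_fin]; omega)
  refine ⟨fun u v => ?_⟩
  obtain ⟨g, g0, g1, g2, g3, g4⟩ := key x u
  obtain ⟨k, k0, k1, k2, k3, k4⟩ := key x v
  refine ⟨k * g⁻¹, Function.Embedding.ext fun i => ?_⟩
  show (k * g⁻¹) • u i = v i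
  fin_cases i
  · show (k * g⁻¹) • u 0 = v 0
    rw [← g0, mul_smul, inv_smul_smul, k0]
  · show (k * g⁻¹) • u 1 = v 1
    rw [← g1, mul_smul, inv_smul_smul, k1]
  · show (k * g⁻¹) • u 2 = v 2
    rw [← g2, mul_smul, inv_smul_smul, k2]
  · show (k * g⁻¹) • u 3 = v 3
    rw [← g3, mul_smul, inv_smul_smul, k3]
  · show (k * g⁻¹) • u 4 = v 4
    rw [← g4, mul_smul, inv_smul_smul, k4]

end CfsgLib.Perm.Heart
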