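import Cfsg.Agent.Lib.Perm.Groups.PrimeTwin

/-!
# Prime degree `p = q + 2`, abstract actions
-/

set_option autoImplicit false
set_option linter.unusedSectionVars false
set_option linter.style.haveILetI false

namespace CfsgLib.Perm.Heart

open MulAction

universe u v

variable {G : Type u} {Ω : Type v} [Group G] [Finite G] [MulAction G Ω] [FaithfulSMul G Ω]
  {p : ℕ} [hp : Fact p.Prime] [IsPretransitive G Ω]

/-- Transport of the hypotheses to the permutation group induced. -/
theorem range_hypotheses (hins : ¬ Group.IsSolvable G) (P : Sylow p G)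
    (hN : 2 * Nat.card (Subgroup.normalizer ((P : Subgroup G) : Set G)) = p * (p - 1)) :
    IsPretransitive (MulAction.toPermHom G Ω).range Ω ∧ ¬ Group.IsSolvable (MulAction.toPermHom G Ω).range ∧
      ∃ P' : Sylow p (MulAction.toPermHom G Ω).range,
        2 * Nat.card (Subgroup.normalizer ((P' : Subgroup (MulAction.toPermHom G Ω).range) :
          Set (MulAction.toPermHom G Ω).range)) = p * (p - 1) := by
  have hφ : Function.Injective (MulAction.toPermHom G Ω) := MulAction.toPerm_injective
  obtain ⟨e, he⟩ : ∃ e : G ≃* (MulAction.toPermHom G Ω).range, e = MonoidHom.ofInjective hφ := ⟨_, rfl⟩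
  refine ⟨⟨fun x y => ?_⟩, fun h => hins (solvable_of_solvable_injective
    (f := e.toMonoidHom) e.injective),
    P.mapSurjective (f := e.toMonoidHom) e.surjective, ?_⟩
  · obtain ⟨g, hg⟩ := exists_smul_eq G x y
    exact ⟨⟨_, g, rfl⟩, hg⟩
  · rw [show ((P.mapSurjective (f := e.toMonoidHom)
        e.surjective : Sylow p _) : Subgroup (MulAction.toPermHom G Ω).range) =
        (P : Subgroup G).map e.toMonoidHom from rfl,
      ← Subgroup.map_equiv_normalizer_eq, Subgroup.card_map_of_injective e.injective, hN]

theorem twin_five_transitive' [Finite Ω] (hΩ : Nat.card Ω = p) (hins : ¬ Group.IsSolvable G) (P : Sylow p G)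
    (hN : 2 * Nat.card (Subgroup.normalizer ((P : Subgroup G) : Set G)) = p * (p - 1))
    {q : ℕ} (hq : q.Prime) (hq5 : 5 < q) (hpq : p = q + 2) : IsMultiplyPretransitive G Ω 5 := by
  classical
  have := Fintype.ofFinite Ω
  obtain ⟨htr, hins', P', hN'⟩ := range_hypotheses (Ω := Ω) hins P hN
  haveI := htr
  have h5 := twin_five_transitive (by rw [← Nat.card_eq_fintype_card, hΩ]) (MulAction.toPermHom G Ω).range hins' P'
    hN' hq hq5 hpq
  refine ⟨fun u v => ?_⟩
  obtain ⟨⟨_, g, rfl⟩, hg⟩ := h5.exists_smul_eq u v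
  refine ⟨g, Function.Embedding.ext fun i => ?_⟩
  exact DFunLike.congr_fun hg i

end CfsgLib.Perm.Heart
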