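import Cfsg.Agent.Lib.Perm.Groups.PrimeTwinAction
import Cfsg.Agent.Lib.PGroup.JordanPrime

/-!
# Prime degree `p = 2 r + 3` or `p = 3 r + 4`: alternating groups
-/

set_option autoImplicit false
set_option linter.unusedSectionVars false
set_option linter.style.haveILetI false

namespace CfsgLib.Perm.TwinAlt

open MulAction

universe u

variable {α : Type u} [Fintype α] [DecidableEq α] {G : Subgroup (Equiv.Perm α)}

/-- Double commutators of permutations of at most three objects are trivial. -/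
theorem double_commutator_eq_one {β : Type*} [Fintype β] [DecidableEq β] (hβ : Fintype.card β ≤ 3)
    (a b c d : Equiv.Perm β) : (a * b * a⁻¹ * b⁻¹) * (c * d * c⁻¹ * d⁻¹) * (a * b * a⁻¹ * b⁻¹)⁻¹ *
      (c * d * c⁻¹ * d⁻¹)⁻¹ = 1 := by
  rcases le_or_gt (Fintype.card β) 1 with h1 | h1
  · haveI := Fintype.card_le_one_iff_subsingleton.1 h1
    exact Subsingleton.elim _ _
  haveI := Fintype.one_lt_card_iff_nontrivial.1 h1
  have hmem : ∀ x y : Equiv.Perm β, x * y * x⁻¹ * y⁻¹ ∈ alternatingGroup β := fun x y => by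
    rw [Equiv.Perm.mem_alternatingGroup, map_mul, map_mul, map_mul, map_inv, map_inv, mul_comm (Equiv.Perm.sign x),
      mul_inv_cancel_right, mul_inv_cancel]
  obtain ⟨s, hs⟩ : ∃ s : alternatingGroup β, (s : Equiv.Perm β) = a * b * a⁻¹ * b⁻¹ := ⟨⟨_, hmem a b⟩, rfl⟩
  obtain ⟨t, ht⟩ : ∃ t : alternatingGroup β, (t : Equiv.Perm β) = c * d * c⁻¹ * d⁻¹ := ⟨⟨_, hmem c d⟩, rfl⟩
  have hcard : Nat.card (alternatingGroup β) = 1 ∨ Nat.card (alternatingGroup β) = 3 := by
    have h := two_mul_nat_card_alternatingGroup (α := β)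
    rw [Nat.card_eq_fintype_card (α := Equiv.Perm β), Fintype.card_perm] at h
    rcases (show Fintype.card β = 2 ∨ Fintype.card β = 3 by omega) with e | e <;> rw [e] at h <;>
      simp [Nat.factorial] at h <;> simp [h] <;> omega
  have hcomm : s * t = t * s := by
    rcases hcard with e | e
    · haveI := (Nat.card_eq_one_iff_unique.1 e).1
      exact Subsingleton.elim _ _
    · haveI : Fact (Nat.Prime 3) := ⟨Nat.prime_three⟩
      haveI : IsCyclic (alternatingGroup β) := isCyclic_of_prime_card e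
      exact IsCyclic.commGroup.mul_comm s t
  have h : (s : Equiv.Perm β) * t = t * s := congrArg Subtype.val hcomm
  rw [hs, ht] at h
  rw [h]
  group

variable {r : ℕ} [hr : Fact r.Prime]

/-- A subgroup of `r`-power order with all orbits outside a set of points of length `r`. -/
structure Data (G : Subgroup (Equiv.Perm α)) (r : ℕ) (F : Finset α) where
  R : Subgroup G
  pgroup : IsPGroup r R
  fix : ∀ x ∈ R, ∀ z ∈ F, x • z = z
  orbit : ∀ z ∉ F, Nat.card (MulAction.orbit R z) = r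
  witt : ∀ g : G, (∀ z ∈ F, g • z ∈ F) →
    ∃ n : G, (∀ z ∈ F, n • z = g • z) ∧ ∀ x, x ∈ R ↔ n * x * n⁻¹ ∈ R

/-- existence of the data from transitivity -/
theorem exists_data {F : Finset α} {i : ℕ} (hi : 0 < i) (hir : i < r)
    (hcard : Fintype.card α = F.card + i * r) (hmt : IsMultiplyPretransitive G α (F.card + 1)) :
    ∃ D : Data G r F, (D.R ≤ fixingSubgroup G (F : Set α)) ∧
      (Nat.card D.R = r → ¬ r ^ 2 ∣ Nat.card (fixingSubgroup G (F : Set α))) := by
  classical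
  obtain ⟨H, hHd⟩ : ∃ H, H = fixingSubgroup G (F : Set α) := ⟨_, rfl⟩
  have hH : ∀ g : G, g ∈ H ↔ ∀ z ∈ F, g • z = z := fun g => by simp [hHd, mem_fixingSubgroup_iff]
  obtain ⟨R₀⟩ : Nonempty (Sylow r H) := inferInstance
  obtain ⟨R, hRd⟩ : ∃ R, R = (R₀ : Subgroup H).map H.subtype := ⟨_, rfl⟩
  have hRH : R ≤ H := hRd ▸ Subgroup.map_subtype_le _
  have hR : IsPGroup r R := hRd ▸ R₀.2.map _
  have horbit : ∀ z ∉ F, Nat.card (MulAction.orbit R z) = r := by
    intro z hz
    obtain ⟨j, hj⟩ := hR.card_orbit z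
    -- the orbit of the fixator
    have htr : ∀ w ∉ F, ∃ h ∈ H, h • z = w := by
      intro w hw
      have hmap : ∀ v ∉ F, ∃ u : Fin (F.card + 1) ↪ α, (∀ k : Fin F.card, u k.castSucc = F.equivFin.symm k) ∧
          u (Fin.last _) = v := by
        intro v hv
        refine ⟨⟨Fin.snoc (fun k => ((F.equivFin.symm k : F) : α)) v, ?_⟩, fun k => ?_, ?_⟩
        · refine Fin.snoc_injective_of_injective (Subtype.val_injective.comp F.equivFin.symm.injective) ?_
          rintro ⟨k, hk⟩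
          exact hv (hk ▸ (F.equivFin.symm k).2)
        · simp
        · simp
      obtain ⟨u, hu, huz⟩ := hmap z hz
      obtain ⟨v, hv, hvw⟩ := hmap w hw
      obtain ⟨g, hg⟩ := hmt.exists_smul_eq u v
      refine ⟨g, (hH g).2 fun y hy => ?_, by rw [← huz, ← hvw, ← hg]; rfl⟩
      obtain ⟨k, hk⟩ := F.equivFin.symm.surjective ⟨y, hy⟩
      have := DFunLike.congr_fun hg k.castSucc
      rw [hv] at this
      change g • u k.castSucc = _ at this
      rwa [hu, hk] at this
    have horbH : MulAction.orbit H z = (↑F : Set α)ᶜ := by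
      ext w
      simp only [Set.mem_compl_iff, Finset.mem_coe]
      constructor
      · rintro ⟨h, rfl⟩ hw
        exact hz (by
          have h' := (hH _).1 h.2 _ hw
          rwa [← show (h : G) • z = z from smul_left_cancel (h : G) h'])
      · intro hw
        obtain ⟨h, hh, e⟩ := htr w hw
        exact ⟨⟨h, hh⟩, e⟩
    have hcH : (stabilizer H z).index = i * r := by
      rw [index_stabilizer, horbH, Set.ncard_compl, Set.ncard_coe_finset, Nat.card_eq_fintype_card,
        hcard, Nat.add_sub_cancel_left]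
    have hsub : MulAction.orbit R z ⊆ (↑F : Set α)ᶜ := by
      rw [← horbH]
      rintro _ ⟨x, rfl⟩
      exact ⟨⟨x, hRH x.2⟩, rfl⟩
    have hle : Nat.card (MulAction.orbit R z) ≤ i * r := by
      rw [Nat.card_coe_set_eq, ← hcH, index_stabilizer, horbH]
      exact Set.ncard_le_ncard hsub (Set.toFinite _)
    rcases j with _ | _ | j
    · exfalso
      rw [pow_zero, Nat.card_eq_one_iff_unique] at hj
      have hfix : (R₀ : Subgroup H) ≤ stabilizer H z := by
        intro x hx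
        haveI := hj.1
        exact congrArg Subtype.val (Subsingleton.elim
          (⟨(x : G) • z, ⟨⟨(x : G), hRd ▸ ⟨x, hx, rfl⟩⟩, rfl⟩⟩ : MulAction.orbit R z)
          ⟨z, MulAction.mem_orbit_self z⟩)
      exact R₀.not_dvd_index ((Dvd.intro_left i hcH.symm).trans (Subgroup.index_dvd_of_le hfix))
    · rw [hj, zero_add, pow_one]
    · exfalso
      have h2 : r ^ 2 ≤ Nat.card (MulAction.orbit R z) :=
        hj ▸ Nat.pow_le_pow_right hr.out.pos (by omega)
      have : i * r < r ^ 2 := by rw [sq]; exact (Nat.mul_lt_mul_right hr.out.pos).2 hir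
      omega
  refine ⟨⟨R, hR, fun x hx => (hH x).1 (hRH hx), horbit, fun g hg => ?_⟩, hHd ▸ hRH, ?_⟩
  · -- the argument of Frattini
    have hgF : ∀ z ∈ F, ∃ y ∈ F, g • y = z := by
      intro z hz
      have himg : F.image (g • ·) = F := Finset.eq_of_subset_of_card_le
        (fun w hw => by obtain ⟨y, hy, rfl⟩ := Finset.mem_image.1 hw; exact hg y hy)
        (le_of_eq (Finset.card_image_of_injective _ (MulAction.injective g)).symm)
      rw [← himg] at hz
      exact Finset.mem_image.1 hz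
    have hconj : R.map (MulAut.conj g).toMonoidHom ≤ H := by
      rintro _ ⟨x, hx, rfl⟩
      refine (hH _).2 fun z hz => ?_
      obtain ⟨y, hy, rfl⟩ := hgF z hz
      show (g * x * g⁻¹) • g • y = g • y
      rw [mul_smul, mul_smul, inv_smul_smul, (hH x).1 (hRH hx) y hy]
    have hRc : Nat.card R = Nat.card (R₀ : Subgroup H) := by
      rw [hRd, Subgroup.card_map_of_injective H.subtype_injective]
    obtain ⟨R₁, hR₁⟩ : ∃ R₁ : Sylow r H, (R₁ : Subgroup H) = (R.map (MulAut.conj g).toMonoidHom).subgroupOf H := by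
      refine ⟨Sylow.ofCard _ ?_, rfl⟩
      show Nat.card ((R.map (MulAut.conj g).toMonoidHom).subgroupOf H) = _
      rw [← R₀.card_eq_multiplicity, ← hRc,
        Nat.card_congr (Subgroup.subgroupOfEquivOfLe hconj).toEquiv]
      exact Subgroup.card_map_of_injective (MulAut.conj g).injective
    obtain ⟨h, hh⟩ := MulAction.exists_smul_eq H R₁ R₀
    have hfwd : ∀ x ∈ R, (h : G) * g * x * ((h : G) * g)⁻¹ ∈ R := by
      intro x hx
      have hmem : (⟨g * x * g⁻¹, hconj ⟨x, hx, rfl⟩⟩ : H) ∈ (R₁ : Subgroup H) := by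
        rw [hR₁, Subgroup.mem_subgroupOf]
        exact ⟨x, hx, rfl⟩
      have : h * ⟨g * x * g⁻¹, hconj ⟨x, hx, rfl⟩⟩ * h⁻¹ ∈ (R₀ : Subgroup H) := by
        rw [← hh, Sylow.coe_subgroup_smul]
        exact ⟨_, hmem, rfl⟩
      rw [hRd]
      refine ⟨_, this, ?_⟩
      simp only [Subgroup.coe_subtype, Subgroup.coe_mul, InvMemClass.coe_inv]
      group
    refine ⟨(h : G) * g, fun z hz => by rw [mul_smul]; exact (hH _).1 h.2 _ (hg z hz), fun x => ⟨hfwd x, fun hx => ?_⟩⟩
    have himg : R.map (MulAut.conj ((h : G) * g)).toMonoidHom = R := by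
      refine Subgroup.eq_of_le_of_card_ge ?_ (le_of_eq (Subgroup.card_map_of_injective
        (MulAut.conj ((h : G) * g)).injective).symm)
      rintro _ ⟨y, hy, rfl⟩
      exact hfwd y hy
    rw [← himg] at hx
    obtain ⟨y, hy, e⟩ := hx
    rwa [show x = y from (MulAut.conj ((h : G) * g)).injective e.symm]
  · intro hc hdvd
    have hc' : Nat.card R = r := hc
    rw [← hHd, Nat.Prime.pow_dvd_iff_le_factorization hr.out Nat.card_pos.ne'] at hdvd
    have h1 : r ^ (Nat.card H).factorization r = r := by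
      rw [← R₀.card_eq_multiplicity]
      conv_rhs => rw [← hc', hRd, Subgroup.card_map_of_injective H.subtype_injective]
    have := Nat.pow_right_injective hr.out.two_le (h1.trans (pow_one r).symm)
    omega

variable {F : Finset α} (D : Data G r F)

namespace Data

theorem smul_notMem {x : G} (hx : x ∈ D.R) {z : α} (hz : z ∉ F) : x • z ∉ F := fun h =>
  hz (by
    have h' := D.fix x⁻¹ (inv_mem hx) _ h
    rw [inv_smul_smul] at h'
    rwa [h'])

/-- an element fixing a point fixes its orbit -/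
theorem fix_orbit {z : α} (hz : z ∉ F) {x : G} (hx : x ∈ D.R) (hxz : x • z = z) {y : G} (hy : y ∈ D.R) :
    x • y • z = y • z := by
  haveI hn : (stabilizer D.R z).Normal := by
    apply Subgroup.normal_of_index_eq_minFac_card
    rw [index_stabilizer, ← Nat.card_coe_set_eq, D.orbit z hz]
    obtain ⟨k, hk⟩ := IsPGroup.iff_card.1 D.pgroup
    rcases k with _ | k
    · exfalso
      have h := (stabilizer D.R z).index_dvd_card
      rw [index_stabilizer, ← Nat.card_coe_set_eq, D.orbit z hz, hk, pow_zero] at h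
      exact hr.out.one_lt.ne' (Nat.dvd_one.1 h)
    · rw [hk, Nat.pow_minFac (Nat.succ_ne_zero k), hr.out.minFac_eq]
  have := hn.conj_mem ⟨x, hx⟩ hxz (⟨y, hy⟩ : D.R)⁻¹
  rw [inv_inv, mem_stabilizer_iff, mul_smul, mul_smul, inv_smul_eq_iff] at this
  exact this

/-- powers of an element outside the stabiliser cover the orbit -/
theorem exists_pow {z : α} (hz : z ∉ F) {w : G} (hw : w ∈ D.R) (hwz : w • z ≠ z) {x : G} (hx : x ∈ D.R) :
    ∃ a : ℕ, x • z = w ^ a • z := by
  haveI hn : (stabilizer D.R z).Normal := by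
    refine ⟨fun s hs y => ?_⟩
    have h := D.fix_orbit hz s.2 hs (inv_mem y.2)
    rw [mem_stabilizer_iff, mul_smul, mul_smul]
    show (y : G) • (s : G) • (y : G)⁻¹ • z = z
    rw [h, smul_inv_smul]
  have hc : Nat.card (D.R ⧸ stabilizer D.R z) = r := by
    rw [← Subgroup.index_eq_card, index_stabilizer, ← Nat.card_coe_set_eq, D.orbit z hz]
  obtain ⟨a, ha⟩ := Submonoid.mem_powers_iff _ _ |>.1 (mem_powers_of_prime_card hc
    (g := ((⟨w, hw⟩ : D.R) : D.R ⧸ stabilizer D.R z)) (g' := ((⟨x, hx⟩ : D.R) : D.R ⧸ stabilizer D.R z))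
    (by rw [Ne, QuotientGroup.eq_one_iff]; exact hwz))
  refine ⟨a, ?_⟩
  rw [← QuotientGroup.mk_pow, QuotientGroup.eq, mem_stabilizer_iff, mul_smul, inv_smul_eq_iff] at ha
  exact ha

/-- `r`-th powers are trivial -/
theorem pow_eq_one {x : G} (hx : x ∈ D.R) : x ^ r = 1 := by
  refine Subtype.ext (Equiv.ext fun z => ?_)
  show x ^ r • z = z
  by_cases hz : z ∈ F
  · exact D.fix _ (pow_mem hx r) z hz
  haveI hn : (stabilizer D.R z).Normal := by
    refine ⟨fun s hs y => ?_⟩
    have h := D.fix_orbit hz s.2 hs (inv_mem y.2)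
    rw [mem_stabilizer_iff, mul_smul, mul_smul]
    show (y : G) • (s : G) • (y : G)⁻¹ • z = z
    rw [h, smul_inv_smul]
  have h1 : ((⟨x, hx⟩ : D.R) : D.R ⧸ stabilizer D.R z) ^ r = 1 := by
    have h := pow_card_eq_one' (x := ((⟨x, hx⟩ : D.R) : D.R ⧸ stabilizer D.R z))
    rwa [← Subgroup.index_eq_card, index_stabilizer, ← Nat.card_coe_set_eq, D.orbit z hz] at h
  rw [← QuotientGroup.mk_pow, QuotientGroup.eq_one_iff] at h1
  exact h1

theorem orbit_symm {z w : α} (h : w ∈ MulAction.orbit D.R z) : MulAction.orbit D.R w = MulAction.orbit D.R z :=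
  MulAction.orbit_eq_iff.2 h

/-- a nontrivial element has at least two orbits moved or is a cycle -/
theorem cycle_of_small {x : G} (hx : x ∈ D.R) (hx1 : x ≠ 1) (hs : (x : Equiv.Perm α).support.card < 2 * r) :
    (x : Equiv.Perm α).IsCycle ∧ (x : Equiv.Perm α).support.card = r := by
  have ho : orderOf (x : Equiv.Perm α) = r :=
    orderOf_eq_prime (congrArg Subtype.val (D.pow_eq_one hx)) fun e => hx1 (Subtype.ext e)
  have hc : (x : Equiv.Perm α).IsCycle :=
    Equiv.Perm.isCycle_of_prime_order (by rw [ho]; exact hr.out) (by rw [ho]; exact hs)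
  exact ⟨hc, by rw [← hc.orderOf, ho]⟩

theorem support_subset {x : G} (hx : x ∈ D.R) : (x : Equiv.Perm α).support ⊆ Fᶜ := fun z hz =>
  Finset.mem_compl.2 fun h => Equiv.Perm.mem_support.1 hz (D.fix x hx z h)

/-- an element fixing orbits has small support -/
theorem support_card_le {x : G} (hx : x ∈ D.R) {i : ℕ} (hcard : Fintype.card α = F.card + i * r) {z : α}
    (hz : z ∉ F) (hxz : x • z = z) : (x : Equiv.Perm α).support.card + r ≤ i * r := by
  classical
  have hsub : (x : Equiv.Perm α).support ⊆ Fᶜ \ (MulAction.orbit D.R z).toFinset := fun y hy => by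
    refine Finset.mem_sdiff.2 ⟨D.support_subset hx hy, fun h => Equiv.Perm.mem_support.1 hy ?_⟩
    obtain ⟨w, rfl⟩ := Set.mem_toFinset.1 h
    exact D.fix_orbit hz hx hxz w.2
  have h1 := Finset.card_le_card hsub
  have h2 : (MulAction.orbit D.R z).toFinset ⊆ Fᶜ := fun y hy => by
    obtain ⟨w, rfl⟩ := Set.mem_toFinset.1 hy
    exact Finset.mem_compl.2 (D.smul_notMem w.2 hz)
  rw [Finset.card_sdiff_of_subset h2, Set.toFinset_card, ← Nat.card_eq_fintype_card, D.orbit z hz,
    Finset.card_compl, hcard, Nat.add_sub_cancel_left] at h1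
  have h3 := Finset.card_le_card h2
  rw [Set.toFinset_card, ← Nat.card_eq_fintype_card, D.orbit z hz, Finset.card_compl, hcard,
    Nat.add_sub_cancel_left] at h3
  omega

end Data

/-- the alternating group from a cycle -/
theorem alt_of_cycle (hG : IsPreprimitive G α) {x : G} (hc : (x : Equiv.Perm α).IsCycle ∧
    (x : Equiv.Perm α).support.card = r) (h3 : r + 3 ≤ Fintype.card α) : alternatingGroup α ≤ G :=
  CfsgLib.PGroup.alternatingGroup_le_of_prime_cycle hG x.2 hc.1 hr.out hc.2 (by rwa [Nat.card_eq_fintype_card])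

/-- degree `2 r + 3` -/
theorem alt_two (hr5 : 5 ≤ r) (hcard : Fintype.card α = 2 * r + 3) (hG : IsPreprimitive G α)
    (h5 : IsMultiplyPretransitive G α 5) : alternatingGroup α ≤ G := by
  classical
  obtain ⟨F, -, hFc⟩ := Finset.exists_subset_card_eq (show 3 ≤ (Finset.univ : Finset α).card by
    rw [Finset.card_univ]; omega)
  have hle : ∀ n, n ≤ 5 → IsMultiplyPretransitive G α n := fun n hn =>
    isMultiplyPretransitive_of_le (n := 5) hn (by rw [Nat.card_eq_fintype_card]; omega)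
  obtain ⟨D, hDH, hDsq⟩ := exists_data (r := r) (G := G) (F := F) (i := 2) (by norm_num) (by omega)
    (by rw [hFc, hcard]; ring) (hle _ (by omega))
  by_cases hcyc : ∃ x ∈ D.R, x ≠ 1 ∧ ∃ z ∉ F, x • z = z
  · obtain ⟨x, hx, hx1, z, hz, hxz⟩ := hcyc
    have := D.support_card_le hx (i := 2) (by rw [hFc, hcard]; ring) hz hxz
    exact alt_of_cycle hG (D.cycle_of_small hx hx1 (by have := hr.out.pos; omega)) (by omega)
  push Not at hcyc
  obtain ⟨z₀, hz₀⟩ : ∃ z₀, z₀ ∉ F := by
    by_contra hno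
    push Not at hno
    have := Finset.card_le_card (fun x _ => hno x : Finset.univ ⊆ F)
    rw [Finset.card_univ] at this
    omega
  have hRr : Nat.card D.R = r := by
    refine Eq.trans ?_ (D.orbit z₀ hz₀)
    refine Nat.card_eq_of_bijective (fun x : D.R => (⟨x • z₀, MulAction.mem_orbit z₀ x⟩ : MulAction.orbit D.R z₀))
      ⟨fun x y h => ?_, fun ⟨_, x, rfl⟩ => ⟨x, rfl⟩⟩
    have h' : (x : G) • z₀ = (y : G) • z₀ := congrArg Subtype.val h
    by_contra hne
    exact hcyc ((y : G)⁻¹ * (x : G)) (mul_mem (inv_mem y.2) x.2)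
      (fun e => hne (Subtype.ext (inv_mul_eq_one.1 e).symm)) z₀ hz₀ (by rw [mul_smul, h', inv_smul_smul])
  haveI : IsCyclic D.R := isCyclic_of_prime_card hRr
  obtain ⟨⟨w, hw⟩, hw1⟩ : ∃ w : D.R, w ≠ 1 := by
    haveI : Nontrivial D.R := Finite.one_lt_card_iff_nontrivial.1 (by rw [hRr]; exact hr.out.one_lt)
    exact exists_ne 1
  have hwne : w ≠ 1 := fun e => hw1 (Subtype.ext e)
  have hsupp : (w : Equiv.Perm α).support = Fᶜ := by
    refine Finset.Subset.antisymm (D.support_subset hw) fun z hz => Equiv.Perm.mem_support.2 ?_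
    exact hcyc w hw hwne z (Finset.mem_compl.1 hz)
  have hord : orderOf (w : Equiv.Perm α) = r :=
    orderOf_eq_prime (congrArg Subtype.val (D.pow_eq_one hw)) fun e => hwne (Subtype.ext e)
  obtain ⟨u, v, s, huv, hus, hvs, hF⟩ := Finset.card_eq_three.1 hFc
  suffices hh : ∃ t ∈ G, t.IsThreeCycle by
    obtain ⟨t, htG, ht⟩ := hh
    exact Equiv.Perm.alternatingGroup_le_of_isPreprimitive_of_isThreeCycle_mem hG ht htG
  refine CfsgLib.PGroup.exists_threeCycle_of_three_fixed (G := G) (p := r) (w : Equiv.Perm α) w.2 hord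
    (2 * r) (Nat.Coprime.mul_left (by norm_num) ((Nat.coprime_primes hr.out Nat.prime_three).2 (by omega)))
    ?_ ?_ u v s (by simp [hsupp, hF]) (by simp [hsupp, hF]) (by simp [hsupp, hF]) huv hus hvs ?_
  · intro c hc y hy
    rw [hsupp, Finset.mem_compl] at hy
    have hcF : ∀ z, z ∉ F → c z ∉ F := fun z hz hcz => by
      have h1 : ((w : Equiv.Perm α)) (c z) = c z := D.fix w hw _ hcz
      rw [← Equiv.Perm.mul_apply, ← hc.eq, Equiv.Perm.mul_apply] at h1
      exact hcyc w hw hwne z hz (c.injective h1)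
    -- `c` maps orbits to orbits
    have horb : ∀ z, z ∉ F → ∀ a : ℕ, c (w ^ a • z) = w ^ a • c z := fun z hz a => by
      show c (((w ^ a : G) : Equiv.Perm α) z) = ((w ^ a : G) : Equiv.Perm α) (c z)
      rw [Subgroup.coe_pow, ← Equiv.Perm.mul_apply, (hc.pow_right a).eq, Equiv.Perm.mul_apply]
    have hback : ∀ z, z ∉ F → ∀ z' ∈ MulAction.orbit D.R z, ∃ a : ℕ, z' = w ^ a • z := by
      rintro z hz _ ⟨⟨x, hx⟩, rfl⟩
      exact D.exists_pow hz hw (hcyc w hw hwne z hz) hx
    have hcc : c (c y) ∈ MulAction.orbit D.R y := by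
      by_contra h2
      by_cases h1 : c y ∈ MulAction.orbit D.R y
      · obtain ⟨a, ha⟩ := hback y hy _ h1
        apply h2
        rw [ha, horb y hy a, ha, ← mul_smul]
        exact ⟨⟨_, mul_mem (pow_mem hw a) (pow_mem hw a)⟩, rfl⟩
      · have h3 : c (c y) ∈ MulAction.orbit D.R (c y) := by
          by_contra h3
          have hsub : (MulAction.orbit D.R y).toFinset ∪ (MulAction.orbit D.R (c y)).toFinset ⊆
              (Fᶜ).erase (c (c y)) := by
            intro z hz
            refine Finset.mem_erase.2 ⟨?_, Finset.mem_compl.2 ?_⟩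
            · rintro rfl
              rcases Finset.mem_union.1 hz with e | e
              · exact h2 (Set.mem_toFinset.1 e)
              · exact h3 (Set.mem_toFinset.1 e)
            · rcases Finset.mem_union.1 hz with e | e <;>
                obtain ⟨x, rfl⟩ := Set.mem_toFinset.1 e
              · exact D.smul_notMem x.2 hy
              · exact D.smul_notMem x.2 (hcF y hy)
          have hdis : Disjoint (MulAction.orbit D.R y).toFinset (MulAction.orbit D.R (c y)).toFinset := by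
            rw [Set.disjoint_toFinset, Set.disjoint_left]
            intro z hz hz'
            exact h1 (by rw [← D.orbit_symm hz, D.orbit_symm hz']; exact MulAction.mem_orbit_self _)
          have hle := Finset.card_le_card hsub
          rw [Finset.card_union_of_disjoint hdis, Set.toFinset_card, Set.toFinset_card, ← Nat.card_eq_fintype_card,
            ← Nat.card_eq_fintype_card, D.orbit y hy, D.orbit _ (hcF y hy),
            Finset.card_erase_of_mem (Finset.mem_compl.2 (hcF _ (hcF y hy))), Finset.card_compl, hFc, hcard] at hle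
          omega
        obtain ⟨a, ha⟩ := hback _ (hcF y hy) _ h3
        rw [← horb y hy a] at ha
        apply h1
        rw [c.injective ha]
        exact ⟨⟨_, pow_mem hw a⟩, rfl⟩
    obtain ⟨a, ha⟩ := hback y hy _ hcc
    have hit : ∀ n : ℕ, (c ^ (2 * n)) y = w ^ (a * n) • y := by
      intro n
      induction n with
      | zero => simp
      | succ n ih =>
        rw [show 2 * (n + 1) = 1 + (1 + 2 * n) by ring, pow_add, pow_add, pow_one, Equiv.Perm.mul_apply,
          Equiv.Perm.mul_apply, ih, horb y hy, horb _ (hcF y hy), ha, ← mul_smul, ← pow_add, mul_add, mul_one]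
    rw [hit r, mul_comm, pow_mul, D.pow_eq_one hw, one_pow, one_smul]
  · rw [show (((w : Equiv.Perm α).support : Set α)ᶜ) = (F : Set α) by rw [hsupp]; simp]
    exact hDsq hRr
  · intro a b ha hb
    rw [hsupp, Finset.mem_compl, not_not] at ha hb
    haveI := hle 3 (by norm_num)
    obtain ⟨g, hg, hgF⟩ := CfsgLib.PGroup.exists_swap_on (G := G) F hFc a b ha hb
    exact ⟨g, hg, fun y hy => hgF y (by rwa [hsupp, Finset.mem_compl, not_not] at hy)⟩

/-- degree `3 r + 4` -/
theorem alt_three (hr5 : 5 ≤ r) (hcard : Fintype.card α = 3 * r + 4) (hG : IsPreprimitive G α)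
    (h5 : IsMultiplyPretransitive G α 5) : alternatingGroup α ≤ G := by
  classical
  have h4 : IsMultiplyPretransitive G α 4 :=
    isMultiplyPretransitive_of_le (n := 5) (by omega) (by rw [Nat.card_eq_fintype_card]; omega)
  obtain ⟨F, -, hFc⟩ := Finset.exists_subset_card_eq (show 4 ≤ (Finset.univ : Finset α).card by
    rw [Finset.card_univ]; omega)
  obtain ⟨D, hDH, -⟩ := exists_data (r := r) (G := G) (F := F) (i := 3) (by norm_num) (by omega)
    (by rw [hFc, hcard]; ring) (by rw [hFc]; exact h5)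
  have hcard' : Fintype.card α = F.card + 3 * r := by rw [hFc, hcard]; ring
  by_cases hcyc : ∃ x ∈ D.R, x ≠ 1 ∧ ∃ z z', z ∉ F ∧ z' ∉ F ∧ z' ∉ MulAction.orbit D.R z ∧ x • z = z ∧ x • z' = z'
  · obtain ⟨x, hx, hx1, z, z', hz, hz', hzz, hxz, hxz'⟩ := hcyc
    have hsub : (x : Equiv.Perm α).support ⊆
        Fᶜ \ ((MulAction.orbit D.R z).toFinset ∪ (MulAction.orbit D.R z').toFinset) := fun y hy => by
      refine Finset.mem_sdiff.2 ⟨D.support_subset hx hy, fun h => Equiv.Perm.mem_support.1 hy ?_⟩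
      rcases Finset.mem_union.1 h with e | e <;> obtain ⟨w, rfl⟩ := Set.mem_toFinset.1 e
      · exact D.fix_orbit hz hx hxz w.2
      · exact D.fix_orbit hz' hx hxz' w.2
    have hdis : Disjoint (MulAction.orbit D.R z).toFinset (MulAction.orbit D.R z').toFinset := by
      rw [Set.disjoint_toFinset, Set.disjoint_left]
      intro y hy hy'
      exact hzz (by rw [← D.orbit_symm hy, D.orbit_symm hy']; exact MulAction.mem_orbit_self _)
    have hin : (MulAction.orbit D.R z).toFinset ∪ (MulAction.orbit D.R z').toFinset ⊆ Fᶜ := fun y hy => by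
      rcases Finset.mem_union.1 hy with e | e <;> obtain ⟨w, rfl⟩ := Set.mem_toFinset.1 e
      · exact Finset.mem_compl.2 (D.smul_notMem w.2 hz)
      · exact Finset.mem_compl.2 (D.smul_notMem w.2 hz')
    have h1 := Finset.card_le_card hsub
    rw [Finset.card_sdiff_of_subset hin, Finset.card_union_of_disjoint hdis, Set.toFinset_card, Set.toFinset_card,
      ← Nat.card_eq_fintype_card, ← Nat.card_eq_fintype_card, D.orbit z hz, D.orbit z' hz', Finset.card_compl,
      hcard', Nat.add_sub_cancel_left] at h1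
    exact alt_of_cycle hG (D.cycle_of_small hx hx1 (by omega)) (by omega)
  push Not at hcyc
  -- normalisers of `R` act on the set of three orbits
  let N : Subgroup G :=
    { carrier := {n | (∀ x, x ∈ D.R ↔ n * x * n⁻¹ ∈ D.R) ∧ ∀ z, n • z ∈ F ↔ z ∈ F}
      one_mem' := ⟨fun x => by simp, fun z => by simp⟩
      mul_mem' := fun {n m} hn hm => ⟨fun x => by
        rw [hm.1 x, hn.1 (m * x * m⁻¹)]
        group, fun z => by rw [mul_smul, hn.2, hm.2]⟩
      inv_mem' := fun {n} hn => ⟨fun x => by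
        rw [hn.1 (n⁻¹ * x * n⁻¹⁻¹)]
        group, fun z => by
        have h := hn.2 (n⁻¹ • z)
        rw [smul_inv_smul] at h
        exact h.symm⟩ }
  have hNorb : ∀ {n : G}, n ∈ N → ∀ z, MulAction.orbit D.R (n • z) = (fun y : α => n • y) '' MulAction.orbit D.R z := by
    intro n hn z
    ext y
    constructor
    · rintro ⟨⟨x, hx⟩, rfl⟩
      refine ⟨(n⁻¹ * x * n) • z, ⟨⟨n⁻¹ * x * n, (hn.1 _).2 ?_⟩, rfl⟩, ?_⟩
      · rwa [show n * (n⁻¹ * x * n) * n⁻¹ = x by group]
      · show n • (n⁻¹ * x * n) • z = x • n • z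
        rw [mul_smul, mul_smul, smul_inv_smul]
    · rintro ⟨_, ⟨⟨x, hx⟩, rfl⟩, rfl⟩
      refine ⟨⟨n * x * n⁻¹, (hn.1 x).1 hx⟩, ?_⟩
      show (n * x * n⁻¹) • n • z = n • x • z
      rw [mul_smul, mul_smul, inv_smul_smul]
  obtain ⟨Orb, hOrb⟩ : ∃ Orb : Finset (Finset α), Orb = (Fᶜ).image fun z => (MulAction.orbit D.R z).toFinset :=
    ⟨_, rfl⟩
  have hmem : ∀ {n : G}, n ∈ N → ∀ O ∈ Orb, O.image (n • ·) ∈ Orb := by
    intro n hn O hO
    rw [hOrb, Finset.mem_image] at hO ⊢
    obtain ⟨z, hz, rfl⟩ := hO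
    refine ⟨n • z, Finset.mem_compl.2 fun h => Finset.mem_compl.1 hz ((hn.2 z).1 h), ?_⟩
    ext y
    simp [hNorb hn z]
  let π : N →* Equiv.Perm Orb :=
    { toFun := fun n =>
        { toFun := fun O => ⟨O.1.image ((n : G) • ·), hmem n.2 O.1 O.2⟩
          invFun := fun O => ⟨O.1.image ((n : G)⁻¹ • ·), hmem (inv_mem n.2) O.1 O.2⟩
          left_inv := fun O => Subtype.ext (by simp [Finset.image_image, Function.comp_def])
          right_inv := fun O => Subtype.ext (by simp [Finset.image_image, Function.comp_def]) }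
      map_one' := Equiv.ext fun O => Subtype.ext (by simp)
      map_mul' := fun n m => Equiv.ext fun O => Subtype.ext (by
        simp [Finset.image_image, Function.comp_def, mul_smul]) }
  have hOrb3 : Fintype.card Orb ≤ 3 := by
    rw [Fintype.card_coe]
    have hpair : (↑Orb : Set (Finset α)).PairwiseDisjoint id := by
      intro A hA B hB hAB
      rw [hOrb, Finset.coe_image] at hA hB
      obtain ⟨x, -, rfl⟩ := hA
      obtain ⟨y, -, rfl⟩ := hB
      rw [Function.onFun, id, id, Set.disjoint_toFinset, Set.disjoint_left]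
      intro z hz hz'
      exact hAB (by simp only [← D.orbit_symm hz, D.orbit_symm hz'])
    have hsum : (Orb.biUnion id).card = Orb.card * r := by
      rw [Finset.card_biUnion hpair, Finset.sum_congr rfl (g := fun _ => r), Finset.sum_const, smul_eq_mul]
      intro A hA
      rw [hOrb, Finset.mem_image] at hA
      obtain ⟨z, hz, rfl⟩ := hA
      rw [id, Set.toFinset_card, ← Nat.card_eq_fintype_card, D.orbit z (Finset.mem_compl.1 hz)]
    have hle : (Orb.biUnion id).card ≤ 3 * r := by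
      refine (Finset.card_le_card (t := Fᶜ) fun y hy => ?_).trans (by rw [Finset.card_compl, hcard']; omega)
      obtain ⟨A, hA, hyA⟩ := Finset.mem_biUnion.1 hy
      rw [hOrb, Finset.mem_image] at hA
      obtain ⟨z, hz, rfl⟩ := hA
      obtain ⟨x, rfl⟩ := Set.mem_toFinset.1 hyA
      exact Finset.mem_compl.2 (D.smul_notMem x.2 (Finset.mem_compl.1 hz))
    rw [hsum] at hle
    exact Nat.le_of_mul_le_mul_right hle hr.out.pos
  -- elements of the kernel act as powers
  have hscal : ∀ k : G, k ∈ N → (∀ z, z ∉ F → k • z ∈ MulAction.orbit D.R z) →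
      ∃ l : ℕ, ∀ x ∈ D.R, k * x * k⁻¹ = x ^ l := by
    intro k hk hkO
    by_cases hRr : Nat.card D.R = r
    · haveI : IsCyclic D.R := isCyclic_of_prime_card hRr
      obtain ⟨g, hg⟩ := IsCyclic.exists_monoid_generator (α := D.R)
      obtain ⟨l, hl⟩ := Submonoid.mem_powers_iff _ _ |>.1 (hg ⟨k * g * k⁻¹, (hk.1 _).1 g.2⟩)
      refine ⟨l, fun x hx => ?_⟩
      obtain ⟨a, ha⟩ := Submonoid.mem_powers_iff _ _ |>.1 (hg ⟨x, hx⟩)
      have ha' : (g : G) ^ a = x := congrArg Subtype.val ha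
      have hl' : (g : G) ^ l = k * g * k⁻¹ := congrArg Subtype.val hl
      rw [← ha', ← conj_pow, ← hl', ← pow_mul, ← pow_mul, mul_comm]
    have hnt : ∀ z, z ∉ F → ∃ w ∈ D.R, w ≠ 1 ∧ w • z = z := by
      intro z hz
      by_contra hno
      push Not at hno
      apply hRr
      refine Eq.trans ?_ (D.orbit z hz)
      refine Nat.card_eq_of_bijective (fun x : D.R => (⟨x • z, MulAction.mem_orbit z x⟩ : MulAction.orbit D.R z))
        ⟨fun x y h => ?_, fun ⟨_, x, rfl⟩ => ⟨x, rfl⟩⟩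
      have h' : (x : G) • z = (y : G) • z := congrArg Subtype.val h
      by_contra hne
      exact hno ((y : G)⁻¹ * (x : G)) (mul_mem (inv_mem y.2) x.2)
        (fun e => hne (Subtype.ext (inv_mul_eq_one.1 e).symm)) (by rw [mul_smul, h', inv_smul_smul])
    -- three orbit representatives
    obtain ⟨z₁, hz₁⟩ : ∃ z, z ∉ F := by
      by_contra hno
      push Not at hno
      have := Finset.card_le_card (fun x _ => hno x : Finset.univ ⊆ F)
      rw [Finset.card_univ] at this
      omega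
    have hO1 : (MulAction.orbit D.R z₁).toFinset ⊆ Fᶜ := fun y hy => by
      obtain ⟨x, rfl⟩ := Set.mem_toFinset.1 hy
      exact Finset.mem_compl.2 (D.smul_notMem x.2 hz₁)
    obtain ⟨z₂, hz₂, h21⟩ : ∃ z, z ∉ F ∧ z ∉ MulAction.orbit D.R z₁ := by
      by_contra hno
      push Not at hno
      have := Finset.card_le_card (s := Fᶜ) (t := (MulAction.orbit D.R z₁).toFinset)
        fun y hy => Set.mem_toFinset.2 (hno y (Finset.mem_compl.1 hy))
      rw [Finset.card_compl, hcard', Set.toFinset_card, ← Nat.card_eq_fintype_card, D.orbit z₁ hz₁] at this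
      omega
    obtain ⟨z₃, hz₃, h31, h32⟩ : ∃ z, z ∉ F ∧ z ∉ MulAction.orbit D.R z₁ ∧ z ∉ MulAction.orbit D.R z₂ := by
      by_contra hno
      push Not at hno
      have := Finset.card_le_card (s := Fᶜ) (t := (MulAction.orbit D.R z₁).toFinset ∪ (MulAction.orbit D.R z₂).toFinset)
        fun y hy => by
          rw [Finset.mem_union, Set.mem_toFinset, Set.mem_toFinset]
          by_cases h : y ∈ MulAction.orbit D.R z₁
          · exact Or.inl h
          · exact Or.inr (hno y (Finset.mem_compl.1 hy) h)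
      have h' := this.trans (Finset.card_union_le _ _)
      rw [Finset.card_compl, hcard', Set.toFinset_card, Set.toFinset_card, ← Nat.card_eq_fintype_card,
        ← Nat.card_eq_fintype_card, D.orbit z₁ hz₁, D.orbit z₂ hz₂] at h'
      omega
    -- two elements with one fixed orbit each
    obtain ⟨w, hw, hw1, hwz⟩ := hnt z₁ hz₁
    obtain ⟨v, hv, hv1, hvz⟩ := hnt z₂ hz₂
    have huniq : ∀ {s : G} {z z' : α}, s ∈ D.R → z ∉ F → z' ∉ F → z' ∉ MulAction.orbit D.R z → s • z = z →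
        s • z' = z' → s = 1 := fun hs hz hz' hne h h' => by
      by_contra hs1
      exact hcyc _ hs hs1 _ _ hz hz' hne h h'
    have hw2 : w • z₂ ≠ z₂ := fun h => hw1 (huniq hw hz₁ hz₂ h21 hwz h)
    have hw3 : w • z₃ ≠ z₃ := fun h => hw1 (huniq hw hz₁ hz₃ h31 hwz h)
    have hv1' : v • z₁ ≠ z₁ := fun h => hv1 (huniq hv hz₁ hz₂ h21 h hvz)
    have hv3 : v • z₃ ≠ z₃ := fun h => hv1 (huniq hv hz₂ hz₃ h32 hvz h)
    have hgen : ∀ {s t : G} {z z' : α}, s ∈ D.R → t ∈ D.R → z ∉ F → z' ∉ F → z' ∉ MulAction.orbit D.R z →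
        s • z = z → s • z' ≠ z' → t • z = z → ∃ a : ℕ, t = s ^ a := by
      intro s t z z' hs ht hz hz' hne hsz hsz' htz
      obtain ⟨a, ha⟩ := D.exists_pow hz' hs hsz' ht
      refine ⟨a, (inv_mul_eq_one.1 (huniq (mul_mem (inv_mem (pow_mem hs a)) ht) hz hz' hne ?_ ?_)).symm⟩
      · rw [mul_smul, htz, inv_smul_eq_iff]
        exact (MulAction.mem_stabilizer_iff.1 (pow_mem (show s ∈ stabilizer G z from hsz) a)).symm
      · rw [mul_smul, ha, inv_smul_smul]
    have hkfix : ∀ {s : G} {z : α}, s ∈ D.R → z ∉ F → s • z = z → (k * s * k⁻¹) • z = z := by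
      intro s z hs hz hsz
      obtain ⟨⟨x, hx⟩, hxz⟩ : k⁻¹ • z ∈ MulAction.orbit D.R z := by
        have h1 := hkO (k⁻¹ • z) fun h => hz (by rw [← (hk.2 (k⁻¹ • z)), smul_inv_smul] at h; exact h)
        rw [smul_inv_smul] at h1
        exact MulAction.mem_orbit_symm.1 h1
      change x • z = k⁻¹ • z at hxz
      rw [mul_smul, mul_smul, ← hxz, D.fix_orbit hz hs hsz hx, hxz, smul_inv_smul]
    obtain ⟨l, hl⟩ := hgen hw ((hk.1 w).1 hw) hz₁ hz₂ h21 hwz hw2 (hkfix hw hz₁ hwz)
    have hv' : ∀ {s : G}, s ∈ D.R → s • z₂ = z₂ → ∃ a : ℕ, s = v ^ a := fun hs hsz =>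
      hgen hv hs hz₂ hz₁ (fun h => h21 (MulAction.mem_orbit_symm.1 h)) hvz hv1' hsz
    obtain ⟨m, hm⟩ := hv' ((hk.1 v).1 hv) (hkfix hv hz₂ hvz)
    have hcomm : Commute w v := by
      show w * v = v * w
      refine mul_inv_eq_one.1 ?_
      refine huniq (mul_mem (mul_mem hw hv) (inv_mem (mul_mem hv hw))) hz₁ hz₂ h21 ?_ ?_
      · have e : (w * v * (v * w)⁻¹) = w * (v * w⁻¹ * v⁻¹) := by group
        rw [e, mul_smul, show (v * w⁻¹ * v⁻¹) • z₁ = z₁ from ?_, hwz]
        rw [mul_smul, mul_smul, D.fix_orbit hz₁ (inv_mem hw) (inv_smul_eq_iff.2 hwz.symm) (inv_mem hv), smul_inv_smul]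
      · have e : (w * v * (v * w)⁻¹) = (w * v * w⁻¹) * v⁻¹ := by group
        rw [e, mul_smul, inv_smul_eq_iff.2 hvz.symm, mul_smul, mul_smul,
          D.fix_orbit hz₂ hv hvz (inv_mem hw), smul_inv_smul]
    -- agreement on the third orbit
    obtain ⟨b, hb⟩ := D.exists_pow hz₃ hw hw3 hv
    have hu : ∃ u, u ∈ D.R ∧ u • z₃ = z₃ ∧ v = w ^ b * u := ⟨(w ^ b)⁻¹ * v, mul_mem (inv_mem (pow_mem hw b)) hv,
      by rw [mul_smul, hb, inv_smul_smul], by group⟩
    obtain ⟨u, hu, huz, hvu⟩ := hu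
    have hku : (k * u * k⁻¹) • z₃ = z₃ := hkfix hu hz₃ huz
    have e3 : v ^ m • z₃ = w ^ (l * b) • z₃ := by
      rw [← hm, hvu, show k * (w ^ b * u) * k⁻¹ = (k * w * k⁻¹) ^ b * (k * u * k⁻¹) by rw [conj_pow]; group,
        mul_smul, hku, hl, ← pow_mul]
    have e3' : v ^ l • z₃ = w ^ (l * b) • z₃ := by
      have hn : ∀ n : ℕ, v ^ n • z₃ = w ^ (n * b) • z₃ := by
        intro n
        induction n with
        | zero => simp
        | succ n ih =>
          rw [pow_succ, mul_smul, hb, ← mul_smul, ((hcomm.symm.pow_left n).pow_right b).eq, mul_smul, ih,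
            ← mul_smul, ← pow_add, add_one_mul, add_comm]
      exact hn l
    have hml : v ^ m = v ^ l := by
      have h1 : ((v ^ l)⁻¹ * v ^ m) • z₃ = z₃ := by rw [mul_smul, e3, ← e3', inv_smul_smul]
      have h2 : ((v ^ l)⁻¹ * v ^ m) • z₂ = z₂ := by
        exact MulAction.mem_stabilizer_iff.1 (mul_mem (inv_mem (pow_mem (show v ∈ stabilizer G z₂ from hvz) l))
          (pow_mem (show v ∈ stabilizer G z₂ from hvz) m))
      exact (inv_mul_eq_one.1 (huniq (mul_mem (inv_mem (pow_mem hv l)) (pow_mem hv m)) hz₂ hz₃ h32 h2 h1)).symm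
    refine ⟨l, fun x hx => ?_⟩
    obtain ⟨a, ha⟩ := D.exists_pow hz₂ hw hw2 hx
    obtain ⟨c, hc⟩ := hv' (mul_mem (inv_mem (pow_mem hw a)) hx) (by rw [mul_smul, ha, inv_smul_smul])
    have hxeq : x = w ^ a * v ^ c := by rw [← hc]; group
    have hc' : Commute (w ^ a) (v ^ c) := (hcomm.pow_left a).pow_right c
    rw [hxeq, show k * (w ^ a * v ^ c) * k⁻¹ = (k * w * k⁻¹) ^ a * (k * v * k⁻¹) ^ c by
      rw [conj_pow, conj_pow]; group, hl, hm, hml, hc'.mul_pow, ← pow_mul, ← pow_mul, ← pow_mul, ← pow_mul,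
      mul_comm l a, mul_comm l c]
  -- elements inducing permutations of `F`
  let v : Fin 4 ↪ α := ((Finset.equivFinOfCardEq hFc).symm.toEmbedding).trans (Function.Embedding.subtype _)
  have hvF : ∀ z, z ∈ F ↔ ∃ i, v i = z := fun z => ⟨fun hz => ⟨Finset.equivFinOfCardEq hFc ⟨z, hz⟩, by simp [v]⟩,
    fun ⟨i, hi⟩ => hi ▸ ((Finset.equivFinOfCardEq hFc).symm i).2⟩
  have hind : ∀ σ : Equiv.Perm (Fin 4), ∃ n : G, n ∈ N ∧ ∀ i, n • v i = v (σ i) := by
    intro σ
    obtain ⟨g, hg⟩ := h4.exists_smul_eq v (σ.toEmbedding.trans v)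
    have hgi : ∀ i, g • v i = v (σ i) := fun i => DFunLike.congr_fun hg i
    obtain ⟨n, hn1, hn2⟩ := D.witt g fun z hz => by
      obtain ⟨i, rfl⟩ := (hvF z).1 hz
      rw [hgi]
      exact (hvF _).2 ⟨_, rfl⟩
    have hni : ∀ i, n • v i = v (σ i) := fun i => by rw [hn1 _ ((hvF _).2 ⟨i, rfl⟩), hgi]
    refine ⟨n, ⟨hn2, fun z => ⟨fun h => ?_, fun h => ?_⟩⟩, hni⟩
    · obtain ⟨i, hi⟩ := (hvF _).1 h
      exact (hvF z).2 ⟨σ⁻¹ i, smul_left_cancel n (by rw [hni, ← hi]; simp)⟩
    · obtain ⟨i, rfl⟩ := (hvF z).1 h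
      rw [hni]
      exact (hvF _).2 ⟨_, rfl⟩
  let I : G → Equiv.Perm (Fin 4) → Prop := fun n σ => ∀ i, n • v i = v (σ i)
  have Imul : ∀ {n m σ τ}, I n σ → I m τ → I (n * m) (σ * τ) := fun {n m σ τ} hn hm i => by
    rw [mul_smul, hm, hn]; rfl
  have Iinv : ∀ {n σ}, I n σ → I n⁻¹ σ⁻¹ := fun {n σ} hn i => by
    rw [inv_smul_eq_iff, hn]; simp
  have Icomm : ∀ {n m σ τ}, I n σ → I m τ → I (n * m * n⁻¹ * m⁻¹) (σ * τ * σ⁻¹ * τ⁻¹) := fun hn hm =>
    Imul (Imul (Imul hn hm) (Iinv hn)) (Iinv hm)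
  obtain ⟨a, haN, ha⟩ := hind (Equiv.swap 0 1)
  obtain ⟨b, hbN, hb⟩ := hind (Equiv.swap 1 2)
  obtain ⟨d, hdN, hd⟩ := hind (Equiv.swap 2 3)
  obtain ⟨k, hkd⟩ : ∃ k, k = (a * b * a⁻¹ * b⁻¹) * (b * d * b⁻¹ * d⁻¹) * (a * b * a⁻¹ * b⁻¹)⁻¹ *
      (b * d * b⁻¹ * d⁻¹)⁻¹ := ⟨_, rfl⟩
  have hkI : I k _ := hkd ▸ Icomm (Icomm ha hb) (Icomm hb hd)
  have hab : a * b * a⁻¹ * b⁻¹ ∈ N := mul_mem (mul_mem (mul_mem haN hbN) (inv_mem haN)) (inv_mem hbN)
  have hbd : b * d * b⁻¹ * d⁻¹ ∈ N := mul_mem (mul_mem (mul_mem hbN hdN) (inv_mem hbN)) (inv_mem hdN)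
  have hkN : k ∈ N := hkd ▸ mul_mem (mul_mem (mul_mem hab hbd) (inv_mem hab)) (inv_mem hbd)
  have hker : ∀ z, z ∉ F → k • z ∈ MulAction.orbit D.R z := by
    intro z hz
    have hπ : π ⟨k, hkN⟩ = 1 := by
      have e : (⟨k, hkN⟩ : N) = ((⟨a, haN⟩ * ⟨b, hbN⟩ * ⟨a, haN⟩⁻¹ * ⟨b, hbN⟩⁻¹) *
          (⟨b, hbN⟩ * ⟨d, hdN⟩ * ⟨b, hbN⟩⁻¹ * ⟨d, hdN⟩⁻¹) * (⟨a, haN⟩ * ⟨b, hbN⟩ * ⟨a, haN⟩⁻¹ * ⟨b, hbN⟩⁻¹)⁻¹ *
          (⟨b, hbN⟩ * ⟨d, hdN⟩ * ⟨b, hbN⟩⁻¹ * ⟨d, hdN⟩⁻¹)⁻¹) := Subtype.ext (by simp [hkd])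
      rw [e]
      simp only [map_mul, map_inv]
      exact double_commutator_eq_one hOrb3 _ _ _ _
    have hzO : (MulAction.orbit D.R z).toFinset ∈ Orb := by
      rw [hOrb]; exact Finset.mem_image.2 ⟨z, Finset.mem_compl.2 hz, rfl⟩
    have h := congrArg (fun f : Equiv.Perm Orb => ((f ⟨_, hzO⟩ : Orb) : Finset α)) hπ
    have h' : k • z ∈ (MulAction.orbit D.R z).toFinset := by
      have hmem' : k • z ∈ ((MulAction.orbit D.R z).toFinset).image (k • ·) :=
        Finset.mem_image_of_mem _ (Set.mem_toFinset.2 (MulAction.mem_orbit_self z))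
      have h'' : ((MulAction.orbit D.R z).toFinset).image (k • ·) = (MulAction.orbit D.R z).toFinset := h
      rwa [h''] at hmem'
    exact Set.mem_toFinset.1 h'
  obtain ⟨l, hl⟩ := hscal k hkN hker
  obtain ⟨c, hcd⟩ : ∃ c, c = a * k * a⁻¹ * k⁻¹ := ⟨_, rfl⟩
  have hcI : I c _ := hcd ▸ Icomm ha hkI
  have hcR : ∀ x ∈ D.R, c * x = x * c := by
    intro x hx
    have hx2 : k⁻¹ * x * k ∈ D.R := (hkN.1 _).2 (by rwa [show k * (k⁻¹ * x * k) * k⁻¹ = x by group])
    have hx3 : a⁻¹ * (k⁻¹ * x * k) * a ∈ D.R :=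
      (haN.1 _).2 (by rwa [show a * (a⁻¹ * (k⁻¹ * x * k) * a) * a⁻¹ = k⁻¹ * x * k by group])
    have key : c * x * c⁻¹ = x := by
      calc c * x * c⁻¹ = a * (k * (a⁻¹ * (k⁻¹ * x * k) * a) * k⁻¹) * a⁻¹ := by rw [hcd]; group
        _ = (a * (a⁻¹ * (k⁻¹ * x * k) * a) * a⁻¹) ^ l := by rw [hl _ hx3, conj_pow]
        _ = (k⁻¹ * x * k) ^ l := by congr 1; group
        _ = k * (k⁻¹ * x * k) * k⁻¹ := (hl _ hx2).symm
        _ = x := by group
    exact mul_inv_eq_iff_eq_mul.1 key
  have hcO : ∀ z, z ∉ F → c • z ∈ MulAction.orbit D.R z := by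
    intro z hz
    have hO : ∀ {g : G}, g ∈ N → (∀ z, z ∉ F → g • z ∈ MulAction.orbit D.R z) →
        ∀ z, z ∉ F → g⁻¹ • z ∈ MulAction.orbit D.R z := by
      intro g hg h z hz
      have h1 := h (g⁻¹ • z) fun h' => hz (by rw [← (hg.2 (g⁻¹ • z)), smul_inv_smul] at h'; exact h')
      rw [smul_inv_smul] at h1
      exact MulAction.mem_orbit_symm.1 h1
    have hz1 : a⁻¹ • z ∉ F := fun h' => hz (by rw [← (haN.2 (a⁻¹ • z)), smul_inv_smul] at h'; exact h')
    have hk1 := hker _ hz1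
    have : a • k • a⁻¹ • z ∈ MulAction.orbit D.R (a • a⁻¹ • z) := by
      rw [hNorb haN]
      exact ⟨_, hk1, rfl⟩
    rw [smul_inv_smul] at this
    have hk2 := hO hkN hker z hz
    rw [hcd, mul_smul, mul_smul, mul_smul]
    obtain ⟨⟨x, hx⟩, hxz⟩ := hk2
    change x • z = k⁻¹ • z at hxz
    rw [← hxz]
    have hxF := D.smul_notMem hx hz
    have hk1' : a • k • a⁻¹ • x • z ∈ MulAction.orbit D.R (x • z) := by
      have hz2 : a⁻¹ • x • z ∉ F := fun h' => hxF (by rw [← (haN.2 (a⁻¹ • x • z)), smul_inv_smul] at h'; exact h')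
      have : a • k • a⁻¹ • x • z ∈ MulAction.orbit D.R (a • a⁻¹ • x • z) := by
        rw [hNorb haN]
        exact ⟨_, hker _ hz2, rfl⟩
      rwa [smul_inv_smul] at this
    rwa [D.orbit_symm (show x • z ∈ MulAction.orbit D.R z from ⟨⟨x, hx⟩, rfl⟩)] at hk1'
  have hcr : ∀ z, z ∉ F → c ^ r • z = z := by
    intro z hz
    obtain ⟨⟨x, hx⟩, hxz⟩ := hcO z hz
    change x • z = c • z at hxz
    have hpow : ∀ n : ℕ, c ^ n • z = x ^ n • z := by
      intro n
      induction n with
      | zero => simp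
      | succ n ih =>
        rw [pow_succ, mul_smul, ← hxz, ← mul_smul, ((Commute.pow_left (hcR x hx) n)).eq, mul_smul, ih,
          ← mul_smul, ← pow_succ']
    rw [hpow, D.pow_eq_one hx, one_smul]
  have hτ : ∀ i, c • v i = v ((Equiv.swap 0 1 * Equiv.swap 2 3 : Equiv.Perm (Fin 4)) i) := by
    intro i
    rw [hcI i]
    refine congrArg (v : Fin 4 → α) ?_
    revert i
    decide +kernel
  have hτ2 : ∀ i, c ^ r • v i = v ((Equiv.swap 0 1 * Equiv.swap 2 3 : Equiv.Perm (Fin 4)) i) := by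
    obtain ⟨j, hj⟩ : Odd r := hr.out.eq_two_or_odd'.resolve_left (by omega)
    intro i
    have h2 : ∀ i, (c * c) • v i = v i := fun i => by
      rw [mul_smul, hτ, hτ]
      congr 1
      revert i
      decide
    have h2n : ∀ n : ℕ, ∀ i, (c * c) ^ n • v i = v i := by
      intro n
      induction n with
      | zero => simp
      | succ n ih => intro i; rw [pow_succ, mul_smul, h2, ih]
    rw [hj, pow_succ', pow_mul, mul_smul, pow_two, h2n, hτ]
  obtain ⟨t, htd⟩ : ∃ t, t = c ^ r := ⟨_, rfl⟩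
  have ht : (t : Equiv.Perm α) = Equiv.swap (v 0) (v 1) * Equiv.swap (v 2) (v 3) := by
    refine Equiv.ext fun z => ?_
    show t • z = _
    rw [htd]
    by_cases hz : z ∈ F
    · obtain ⟨i, rfl⟩ := (hvF z).1 hz
      rw [hτ2, Equiv.Perm.mul_apply, Equiv.Perm.mul_apply, v.injective.swap_apply, v.injective.swap_apply]
    · rw [hcr z hz, Equiv.Perm.mul_apply, Equiv.swap_apply_of_ne_of_ne (fun h => hz ((hvF z).2 ⟨2, h.symm⟩))
        (fun h => hz ((hvF z).2 ⟨3, h.symm⟩)), Equiv.swap_apply_of_ne_of_ne (fun h => hz ((hvF z).2 ⟨0, h.symm⟩))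
        (fun h => hz ((hvF z).2 ⟨1, h.symm⟩))]
  obtain ⟨e, he⟩ : ∃ e, e ∉ F := by
    by_contra hno
    push Not at hno
    have := Finset.card_le_card (fun x _ => hno x : Finset.univ ⊆ F)
    rw [Finset.card_univ] at this
    omega
  have hev : ∀ i, e ≠ v i := fun i h => he ((hvF e).2 ⟨i, h.symm⟩)
  obtain ⟨g, hg⟩ := h4.exists_smul_eq v ⟨![v 0, v 1, v 2, e], fun i j h => by
    fin_cases i <;> fin_cases j <;>
      simp [v.injective.eq_iff, hev 0, hev 1, hev 2, (hev 0).symm, (hev 1).symm, (hev 2).symm] at h ⊢⟩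
  have hgi : ∀ i, (g : Equiv.Perm α) (v i) = ![v 0, v 1, v 2, e] i := fun i => DFunLike.congr_fun hg i
  have hconj : ((g * t * g⁻¹ : G) : Equiv.Perm α) = Equiv.swap (v 0) (v 1) * Equiv.swap (v 2) e := by
    rw [Subgroup.coe_mul, Subgroup.coe_mul, InvMemClass.coe_inv, ht, ← conj_mul,
      ← Equiv.swap_apply_apply, ← Equiv.swap_apply_apply, hgi, hgi, hgi, hgi]
    rfl
  have h3c : ((t * (g * t * g⁻¹) : G) : Equiv.Perm α).IsThreeCycle := by
    rw [Subgroup.coe_mul, hconj, ht]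
    have hdis : Equiv.swap (v 2) (v 3) * Equiv.swap (v 0) (v 1) = Equiv.swap (v 0) (v 1) * Equiv.swap (v 2) (v 3) := by
      refine (Equiv.Perm.Disjoint.commute ?_).eq
      rw [Equiv.Perm.disjoint_iff_disjoint_support, Equiv.Perm.support_swap (v.injective.ne (by decide)),
        Equiv.Perm.support_swap (v.injective.ne (by decide))]
      simp [v.injective.eq_iff]
    rw [mul_assoc, ← mul_assoc (Equiv.swap (v 2) (v 3)), hdis, mul_assoc, ← mul_assoc, Equiv.swap_mul_self, one_mul]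
    exact Equiv.Perm.isThreeCycle_swap_mul_swap_same (v.injective.ne (by decide)) (hev 2).symm (hev 3).symm
  exact Equiv.Perm.alternatingGroup_le_of_isPreprimitive_of_isThreeCycle_mem hG h3c (t * (g * t * g⁻¹)).2

end CfsgLib.Perm.TwinAlt
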