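import Mathlib

/-!
# Subgroups of `GL(2, p)` given by explicit lists
-/

set_option autoImplicit false

namespace CfsgLib.Perm.Groups

/-- product of matrices stored as quadruples -/
def quadMul {R : Type*} [CommRing R] (x y : R × R × R × R) : R × R × R × R :=
  (x.1 * y.1 + x.2.1 * y.2.2.1, x.1 * y.2.1 + x.2.1 * y.2.2.2,
    x.2.2.1 * y.1 + x.2.2.2 * y.2.2.1, x.2.2.1 * y.2.1 + x.2.2.2 * y.2.2.2)

/-- the quadruple of a matrix -/
def quadOf {R : Type*} (M : Matrix (Fin 2) (Fin 2) R) : R × R × R × R := (M 0 0, M 0 1, M 1 0, M 1 1)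

theorem quadOf_mul {R : Type*} [CommRing R] (M N : Matrix (Fin 2) (Fin 2) R) :
    quadOf (M * N) = quadMul (quadOf M) (quadOf N) := by
  simp [quadOf, quadMul, Matrix.mul_apply, Fin.sum_univ_two]

theorem quadOf_injective {R : Type*} : Function.Injective (quadOf (R := R)) := by
  intro M N h
  simp only [quadOf, Prod.mk.injEq] at h
  ext i j
  fin_cases i <;> fin_cases j
  exacts [h.1, h.2.1, h.2.2.1, h.2.2.2]

/-- a list closed under right multiplication by generators, semiregular, of full size -/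
theorem regular_of_list {p : ℕ} [Fact p.Prime] {S : Set (Matrix.GeneralLinearGroup (Fin 2) (ZMod p))}
    (gens : List (ZMod p × ZMod p × ZMod p × ZMod p)) (L : List (ZMod p × ZMod p × ZMod p × ZMod p))
    (words : List (List (ZMod p × ZMod p × ZMod p × ZMod p)))
    (hS : ∀ g ∈ S, quadOf (g : Matrix (Fin 2) (Fin 2) (ZMod p)) ∈ gens)
    (hS' : ∀ x ∈ gens, ∃ g ∈ S, quadOf (g : Matrix (Fin 2) (Fin 2) (ZMod p)) = x)
    (hwords : words.map (fun w => w.foldr quadMul (1, 0, 0, 1)) = L)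
    (hletters : ∀ w ∈ words, ∀ x ∈ w, x ∈ gens) (hnd : L.Nodup)
    (hlen : L.length = p * p - 1) (hone : (1, 0, 0, 1) ∈ L)
    (hclosed : ∀ x ∈ L, ∀ s ∈ gens, quadMul s x ∈ L)
    (hfree : ∀ x ∈ L, x ≠ (1, 0, 0, 1) → (x.1 - 1) * (x.2.2.2 - 1) - x.2.1 * x.2.2.1 ≠ 0) :
    Nat.card (Subgroup.closure S) = p * p - 1 ∧
      ∀ v w : Fin 2 → ZMod p, v ≠ 0 → w ≠ 0 → ∃! h : Subgroup.closure S,
        Matrix.mulVec ((h : Matrix.GeneralLinearGroup (Fin 2) (ZMod p)) : Matrix (Fin 2) (Fin 2) (ZMod p)) v = w := by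
  classical
  obtain ⟨H, hH⟩ : ∃ H : Subgroup (Matrix.GeneralLinearGroup (Fin 2) (ZMod p)), H = Subgroup.closure S := ⟨_, rfl⟩
  have hq1 : quadOf ((1 : Matrix.GeneralLinearGroup (Fin 2) (ZMod p)) : Matrix (Fin 2) (Fin 2) (ZMod p)) = (1, 0, 0, 1) := by
    simp [quadOf]
  have hmem : ∀ g : Matrix.GeneralLinearGroup (Fin 2) (ZMod p),
      g ∈ H → quadOf (g : Matrix (Fin 2) (Fin 2) (ZMod p)) ∈ L := by
    intro g hg
    have hg' : g ∈ Submonoid.closure S := by
      rw [← Subgroup.closure_toSubmonoid_of_finite, ← hH]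
      exact hg
    induction hg' using Submonoid.closure_induction_left with
    | one => rw [hq1]; exact hone
    | mul_left x hx y _ ih =>
      rw [Units.val_mul, quadOf_mul]
      have hy : y ∈ H := by
        have := H.mul_mem (H.inv_mem (hH ▸ Subgroup.subset_closure hx : x ∈ H)) hg
        rwa [inv_mul_cancel_left] at this
      exact hclosed _ (ih hy) _ (hS x hx)
  have hsurj : ∀ x ∈ L, ∃ g ∈ H, quadOf (g : Matrix (Fin 2) (Fin 2) (ZMod p)) = x := by
    intro x hx
    rw [← hwords, List.mem_map] at hx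
    obtain ⟨w, hw, rfl⟩ := hx
    have hw' := hletters w hw
    clear hw
    induction w with
    | nil => exact ⟨1, H.one_mem, hq1⟩
    | cons a t ih =>
      obtain ⟨g, hg, he⟩ := ih (fun x hx => hw' x (List.mem_cons_of_mem _ hx))
      obtain ⟨s, hs, hse⟩ := hS' a (hw' a List.mem_cons_self)
      exact ⟨s * g, H.mul_mem (hH ▸ Subgroup.subset_closure hs) hg, by
        rw [Units.val_mul, quadOf_mul, he, hse, List.foldr_cons]⟩
  have hcard : Nat.card H = p * p - 1 := by
    rw [← hlen, ← List.toFinset_card_of_nodup hnd, ← Nat.card_eq_finsetCard]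
    refine Nat.card_eq_of_bijective (fun g : H => (⟨quadOf ((g : Matrix.GeneralLinearGroup (Fin 2) (ZMod p)) :
      Matrix (Fin 2) (Fin 2) (ZMod p)), List.mem_toFinset.2 (hmem g g.2)⟩ : L.toFinset)) ⟨fun a b h => ?_, fun x => ?_⟩
    · exact Subtype.ext (Units.ext (quadOf_injective (congrArg Subtype.val h)))
    · obtain ⟨g, hg, he⟩ := hsurj x (List.mem_toFinset.1 x.2)
      exact ⟨⟨g, hg⟩, Subtype.ext he⟩
  subst hH
  refine ⟨hcard, fun v w hv hw => ?_⟩
  have hinj : ∀ a b : Subgroup.closure S,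
      Matrix.mulVec ((a : Matrix.GeneralLinearGroup (Fin 2) (ZMod p)) : Matrix (Fin 2) (Fin 2) (ZMod p)) v =
      Matrix.mulVec ((b : Matrix.GeneralLinearGroup (Fin 2) (ZMod p)) : Matrix (Fin 2) (Fin 2) (ZMod p)) v → a = b := by
    intro a b h
    rw [← inv_mul_eq_one]
    by_contra hne
    obtain ⟨M, hM⟩ : ∃ M : Matrix (Fin 2) (Fin 2) (ZMod p),
        M = (((a⁻¹ * b : Subgroup.closure S) : Matrix.GeneralLinearGroup (Fin 2) (ZMod p)) : Matrix _ _ _) := ⟨_, rfl⟩
    have hfix : M.mulVec v = v := by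
      rw [hM, Subgroup.coe_mul, Units.val_mul, ← Matrix.mulVec_mulVec, ← h, Matrix.mulVec_mulVec, ← Units.val_mul,
        Subgroup.coe_inv, inv_mul_cancel, Units.val_one, Matrix.one_mulVec]
    have hM1 : quadOf M ≠ (1, 0, 0, 1) := fun he => hne (Subtype.ext (Units.ext (quadOf_injective (by
      rw [← hM, he, Subgroup.coe_one, hq1]))))
    have hdet := hfree (quadOf M) (hM ▸ hmem _ (a⁻¹ * b).2) hM1
    apply hdet
    have h0 := congrFun hfix 0
    have h1 := congrFun hfix 1
    simp only [Matrix.mulVec, dotProduct, Fin.sum_univ_two] at h0 h1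
    simp only [quadOf]
    by_cases hv0 : v 0 = 0
    · have hv1 : v 1 ≠ 0 := fun hh => hv (funext fun i => by fin_cases i <;> assumption)
      apply mul_left_cancel₀ hv1
      linear_combination (M 0 0 - 1) * h1 - M 1 0 * h0
    · apply mul_left_cancel₀ hv0
      linear_combination (M 1 1 - 1) * h0 - M 0 1 * h1
  have hbij : Function.Bijective (fun h : Subgroup.closure S =>
      (⟨Matrix.mulVec ((h : Matrix.GeneralLinearGroup (Fin 2) (ZMod p)) : Matrix (Fin 2) (Fin 2) (ZMod p)) v, fun h0 => hv (by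
        have := congrArg (Matrix.mulVec (((h : Matrix.GeneralLinearGroup (Fin 2) (ZMod p))⁻¹ :
          Matrix.GeneralLinearGroup (Fin 2) (ZMod p)) : Matrix (Fin 2) (Fin 2) (ZMod p))) h0
        rwa [Matrix.mulVec_mulVec, ← Units.val_mul, inv_mul_cancel, Units.val_one, Matrix.one_mulVec,
          Matrix.mulVec_zero] at this)⟩ : {u : Fin 2 → ZMod p // u ≠ 0})) := by
    apply Function.Injective.bijective_of_nat_card_le (fun a b h => hinj a b (congrArg Subtype.val h))
    rw [hcard, Nat.card_eq_fintype_card, Fintype.card_subtype_compl, Fintype.card_subtype_eq, Fintype.card_fun,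
      ZMod.card, Fintype.card_fin, pow_two]
  obtain ⟨h, hh⟩ := hbij.2 ⟨w, hw⟩
  exact ⟨h, congrArg Subtype.val hh, fun h' hh' => hinj _ _ (hh'.trans (congrArg Subtype.val hh).symm)⟩

end CfsgLib.Perm.Groups
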