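import Mathlib
import Cfsg.Agent.Lib.Perm.Groups.RegularGL2

/-!
# Explicit lists of `GL(2, p)` elements, checked on natural numbers
-/

set_option autoImplicit false

namespace CfsgLib.Perm.Groups

/-- product of quadruples of residues -/
def natQuadMul (p : ℕ) (x y : ℕ × ℕ × ℕ × ℕ) : ℕ × ℕ × ℕ × ℕ :=
  ((x.1 * y.1 + x.2.1 * y.2.2.1) % p, (x.1 * y.2.1 + x.2.1 * y.2.2.2) % p,
    (x.2.2.1 * y.1 + x.2.2.2 * y.2.2.1) % p, (x.2.2.1 * y.2.1 + x.2.2.2 * y.2.2.2) % p)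

/-- a quadruple of residues as elements of `ZMod p` -/
def quadCast (p : ℕ) (x : ℕ × ℕ × ℕ × ℕ) : ZMod p × ZMod p × ZMod p × ZMod p := (x.1, x.2.1, x.2.2.1, x.2.2.2)

theorem quadCast_mul {p : ℕ} (x y : ℕ × ℕ × ℕ × ℕ) :
    quadCast p (natQuadMul p x y) = quadMul (quadCast p x) (quadCast p y) := by
  simp [quadCast, natQuadMul, quadMul]

/-- version of `regular_of_list` with checks on natural numbers -/
theorem regular_of_natList {p : ℕ} [hp : Fact p.Prime] {S : Set (Matrix.GeneralLinearGroup (Fin 2) (ZMod p))}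
    (gens L : List (ℕ × ℕ × ℕ × ℕ)) (words : List (List (ℕ × ℕ × ℕ × ℕ)))
    (hS : ∀ g ∈ S, quadOf (g : Matrix (Fin 2) (Fin 2) (ZMod p)) ∈ gens.map (quadCast p))
    (hS' : ∀ x ∈ gens, ∃ g ∈ S, quadOf (g : Matrix (Fin 2) (Fin 2) (ZMod p)) = quadCast p x)
    (hwords : words.map (fun w => w.foldr (natQuadMul p) (1, 0, 0, 1)) = L)
    (hletters : ∀ w ∈ words, ∀ x ∈ w, x ∈ gens) (hnd : L.Nodup)
    (hlt : ∀ x ∈ L, x.1 < p ∧ x.2.1 < p ∧ x.2.2.1 < p ∧ x.2.2.2 < p)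
    (hlen : L.length = p * p - 1) (hone : (1, 0, 0, 1) ∈ L)
    (hclosed : ∀ x ∈ L, ∀ s ∈ gens, natQuadMul p s x ∈ L)
    (hfree : ∀ x ∈ L, x ≠ (1, 0, 0, 1) →
      ((x.1 + (p - 1)) * (x.2.2.2 + (p - 1)) + (p - 1) * x.2.1 * x.2.2.1) % p ≠ 0) :
    Nat.card (Subgroup.closure S) = p * p - 1 ∧
      ∀ v w : Fin 2 → ZMod p, v ≠ 0 → w ≠ 0 → ∃! h : Subgroup.closure S,
        Matrix.mulVec ((h : Matrix.GeneralLinearGroup (Fin 2) (ZMod p)) : Matrix (Fin 2) (Fin 2) (ZMod p)) v = w := by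
  refine regular_of_list (gens.map (quadCast p)) (L.map (quadCast p)) (words.map (List.map (quadCast p))) hS ?_ ?_ ?_
    ?_ ?_ ?_ ?_ ?_
  · intro x hx
    obtain ⟨y, hy, rfl⟩ := List.mem_map.1 hx
    exact hS' y hy
  · rw [← hwords, List.map_map, List.map_map]
    refine List.map_congr_left fun w hw => ?_
    clear hw
    show List.foldr quadMul _ (w.map (quadCast p)) = quadCast p (w.foldr (natQuadMul p) _)
    induction w with
    | nil => simp [quadCast]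
    | cons a t ih => simp [ih, quadCast_mul]
  · intro w hw x hx
    obtain ⟨w', hw', rfl⟩ := List.mem_map.1 hw
    obtain ⟨x', hx', rfl⟩ := List.mem_map.1 hx
    exact List.mem_map_of_mem (hletters w' hw' x' hx')
  · refine List.Nodup.map_on (fun x hx y hy h => ?_) hnd
    simp only [quadCast, Prod.mk.injEq, ZMod.natCast_eq_natCast_iff'] at h
    obtain ⟨a1, a2, a3, a4⟩ := hlt x hx
    obtain ⟨b1, b2, b3, b4⟩ := hlt y hy
    rw [Nat.mod_eq_of_lt a1, Nat.mod_eq_of_lt a2, Nat.mod_eq_of_lt a3, Nat.mod_eq_of_lt a4, Nat.mod_eq_of_lt b1,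
      Nat.mod_eq_of_lt b2, Nat.mod_eq_of_lt b3, Nat.mod_eq_of_lt b4] at h
    exact Prod.ext h.1 (Prod.ext h.2.1 (Prod.ext h.2.2.1 h.2.2.2))
  · rw [List.length_map, hlen]
  · exact List.mem_map.2 ⟨_, hone, by simp [quadCast]⟩
  · intro x hx s hs
    obtain ⟨x', hx', rfl⟩ := List.mem_map.1 hx
    obtain ⟨s', hs', rfl⟩ := List.mem_map.1 hs
    rw [← quadCast_mul]
    exact List.mem_map_of_mem (hclosed x' hx' s' hs')
  · intro x hx hx1
    obtain ⟨x', hx', rfl⟩ := List.mem_map.1 hx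
    have h1 := hfree x' hx' (fun h => hx1 (by subst h; simp [quadCast]))
    intro h0
    apply h1
    rw [← Nat.dvd_iff_mod_eq_zero, ← ZMod.natCast_eq_zero_iff]
    push_cast [Nat.cast_sub hp.out.one_le, ZMod.natCast_self]
    simp only [quadCast] at h0
    linear_combination h0

end CfsgLib.Perm.Groups
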