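import Cfsg.Agent.Lib.Perm.Groups.RegularGL2Nat

/-!
# Regular subgroups of `GL(2, p)`: a listed group times a cyclic group of scalars
-/

set_option autoImplicit false
set_option linter.unusedSectionVars false
set_option linter.style.haveILetI false

namespace CfsgLib.Perm.Groups

/-- Two generators `A`, `B` of a group given by a list, and a scalar `C` of order `m`. -/
theorem regular_of_natList_scalar {p : ℕ} [hp : Fact p.Prime] (A B C : Matrix.GeneralLinearGroup (Fin 2) (ZMod p))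
    (a b : ℕ × ℕ × ℕ × ℕ) (c m n : ℕ) (L : List (ℕ × ℕ × ℕ × ℕ)) (words : List (List (ℕ × ℕ × ℕ × ℕ)))
    (hA : quadOf (A : Matrix (Fin 2) (Fin 2) (ZMod p)) = quadCast p a)
    (hB : quadOf (B : Matrix (Fin 2) (Fin 2) (ZMod p)) = quadCast p b)
    (hC : (C : Matrix (Fin 2) (Fin 2) (ZMod p)) = !![(c : ZMod p), 0; 0, (c : ZMod p)])
    (hm : orderOf C = m) (hwords : words.map (fun w => w.foldr (natQuadMul p) (1, 0, 0, 1)) = L)
    (hletters : ∀ w ∈ words, ∀ x ∈ w, x ∈ [a, b]) (hnd : L.Nodup)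
    (hlt : ∀ x ∈ L, x.1 < p ∧ x.2.1 < p ∧ x.2.2.1 < p ∧ x.2.2.2 < p)
    (hlen : L.length = n) (hone : (1, 0, 0, 1) ∈ L) (hcop : Nat.Coprime m n) (hprod : m * n = p * p - 1)
    (hclosed : ∀ x ∈ L, ∀ s ∈ [a, b], natQuadMul p s x ∈ L)
    (hfree : ∀ i ∈ List.range m, ∀ x ∈ L, ¬ (i = 0 ∧ x = (1, 0, 0, 1)) →
      ((c ^ i * x.1 + (p - 1)) * (c ^ i * x.2.2.2 + (p - 1)) + (p - 1) * (c ^ i * x.2.1) * (c ^ i * x.2.2.1)) % p ≠ 0) :
    Nat.card (Subgroup.closure ({A, B, C} : Set (Matrix.GeneralLinearGroup (Fin 2) (ZMod p)))) = p * p - 1 ∧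
      ∀ v w : Fin 2 → ZMod p, v ≠ 0 → w ≠ 0 →
        ∃! h : Subgroup.closure ({A, B, C} : Set (Matrix.GeneralLinearGroup (Fin 2) (ZMod p))),
        Matrix.mulVec ((h : Matrix.GeneralLinearGroup (Fin 2) (ZMod p)) : Matrix (Fin 2) (Fin 2) (ZMod p)) v = w := by
  classical
  haveI : NeZero p := ⟨hp.out.ne_zero⟩
  obtain ⟨K, hK⟩ : ∃ K, K = Subgroup.closure ({A, B} : Set (Matrix.GeneralLinearGroup (Fin 2) (ZMod p))) := ⟨_, rfl⟩
  obtain ⟨H, hH⟩ : ∃ H, H = Subgroup.closure ({A, B, C} : Set (Matrix.GeneralLinearGroup (Fin 2) (ZMod p))) := ⟨_, rfl⟩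
  rw [← hH]
  have hm0 : 0 < m := hm ▸ orderOf_pos C
  have hq1 : quadOf ((1 : Matrix.GeneralLinearGroup (Fin 2) (ZMod p)) : Matrix (Fin 2) (Fin 2) (ZMod p)) =
      quadCast p (1, 0, 0, 1) := by simp [quadOf, quadCast]
  have hKmem : ∀ g, g ∈ K → ∃ x ∈ L, quadOf (g : Matrix (Fin 2) (Fin 2) (ZMod p)) = quadCast p x := by
    intro g hg
    have hg' : g ∈ Submonoid.closure ({A, B} : Set (Matrix.GeneralLinearGroup (Fin 2) (ZMod p))) := by
      rw [← Subgroup.closure_toSubmonoid_of_finite, ← hK]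
      exact hg
    clear hg
    induction hg' using Submonoid.closure_induction_left with
    | one => exact ⟨_, hone, hq1⟩
    | mul_left x hx y _ ih =>
      obtain ⟨z, hz, he⟩ := ih
      rcases hx with rfl | rfl
      · exact ⟨_, hclosed z hz a (by simp), by rw [Units.val_mul, quadOf_mul, hA, he, quadCast_mul]⟩
      · exact ⟨_, hclosed z hz b (by simp), by rw [Units.val_mul, quadOf_mul, hB, he, quadCast_mul]⟩
  have hKsurj : ∀ x ∈ L, ∃ g ∈ K, quadOf (g : Matrix (Fin 2) (Fin 2) (ZMod p)) = quadCast p x := by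
    intro x hx
    rw [← hwords, List.mem_map] at hx
    obtain ⟨w, hw, rfl⟩ := hx
    have hw' := hletters w hw
    clear hw
    induction w with
    | nil => exact ⟨1, K.one_mem, hq1⟩
    | cons u t ih =>
      obtain ⟨g, hg, he⟩ := ih (fun x hx => hw' x (List.mem_cons_of_mem _ hx))
      have hu := hw' u List.mem_cons_self
      simp only [List.mem_cons, List.not_mem_nil, or_false] at hu
      rcases hu with rfl | rfl
      · exact ⟨A * g, K.mul_mem (hK ▸ Subgroup.subset_closure (by simp)) hg, by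
          rw [Units.val_mul, quadOf_mul, hA, he, List.foldr_cons, quadCast_mul]⟩
      · exact ⟨B * g, K.mul_mem (hK ▸ Subgroup.subset_closure (by simp)) hg, by
          rw [Units.val_mul, quadOf_mul, hB, he, List.foldr_cons, quadCast_mul]⟩
  have hinjL : ∀ x ∈ L, ∀ y ∈ L, quadCast p x = quadCast p y → x = y := by
    intro x hx y hy h
    simp only [quadCast, Prod.mk.injEq, ZMod.natCast_eq_natCast_iff'] at h
    obtain ⟨a1, a2, a3, a4⟩ := hlt x hx
    obtain ⟨b1, b2, b3, b4⟩ := hlt y hy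
    rw [Nat.mod_eq_of_lt a1, Nat.mod_eq_of_lt a2, Nat.mod_eq_of_lt a3, Nat.mod_eq_of_lt a4, Nat.mod_eq_of_lt b1,
      Nat.mod_eq_of_lt b2, Nat.mod_eq_of_lt b3, Nat.mod_eq_of_lt b4] at h
    exact Prod.ext h.1 (Prod.ext h.2.1 (Prod.ext h.2.2.1 h.2.2.2))
  have hKcard : Nat.card K = n := by
    rw [← hlen, ← List.toFinset_card_of_nodup hnd, ← Nat.card_eq_finsetCard]
    refine (Nat.card_eq_of_bijective (fun g : K => (⟨(hKmem g g.2).choose,
      List.mem_toFinset.2 (hKmem g g.2).choose_spec.1⟩ : L.toFinset)) ⟨fun g k h => ?_, fun x => ?_⟩)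
    · have h' : (hKmem g g.2).choose = (hKmem k k.2).choose := congrArg Subtype.val h
      exact Subtype.ext (Units.ext (quadOf_injective
        ((hKmem g g.2).choose_spec.2.trans (h' ▸ (hKmem k k.2).choose_spec.2.symm))))
    · obtain ⟨g, hg, he⟩ := hKsurj x (List.mem_toFinset.1 x.2)
      refine ⟨⟨g, hg⟩, Subtype.ext ?_⟩
      exact hinjL _ (hKmem g hg).choose_spec.1 _ (List.mem_toFinset.1 x.2)
        ((hKmem g hg).choose_spec.2.symm.trans he)
  have hCcomm : ∀ g : Matrix.GeneralLinearGroup (Fin 2) (ZMod p), Commute C g := by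
    intro g
    refine Units.ext ?_
    rw [Units.val_mul, Units.val_mul, hC,
      show (!![(c : ZMod p), 0; 0, (c : ZMod p)]) = (c : ZMod p) • (1 : Matrix (Fin 2) (Fin 2) (ZMod p)) from by
        ext i j; fin_cases i <;> fin_cases j <;> simp]
    rw [Matrix.smul_mul, Matrix.mul_smul, one_mul, mul_one]
  have hHmem : ∀ g, g ∈ H → ∃ i < m, ∃ k ∈ K, g = C ^ i * k := by
    intro g hg
    rw [hH] at hg
    induction hg using Subgroup.closure_induction with
    | mem x hx =>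
      rcases hx with e | e | rfl
      · exact ⟨0, hm0, x, hK ▸ Subgroup.subset_closure (Or.inl e), by simp⟩
      · exact ⟨0, hm0, x, hK ▸ Subgroup.subset_closure (Or.inr e), by simp⟩
      · exact ⟨1 % m, Nat.mod_lt _ hm0, 1, one_mem K, by rw [← hm, pow_mod_orderOf, pow_one, mul_one]⟩
    | one => exact ⟨0, hm0, 1, one_mem K, by simp⟩
    | mul x y _ _ hx hy =>
      obtain ⟨i, -, k, hk, rfl⟩ := hx
      obtain ⟨j, -, l, hl, rfl⟩ := hy
      refine ⟨(i + j) % m, Nat.mod_lt _ hm0, k * l, K.mul_mem hk hl, ?_⟩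
      rw [← hm, pow_mod_orderOf, pow_add, mul_assoc, ← mul_assoc k, ← ((hCcomm k).pow_left j).eq]
      group
    | inv x _ hx =>
      obtain ⟨i, hi, k, hk, rfl⟩ := hx
      refine ⟨(m - i) % m, Nat.mod_lt _ hm0, k⁻¹, K.inv_mem hk, ?_⟩
      have h1 : C ^ (m - i) = (C ^ i)⁻¹ := by
        rw [eq_inv_iff_mul_eq_one, ← pow_add, Nat.sub_add_cancel hi.le, ← hm, pow_orderOf_eq_one]
      rw [← hm, pow_mod_orderOf, hm, h1, mul_inv_rev]
      exact ((((hCcomm k).pow_left i).inv_right).inv_left).eq.symm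
  have hCi : ∀ i, ((C ^ i : Matrix.GeneralLinearGroup (Fin 2) (ZMod p)) : Matrix (Fin 2) (Fin 2) (ZMod p)) =
      ((c : ZMod p) ^ i) • (1 : Matrix (Fin 2) (Fin 2) (ZMod p)) := by
    intro i
    rw [Units.val_pow_eq_pow_val, hC,
      show (!![(c : ZMod p), 0; 0, (c : ZMod p)]) = (c : ZMod p) • (1 : Matrix (Fin 2) (Fin 2) (ZMod p)) from by
        ext i j; fin_cases i <;> fin_cases j <;> simp, smul_pow, one_pow]
  have hfix : ∀ g, g ∈ H → ∀ v : Fin 2 → ZMod p, v ≠ 0 →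
      (g : Matrix (Fin 2) (Fin 2) (ZMod p)).mulVec v = v → g = 1 := by
    intro g hg v hv hgv
    obtain ⟨i, hi, k, hk, rfl⟩ := hHmem g hg
    obtain ⟨x, hx, hkx⟩ := hKmem k hk
    by_contra hne
    have h0 : ¬ (i = 0 ∧ x = (1, 0, 0, 1)) := by
      rintro ⟨rfl, rfl⟩
      exact hne (by rw [pow_zero, one_mul]; exact Units.ext (quadOf_injective (hkx.trans hq1.symm)))
    have h1 := hfree i (List.mem_range.2 hi) x hx h0
    apply h1
    rw [← Nat.dvd_iff_mod_eq_zero, ← ZMod.natCast_eq_zero_iff]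
    push_cast [Nat.cast_sub hp.out.one_le, ZMod.natCast_self]
    simp only [quadOf, quadCast, Prod.mk.injEq] at hkx
    obtain ⟨k00, k01, k10, k11⟩ := hkx
    rw [Units.val_mul, hCi, Matrix.smul_mul, one_mul] at hgv
    have e0 := congrFun hgv 0
    have e1 := congrFun hgv 1
    simp only [Pi.smul_apply, Matrix.smul_apply, Matrix.mulVec, dotProduct, Fin.sum_univ_two, smul_eq_mul,
      k00, k01, k10, k11] at e0 e1
    by_cases hv0 : v 0 = 0
    · have hv1 : v 1 ≠ 0 := fun hh => hv (funext fun i => by fin_cases i <;> assumption)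
      apply mul_left_cancel₀ hv1
      linear_combination ((c : ZMod p) ^ i * (x.1 : ZMod p) - 1) * e1 - (c : ZMod p) ^ i * (x.2.2.1 : ZMod p) * e0
    · apply mul_left_cancel₀ hv0
      linear_combination ((c : ZMod p) ^ i * (x.2.2.2 : ZMod p) - 1) * e0 - (c : ZMod p) ^ i * (x.2.1 : ZMod p) * e1
  have hne0 : ∀ g : Matrix.GeneralLinearGroup (Fin 2) (ZMod p), ∀ v : Fin 2 → ZMod p, v ≠ 0 →
      (g : Matrix (Fin 2) (Fin 2) (ZMod p)).mulVec v ≠ 0 := by
    intro g v hv h0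
    apply hv
    have := congrArg (Matrix.mulVec ((g⁻¹ : Matrix.GeneralLinearGroup (Fin 2) (ZMod p)) :
      Matrix (Fin 2) (Fin 2) (ZMod p))) h0
    rwa [Matrix.mulVec_mulVec, ← Units.val_mul, inv_mul_cancel, Units.val_one, Matrix.one_mulVec,
      Matrix.mulVec_zero] at this
  have hinj : ∀ v : Fin 2 → ZMod p, v ≠ 0 → ∀ g k : H,
      ((g : Matrix.GeneralLinearGroup (Fin 2) (ZMod p)) : Matrix (Fin 2) (Fin 2) (ZMod p)).mulVec v =
      ((k : Matrix.GeneralLinearGroup (Fin 2) (ZMod p)) : Matrix (Fin 2) (Fin 2) (ZMod p)).mulVec v → g = k := by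
    intro v hv g k h
    rw [← inv_mul_eq_one]
    refine Subtype.ext (hfix _ (g⁻¹ * k).2 v hv ?_)
    rw [Subgroup.coe_mul, Subgroup.coe_inv, Units.val_mul, ← Matrix.mulVec_mulVec, ← h, Matrix.mulVec_mulVec,
      ← Units.val_mul, inv_mul_cancel, Units.val_one, Matrix.one_mulVec]
  have hcardX : Nat.card {u : Fin 2 → ZMod p // u ≠ 0} = p * p - 1 := by
    rw [Nat.card_eq_fintype_card, Fintype.card_subtype_compl, Fintype.card_subtype_eq, Fintype.card_fun, ZMod.card,
      Fintype.card_fin, pow_two]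
  have hcard : Nat.card H = p * p - 1 := by
    apply le_antisymm
    · rw [← hcardX]
      obtain ⟨v, hv⟩ : ∃ v : Fin 2 → ZMod p, v ≠ 0 := ⟨fun _ => 1, fun h => one_ne_zero (congrFun h 0)⟩
      exact Nat.card_le_card_of_injective (fun g : H => (⟨_, hne0 g v hv⟩ : {u : Fin 2 → ZMod p // u ≠ 0}))
        fun g k h => hinj v hv g k (congrArg Subtype.val h)
    · rw [← hprod]
      refine Nat.le_of_dvd Nat.card_pos (hcop.mul_dvd_of_dvd_of_dvd ?_ ?_)
      · rw [← hm, ← Subgroup.orderOf_mk (H := H) C (hH ▸ Subgroup.subset_closure (by simp))]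
        exact orderOf_dvd_natCard _
      · rw [← hKcard]
        exact Subgroup.card_dvd_of_le (hK ▸ hH ▸ Subgroup.closure_mono (by
          intro g hg; rcases hg with rfl | rfl <;> simp))
  refine ⟨hcard, fun v w hv hw => ?_⟩
  have hbij : Function.Bijective (fun g : H => (⟨_, hne0 g v hv⟩ : {u : Fin 2 → ZMod p // u ≠ 0})) :=
    Function.Injective.bijective_of_nat_card_le (fun g k h => hinj v hv g k (congrArg Subtype.val h))
      (by rw [hcard, hcardX])
  obtain ⟨g, hg⟩ := hbij.2 ⟨w, hw⟩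
  exact ⟨g, congrArg Subtype.val hg, fun k hk => hinj v hv _ _ (hk.trans (congrArg Subtype.val hg).symm)⟩

end CfsgLib.Perm.Groups
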