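import Cfsg.Agent.Lib.Perm.Groups.RegularLinear

/-!
# Non-abelian normal subgroups of groups regular on the non-zero vectors are irreducible
-/

set_option autoImplicit false
set_option linter.unusedSectionVars false
set_option linter.style.haveILetI false

namespace CfsgLib.Perm.RegLin

universe u

/-- Endomorphisms commuting with an irreducible set on a finite space commute. -/
theorem end_commute_of_irreducible {F W : Type*} [Field F] [AddCommGroup W] [Module F W] [Finite W]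
    [Nontrivial W] (S : Set (Module.End F W))
    (hirr : ∀ U : Submodule F W, (∀ s ∈ S, ∀ v ∈ U, s v ∈ U) → U = ⊥ ∨ U = ⊤)
    (x y : Module.End F W) (hx : ∀ s ∈ S, s * x = x * s) (hy : ∀ s ∈ S, s * y = y * s) : x * y = y * x := by
  let E := Subalgebra.centralizer F S
  haveI : Finite (Module.End F W) := Finite.of_injective (fun f => (f : W → W)) DFunLike.coe_injective
  haveI : Finite E := inferInstance
  have hker : ∀ r : E, (r : Module.End F W) ≠ 0 → Function.Injective (r : Module.End F W) := by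
    intro r hr
    rw [← LinearMap.ker_eq_bot]
    refine (hirr _ ?_).resolve_right fun h => hr (LinearMap.ker_eq_top.1 h)
    intro s hs v hv
    refine LinearMap.mem_ker.2 ?_
    have h1 : (r : Module.End F W) (s v) = s ((r : Module.End F W) v) :=
      (congrArg (fun f => f v) ((Subalgebra.mem_centralizer_iff F).1 r.2 s hs)).symm
    rw [h1, LinearMap.mem_ker.1 hv, map_zero]
  haveI : NoZeroDivisors E := ⟨fun {a b} hab => or_iff_not_imp_left.2 fun ha => by
    have ha' : (a : Module.End F W) ≠ 0 := fun h => ha (Subtype.ext h)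
    refine Subtype.ext (LinearMap.ext fun w => hker a ha' ?_)
    have := congrArg (fun g : E => (g : Module.End F W) w) hab
    simpa using this⟩
  haveI : Nontrivial E := ⟨⟨0, 1, fun h => zero_ne_one (α := Module.End F W) (congrArg Subtype.val h)⟩⟩
  haveI : IsDomain E := NoZeroDivisors.to_isDomain E
  exact congrArg Subtype.val ((Finite.isDomain_to_isField E).mul_comm
    ⟨x, (Subalgebra.mem_centralizer_iff F).2 hx⟩ ⟨y, (Subalgebra.mem_centralizer_iff F).2 hy⟩)

variable {p : ℕ} [Fact p.Prime] {V : Type u} [AddCommGroup V] [Module (ZMod p) V] [Finite V]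
  {H : Subgroup (V ≃ₗ[ZMod p] V)}

/-- A minimal invariant subspace. -/
structure IsMinInv (N : Subgroup H) (W : Submodule (ZMod p) V) : Prop where
  inv : Invariant N W
  ne_bot : W ≠ ⊥
  minimal : ∀ W' : Submodule (ZMod p) V, W' ≤ W → Invariant N W' → W' = ⊥ ∨ W' = W

theorem IsMinInv.disjoint {N : Subgroup H} {W U : Submodule (ZMod p) V} (hW : IsMinInv N W)
    (hU : IsMinInv N U) (hne : W ≠ U) : W ⊓ U = ⊥ := by
  have hi : Invariant N (W ⊓ U) := fun a ha v hv => ⟨hW.inv a ha v hv.1, hU.inv a ha v hv.2⟩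
  refine (hW.minimal _ inf_le_left hi).resolve_right fun h => hne ?_
  have hle : W ≤ U := inf_eq_left.1 h
  exact (hU.minimal W hle hW.inv).resolve_left hW.ne_bot

theorem exists_isMinInv_mem (hreg : Regular H) [Nontrivial V] (N : Subgroup H) (hNn : N.Normal)
    {v : V} (hv : v ≠ 0) : ∃ U, IsMinInv N U ∧ v ∈ U := by
  obtain ⟨W, hW, hWi, hmin⟩ := exists_minimal_invariant N
  obtain ⟨w, hw, hw0⟩ := Submodule.exists_mem_ne_zero_of_ne_bot hW
  obtain ⟨h, hh, -⟩ := hreg w v hw0 hv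
  let e : V ≃ₗ[ZMod p] V := h
  have hi : Invariant N (W.map (e : V →ₗ[ZMod p] V)) := by
    intro a ha x hx
    obtain ⟨z, hz, rfl⟩ := Submodule.mem_map.1 hx
    refine ⟨_, hWi (h⁻¹ * a * h) (by simpa using hNn.conj_mem a ha h⁻¹) z hz, ?_⟩
    show ((h * (h⁻¹ * a * h) : H) : V ≃ₗ[ZMod p] V) z = ((a * h : H) : V ≃ₗ[ZMod p] V) z
    rw [show h * (h⁻¹ * a * h) = a * h from by group]
  refine ⟨W.map (e : V →ₗ[ZMod p] V), ⟨hi, ?_, ?_⟩, ⟨w, hw, hh⟩⟩
  · simpa using hW
  · intro U hle hU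
    have hU' : Invariant N (U.comap (e : V →ₗ[ZMod p] V)) := by
      intro a ha x hx
      show ((h * a : H) : V ≃ₗ[ZMod p] V) x ∈ U
      rw [show h * a = h * a * h⁻¹ * h from by group]
      exact hU _ (hNn.conj_mem a ha h) _ hx
    have hle' : U.comap (e : V →ₗ[ZMod p] V) ≤ W := fun x hx => by
      obtain ⟨z, hz, hze⟩ := Submodule.mem_map.1 (hle hx)
      exact (e.injective hze) ▸ hz
    have key : (U.comap (e : V →ₗ[ZMod p] V)).map (e : V →ₗ[ZMod p] V) = U :=
      Submodule.map_comap_eq_of_surjective e.surjective U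
    rcases hmin _ hle' hU' with h1 | h1
    · left; rw [← key, h1, Submodule.map_bot]
    · right; rw [← key, h1]

/-- Three minimal invariant subspaces give an equivariant isomorphism between two of them. -/
theorem exists_equivariant {N : Subgroup H} {W W' U : Submodule (ZMod p) V} (hW : IsMinInv N W)
    (hW' : IsMinInv N W') (hU : IsMinInv N U) (hWW : W ≠ W') (hUW : U ≠ W) (hUW' : U ≠ W')
    (u : W') (hu : u ≠ 0) (w : W) (hv : (u : V) + (w : V) ∈ U) :
    ∃ φ : W' →ₗ[ZMod p] W, φ u = w ∧ Function.Bijective φ ∧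
      ∀ a : N, ∀ x : W', φ (restrictHom N W' hW'.inv a x) = restrictHom N W hW.inv a (φ x) := by
  have huniq : ∀ x : W', ∀ y y' : W, (x : V) + y ∈ U → (x : V) + y' ∈ U → y = y' := by
    intro x y y' h h'
    have h1 : (y : V) - y' ∈ W ⊓ U := ⟨W.sub_mem y.2 y'.2, by simpa using U.sub_mem h h'⟩
    rw [hW.disjoint hU hUW.symm, Submodule.mem_bot, sub_eq_zero] at h1
    exact Subtype.ext h1
  let D : Submodule (ZMod p) V := W' ⊓ (U ⊔ W)
  have hD : Invariant N D := by
    intro a ha x hx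
    refine ⟨hW'.inv a ha x hx.1, ?_⟩
    obtain ⟨y, hy, z, hz, rfl⟩ := Submodule.mem_sup.1 hx.2
    rw [map_add]
    exact Submodule.add_mem_sup (hU.inv a ha y hy) (hW.inv a ha z hz)
  have huD : (u : V) ∈ D := ⟨u.2, Submodule.mem_sup.2 ⟨_, hv, _, W.neg_mem w.2, by simp⟩⟩
  have htot : ∀ x : W', ∃ y : W, (x : V) + y ∈ U := by
    intro x
    rcases hW'.minimal D inf_le_left hD with h | h
    · exfalso
      rw [h, Submodule.mem_bot] at huD
      exact hu (Subtype.ext huD)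
    · have hx : (x : V) ∈ D := h.symm ▸ x.2
      obtain ⟨y, hy, z, hz, e⟩ := Submodule.mem_sup.1 hx.2
      exact ⟨⟨-z, W.neg_mem hz⟩, by simpa [← e] using hy⟩
  choose f hf using htot
  let φ : W' →ₗ[ZMod p] W :=
    { toFun := f
      map_add' := fun a b => huniq _ _ _ (hf _) (by
        have := U.add_mem (hf a) (hf b)
        simpa [add_add_add_comm] using this)
      map_smul' := fun c a => huniq _ _ _ (hf _) (by
        have := U.smul_mem c (hf a)
        simpa [smul_add] using this) }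
  have heq : ∀ a : N, ∀ x : W', φ (restrictHom N W' hW'.inv a x) = restrictHom N W hW.inv a (φ x) := by
    intro a x
    refine huniq _ _ _ (hf _) ?_
    show ((a : H) : V ≃ₗ[ZMod p] V) x + ((a : H) : V ≃ₗ[ZMod p] V) (f x) ∈ U
    rw [← map_add]
    exact hU.inv a a.2 _ (hf x)
  have hinj : Function.Injective φ := by
    rw [← LinearMap.ker_eq_bot, LinearMap.ker_eq_bot']
    intro x hx
    have h1 : (x : V) ∈ W' ⊓ U := ⟨x.2, by
      have h0 : (φ x : V) = 0 := by rw [hx]; rfl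
      have h2 : (x : V) + (φ x : V) ∈ U := hf x
      rwa [h0, add_zero] at h2⟩
    rw [hW'.disjoint hU hUW'.symm, Submodule.mem_bot] at h1
    exact Subtype.ext h1
  refine ⟨φ, huniq _ _ _ (hf u) hv, ⟨hinj, ?_⟩, heq⟩
  have hR : Invariant N ((LinearMap.range φ).map W.subtype) := by
    intro a ha y hy
    obtain ⟨_, ⟨x, rfl⟩, rfl⟩ := Submodule.mem_map.1 hy
    refine ⟨φ (restrictHom N W' hW'.inv ⟨a, ha⟩ x), ⟨_, rfl⟩, ?_⟩
    rw [heq]; rfl
  rw [← LinearMap.range_eq_top]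
  apply Submodule.map_injective_of_injective W.injective_subtype
  rw [Submodule.map_subtype_top]
  refine (hW.minimal _ (Submodule.map_subtype_le _ _) hR).resolve_left fun h => ?_
  have hm : ((φ u : W) : V) ∈ (LinearMap.range φ).map W.subtype := ⟨φ u, ⟨u, rfl⟩, rfl⟩
  rw [h, Submodule.mem_bot] at hm
  have : φ u = φ 0 := by rw [map_zero]; exact Subtype.ext hm
  exact hu (hinj this)

/-- A non-abelian normal subgroup is irreducible. -/
theorem irreducible_of_nonabelian (hreg : Regular H) [Nontrivial V] (N : Subgroup H) (hNn : N.Normal)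
    (hNna : ¬ IsMulCommutative N) (W₁ : Submodule (ZMod p) V) (hW₁ : Invariant N W₁) : W₁ = ⊥ ∨ W₁ = ⊤ := by
  obtain ⟨W, hW0, hWi, hmin⟩ := exists_minimal_invariant N
  have hW : IsMinInv N W := ⟨hWi, hW0, hmin⟩
  by_cases hWt : W = ⊤
  · subst hWt; exact hmin _ le_top hW₁
  exfalso
  obtain ⟨u₀, hu₀⟩ : ∃ u, u ∉ W := by
    by_contra hall
    push Not at hall
    exact hWt (eq_top_iff.2 fun x _ => hall x)
  obtain ⟨W', hW', hu₀'⟩ := exists_isMinInv_mem hreg N hNn (v := u₀) fun h => hu₀ (h ▸ W.zero_mem)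
  have hWW : W ≠ W' := fun h => hu₀ (h ▸ hu₀')
  have hdis := hW.disjoint hW' hWW
  have hu : (⟨u₀, hu₀'⟩ : W') ≠ 0 := fun h => hu₀ (by
    rw [show u₀ = 0 from congrArg Subtype.val h]; exact W.zero_mem)
  have hφ : ∀ w : W, w ≠ 0 → ∃ φ : W' →ₗ[ZMod p] W, φ ⟨u₀, hu₀'⟩ = w ∧ Function.Bijective φ ∧
      ∀ a : N, ∀ x : W', φ (restrictHom N W' hW'.inv a x) = restrictHom N W hW.inv a (φ x) := by
    intro w hw
    have hv0 : u₀ + (w : V) ≠ 0 := fun h => hu₀ (by
      rw [eq_neg_of_add_eq_zero_left h]; exact W.neg_mem w.2)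
    obtain ⟨U, hU, hvU⟩ := exists_isMinInv_mem hreg N hNn hv0
    refine exists_equivariant hW hW' hU hWW ?_ ?_ _ hu w hvU
    · intro h
      subst h
      exact hu₀ ((Submodule.add_mem_iff_left U w.2).1 hvU)
    · intro h
      subst h
      have h1 : (w : V) ∈ W ⊓ U := ⟨w.2, (Submodule.add_mem_iff_right U hu₀').1 hvU⟩
      rw [hdis, Submodule.mem_bot] at h1
      exact hw (Subtype.ext h1)
  obtain ⟨w₀, hw₀, hw₀0⟩ := Submodule.exists_mem_ne_zero_of_ne_bot hW0
  have hw : (⟨w₀, hw₀⟩ : W) ≠ 0 := fun h => hw₀0 (congrArg Subtype.val h)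
  obtain ⟨φ₀, hφ₀, hb₀, he₀⟩ := hφ _ hw
  let e₀ := LinearEquiv.ofBijective φ₀ hb₀
  haveI : Nontrivial W := Submodule.nontrivial_iff_ne_bot.2 hW0
  obtain ⟨f, hfdef⟩ : ∃ f, f = restrictHom N W hWi := ⟨_, rfl⟩
  have hψ : ∀ w : W, ∃ ψ : Module.End (ZMod p) W, ψ ⟨w₀, hw₀⟩ = w ∧ ∀ s ∈ Set.range f, s * ψ = ψ * s := by
    intro w
    by_cases hw1 : w = 0
    · exact ⟨0, by simp [hw1], fun s _ => by simp⟩
    obtain ⟨φ, h1, -, h3⟩ := hφ w hw1
    refine ⟨φ ∘ₗ (e₀.symm : W →ₗ[ZMod p] W'), ?_, ?_⟩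
    · show φ (e₀.symm ⟨w₀, hw₀⟩) = w
      rw [show e₀.symm ⟨w₀, hw₀⟩ = ⟨u₀, hu₀'⟩ from e₀.injective (by rw [e₀.apply_symm_apply]; exact hφ₀.symm)]
      exact h1
    · rintro _ ⟨a, rfl⟩
      refine LinearMap.ext fun x => ?_
      show f a (φ (e₀.symm x)) = φ (e₀.symm (f a x))
      have h4 : e₀.symm (f a x) = restrictHom N W' hW'.inv a (e₀.symm x) := e₀.injective (by
        rw [e₀.apply_symm_apply]
        show f a x = φ₀ _
        rw [he₀, show φ₀ (e₀.symm x) = x from e₀.apply_symm_apply x, hfdef])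
      rw [h4, h3, hfdef]
  have hirr : ∀ X : Submodule (ZMod p) W, (∀ s ∈ Set.range f, ∀ v ∈ X, s v ∈ X) → X = ⊥ ∨ X = ⊤ := by
    intro X hX
    have hXi : Invariant N (X.map W.subtype) := by
      intro a ha y hy
      obtain ⟨x, hx, rfl⟩ := Submodule.mem_map.1 hy
      exact ⟨f ⟨a, ha⟩ x, hX _ ⟨_, rfl⟩ x hx, by rw [hfdef]; rfl⟩
    rcases hmin _ (Submodule.map_subtype_le _ _) hXi with h | h
    · exact Or.inl (Submodule.map_injective_of_injective W.injective_subtype (h.trans (Submodule.map_bot _).symm))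
    · exact Or.inr (Submodule.map_injective_of_injective W.injective_subtype (h.trans (Submodule.map_subtype_top W).symm))
  refine hNna ⟨⟨fun n m => ?_⟩⟩
  apply restrictHom_injective hreg N hWi hW0
  obtain ⟨ψn, hn, hn'⟩ := hψ (f n ⟨w₀, hw₀⟩)
  obtain ⟨ψm, hm, hm'⟩ := hψ (f m ⟨w₀, hw₀⟩)
  have hcomm := end_commute_of_irreducible _ hirr ψn ψm hn' hm'
  have hat : f (n * m) ⟨w₀, hw₀⟩ = f (m * n) ⟨w₀, hw₀⟩ := by
    rw [map_mul, map_mul, Module.End.mul_apply, Module.End.mul_apply, ← hn, ← hm]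
    rw [show f n (ψm ⟨w₀, hw₀⟩) = ψm (f n ⟨w₀, hw₀⟩) from congrArg (fun g : Module.End (ZMod p) W => g ⟨w₀, hw₀⟩) (hm' _ ⟨n, rfl⟩),
      show f m (ψn ⟨w₀, hw₀⟩) = ψn (f m ⟨w₀, hw₀⟩) from congrArg (fun g : Module.End (ZMod p) W => g ⟨w₀, hw₀⟩) (hn' _ ⟨m, rfl⟩),
      ← hn, ← hm]
    exact (congrArg (fun g => g ⟨w₀, hw₀⟩) hcomm).symm
  rw [hfdef] at hat
  -- two elements agreeing on a non-zero vector are equal
  have h' : (((n * m : N) : H) : V ≃ₗ[ZMod p] V) w₀ = (((m * n : N) : H) : V ≃ₗ[ZMod p] V) w₀ :=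
    congrArg Subtype.val hat
  have hne : (((m * n : N) : H) : V ≃ₗ[ZMod p] V) w₀ ≠ 0 := by
    simpa only [ne_eq, LinearEquiv.map_eq_zero_iff] using hw₀0
  exact congrArg _ (Subtype.ext ((hreg w₀ _ hw₀0 hne).unique h' rfl))

/-- The centraliser of an irreducible subgroup is abelian. -/
theorem centralizer_commutative [Nontrivial V] (N : Subgroup H)
    (hirr : ∀ W : Submodule (ZMod p) V, Invariant N W → W = ⊥ ∨ W = ⊤) :
    IsMulCommutative (Subgroup.centralizer (N : Set H)) := by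
  refine ⟨⟨fun x y => ?_⟩⟩
  let L : H → Module.End (ZMod p) V := fun h => ((h : V ≃ₗ[ZMod p] V) : V →ₗ[ZMod p] V)
  have hL : ∀ a b : H, L (a * b) = L a * L b := fun a b => rfl
  have hc : ∀ z : Subgroup.centralizer (N : Set H), ∀ s ∈ L '' (N : Set H), s * L z = L z * s := by
    rintro z _ ⟨n, hn, rfl⟩
    rw [← hL, ← hL, Subgroup.mem_centralizer_iff.1 z.2 n hn]
  have h := end_commute_of_irreducible (L '' (N : Set H))
    (fun U hU => hirr U fun a ha v hv => hU _ ⟨a, ha, rfl⟩ v hv) (L x) (L y) (hc x) (hc y)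
  exact Subtype.ext (Subtype.ext (LinearEquiv.toLinearMap_injective h))

end CfsgLib.Perm.RegLin
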