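import Mathlib

/-!
# Linear groups regular on the non-zero vectors: normal abelian subgroups
-/

set_option autoImplicit false
set_option linter.unusedSectionVars false
set_option linter.style.haveILetI false

namespace CfsgLib.Perm.RegLin

universe u

variable {p : ℕ} [Fact p.Prime] {V : Type u} [AddCommGroup V] [Module (ZMod p) V] [Finite V]
  {H : Subgroup (V ≃ₗ[ZMod p] V)}

instance finite_linearEquiv : Finite (V ≃ₗ[ZMod p] V) :=
  Finite.of_injective (fun e => (e : V → V)) DFunLike.coe_injective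

variable (H) in
/-- Regularity on non-zero vectors. -/
def Regular : Prop := ∀ v w : V, v ≠ 0 → w ≠ 0 → ∃! h : H, (h : V ≃ₗ[ZMod p] V) v = w

/-- A subspace invariant under a subgroup. -/
def Invariant (A : Subgroup H) (W : Submodule (ZMod p) V) : Prop :=
  ∀ a ∈ A, ∀ v ∈ W, ((a : H) : V ≃ₗ[ZMod p] V) v ∈ W

theorem eq_one_of_fix (hreg : Regular H) {h : H} {v : V} (hv : v ≠ 0) (hh : (h : V ≃ₗ[ZMod p] V) v = v) : h = 1 :=
  (hreg v v hv hv).unique hh rfl

theorem exists_minimal_invariant [Nontrivial V] (A : Subgroup H) :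
    ∃ W : Submodule (ZMod p) V, W ≠ ⊥ ∧ Invariant A W ∧
      ∀ W' : Submodule (ZMod p) V, W' ≤ W → Invariant A W' → W' = ⊥ ∨ W' = W := by
  obtain ⟨W, ⟨hW, hWi⟩, hmin⟩ := (wellFounded_lt (α := Submodule (ZMod p) V)).has_min
    {W | W ≠ ⊥ ∧ Invariant A W} ⟨⊤, top_ne_bot, fun _ _ _ _ => Submodule.mem_top⟩
  refine ⟨W, hW, hWi, fun W' hle hi => or_iff_not_imp_left.2 fun hne => ?_⟩
  exact eq_of_le_of_not_lt hle (hmin W' ⟨hne, hi⟩)

/-- The restriction of a subgroup to an invariant subspace. -/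
def restrictHom (A : Subgroup H) (W : Submodule (ZMod p) V) (hW : Invariant A W) : A →* Module.End (ZMod p) W where
  toFun a := ((((a : H) : V ≃ₗ[ZMod p] V)) : V →ₗ[ZMod p] V).restrict fun v hv => hW a a.2 v hv
  map_one' := LinearMap.ext fun v => Subtype.ext rfl
  map_mul' a b := LinearMap.ext fun v => Subtype.ext rfl

theorem restrictHom_injective (hreg : Regular H) (A : Subgroup H) {W : Submodule (ZMod p) V} (hW : Invariant A W)
    (hne : W ≠ ⊥) : Function.Injective (restrictHom A W hW) := by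
  obtain ⟨v, hv, hv0⟩ := Submodule.exists_mem_ne_zero_of_ne_bot hne
  intro a b h
  have h' : ((a : H) : V ≃ₗ[ZMod p] V) v = ((b : H) : V ≃ₗ[ZMod p] V) v :=
    congrArg (fun f => ((f ⟨v, hv⟩ : W) : V)) h
  have hb0 : ((b : H) : V ≃ₗ[ZMod p] V) v ≠ 0 := by simpa using hv0
  exact Subtype.ext ((hreg v _ hv0 hb0).unique h' rfl)

/-- An abelian subgroup is cyclic. -/
theorem cyclic_of_minimal (hreg : Regular H) (A : Subgroup H) (hAc : IsMulCommutative A)
    {W : Submodule (ZMod p) V} (hW : Invariant A W) (hne : W ≠ ⊥)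
    (hmin : ∀ W' : Submodule (ZMod p) V, W' ≤ W → Invariant A W' → W' = ⊥ ∨ W' = W) : IsCyclic A := by
  obtain ⟨f, hf⟩ : ∃ f, f = restrictHom A W hW := ⟨_, rfl⟩
  let R := Algebra.adjoin (ZMod p) (Set.range f)
  haveI : IsMulCommutative R := Algebra.isMulCommutative_adjoin (R := ZMod p) (by
    rintro _ ⟨a, rfl⟩ _ ⟨b, rfl⟩
    rw [← map_mul, ← map_mul]
    congr 1
    exact hAc.is_comm.comm a b)
  letI : CommRing R := { (inferInstance : Ring R) with mul_comm := fun a b => IsMulCommutative.is_comm.comm a b }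
  have hcomm : ∀ r : R, ∀ a : A, f a * (r : Module.End (ZMod p) W) = (r : Module.End (ZMod p) W) * f a := fun r a =>
    congrArg Subtype.val (IsMulCommutative.is_comm.comm (⟨f a, Algebra.subset_adjoin ⟨a, rfl⟩⟩ : R) r)
  haveI : Nontrivial W := Submodule.nontrivial_iff_ne_bot.2 hne
  haveI : Nontrivial R := ⟨⟨0, 1, fun h => zero_ne_one (α := Module.End (ZMod p) W) (congrArg Subtype.val h)⟩⟩
  have hker : ∀ r : R, (r : Module.End (ZMod p) W) ≠ 0 → Function.Injective (r : Module.End (ZMod p) W) := by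
    intro r hr
    rw [← LinearMap.ker_eq_bot]
    let K := (LinearMap.ker (r : Module.End (ZMod p) W)).map W.subtype
    have hKi : Invariant A K := by
      intro a ha v hv
      obtain ⟨w, hw, rfl⟩ := Submodule.mem_map.1 hv
      refine ⟨f ⟨a, ha⟩ w, ?_, by rw [hf]; rfl⟩
      have h1 := congrArg (fun g => g w) (hcomm r ⟨a, ha⟩)
      simp only [Module.End.mul_apply] at h1
      refine LinearMap.mem_ker.2 ?_
      replace hw := LinearMap.mem_ker.1 hw
      rw [← h1, hw, map_zero]
    rcases hmin K (Submodule.map_subtype_le W _) hKi with h | h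
    · exact Submodule.map_injective_of_injective W.injective_subtype (h.trans (Submodule.map_bot _).symm)
    · exfalso
      apply hr
      refine LinearMap.ext fun w => ?_
      have : (w : V) ∈ K := by rw [h]; exact w.2
      obtain ⟨w', hw', e⟩ := Submodule.mem_map.1 this
      rw [show w' = w from Subtype.ext e] at hw'
      exact LinearMap.mem_ker.1 hw'
  haveI : NoZeroDivisors R := ⟨fun {x y} hxy => or_iff_not_imp_left.2 fun hx => by
    have hx' : (x : Module.End (ZMod p) W) ≠ 0 := fun h => hx (Subtype.ext h)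
    refine Subtype.ext (LinearMap.ext fun w => hker x hx' ?_)
    have := congrArg (fun g : R => (g : Module.End (ZMod p) W) w) hxy
    simpa using this⟩
  haveI : IsDomain R := NoZeroDivisors.to_isDomain R
  let g : A →* R :=
    { toFun := fun a => ⟨f a, Algebra.subset_adjoin ⟨a, rfl⟩⟩
      map_one' := Subtype.ext (map_one f)
      map_mul' := fun a b => Subtype.ext (map_mul f a b) }
  exact isCyclic_of_injective_ringHom g fun a b h =>
    restrictHom_injective hreg A hW hne (by rw [← hf]; exact congrArg Subtype.val h)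

/-- The order divides the number of non-zero vectors of an invariant subspace. -/
theorem card_dvd (hreg : Regular H) (A : Subgroup H) {W : Submodule (ZMod p) V} (hW : Invariant A W) :
    Nat.card A ∣ p ^ Module.finrank (ZMod p) W - 1 := by
  classical
  let X := {v : W // v ≠ 0}
  letI : MulAction A X :=
    { smul := fun a x => ⟨restrictHom A W hW a x.1, fun h => x.2 (Subtype.ext (by
          have h' : ((a : H) : V ≃ₗ[ZMod p] V) (x.1 : V) = 0 := congrArg Subtype.val h
          simpa using h'))⟩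
      one_smul := fun x => Subtype.ext (Subtype.ext rfl)
      mul_smul := fun a b x => Subtype.ext (Subtype.ext rfl) }
  have hfree : ∀ x : X, MulAction.stabilizer A x = ⊥ := by
    intro x
    rw [eq_bot_iff]
    intro a ha
    rw [Subgroup.mem_bot]
    apply Subtype.ext
    refine eq_one_of_fix hreg (v := ((x.1 : W) : V)) (fun h => x.2 (Subtype.ext h)) ?_
    exact congrArg (fun y : X => ((y.1 : W) : V)) ha
  have hX : Nat.card X = p ^ Module.finrank (ZMod p) W - 1 := by
    haveI : Finite W := inferInstance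
    haveI := Fintype.ofFinite W
    rw [Nat.card_eq_fintype_card, Fintype.card_subtype_compl, Fintype.card_subtype_eq,
      Module.card_eq_pow_finrank (K := ZMod p), ZMod.card]
  rw [← hX, Nat.card_congr (MulAction.selfEquivSigmaOrbitsQuotientStabilizer A X)]
  haveI : Finite (MulAction.orbitRel.Quotient A X) := inferInstance
  haveI := Fintype.ofFinite (MulAction.orbitRel.Quotient A X)
  rw [Nat.card_sigma]
  refine Finset.dvd_sum fun q _ => ?_
  rw [hfree, ← Subgroup.index_eq_card, Subgroup.index_bot]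

/-- A maximal normal abelian subgroup is cyclic and reducible. -/
theorem cyclic_reducible (hreg : Regular H) [Nontrivial V]
    (hI : ∀ A : Subgroup H, A.Normal → IsCyclic A → ∃ W : Submodule (ZMod p) V, W ≠ ⊥ ∧ W ≠ ⊤ ∧ Invariant A W)
    (A : Subgroup H) (hAn : A.Normal) (hAc : IsMulCommutative A) :
    IsCyclic A ∧ ∃ W : Submodule (ZMod p) V, W ≠ ⊥ ∧ W ≠ ⊤ ∧ Invariant A W ∧
      (∀ W' : Submodule (ZMod p) V, W' ≤ W → Invariant A W' → W' = ⊥ ∨ W' = W) ∧
      Nat.card A ∣ p ^ Module.finrank (ZMod p) W - 1 := by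
  obtain ⟨W, hW, hWi, hmin⟩ := exists_minimal_invariant A
  have hcyc := cyclic_of_minimal hreg A hAc hWi hW hmin
  refine ⟨hcyc, W, hW, ?_, hWi, hmin, card_dvd hreg A hWi⟩
  rintro rfl
  obtain ⟨U, hU, hU', hUi⟩ := hI A hAn hcyc
  rcases hmin U le_top hUi with h | h
  · exact hU h
  · exact hU' h

theorem nontrivial_of_hyp (hI : ∀ A : Subgroup H, A.Normal → IsCyclic A →
    ∃ W : Submodule (ZMod p) V, W ≠ ⊥ ∧ W ≠ ⊤ ∧ Invariant A W) : Nontrivial V := by
  obtain ⟨W, hW, -, -⟩ := hI ⊥ inferInstance inferInstance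
  obtain ⟨v, -, hv⟩ := Submodule.exists_mem_ne_zero_of_ne_bot hW
  exact ⟨⟨v, 0, hv⟩⟩

/-- A maximal normal abelian subgroup is a proper subgroup of its centraliser. -/
theorem lt_centralizer (hreg : Regular H)
    (hI : ∀ A : Subgroup H, A.Normal → IsCyclic A → ∃ W : Submodule (ZMod p) V, W ≠ ⊥ ∧ W ≠ ⊤ ∧ Invariant A W)
    (A : Subgroup H) (hAn : A.Normal) (hAc : IsMulCommutative A)
    (hAmax : ∀ B : Subgroup H, B.Normal → IsMulCommutative B → A ≤ B → B = A) :
    A < Subgroup.centralizer (A : Set H) ∧ ¬ IsMulCommutative (Subgroup.centralizer (A : Set H)) := by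
  classical
  haveI := nontrivial_of_hyp hI
  haveI := hAn
  obtain ⟨hcyc, W, hW, hWt, hWi, hmin, hdvd⟩ := cyclic_reducible hreg hI A hAn hAc
  have hAC : A ≤ Subgroup.centralizer (A : Set H) := fun a ha => Subgroup.mem_centralizer_iff.2 fun b hb =>
    congrArg Subtype.val (hAc.is_comm.comm (⟨b, hb⟩ : A) ⟨a, ha⟩)
  suffices hne : A ≠ Subgroup.centralizer (A : Set H) by
    refine ⟨lt_of_le_of_ne hAC hne, fun hc => hne (hAmax _ ?_ hc hAC).symm⟩
    exact Subgroup.normal_centralizer
  intro heq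
  obtain ⟨⟨a₀, ha₀⟩, hgen⟩ := hcyc.exists_generator
  -- the order of `H` is at most the square of the order of `A`
  have hle : Nat.card H ≤ Nat.card A * Nat.card A := by
    let φ : H → A := fun h => ⟨h * a₀ * h⁻¹, hAn.conj_mem a₀ ha₀ h⟩
    haveI : Fintype H := Fintype.ofFinite H
    haveI : Fintype A := Fintype.ofFinite A
    rw [Nat.card_eq_fintype_card, ← Finset.card_univ]
    refine le_trans (Finset.card_le_mul_card_image (f := φ) Finset.univ (Nat.card A) fun y hy => ?_)
      (Nat.mul_le_mul_left _ (le_trans (Finset.card_le_univ _) (le_of_eq Nat.card_eq_fintype_card.symm)))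
    obtain ⟨h₀, -, rfl⟩ := Finset.mem_image.1 hy
    rw [Nat.card_eq_fintype_card, ← Finset.card_univ (α := A)]
    refine Finset.card_le_card_of_injOn (fun h => if hm : h₀⁻¹ * h ∈ A then (⟨h₀⁻¹ * h, hm⟩ : A) else 1)
      (fun _ _ => Finset.mem_univ _) ?_
    have hmem : ∀ h, φ h = φ h₀ → h₀⁻¹ * h ∈ A := by
      intro h hh
      rw [heq, Subgroup.mem_centralizer_iff]
      intro b hb
      have hcomm : Commute (h₀⁻¹ * h) a₀ := by
        have e : h * a₀ * h⁻¹ = h₀ * a₀ * h₀⁻¹ := congrArg Subtype.val hh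
        show h₀⁻¹ * h * a₀ = a₀ * (h₀⁻¹ * h)
        calc h₀⁻¹ * h * a₀ = h₀⁻¹ * (h * a₀ * h⁻¹) * h := by group
          _ = a₀ * (h₀⁻¹ * h) := by rw [e]; group
      obtain ⟨k, hk⟩ := hgen ⟨b, hb⟩
      have hbk : b = a₀ ^ k := by
        have := congrArg Subtype.val hk
        simpa using this.symm
      rw [hbk]
      exact (hcomm.zpow_right k).eq.symm
    intro x hx y hy h
    simp only [Finset.coe_filter, Finset.mem_univ, true_and, Set.mem_ofPred_eq] at hx hy
    simp only [dif_pos (hmem x hx), dif_pos (hmem y hy)] at h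
    exact mul_left_cancel (congrArg Subtype.val h)
  -- some translate of `W` is independent of `W`
  obtain ⟨v, hv, hv0⟩ := Submodule.exists_mem_ne_zero_of_ne_bot hW
  obtain ⟨u, hu⟩ : ∃ u, u ∉ W := by
    by_contra hall
    push Not at hall
    exact hWt (eq_top_iff.2 fun x _ => hall x)
  obtain ⟨h, hh, -⟩ := hreg v u hv0 fun h => hu (h ▸ W.zero_mem)
  let W' := W.map ((h : V ≃ₗ[ZMod p] V) : V →ₗ[ZMod p] V)
  have hW'i : Invariant A (W ⊓ W') := by
    intro a ha w hw
    refine ⟨hWi a ha w hw.1, ?_⟩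
    obtain ⟨z, hz, rfl⟩ := Submodule.mem_map.1 hw.2
    refine ⟨_, hWi (h⁻¹ * a * h) (by simpa using hAn.conj_mem a ha h⁻¹) z hz, ?_⟩
    show ((h * (h⁻¹ * a * h) : H) : V ≃ₗ[ZMod p] V) z = ((a * h : H) : V ≃ₗ[ZMod p] V) z
    rw [show h * (h⁻¹ * a * h) = a * h from by group]
  have hfr : Module.finrank (ZMod p) W' = Module.finrank (ZMod p) W :=
    LinearEquiv.finrank_map_eq (h : V ≃ₗ[ZMod p] V) W
  have hdis : W ⊓ W' = ⊥ := by
    refine (hmin _ inf_le_left hW'i).resolve_right fun e => hu ?_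
    have hle' : W ≤ W' := inf_eq_left.1 e
    have : W = W' := Submodule.eq_of_le_of_finrank_eq hle' hfr.symm
    rw [this, ← hh]
    exact ⟨v, hv, rfl⟩
  have hdim : 2 * Module.finrank (ZMod p) W ≤ Module.finrank (ZMod p) V := by
    have h1 := Submodule.finrank_sup_add_finrank_inf_eq W W'
    rw [hdis, finrank_bot, add_zero, hfr] at h1
    have h2 := Submodule.finrank_le (W ⊔ W')
    omega
  have hHcard : Nat.card V ≤ Nat.card H + 1 := by
    haveI : Fintype V := Fintype.ofFinite V
    rw [Nat.card_eq_fintype_card]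
    have h1 : Fintype.card {w : V // w ≠ 0} ≤ Nat.card H := by
      rw [← Nat.card_eq_fintype_card]
      exact Nat.card_le_card_of_injective (fun w : {w : V // w ≠ 0} => (hreg v w.1 hv0 w.2).exists.choose)
        fun a b e => Subtype.ext (by
          rw [← (hreg v a.1 hv0 a.2).exists.choose_spec, ← (hreg v b.1 hv0 b.2).exists.choose_spec]
          exact congrArg (fun k : H => (k : V ≃ₗ[ZMod p] V) v) e)
    rw [Fintype.card_subtype_compl, Fintype.card_subtype_eq] at h1
    omega
  obtain ⟨q, hq⟩ : ∃ q, q = p ^ Module.finrank (ZMod p) W := ⟨_, rfl⟩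
  have hq2 : 2 ≤ q := by
    rw [hq]
    haveI : Nontrivial W := Submodule.nontrivial_iff_ne_bot.2 hW
    calc 2 ≤ p := (Fact.out : p.Prime).two_le
      _ ≤ _ := Nat.le_self_pow Module.finrank_pos.ne' p
  have hAle : Nat.card A ≤ q - 1 := Nat.le_of_dvd (by omega) (hq ▸ hdvd)
  have hqV : q * q ≤ Nat.card V := by
    rw [hq, ← pow_add, ← two_mul, Module.natCard_eq_pow_finrank (K := ZMod p) (V := V), Nat.card_zmod]
    exact Nat.pow_le_pow_right (Fact.out : p.Prime).pos hdim
  obtain ⟨r, rfl⟩ : ∃ r, q = r + 1 := ⟨q - 1, by omega⟩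
  have hsq : Nat.card A * Nat.card A ≤ r * r := Nat.mul_le_mul (by omega) (by omega)
  nlinarith

end CfsgLib.Perm.RegLin
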