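import Mathlib

/-!
# Subdirect subgroups and automorphisms of powers of a nonabelian simple group
-/

set_option autoImplicit false
set_option linter.all false

namespace CfsgLib.Perm.Scott

variable {T : Type*} [Group T] [IsSimpleGroup T] {m : ℕ}

theorem exists_noncomm (hT : ¬ IsMulCommutative T) : ∃ t u : T, t * u * t⁻¹ * u⁻¹ ≠ 1 := by
  by_contra h
  push Not at h
  refine hT ⟨⟨fun t u => ?_⟩⟩
  have := h t u
  rwa [mul_inv_eq_one, mul_inv_eq_iff_eq_mul] at this

theorem exists_noncomm_left (hT : ¬ IsMulCommutative T) {t : T} (ht : t ≠ 1) : ∃ u : T, t * u * t⁻¹ * u⁻¹ ≠ 1 := by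
  by_contra h
  push Not at h
  have hmem : t ∈ Subgroup.center T := Subgroup.mem_center_iff.2 fun u => by
    have := h u
    rw [mul_inv_eq_one, mul_inv_eq_iff_eq_mul] at this
    exact this.symm
  rcases IsSimpleGroup.eq_bot_or_eq_top_of_normal (Subgroup.center T) inferInstance with hc | hc
  · rw [hc, Subgroup.mem_bot] at hmem; exact ht hmem
  · exact hT ⟨⟨fun a b => (Subgroup.mem_center_iff.1 (hc ▸ Subgroup.mem_top b) a)⟩⟩

/-- a normal subgroup of a power contains a factor -/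
theorem exists_factor_le (hT : ¬ IsMulCommutative T) (L : Subgroup (Fin m → T)) (hLn : L.Normal) {x : Fin m → T}
    (hx : x ∈ L) (hx1 : x ≠ 1) : ∃ j, x j ≠ 1 ∧ ∀ t, Pi.mulSingle j t ∈ L := by
  obtain ⟨j, hj⟩ : ∃ j, x j ≠ 1 := by
    by_contra h
    push Not at h
    exact hx1 (funext h)
  refine ⟨j, hj, ?_⟩
  obtain ⟨u, hu⟩ := exists_noncomm_left hT hj
  haveI := hLn
  obtain ⟨A, hA⟩ : ∃ A : Subgroup T, A = L.comap (MonoidHom.mulSingle (fun _ : Fin m => T) j) := ⟨_, rfl⟩
  have hAn : A.Normal := hA ▸ hLn.comap _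
  have hmem : x j * u * (x j)⁻¹ * u⁻¹ ∈ A := by
    rw [hA, Subgroup.mem_comap]
    have h1 : x * Pi.mulSingle j u * x⁻¹ * (Pi.mulSingle j u)⁻¹ ∈ L := by
      have h2 := hLn.conj_mem _ (L.inv_mem hx) (Pi.mulSingle j u)
      have h3 := L.mul_mem hx h2
      rwa [show x * (Pi.mulSingle j u * x⁻¹ * (Pi.mulSingle j u)⁻¹) =
        x * Pi.mulSingle j u * x⁻¹ * (Pi.mulSingle j u)⁻¹ by group] at h3
    convert h1 using 1
    funext k
    by_cases hk : k = j
    · subst hk; simp
    · simp [MonoidHom.mulSingle_apply, Pi.mulSingle_eq_of_ne hk]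
  rcases IsSimpleGroup.eq_bot_or_eq_top_of_normal A hAn with h | h
  · rw [h, Subgroup.mem_bot] at hmem; exact absurd hmem hu
  · intro t
    have ht : t ∈ A := h ▸ Subgroup.mem_top t
    rw [hA, Subgroup.mem_comap] at ht
    exact ht

omit [IsSimpleGroup T] in
theorem ext_of_singles {M : Type*} [Group M] {f g : (Fin m → T) →* M}
    (h : ∀ k t, f (Pi.mulSingle k t) = g (Pi.mulSingle k t)) : f = g := by
  classical
  refine MonoidHom.ext fun x => ?_
  suffices hU : ∀ (U : Finset (Fin m)) (x : Fin m → T), (∀ j ∉ U, x j = 1) → f x = g x from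
    hU Finset.univ x fun j hj => absurd (Finset.mem_univ j) hj
  intro U
  induction U using Finset.induction_on with
  | empty =>
    intro x hx
    rw [show x = 1 from funext fun j => hx j (by simp), map_one, map_one]
  | insert i U hiU ih =>
    intro x hx
    have e : x = Pi.mulSingle i (x i) * Function.update x i 1 := funext fun j => by
      by_cases hj : j = i
      · subst hj; simp
      · simp [Pi.mulSingle_eq_of_ne hj, Function.update_of_ne hj]
    rw [e, map_mul, map_mul, h, ih _ fun j hj => ?_]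
    by_cases hji : j = i
    · subst hji; simp
    · rw [Function.update_of_ne hji]; exact hx j (by simp [hji, hj])

/-- automorphisms permute the factors -/
theorem exists_perm (hT : ¬ IsMulCommutative T) (φ : (Fin m → T) ≃* (Fin m → T)) :
    ∃ (σ : Equiv.Perm (Fin m)) (α : Fin m → (T ≃* T)), ∀ x i, φ x (σ i) = α i (x i) := by
  classical
  obtain ⟨u₀, hu₀⟩ := exists_ne (1 : T)
  have hne : ∀ i, (Pi.mulSingle i u₀ : Fin m → T) ≠ 1 := fun i h => hu₀ (by simpa using congrFun h i)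
  obtain ⟨fac, hfac⟩ : ∃ fac : Fin m → Subgroup (Fin m → T), ∀ i x, x ∈ fac i ↔ ∀ k, k ≠ i → x k = 1 :=
    ⟨fun i => (MonoidHom.mulSingle (fun _ : Fin m => T) i).range, fun i x => by
      constructor
      · rintro ⟨t, rfl⟩ k hk
        simp [Pi.mulSingle_eq_of_ne hk]
      · intro h
        refine ⟨x i, funext fun k => ?_⟩
        by_cases hk : k = i
        · subst hk; simp
        · simp [Pi.mulSingle_eq_of_ne hk, h k hk]⟩
  have hsingle : ∀ i t, (Pi.mulSingle i t : Fin m → T) ∈ fac i := fun i t =>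
    (hfac i _).2 fun k hk => by rw [Pi.mulSingle_eq_of_ne hk]
  have hnorm : ∀ i, (fac i).Normal := fun i => ⟨fun x hx g => (hfac i _).2 fun k hk => by
    simp [(hfac i x).1 hx k hk]⟩
  have hone : ∀ (ψ : (Fin m → T) ≃* (Fin m → T)) i, ∃ j, ∀ t, ψ.symm (Pi.mulSingle j t) ∈ fac i := fun ψ i => by
    obtain ⟨j, -, hj⟩ := exists_factor_le hT _ ((hnorm i).map ψ.toMonoidHom ψ.surjective)
      (x := ψ (Pi.mulSingle i u₀)) ⟨_, hsingle i u₀, rfl⟩ (fun h => hne i (ψ.injective (h.trans (map_one ψ).symm)))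
    refine ⟨j, fun t => ?_⟩
    obtain ⟨y, hy, hy'⟩ := hj t
    rw [← hy']
    simpa using hy
  have hkey : ∀ i, ∃ j, (∀ t, φ (Pi.mulSingle i t) ∈ fac j) ∧ ∀ t, φ.symm (Pi.mulSingle j t) ∈ fac i := by
    intro i
    obtain ⟨j, hj⟩ := hone φ i
    obtain ⟨k, hk⟩ := hone φ.symm j
    refine ⟨j, ?_, hj⟩
    have hki : k = i := by
      by_contra hki
      have h1 := hk u₀
      rw [MulEquiv.symm_symm] at h1
      have h2 : φ (Pi.mulSingle k u₀) = Pi.mulSingle j (φ (Pi.mulSingle k u₀) j) := funext fun l => by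
        by_cases hl : l = j
        · subst hl; simp
        · rw [Pi.mulSingle_eq_of_ne hl, (hfac j _).1 h1 l hl]
      have h3 := hj (φ (Pi.mulSingle k u₀) j)
      rw [← h2, MulEquiv.symm_apply_apply] at h3
      exact hu₀ (by simpa using (hfac i _).1 h3 k hki)
    subst hki
    simpa using hk
  choose σ hσ hσ' using hkey
  have hσinj : Function.Injective σ := by
    intro i k h
    by_contra hik
    have h1 := (hσ' k) (φ (Pi.mulSingle i u₀) (σ i))
    rw [← h] at h1
    have h2 : φ (Pi.mulSingle i u₀) = Pi.mulSingle (σ i) (φ (Pi.mulSingle i u₀) (σ i)) := funext fun l => by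
      by_cases hl : l = σ i
      · subst hl; simp
      · rw [Pi.mulSingle_eq_of_ne hl, (hfac _ _).1 (hσ i u₀) l hl]
    rw [← h2, MulEquiv.symm_apply_apply] at h1
    exact hu₀ (by simpa using (hfac k _).1 h1 i hik)
  have heq : ∀ i t, φ (Pi.mulSingle i t) = Pi.mulSingle (σ i) (φ (Pi.mulSingle i t) (σ i)) := fun i t => funext fun l => by
    by_cases hl : l = σ i
    · subst hl; simp
    · rw [Pi.mulSingle_eq_of_ne hl, (hfac _ _).1 (hσ i t) l hl]
  obtain ⟨f, hf⟩ : ∃ f : Fin m → (T →* T), ∀ i t, f i t = φ (Pi.mulSingle i t) (σ i) :=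
    ⟨fun i => ((Pi.evalMonoidHom (fun _ : Fin m => T) (σ i)).comp φ.toMonoidHom).comp (MonoidHom.mulSingle (fun _ => T) i),
      fun i t => rfl⟩
  have hbij : ∀ i, Function.Bijective (f i) := fun i => by
    constructor
    · intro t u h
      rw [hf, hf] at h
      have h1 : φ (Pi.mulSingle i t) = φ (Pi.mulSingle i u) := by rw [heq i t, heq i u, h]
      simpa using congrFun (φ.injective h1) i
    · intro t
      refine ⟨φ.symm (Pi.mulSingle (σ i) t) i, ?_⟩
      have h1 : Pi.mulSingle i (φ.symm (Pi.mulSingle (σ i) t) i) = φ.symm (Pi.mulSingle (σ i) t) := funext fun l => by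
        by_cases hl : l = i
        · subst hl; simp
        · rw [Pi.mulSingle_eq_of_ne hl, (hfac _ _).1 (hσ' i t) l hl]
      rw [hf, h1, MulEquiv.apply_symm_apply]
      simp
  refine ⟨Equiv.ofBijective σ ⟨hσinj, Finite.surjective_of_injective hσinj⟩,
    fun i => MulEquiv.ofBijective (f i) (hbij i), fun x i => ?_⟩
  have h : (Pi.evalMonoidHom (fun _ : Fin m => T) (σ i)).comp φ.toMonoidHom =
      (f i).comp (Pi.evalMonoidHom (fun _ : Fin m => T) i) := by
    refine ext_of_singles fun k t => ?_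
    show φ (Pi.mulSingle k t) (σ i) = f i ((Pi.mulSingle k t : Fin m → T) i)
    by_cases hk : k = i
    · subst hk; rw [Pi.mulSingle_eq_same, hf]
    · rw [Pi.mulSingle_eq_of_ne (Ne.symm hk), map_one]
      exact (hfac _ _).1 (hσ k t) _ (fun h => hk (hσinj h).symm)
  exact DFunLike.congr_fun h x

/-- dependence of coordinates on a subdirect subgroup -/
def Rel (K : Subgroup (Fin m → T)) (i j : Fin m) : Prop := ∀ x ∈ K, x i = 1 → x j = 1

theorem rel_symm {K : Subgroup (Fin m → T)} (hK : ∀ i t, ∃ x ∈ K, x i = t) {i j : Fin m} (h : Rel K i j) :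
    Rel K j i := by
  intro x hx hxj
  by_contra hxi
  obtain ⟨A, hA⟩ : ∃ A : Subgroup T, A =
      (K ⊓ (Pi.evalMonoidHom (fun _ : Fin m => T) j).ker).map (Pi.evalMonoidHom (fun _ : Fin m => T) i) := ⟨_, rfl⟩
  have hAn : A.Normal := ⟨fun a ha g => by
    rw [hA] at ha ⊢
    obtain ⟨y, ⟨hy, hy'⟩, rfl⟩ := ha
    obtain ⟨z, hz, rfl⟩ := hK i g
    refine ⟨z * y * z⁻¹, ⟨K.mul_mem (K.mul_mem hz hy) (K.inv_mem hz), ?_⟩, by simp⟩
    have hy'' : y j = 1 := hy'
    show (z * y * z⁻¹) j = 1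
    simp [hy'']⟩
  have hxA : x i ∈ A := hA ▸ ⟨x, ⟨hx, MonoidHom.mem_ker.2 hxj⟩, rfl⟩
  rcases IsSimpleGroup.eq_bot_or_eq_top_of_normal A hAn with hb | ht
  · exact hxi (by rwa [hb, Subgroup.mem_bot] at hxA)
  · obtain ⟨u, hu⟩ := exists_ne (1 : T)
    obtain ⟨z, hz, rfl⟩ := hK j u
    have hzA : z i ∈ A := ht ▸ Subgroup.mem_top _
    rw [hA] at hzA
    obtain ⟨y, ⟨hy, hy'⟩, hyz⟩ := hzA
    have h1 := h (z * y⁻¹) (K.mul_mem hz (K.inv_mem hy)) (by
      simp only [Pi.mul_apply, Pi.inv_apply]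
      rw [show y i = z i from hyz, mul_inv_cancel])
    have hy'' : y j = 1 := hy'
    simp [hy''] at h1
    exact hu h1

theorem separate (hT : ¬ IsMulCommutative T) {K : Subgroup (Fin m → T)} (hK : ∀ i t, ∃ x ∈ K, x i = t) {i : Fin m}
    (S : Finset (Fin m)) (hS : ∀ j ∈ S, ¬ Rel K i j) : ∀ t, ∃ x ∈ K, x i = t ∧ ∀ j ∈ S, x j = 1 := by
  classical
  have hnormal : ∀ P : Finset (Fin m), ∀ x, x ∈ K → (∀ j ∈ P, x j = 1) → x i ≠ 1 →
      ∀ t, ∃ y ∈ K, y i = t ∧ ∀ j ∈ P, y j = 1 := by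
    intro P x hx hxP hxi t
    obtain ⟨A, hA⟩ : ∃ A : Subgroup T, ∀ a, a ∈ A ↔ ∃ y ∈ K, y i = a ∧ ∀ j ∈ P, y j = 1 :=
      ⟨{ carrier := {a | ∃ y ∈ K, y i = a ∧ ∀ j ∈ P, y j = 1}
         one_mem' := ⟨1, K.one_mem, rfl, fun j _ => rfl⟩
         mul_mem' := fun {a b} ha hb => by
          obtain ⟨y, hy, rfl, hy'⟩ := ha
          obtain ⟨z, hz, rfl, hz'⟩ := hb
          exact ⟨y * z, K.mul_mem hy hz, rfl, fun j hj => by simp [hy' j hj, hz' j hj]⟩
         inv_mem' := fun {a} ha => by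
          obtain ⟨y, hy, rfl, hy'⟩ := ha
          exact ⟨y⁻¹, K.inv_mem hy, rfl, fun j hj => by simp [hy' j hj]⟩ }, fun a => Iff.rfl⟩
    have hAn : A.Normal := ⟨fun a ha g => by
      obtain ⟨y, hy, rfl, hy'⟩ := (hA a).1 ha
      obtain ⟨z, hz, rfl⟩ := hK i g
      exact (hA _).2 ⟨z * y * z⁻¹, K.mul_mem (K.mul_mem hz hy) (K.inv_mem hz), rfl,
        fun j hj => by simp [hy' j hj]⟩⟩
    have hxA : x i ∈ A := (hA _).2 ⟨x, hx, rfl, hxP⟩
    rcases IsSimpleGroup.eq_bot_or_eq_top_of_normal A hAn with hb | ht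
    · exact absurd (by rwa [hb, Subgroup.mem_bot] at hxA) hxi
    · exact (hA t).1 (ht ▸ Subgroup.mem_top t)
  induction S using Finset.induction_on with
  | empty =>
    intro t
    obtain ⟨x, hx, hxi⟩ := hK i t
    exact ⟨x, hx, hxi, fun j hj => by simp at hj⟩
  | insert j S hjS ih =>
    have ih' := ih fun k hk => hS k (Finset.mem_insert_of_mem hk)
    obtain ⟨z, hz, hzj, hzi⟩ : ∃ z ∈ K, z j = 1 ∧ z i ≠ 1 := by
      by_contra hcon
      push Not at hcon
      exact hS j (Finset.mem_insert_self j S) (rel_symm hK fun z hz hzj => hcon z hz hzj)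
    obtain ⟨t₀, u₀, hne⟩ := exists_noncomm hT
    obtain ⟨x, hx, hxi, hxS⟩ := ih' t₀
    obtain ⟨y, hy, hyi, hyj⟩ := hnormal {j} z hz (fun k hk => by rw [Finset.mem_singleton.1 hk]; exact hzj) hzi u₀
    refine hnormal (insert j S) (x * y * x⁻¹ * y⁻¹)
      (K.mul_mem (K.mul_mem (K.mul_mem hx hy) (K.inv_mem hx)) (K.inv_mem hy)) (fun k hk => ?_) ?_
    · rcases Finset.mem_insert.1 hk with rfl | hk
      · simp [hyj k (Finset.mem_singleton_self k)]
      · simp [hxS k hk]
    · simpa [hxi, hyi] using hne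

theorem mem_of_compatible (hT : ¬ IsMulCommutative T) {K : Subgroup (Fin m → T)} (hK : ∀ i t, ∃ x ∈ K, x i = t)
    {x : Fin m → T} (hx : ∀ i j, Rel K i j → ∀ k ∈ K, k i = x i → k j = x j) : x ∈ K := by
  classical
  suffices h : ∀ U : Finset (Fin m), ∀ x : Fin m → T, (∀ j ∉ U, x j = 1) →
      (∀ i j, Rel K i j → ∀ k ∈ K, k i = x i → k j = x j) → x ∈ K from
    h Finset.univ x (fun j hj => absurd (Finset.mem_univ j) hj) hx
  intro U
  induction U using Finset.induction_on with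
  | empty =>
    intro x h1 _
    rw [show x = 1 from funext fun j => h1 j (by simp)]
    exact K.one_mem
  | insert i U hiU ih =>
    intro x h1 h2
    obtain ⟨y, hy, hyi, hy'⟩ := separate hT hK (i := i) (Finset.univ.filter fun j => ¬ Rel K i j)
      (fun j hj => (Finset.mem_filter.1 hj).2) (x i)
    have h3 : x * y⁻¹ ∈ K := by
      refine ih _ (fun j hj => ?_) (fun a b hab k hk hka => ?_)
      · simp only [Pi.mul_apply, Pi.inv_apply]
        by_cases hji : j = i
        · subst hji; rw [hyi, mul_inv_cancel]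
        · by_cases hr : Rel K i j
          · rw [← h2 i j hr y hy hyi, mul_inv_cancel]
          · rw [h1 j (by simp [hji, hj]), hy' j (by simp [hr]), inv_one, mul_one]
      · have h4 := h2 a b hab (k * y) (K.mul_mem hk hy) (by
          simp only [Pi.mul_apply, Pi.inv_apply] at hka ⊢
          rw [hka, inv_mul_cancel_right])
        simp only [Pi.mul_apply, Pi.inv_apply] at h4 ⊢
        rw [← h4, mul_inv_cancel_right]
    have := K.mul_mem h3 hy
    rwa [inv_mul_cancel_right] at this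

/-- Scott's lemma: a subdirect subgroup is a product of twisted diagonals -/
theorem subdirect_eq_diagonals (hT : ¬ IsMulCommutative T) {K : Subgroup (Fin m → T)} (hK : ∀ i t, ∃ x ∈ K, x i = t) :
    ∃ (c : Fin m → Fin m) (γ : Fin m → (T ≃* T)), (∀ i j, c i = c j ↔ Rel K i j) ∧
      ∀ x, x ∈ K ↔ ∀ i j, c i = c j → γ i (x i) = γ j (x j) := by
  classical
  have hrefl : ∀ i, Rel K i i := fun i x _ h => h
  have htrans : ∀ {i j k}, Rel K i j → Rel K j k → Rel K i k := fun h1 h2 x hx h => h2 x hx (h1 x hx h)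
  have hnem : ∀ i, (Finset.univ.filter fun j => Rel K i j).Nonempty := fun i => ⟨i, by simp [hrefl i]⟩
  obtain ⟨c, hc⟩ : ∃ c : Fin m → Fin m, ∀ i, c i = (Finset.univ.filter fun j => Rel K i j).min' (hnem i) :=
    ⟨_, fun i => rfl⟩
  have hcr : ∀ i, Rel K i (c i) := fun i => by
    have := Finset.min'_mem _ (hnem i)
    rw [← hc, Finset.mem_filter] at this
    exact this.2
  have hciff : ∀ i j, c i = c j ↔ Rel K i j := fun i j => by
    constructor
    · intro h
      exact htrans (hcr i) (h ▸ rel_symm hK (hcr j))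
    · intro h
      rw [hc, hc]
      congr 1
      ext k
      simp only [Finset.mem_filter, Finset.mem_univ, true_and]
      exact ⟨fun hk => htrans (rel_symm hK h) hk, fun hk => htrans h hk⟩
  choose pick hpickK hpick using hK
  have huniq : ∀ i j, Rel K i j → ∀ k ∈ K, ∀ k' ∈ K, k i = k' i → k j = k' j := fun i j h k hk k' hk' e => by
    have h1 := h (k * k'⁻¹) (K.mul_mem hk (K.inv_mem hk')) (by simp [e])
    simpa [mul_inv_eq_one] using h1
  obtain ⟨f, hf⟩ : ∃ f : Fin m → (T →* T), ∀ i, ∀ k ∈ K, f i (k i) = k (c i) := by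
    refine ⟨fun i => MonoidHom.mk' (fun t => pick i t (c i)) fun t u => ?_, fun i k hk => ?_⟩
    · exact huniq i _ (hcr i) _ (hpickK i (t * u)) _ (K.mul_mem (hpickK i t) (hpickK i u)) (by simp [hpick])
    · exact huniq i _ (hcr i) _ (hpickK i _) k hk (hpick i _)
  have hbij : ∀ i, Function.Bijective (f i) := fun i => by
    constructor
    · intro t u h
      rw [← hpick i t, ← hpick i u, hf i _ (hpickK i t), hf i _ (hpickK i u)] at h
      have := huniq _ i (rel_symm (fun j s => ⟨_, hpickK j s, hpick j s⟩) (hcr i)) _ (hpickK i t) _ (hpickK i u) h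
      rwa [hpick, hpick] at this
    · intro t
      exact ⟨pick (c i) t i, by rw [hf i _ (hpickK _ t), hpick]⟩
  refine ⟨c, fun i => MulEquiv.ofBijective (f i) (hbij i), hciff, fun x => ⟨fun hx i j hij => ?_, fun h => ?_⟩⟩
  · show f i (x i) = f j (x j)
    rw [hf i x hx, hf j x hx, hij]
  · refine mem_of_compatible hT (fun j s => ⟨_, hpickK j s, hpick j s⟩) fun i j hij k hk hki => ?_
    have h1 : f i (x i) = f j (x j) := h i j ((hciff i j).2 hij)
    rw [← hki, hf i k hk, (hciff i j).2 hij, ← hf j k hk] at h1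
    exact (hbij j).1 h1

end CfsgLib.Perm.Scott
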