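import Cfsg.Agent.Lib.Perm.Groups.Suborbits
import Cfsg.Agent.Lib.Char.Determine

/-!
# Self-paired suborbits and real multiplicity-free permutation characters
-/

set_option autoImplicit false
set_option linter.unusedSectionVars false

namespace CfsgLib.Perm.Module'

open Cfsg CfsgLib.Char Representation
open scoped ComplexConjugate

universe u v w

variable {G : Type u} [Group G] [Fintype G] {Ω : Type v} [Fintype Ω] [MulAction G Ω]

/-- The sum `∑ h(g) σ(g)`. -/
noncomputable def opSum {W : Type w} [AddCommGroup W] [Module ℂ W] (σ : Representation ℂ G W) (h : G → ℂ) :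
    W →ₗ[ℂ] W :=
  ∑ g : G, h g • σ g

theorem opSum_comm {W : Type w} [AddCommGroup W] [Module ℂ W] (σ : Representation ℂ G W) {h : G → ℂ}
    (hh : IsClassFunction G h) (k : G) : opSum σ h ∘ₗ σ k = σ k ∘ₗ opSum σ h := by
  refine LinearMap.ext fun v => ?_
  simp only [opSum, LinearMap.comp_apply, LinearMap.sum_apply, LinearMap.smul_apply, map_sum, map_smul,
    ← Module.End.mul_apply, ← map_mul]
  refine Fintype.sum_equiv ((Equiv.mulLeft k⁻¹).trans (Equiv.mulRight k)) _ _ fun g => ?_
  simp only [Equiv.trans_apply, Equiv.coe_mulLeft, Equiv.coe_mulRight]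
  congr 1
  · have := hh g k⁻¹
    rw [inv_inv] at this
    exact this.symm
  · rw [← mul_assoc, mul_inv_cancel_left]

theorem opSum_intertwine {W : Type w} [AddCommGroup W] [Module ℂ W] {V : Type v} [AddCommGroup V] [Module ℂ V]
    {σ : Representation ℂ G W} {ρ : Representation ℂ G V} (f : IntertwiningMap σ ρ) (h : G → ℂ) :
    opSum ρ h ∘ₗ f.toLinearMap = f.toLinearMap ∘ₗ opSum σ h := by
  refine LinearMap.ext fun v => ?_
  simp only [opSum, LinearMap.comp_apply, LinearMap.sum_apply, LinearMap.smul_apply, map_sum, map_smul]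
  exact Finset.sum_congr rfl fun g _ => by rw [show ρ g (f.toLinearMap v) = f.toLinearMap (σ g v) from
    congr($((f.isIntertwining' g).symm) v)]

theorem trace_opSum {W : Type w} [AddCommGroup W] [Module ℂ W] [FiniteDimensional ℂ W]
    (σ : Representation ℂ G W) (h : G → ℂ) :
    LinearMap.trace ℂ W (opSum σ h) = ∑ g : G, h g * σ.character g := by
  simp [opSum, map_sum, Representation.character]

/-- On a transitive set with all suborbits self-paired, invariant operators commute. -/
theorem comm_of_selfPaired [DecidableEq Ω] (hsp : ∀ a b : Ω, ∃ g : G, g • a = b ∧ g • b = a)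
    (S T : (Ω → ℂ) →ₗ[ℂ] (Ω → ℂ)) (hS : ∀ g : G, S ∘ₗ Cfsg.permRep ℂ G Ω g = Cfsg.permRep ℂ G Ω g ∘ₗ S)
    (hT : ∀ g : G, T ∘ₗ Cfsg.permRep ℂ G Ω g = Cfsg.permRep ℂ G Ω g ∘ₗ T) : S ∘ₗ T = T ∘ₗ S := by
  have key : ∀ U : (Ω → ℂ) →ₗ[ℂ] (Ω → ℂ), (∀ g : G, U ∘ₗ Cfsg.permRep ℂ G Ω g = Cfsg.permRep ℂ G Ω g ∘ₗ U) →
      (LinearMap.toMatrix' U).transpose = LinearMap.toMatrix' U := fun U hU => Matrix.ext fun x y => by
    obtain ⟨g, hg1, hg2⟩ := hsp y x
    have h := matrix_invariant hU g y x
    rw [hg1, hg2] at h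
    rw [Matrix.transpose_apply, h]
  have hST : ∀ g : G, (S ∘ₗ T) ∘ₗ Cfsg.permRep ℂ G Ω g = Cfsg.permRep ℂ G Ω g ∘ₗ (S ∘ₗ T) := fun g => by
    rw [LinearMap.comp_assoc, hT, ← LinearMap.comp_assoc, hS, LinearMap.comp_assoc]
  apply LinearMap.toMatrix'.injective
  rw [LinearMap.toMatrix'_comp, LinearMap.toMatrix'_comp]
  conv_rhs => rw [← key S hS, ← key T hT, ← Matrix.transpose_mul, ← LinearMap.toMatrix'_comp, key _ hST,
    LinearMap.toMatrix'_comp]

/-- Constituents of the permutation character are real if all suborbits are self-paired. -/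
theorem real_of_selfPaired [DecidableEq Ω] (hsp : ∀ a b : Ω, ∃ g : G, g • a = b ∧ g • b = a)
    (χ : G → ℂ) (hχ : IsIrrCharacter G χ) (hne : classInner (permChar G Ω) χ ≠ 0) (g₀ : G) :
    conj (χ g₀) = χ g₀ := by
  have hcl : IsClassFunction G χ := isClassFunction_of_isCharacter (isCharacter_of_isIrr hχ)
  have hinv : ∀ g, χ g⁻¹ = conj (χ g) := isCharacter_inv (isCharacter_of_isIrr hχ)
  obtain ⟨n, σ, hσ, rfl⟩ := hχ
  let h : G → ℂ := fun g => conj (σ.character g) - σ.character g
  have hh : IsClassFunction G h := fun a b => by simp only [h]; rw [hcl a b]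
  have hM : opSum (Cfsg.permRep ℂ G Ω) h = 0 := by
    apply LinearMap.toMatrix'.injective
    rw [map_zero]
    refine Matrix.ext fun x y => ?_
    have hsym : LinearMap.toMatrix' (opSum (Cfsg.permRep ℂ G Ω) h) x y =
        LinearMap.toMatrix' (opSum (Cfsg.permRep ℂ G Ω) h) y x := by
      obtain ⟨g, hg1, hg2⟩ := hsp y x
      have h' := matrix_invariant (opSum_comm (Cfsg.permRep ℂ G Ω) hh) g y x
      rwa [hg1, hg2] at h'
    have hent : ∀ x y : Ω, LinearMap.toMatrix' (opSum (Cfsg.permRep ℂ G Ω) h) x y =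
        ∑ g : G, h g * (if g • y = x then 1 else 0) := fun x y => by
      simp only [LinearMap.toMatrix'_apply, opSum, LinearMap.sum_apply, LinearMap.smul_apply, Finset.sum_apply,
        Pi.smul_apply, smul_eq_mul]
      refine Finset.sum_congr rfl fun g _ => ?_
      congr 1
      rw [permRep_single, Pi.single_apply]
      simp [eq_comm]
    have hskew : LinearMap.toMatrix' (opSum (Cfsg.permRep ℂ G Ω) h) y x =
        -LinearMap.toMatrix' (opSum (Cfsg.permRep ℂ G Ω) h) x y := by
      rw [hent, hent, ← Finset.sum_neg_distrib]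
      refine Fintype.sum_equiv (Equiv.inv G) _ _ fun g => ?_
      have e : (g⁻¹ • y = x) ↔ (g • x = y) := by rw [inv_smul_eq_iff, eq_comm]
      simp only [Equiv.inv_apply, h, hinv, Complex.conj_conj, e]
      ring
    rw [Matrix.zero_apply]
    linear_combination (1 / 2 : ℂ) * hsym + (1 / 2 : ℂ) * hskew
  obtain ⟨f, hf⟩ : ∃ f : IntertwiningMap σ (Cfsg.permRep ℂ G Ω), f ≠ 0 := by
    by_contra hall
    push Not at hall
    haveI : Subsingleton (IntertwiningMap σ (Cfsg.permRep ℂ G Ω)) := ⟨fun a b => by rw [hall a, hall b]⟩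
    rw [classInner_eq_finrank, Module.finrank_zero_of_subsingleton, Nat.cast_zero] at hne
    exact hne rfl
  have h0 : opSum σ h = 0 := LinearMap.ext fun v => injective_of_irreducible f hf (by
    have := congr($(opSum_intertwine f h) v)
    rw [hM, LinearMap.zero_comp] at this
    simpa using this.symm)
  have h1 : ∑ g : G, h g * σ.character g = 0 := by rw [← trace_opSum, h0, map_zero]
  have h2 : ∑ g : G, (σ.character g).im * (σ.character g).im = 0 := by
    have := congrArg Complex.re h1
    simp only [h, Complex.re_sum, Complex.mul_re, Complex.sub_re, Complex.sub_im, Complex.conj_re,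
      Complex.conj_im, Complex.zero_re, sub_self, zero_mul, zero_sub] at this
    have e : ∀ g, -((-(σ.character g).im - (σ.character g).im) * (σ.character g).im) =
        2 * ((σ.character g).im * (σ.character g).im) := fun g => by ring
    rw [Finset.sum_congr rfl fun g _ => e g, ← Finset.mul_sum] at this
    linarith
  have h3 := (Finset.sum_eq_zero_iff_of_nonneg fun g _ => mul_self_nonneg _).1 h2 g₀ (Finset.mem_univ _)
  exact Complex.conj_eq_iff_im.2 (mul_self_eq_zero.1 h3)

/-- An antisymmetric invariant matrix vanishes if the permutation character is multiplicity free with real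
constituents. -/
theorem skew_eq_zero [DecidableEq Ω]
    (hm : ∀ χ : G → ℂ, IsIrrCharacter G χ → classInner (permChar G Ω) χ ≠ 0 →
      classInner (permChar G Ω) χ = 1 ∧ ∀ g : G, conj (χ g) = χ g)
    (M : Matrix Ω Ω ℂ) (hM : ∀ (g : G) (x y : Ω), M (g • x) (g • y) = M x y)
    (hskew : ∀ x y, M y x = -M x y) : M = 0 := by
  have hA : ∀ g : G, Matrix.toLin' M ∘ₗ Cfsg.permRep ℂ G Ω g = Cfsg.permRep ℂ G Ω g ∘ₗ Matrix.toLin' M :=
    toLin_comm M hM
  have hdot : ∀ u v : Ω → ℂ, ∑ x, v x * Matrix.toLin' M u x = -∑ x, Matrix.toLin' M v x * u x := by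
    intro u v
    simp only [Matrix.toLin'_apply, Matrix.mulVec, dotProduct, Finset.mul_sum, Finset.sum_mul,
      ← Finset.sum_neg_distrib]
    rw [Finset.sum_comm]
    refine Finset.sum_congr rfl fun x _ => Finset.sum_congr rfl fun y _ => ?_
    rw [hskew x y]; ring
  have key := rep_induction (fun V _ _ σ => ∀ f : IntertwiningMap σ (Cfsg.permRep ℂ G Ω),
    Matrix.toLin' M ∘ₗ f.toLinearMap = 0) ?_ ?_ ?_ (Ω → ℂ) (Cfsg.permRep ℂ G Ω) (IntertwiningMap.id _)
  · exact Matrix.toLin'.injective (by rw [map_zero]; simpa using key)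
  · intro V _ _ _ σ f
    exact LinearMap.ext fun x => by simp [Subsingleton.elim x 0]
  · intro V _ _ _ σ hσ f
    by_cases hf : f = 0
    · simp [hf]
    have hirr : IsIrrCharacter G σ.character := isIrrCharacter_character σ
    haveI : Nontrivial (IntertwiningMap σ (Cfsg.permRep ℂ G Ω)) := ⟨⟨f, 0, hf⟩⟩
    have hne : classInner (permChar G Ω) σ.character ≠ 0 := by
      rw [classInner_eq_finrank]
      exact_mod_cast (Module.finrank_pos (R := ℂ) (M := IntertwiningMap σ (Cfsg.permRep ℂ G Ω))).ne'
    obtain ⟨hone, hreal⟩ := hm σ.character hirr hne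
    have hle : Module.finrank ℂ (IntertwiningMap σ (Cfsg.permRep ℂ G Ω)) = 1 := by
      rw [classInner_eq_finrank] at hone
      exact_mod_cast hone
    have hspan := (finrank_eq_one_iff_of_nonzero' f hf).1 hle
    obtain ⟨a, ha⟩ := hspan ⟨Matrix.toLin' M ∘ₗ f.toLinearMap, fun g => by
      rw [LinearMap.comp_assoc, f.isIntertwining' g, ← LinearMap.comp_assoc, hA, LinearMap.comp_assoc]⟩
    have ha' : Matrix.toLin' M ∘ₗ f.toLinearMap = a • f.toLinearMap := by
      have h1 := congrArg IntertwiningMap.toLinearMap ha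
      rw [IntertwiningMap.toLinearMap_smul] at h1
      exact h1.symm
    obtain ⟨E, hE⟩ : ∃ E, E = opSum (Cfsg.permRep ℂ G Ω) σ.character := ⟨_, rfl⟩
    have hcl := isClassFunction_of_isCharacter (isCharacter_character σ)
    have hAE := rep_induction (fun V' _ _ τ => ∀ f' : IntertwiningMap τ (Cfsg.permRep ℂ G Ω),
      Matrix.toLin' M ∘ₗ E ∘ₗ f'.toLinearMap = a • (E ∘ₗ f'.toLinearMap)) ?_ ?_ ?_ (Ω → ℂ)
      (Cfsg.permRep ℂ G Ω) (IntertwiningMap.id _)
    · haveI := nontrivial_of_irreducible σ
      have hd : (Module.finrank ℂ V : ℂ) ≠ 0 := by exact_mod_cast Module.finrank_pos.ne'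
      obtain ⟨c, hc0, hc⟩ : ∃ c : ℂ, c ≠ 0 ∧ E ∘ₗ f.toLinearMap = c • f.toLinearMap := by
        refine ⟨_, ?_, by rw [hE, opSum_intertwine, scalar_of_comm σ _ (opSum_comm σ hcl), LinearMap.comp_smul,
          LinearMap.comp_id]⟩
        rw [trace_opSum]
        refine div_ne_zero ?_ hd
        have h1 := classInner_irr_self ⟨σ.character, hirr⟩
        simp only [classInner, hreal] at h1
        intro h2
        rw [h2, mul_zero] at h1
        exact zero_ne_one h1
      refine LinearMap.ext fun x => ?_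
      show Matrix.toLin' M (f.toLinearMap x) = 0
      obtain ⟨u, hu⟩ : ∃ u, u = f.toLinearMap x := ⟨_, rfl⟩
      rw [← hu]
      have hAu : Matrix.toLin' M u = a • u := by rw [hu]; exact congr($ha' x)
      have hEu : E (fun y => conj (u y)) = conj c • fun y => conj (u y) := by
        have h1 : E u = c • u := by rw [hu]; exact congr($hc x)
        funext y
        have h2 := congrArg conj (congrFun h1 y)
        simp only [hE, opSum, LinearMap.sum_apply, LinearMap.smul_apply, Finset.sum_apply, Pi.smul_apply,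
          smul_eq_mul, map_sum, map_mul, hreal] at h2 ⊢
        exact h2
      have hAv : Matrix.toLin' M (fun y => conj (u y)) = a • fun y => conj (u y) := by
        have h1 := congr($hAE (fun y => conj (u y)))
        simp only [LinearMap.comp_apply, LinearMap.smul_apply, IntertwiningMap.id_apply] at h1
        change Matrix.toLin' M (E fun y => conj (u y)) = a • E (fun y => conj (u y)) at h1
        rw [hEu, map_smul, smul_comm] at h1
        exact smul_right_injective _ (by simpa using hc0) h1
      have h1 := hdot u (fun y => conj (u y))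
      rw [hAu, hAv] at h1
      simp only [Pi.smul_apply, smul_eq_mul] at h1
      rw [hAu]
      have hs : ∑ x, conj (u x) * (a * u x) = a * ((∑ x, Complex.normSq (u x) : ℝ) : ℂ) := by
        rw [Complex.ofReal_sum, Finset.mul_sum]
        exact Finset.sum_congr rfl fun x _ => by rw [Complex.normSq_eq_conj_mul_self]; ring
      have hs' : ∑ x, a * conj (u x) * u x = ∑ x, conj (u x) * (a * u x) :=
        Finset.sum_congr rfl fun x _ => by ring
      rw [hs', hs] at h1
      rcases mul_eq_zero.1 (show a * ((∑ x, Complex.normSq (u x) : ℝ) : ℂ) = 0 by linear_combination (1 / 2 : ℂ) * h1) with h | h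
      · rw [h, zero_smul]
      · rw [Complex.ofReal_eq_zero, Finset.sum_eq_zero_iff_of_nonneg fun x _ => Complex.normSq_nonneg _] at h
        rw [show u = 0 from funext fun x => Complex.normSq_eq_zero.1 (h x (Finset.mem_univ _)), smul_zero]
    · intro V' _ _ _ τ f'
      exact LinearMap.ext fun x => by simp [Subsingleton.elim x 0]
    · intro V' _ _ _ τ hτ f'
      rw [hE, opSum_intertwine, scalar_of_comm τ _ (opSum_comm τ hcl), LinearMap.comp_smul, LinearMap.comp_id,
        trace_opSum, LinearMap.comp_smul, smul_comm a]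
      by_cases hz : ∑ g : G, σ.character g * τ.character g = 0
      · simp [hz]
      congr 1
      have heq : τ.character = σ.character := by
        by_contra hne'
        have h1 := classInner_irr_ne (χ := ⟨τ.character, isIrrCharacter_character τ⟩) (ψ := ⟨σ.character, hirr⟩)
          (fun h => hne' (congrArg Subtype.val h))
        simp only [classInner, hreal, mul_eq_zero, inv_eq_zero] at h1
        refine h1.elim (fun h => card_ne_zero' h) fun h => hz ?_
        rw [← h]
        exact Finset.sum_congr rfl fun g _ => mul_comm _ _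
      obtain ⟨e⟩ := nonempty_equiv_of_character_eq σ τ heq.symm
      obtain ⟨b, hb⟩ := hspan (f'.comp e.toIntertwiningMap)
      refine LinearMap.ext fun x => ?_
      obtain ⟨y, rfl⟩ : ∃ y, e.toIntertwiningMap.toLinearMap y = x := ⟨_, e.toLinearEquiv.apply_symm_apply x⟩
      have h1 : f'.toLinearMap (e.toIntertwiningMap.toLinearMap y) = b • f.toLinearMap y :=
        congr(IntertwiningMap.toLinearMap $hb.symm y)
      simp only [LinearMap.comp_apply, LinearMap.smul_apply, h1, map_smul]
      rw [show Matrix.toLin' M (f.toLinearMap y) = a • f.toLinearMap y from congr($ha' y), smul_comm]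
    · intro V' _ _ _ τ A B hAB hA' hB' f'
      have h1 := hA' ⟨f'.toLinearMap ∘ₗ A.toSubmodule.subtype, fun g => LinearMap.ext fun x => by
        exact congr($(f'.isIntertwining' g) (x : V'))⟩
      have h2 := hB' ⟨f'.toLinearMap ∘ₗ B.toSubmodule.subtype, fun g => LinearMap.ext fun x => by
        exact congr($(f'.isIntertwining' g) (x : V'))⟩
      refine LinearMap.ext fun x => ?_
      obtain ⟨p, hp, q, hq, rfl⟩ := Submodule.mem_sup.1
        ((isCompl_toSubmodule hAB).sup_eq_top ▸ Submodule.mem_top : x ∈ A.toSubmodule ⊔ B.toSubmodule)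
      have e1 : Matrix.toLin' M (E (f'.toLinearMap p)) = a • E (f'.toLinearMap p) := congr($h1 ⟨p, hp⟩)
      have e2 : Matrix.toLin' M (E (f'.toLinearMap q)) = a • E (f'.toLinearMap q) := congr($h2 ⟨q, hq⟩)
      simp only [LinearMap.comp_apply, LinearMap.smul_apply, map_add, e1, e2, smul_add]
  · intro V _ _ _ σ A B hAB hA' hB' f
    have h1 := hA' ⟨f.toLinearMap ∘ₗ A.toSubmodule.subtype, fun g => LinearMap.ext fun x => by
      exact congr($(f.isIntertwining' g) (x : V))⟩
    have h2 := hB' ⟨f.toLinearMap ∘ₗ B.toSubmodule.subtype, fun g => LinearMap.ext fun x => by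
      exact congr($(f.isIntertwining' g) (x : V))⟩
    refine LinearMap.ext fun x => ?_
    obtain ⟨p, hp, q, hq, rfl⟩ := Submodule.mem_sup.1
      ((isCompl_toSubmodule hAB).sup_eq_top ▸ Submodule.mem_top : x ∈ A.toSubmodule ⊔ B.toSubmodule)
    have e1 : Matrix.toLin' M (f.toLinearMap p) = 0 := congr($h1 ⟨p, hp⟩)
    have e2 : Matrix.toLin' M (f.toLinearMap q) = 0 := congr($h2 ⟨q, hq⟩)
    simp only [LinearMap.comp_apply, LinearMap.zero_apply, map_add, e1, e2, add_zero]

/-- All suborbits are self-paired iff the permutation character is multiplicity free with real constituents. -/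
theorem selfPaired_iff [MulAction.IsPretransitive G Ω] :
    (∀ a b : Ω, ∃ g : G, g • a = b ∧ g • b = a) ↔ ∀ χ : G → ℂ, IsIrrCharacter G χ →
      classInner (permChar G Ω) χ ≠ 0 → classInner (permChar G Ω) χ = 1 ∧ ∀ g : G, conj (χ g) = χ g := by
  classical
  refine ⟨fun hsp χ hχ hne => ⟨?_, fun g => real_of_selfPaired hsp χ hχ hne g⟩, fun hm a b => ?_⟩
  · exact (multiplicityFree_of_comm (comm_of_selfPaired hsp) χ hχ).resolve_left hne
  by_contra hno
  let P : Ω → Ω → ℂ := fun x y => if ∃ g : G, g • a = x ∧ g • b = y then 1 else 0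
  have hP : ∀ (k : G) (x y : Ω), P (k • x) (k • y) = P x y := by
    intro k x y
    have : (∃ g : G, g • a = k • x ∧ g • b = k • y) ↔ ∃ g : G, g • a = x ∧ g • b = y :=
      ⟨fun ⟨g, h1, h2⟩ => ⟨k⁻¹ * g, by rw [mul_smul, h1, inv_smul_smul], by rw [mul_smul, h2, inv_smul_smul]⟩,
        fun ⟨g, h1, h2⟩ => ⟨k * g, by rw [mul_smul, h1], by rw [mul_smul, h2]⟩⟩
    simp only [P, this]
  have h0 := skew_eq_zero hm (Matrix.of fun x y => P x y - P y x)
    (fun k x y => by simp only [Matrix.of_apply, hP]) (fun x y => by simp only [Matrix.of_apply]; ring)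
  have h1 := congrFun (congrFun h0 a) b
  simp only [Matrix.of_apply, Matrix.zero_apply, P] at h1
  rw [if_pos ⟨1, one_smul _ _, one_smul _ _⟩, if_neg hno] at h1
  simp at h1

end CfsgLib.Perm.Module'
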