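import Mathlib
import Cfsg.Agent.Lib.Perm.Groups.PermModule

/-!
# Suborbits and the constituents of the permutation character
-/

set_option autoImplicit false
set_option linter.unusedSectionVars false

namespace CfsgLib.Perm.Module'

open Cfsg CfsgLib.Char Representation
open scoped ComplexConjugate

universe u v w

variable {G : Type u} [Group G] [Fintype G] {Ω : Type v} [Fintype Ω] [MulAction G Ω]

theorem permRep_single [DecidableEq Ω] (g : G) (y : Ω) :
    Cfsg.permRep ℂ G Ω g (Pi.single y 1) = Pi.single (g • y) 1 := by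
  funext x
  show (Pi.single y (1 : ℂ) : Ω → ℂ) (g⁻¹ • x) = _
  rw [Pi.single_apply, Pi.single_apply]
  exact if_congr inv_smul_eq_iff rfl rfl

/-- An invariant matrix gives an element of the centraliser ring. -/
theorem toLin_comm [DecidableEq Ω] (M : Matrix Ω Ω ℂ) (hM : ∀ (g : G) (x y : Ω), M (g • x) (g • y) = M x y)
    (g : G) : Matrix.toLin' M ∘ₗ Cfsg.permRep ℂ G Ω g = Cfsg.permRep ℂ G Ω g ∘ₗ Matrix.toLin' M := by
  refine LinearMap.ext fun v => funext fun x => ?_
  show ∑ y, M x y * v (g⁻¹ • y) = ∑ y, M (g⁻¹ • x) y * v y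
  refine Fintype.sum_equiv (MulAction.toPerm g⁻¹) _ _ fun y => ?_
  simp [hM]

/-- The matrix of an element of the centraliser ring is invariant. -/
theorem matrix_invariant [DecidableEq Ω] {S : (Ω → ℂ) →ₗ[ℂ] (Ω → ℂ)}
    (hS : ∀ g : G, S ∘ₗ Cfsg.permRep ℂ G Ω g = Cfsg.permRep ℂ G Ω g ∘ₗ S) (g : G) (x y : Ω) :
    LinearMap.toMatrix' S (g • x) (g • y) = LinearMap.toMatrix' S x y := by
  have h := congrFun (congr($(hS g) (Pi.single y 1))) (g • x)
  simp only [LinearMap.comp_apply, permRep_single] at h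
  simp only [LinearMap.toMatrix'_apply, ← Pi.single_apply]
  rw [h]
  show S (Pi.single y 1) (g⁻¹ • g • x) = _
  rw [inv_smul_smul]

theorem classFun_perm : IsClassFunction G (permChar G Ω) :=
  isClassFunction_of_isCharacter (isCharacter_permChar Ω)

theorem classInner_perm_one [MulAction.IsPretransitive G Ω] [Nonempty Ω] :
    classInner (permChar G Ω) (fun _ => 1) = 1 := by
  rw [classInner_permChar_one]
  have : Subsingleton (MulAction.orbitRel.Quotient G Ω) :=
    MulAction.pretransitive_iff_subsingleton_quotient G Ω |>.mp inferInstance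
  rw [Nat.card_of_subsingleton (Quotient.mk _ (Classical.arbitrary Ω))]
  simp

section Divisible

variable [MulAction.IsPretransitive G Ω]

/-- An invariant subspace without the constants has dimension divisible by a common divisor of the
non-principal constituent degrees. -/
theorem dvd_finrank_of_notMem (f : ℕ)
    (hf : ∀ χ : G → ℂ, IsIrrCharacter G χ → χ ≠ (fun _ => 1) → classInner (permChar G Ω) χ ≠ 0 →
      ∃ m : ℕ, χ 1 = (f : ℂ) * m)
    (S : Subrepresentation (Cfsg.permRep ℂ G Ω)) (hS : (fun _ => (1 : ℂ)) ∉ S.toSubmodule) :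
    f ∣ Module.finrank ℂ S.toSubmodule := by
  classical
  haveI := complemented_subrep (Cfsg.permRep ℂ G Ω)
  obtain ⟨T, hST⟩ := exists_isCompl S
  obtain ⟨l, hl₀⟩ := exists_list_irr (isCharacter_character S.toRepresentation)
  have hl : S.toRepresentation.character = (l.map fun ψ : IrrCharacter G => (ψ : G → ℂ)).sum := by
    rw [hl₀]
    congr 1
    clear hl₀
    induction l <;> simp_all
  have hcount : ∀ ψ : IrrCharacter G, classInner S.toRepresentation.character (ψ : G → ℂ) = (l.count ψ : ℂ) := by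
    intro ψ
    rw [hl]
    clear hl hl₀
    induction l with
    | nil => simp [classInner_zero_left]
    | cons a t ih =>
      rw [List.map_cons, List.sum_cons, classInner_add_left, ih, classInner_irr]
      by_cases h : a = ψ
      · subst h; rw [List.count_cons_self, if_pos rfl, Nat.cast_succ, add_comm]
      · rw [List.count_cons_of_ne h, if_neg h, zero_add]
  have hψ : ∀ ψ ∈ l, (ψ : G → ℂ) ≠ (fun _ => 1) ∧ classInner (permChar G Ω) (ψ : G → ℂ) ≠ 0 := by
    intro ψ hψl
    have hpos : 0 < l.count ψ := List.count_pos_iff.2 hψl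
    refine ⟨fun h1 => hS ?_, ?_⟩
    · have h2 : classInner S.toRepresentation.character (Representation.trivial ℂ G ℂ).character = (l.count ψ : ℂ) := by
        rw [show (Representation.trivial ℂ G ℂ).character = fun _ => 1 from funext fun g => by
          simp [Representation.character, Representation.trivial], ← h1, hcount]
      rw [classInner_char] at h2
      haveI : Nontrivial (IntertwiningMap (Representation.trivial ℂ G ℂ) S.toRepresentation) :=
        Module.nontrivial_of_finrank_pos (R := ℂ) (by rw [Nat.cast_inj] at h2; omega)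
      obtain ⟨F, hF⟩ := exists_ne (0 : IntertwiningMap (Representation.trivial ℂ G ℂ) S.toRepresentation)
      obtain ⟨w, hw⟩ : ∃ w : S.toSubmodule, w = F.toLinearMap 1 := ⟨_, rfl⟩
      have hwfix : ∀ g : G, S.toRepresentation g w = w := fun g => by
        have h3 := congr($(F.isIntertwining' g) (1 : ℂ))
        simp [Representation.trivial_apply] at h3
        rw [hw]; exact h3.symm
      have hw0 : (w : Ω → ℂ) ≠ 0 := by
        intro h3
        refine hF (IntertwiningMap.ext (LinearMap.ext_ring ?_))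
        rw [← hw]
        exact Subtype.ext h3
      obtain ⟨x, hx⟩ : ∃ x, (w : Ω → ℂ) x ≠ 0 := Function.ne_iff.1 hw0
      have hconst : ∀ y, (w : Ω → ℂ) y = (w : Ω → ℂ) x := by
        intro y
        obtain ⟨g, rfl⟩ := MulAction.exists_smul_eq G x y
        have h3 := congrFun (congrArg Subtype.val (hwfix g)) (g • x)
        have h4 : (w : Ω → ℂ) (g⁻¹ • g • x) = (w : Ω → ℂ) (g • x) := h3
        rw [inv_smul_smul] at h4
        exact h4.symm
      have h5 := S.toSubmodule.smul_mem ((w : Ω → ℂ) x)⁻¹ w.2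
      convert h5 using 1
      funext y
      rw [Pi.smul_apply, smul_eq_mul, hconst y, inv_mul_cancel₀ hx]
    · rw [← character_permRep, character_compl hST, classInner_add_left, hcount]
      obtain ⟨m, hm⟩ := classInner_char_irr_nat (isCharacter_character T.toRepresentation) ψ
      rw [hm, ← Nat.cast_add, Nat.cast_ne_zero]
      omega
  have hdim : (Module.finrank ℂ S.toSubmodule : ℂ) = (l.map fun ψ : IrrCharacter G => (ψ : G → ℂ) 1).sum := by
    rw [← Representation.char_one (ρ := S.toRepresentation), hl]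
    clear hcount hψ hl hl₀
    induction l with
    | nil => simp
    | cons a t ih => simp only [List.map_cons, List.sum_cons, Pi.add_apply, ih]
  have hsum : ∃ m : ℕ, (l.map fun ψ : IrrCharacter G => (ψ : G → ℂ) 1).sum = (f : ℂ) * m := by
    clear hcount hl hl₀ hdim
    induction l with
    | nil => exact ⟨0, by simp⟩
    | cons a t ih =>
      obtain ⟨m, hm⟩ := ih fun ψ h => hψ ψ (List.mem_cons_of_mem _ h)
      obtain ⟨h1, h2⟩ := hψ a List.mem_cons_self
      obtain ⟨k, hk⟩ := hf a a.2 h1 h2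
      exact ⟨k + m, by rw [List.map_cons, List.sum_cons, hk, hm]; push_cast; ring⟩
  obtain ⟨m, hm⟩ := hsum
  rw [hm] at hdim
  exact ⟨m, by exact_mod_cast hdim⟩

/-- The degree is congruent to one. -/
theorem exists_degree_eq (f : ℕ)
    (hf : ∀ χ : G → ℂ, IsIrrCharacter G χ → χ ≠ (fun _ => 1) → classInner (permChar G Ω) χ ≠ 0 →
      ∃ m : ℕ, χ 1 = (f : ℂ) * m) [Nonempty Ω] :
    ∃ k : ℕ, Fintype.card Ω = 1 + f * k := by
  haveI := complemented_subrep (Cfsg.permRep ℂ G Ω)
  let C : Subrepresentation (Cfsg.permRep ℂ G Ω) := ⟨Submodule.span ℂ {fun _ => (1 : ℂ)}, fun g v hv => by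
    obtain ⟨c, rfl⟩ := Submodule.mem_span_singleton.1 hv
    exact Submodule.mem_span_singleton.2 ⟨c, rfl⟩⟩
  obtain ⟨T, hT⟩ := exists_isCompl C
  have h1 : (fun _ : Ω => (1 : ℂ)) ∉ T.toSubmodule := by
    intro h
    have := Submodule.disjoint_def.1 (isCompl_toSubmodule hT).disjoint _ (Submodule.mem_span_singleton_self _) h
    exact one_ne_zero (α := ℂ) (congrFun this (Classical.arbitrary Ω))
  obtain ⟨k, hk⟩ := dvd_finrank_of_notMem f hf T h1
  refine ⟨k, ?_⟩
  have h2 := finrank_compl hT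
  rw [Module.finrank_fintype_fun_eq_card, finrank_span_singleton (v := fun _ : Ω => (1 : ℂ)) (fun h => one_ne_zero (α := ℂ)
    (congrFun h (Classical.arbitrary Ω) :)), hk] at h2
  omega

set_option maxHeartbeats 800000 in
/-- A common divisor of the non-principal degrees divides every non-trivial subdegree. -/
theorem dvd_subdegree (f : ℕ)
    (hf : ∀ χ : G → ℂ, IsIrrCharacter G χ → χ ≠ (fun _ => 1) → classInner (permChar G Ω) χ ≠ 0 →
      ∃ m : ℕ, χ 1 = (f : ℂ) * m)
    (a b : Ω) (hab : b ≠ a) : f ∣ Nat.card (MulAction.orbit (MulAction.stabilizer G a) b) := by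
  classical
  haveI : Nonempty Ω := ⟨a⟩
  obtain ⟨k₀, hk₀⟩ := exists_degree_eq f hf
  obtain ⟨nb, hnb⟩ : ∃ nb, nb = Nat.card (MulAction.orbit (MulAction.stabilizer G a) b) := ⟨_, rfl⟩
  rw [← hnb]
  let N : Matrix Ω Ω ℤ := fun x y => if ∃ g : G, g • a = x ∧ g • b = y then 1 else 0
  let M : Matrix Ω Ω ℂ := N.map (Int.castRingHom ℂ)
  have hMapp : ∀ x y, M x y = if ∃ g : G, g • a = x ∧ g • b = y then (1 : ℂ) else 0 := fun x y => by
    show Int.castRingHom ℂ (N x y) = _
    simp only [N, apply_ite (Int.castRingHom ℂ), map_one, map_zero]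
  have hMinv : ∀ (g : G) (x y : Ω), M (g • x) (g • y) = M x y := by
    intro g x y
    have e : (∃ k : G, k • a = g • x ∧ k • b = g • y) ↔ ∃ k : G, k • a = x ∧ k • b = y :=
      ⟨fun ⟨k, h1, h2⟩ => ⟨g⁻¹ * k, by rw [mul_smul, h1, inv_smul_smul], by rw [mul_smul, h2, inv_smul_smul]⟩,
        fun ⟨k, h1, h2⟩ => ⟨g * k, by rw [mul_smul, h1], by rw [mul_smul, h2]⟩⟩
    simp only [hMapp]
    exact if_congr e rfl rfl
  have hrow : Matrix.toLin' M (fun _ => 1) = (nb : ℂ) • fun _ => 1 := by
    funext x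
    obtain ⟨g, rfl⟩ := MulAction.exists_smul_eq G a x
    show ∑ y, M (g • a) y * 1 = (nb : ℂ) * 1
    rw [← Equiv.sum_comp (MulAction.toPerm g : Equiv.Perm Ω)]
    simp only [mul_one, MulAction.toPerm_apply, hMinv]
    simp only [hMapp, Finset.sum_boole]
    congr 1
    rw [hnb, Nat.card_eq_fintype_card, ← Set.toFinset_card]
    congr 1
    ext y
    simp only [Finset.mem_filter, Finset.mem_univ, true_and, Set.mem_toFinset, MulAction.mem_orbit_iff]
    exact ⟨fun ⟨k, h1, h2⟩ => ⟨⟨k, h1⟩, h2⟩, fun ⟨k, h⟩ => ⟨k, k.2, h⟩⟩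
  have htr : M.trace = 0 := by
    refine Finset.sum_eq_zero fun x _ => ?_
    simp only [Matrix.diag, hMapp]
    rw [if_neg]
    rintro ⟨g, h1, h2⟩
    exact hab (MulAction.injective g (h2.trans h1.symm))
  rw [Matrix.trace_eq_sum_roots_charpoly, Finset.sum_multiset_count] at htr
  have hmult : ∀ μ : ℂ, ∃ c : ℕ, M.charpoly.roots.count μ = (if μ = (nb : ℂ) then 1 else 0) + f * c ∨
      (μ = (nb : ℂ) ∧ f * c + M.charpoly.roots.count μ = 1 + f * k₀) := by
    intro μ
    let S : Subrepresentation (Cfsg.permRep ℂ G Ω) :=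
      ⟨Module.End.maxGenEigenspace (Matrix.toLin' M) μ, fun g v hv =>
        Module.End.mapsTo_maxGenEigenspace_of_comm (toLin_comm M hMinv g) μ hv⟩
    have hcount : M.charpoly.roots.count μ = Module.finrank ℂ S.toSubmodule := by
      rw [Polynomial.count_roots, ← Matrix.charpoly_toLin', ← LinearMap.finrank_maxGenEigenspace_eq]
    have heig : (fun _ : Ω => (1 : ℂ)) ∈ Module.End.maxGenEigenspace (Matrix.toLin' M) (nb : ℂ) :=
      Module.End.eigenspace_le_maxGenEigenspace (Module.End.mem_eigenspace_iff.2 hrow)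
    by_cases hμ : μ = (nb : ℂ)
    · subst hμ
      haveI := complemented_subrep (Cfsg.permRep ℂ G Ω)
      obtain ⟨T, hT⟩ := exists_isCompl S
      have h1 : (fun _ : Ω => (1 : ℂ)) ∉ T.toSubmodule := fun h => one_ne_zero (α := ℂ) (congrFun
        (Submodule.disjoint_def.1 (isCompl_toSubmodule hT).disjoint _ heig h) a)
      obtain ⟨c, hc⟩ := dvd_finrank_of_notMem f hf T h1
      refine ⟨c, Or.inr ⟨rfl, ?_⟩⟩
      have h2 := finrank_compl hT
      rw [Module.finrank_fintype_fun_eq_card, hk₀, hc, ← hcount] at h2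
      omega
    · have h1 : (fun _ : Ω => (1 : ℂ)) ∉ S.toSubmodule := by
        intro h
        have hdis : Disjoint (Module.End.maxGenEigenspace (Matrix.toLin' M) μ)
            (Module.End.maxGenEigenspace (Matrix.toLin' M) (nb : ℂ)) :=
          (Module.End.independent_maxGenEigenspace (Matrix.toLin' M)).pairwiseDisjoint hμ
        have h0 : (fun _ : Ω => (1 : ℂ)) = 0 := Submodule.disjoint_def.1 hdis _ h heig
        exact one_ne_zero (α := ℂ) (congrFun h0 a)
      obtain ⟨c, hc⟩ := dvd_finrank_of_notMem f hf S h1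
      exact ⟨c, Or.inl (by rw [if_neg hμ, hcount, hc, zero_add])⟩
  choose c hc using hmult
  let t : ℂ → ℤ := fun μ => if μ = (nb : ℂ) then (k₀ : ℤ) - c μ else c μ
  have hct : ∀ μ, (M.charpoly.roots.count μ : ℤ) = (if μ = (nb : ℂ) then 1 else 0) + f * t μ ∨
      (μ = (nb : ℂ) ∧ M.charpoly.roots.count μ = 1 + f * c μ) := by
    intro μ
    rcases hc μ with h | ⟨h, h'⟩
    · by_cases hμ : μ = (nb : ℂ)
      · exact Or.inr ⟨hμ, by rw [h, if_pos hμ]⟩
      · exact Or.inl (by simp only [t, if_neg hμ] at h ⊢; exact_mod_cast h)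
    · refine Or.inl ?_
      simp only [t, if_pos h]
      rw [mul_sub]
      have h2 := congrArg (fun n : ℕ => (n : ℤ)) h'
      push_cast at h2
      linarith
  obtain ⟨t', ht'⟩ : ∃ t' : ℂ → ℤ, ∀ μ, (M.charpoly.roots.count μ : ℤ) = (if μ = (nb : ℂ) then 1 else 0) + f * t' μ := by
    refine ⟨fun μ => if (M.charpoly.roots.count μ : ℤ) = (if μ = (nb : ℂ) then 1 else 0) + f * t μ then t μ
      else (c μ : ℤ), fun μ => ?_⟩
    split_ifs with h1 h2 <;> first | assumption | skip
    all_goals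
      rcases hct μ with h | ⟨h, h'⟩
      · simp_all
      · simp_all
  have hone : ((nb : ℂ) : ℂ) ∈ M.charpoly.roots.toFinset := by
    rw [Multiset.mem_toFinset, ← Multiset.count_pos]
    by_contra hz
    have h1 := ht' (nb : ℂ)
    rw [if_pos rfl, Nat.eq_zero_of_not_pos hz, Nat.cast_zero] at h1
    -- then `f = 1`
    rcases Int.eq_one_or_neg_one_of_mul_eq_neg_one (show (f : ℤ) * t' (nb : ℂ) = -1 by linarith) with h2 | h2
    · have hrt : M.charpoly.IsRoot (nb : ℂ) := by
        rw [← Matrix.charpoly_toLin', ← Module.End.hasEigenvalue_iff_isRoot_charpoly,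
          Module.End.hasEigenvalue_iff]
        intro h
        have hmem := Module.End.mem_eigenspace_iff.2 hrow
        rw [h, Submodule.mem_bot] at hmem
        exact one_ne_zero (congrFun hmem a)
      exact hz (Multiset.count_pos.2 ((Polynomial.mem_roots M.charpoly_monic.ne_zero).2 hrt))
    · omega
  have key : (nb : ℂ) + (f : ℂ) * ∑ μ ∈ M.charpoly.roots.toFinset, (t' μ : ℂ) * μ = 0 := by
    rw [← htr, Finset.mul_sum]
    have h1 : ∀ μ, M.charpoly.roots.count μ • μ = (if μ = (nb : ℂ) then μ else 0) + (f : ℂ) * ((t' μ : ℂ) * μ) := by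
      intro μ
      have h2 : (M.charpoly.roots.count μ : ℂ) = (if μ = (nb : ℂ) then 1 else 0) + (f : ℂ) * (t' μ : ℂ) := by
        have h3 := congrArg (fun z : ℤ => (z : ℂ)) (ht' μ)
        by_cases hμ : μ = (nb : ℂ)
        · rw [if_pos hμ] at h3 ⊢; push_cast at h3; exact h3
        · rw [if_neg hμ] at h3 ⊢; push_cast at h3; exact h3
      rw [nsmul_eq_mul, h2, add_mul]
      split_ifs <;> ring
    rw [Finset.sum_congr rfl fun μ _ => h1 μ, Finset.sum_add_distrib, Finset.sum_ite_eq', if_pos hone]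
  have hint : IsIntegral ℤ (∑ μ ∈ M.charpoly.roots.toFinset, (t' μ : ℂ) * μ) := by
    refine IsIntegral.sum _ fun μ hμ => IsIntegral.mul (isIntegral_algebraMap (R := ℤ)) ?_
    refine ⟨N.charpoly, N.charpoly_monic, ?_⟩
    have h1 := (Polynomial.mem_roots'.1 (Multiset.mem_toFinset.1 hμ)).2
    rw [show M = N.map (Int.castRingHom ℂ) from rfl, Matrix.charpoly_map] at h1
    rw [Polynomial.eval₂_eq_eval_map]
    exact h1
  have hpos : 0 < nb := by
    rw [hnb]
    exact Nat.card_pos_iff.2 ⟨⟨⟨b, MulAction.mem_orbit_self b⟩⟩, inferInstance⟩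
  have hf0 : f ≠ 0 := by
    rintro rfl
    rw [Nat.cast_zero, zero_mul, add_zero, Nat.cast_eq_zero] at key
    omega
  obtain ⟨z, hz⟩ : ∃ z : ℤ, ∑ μ ∈ M.charpoly.roots.toFinset, (t' μ : ℂ) * μ = (z : ℂ) := by
    have hq : ∑ μ ∈ M.charpoly.roots.toFinset, (t' μ : ℂ) * μ = algebraMap ℚ ℂ (-(nb : ℚ) / f) := by
      have : (f : ℂ) ≠ 0 := by exact_mod_cast hf0
      rw [map_div₀, map_neg, map_natCast, map_natCast, eq_div_iff this]
      linear_combination key
    rw [hq] at hint ⊢
    obtain ⟨z, hz⟩ := IsIntegrallyClosed.isIntegral_iff.1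
      ((isIntegral_algebraMap_iff (algebraMap ℚ ℂ).injective).1 hint)
    exact ⟨z, by rw [← hz]; simp⟩
  rw [hz] at key
  have h4 : (nb : ℤ) + (f : ℤ) * z = 0 := by exact_mod_cast key
  exact Int.natCast_dvd_natCast.1 ⟨-z, by linarith⟩

end Divisible

/-! ### Rank -/

section Rank

variable [MulAction.IsPretransitive G Ω]

theorem card_orbits_pair (a : Ω) :
    Nat.card (MulAction.orbitRel.Quotient G (Ω × Ω)) =
      Nat.card (MulAction.orbitRel.Quotient (MulAction.stabilizer G a) Ω) := by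
  refine (Nat.card_congr (Equiv.ofBijective
    (Quotient.map' (fun x : Ω => (a, x)) fun x y h => ?_) ⟨?_, ?_⟩)).symm
  · obtain ⟨g, hg⟩ := MulAction.orbitRel_apply.1 h
    exact MulAction.orbitRel_apply.2 ⟨g, Prod.ext g.2 hg⟩
  · rintro ⟨x⟩ ⟨y⟩ h
    obtain ⟨g, hg⟩ := MulAction.orbitRel_apply.1 (Quotient.exact' h)
    exact Quotient.sound' (MulAction.orbitRel_apply.2 ⟨⟨g, congrArg Prod.fst hg⟩, congrArg Prod.snd hg⟩)
  · rintro ⟨x, y⟩
    obtain ⟨g, hg⟩ := MulAction.exists_smul_eq G x a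
    exact ⟨Quotient.mk'' (g • y), Quotient.sound' (MulAction.orbitRel_apply.2 ⟨g, Prod.ext hg rfl⟩)⟩

theorem exists_multiplicities [Fintype (IrrCharacter G)] (a : Ω) :
    ∃ m : IrrCharacter G → ℕ, (∀ χ : IrrCharacter G, classInner (permChar G Ω) (χ : G → ℂ) = (m χ : ℂ)) ∧
      m ⟨fun _ => 1, isIrrCharacter_one⟩ = 1 ∧
      ∑ χ, m χ * m χ = Nat.card (MulAction.orbitRel.Quotient (MulAction.stabilizer G a) Ω) ∧
      ∀ g, permChar G Ω g = ∑ χ : IrrCharacter G, (m χ : ℂ) * (χ : G → ℂ) g := by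
  classical
  haveI : Nonempty Ω := ⟨a⟩
  choose m hm using fun χ : IrrCharacter G => classInner_char_irr_nat (isCharacter_permChar (G := G) Ω) χ
  refine ⟨m, hm, ?_, ?_, fun g => ?_⟩
  · have h := hm ⟨fun _ => 1, isIrrCharacter_one⟩
    rw [classInner_perm_one] at h
    exact_mod_cast h.symm
  · have h := classInner_permChar_self (G := G) Ω
    rw [classInner_expand classFun_perm, card_orbits_pair a] at h
    simp only [hm, map_natCast] at h
    exact_mod_cast h
  · have h := congrFun (classFun_expand (classFun_perm (G := G) (Ω := Ω))) g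
    simpa [hm, Finset.sum_apply] using h

/-- At most five suborbits force a multiplicity-free character. -/
theorem multiplicityFree_of_rank_le_five (a : Ω)
    (hr : Nat.card (MulAction.orbitRel.Quotient (MulAction.stabilizer G a) Ω) ≤ 5) (χ : G → ℂ)
    (hχ : IsIrrCharacter G χ) :
    classInner (permChar G Ω) χ = 0 ∨ classInner (permChar G Ω) χ = 1 := by
  classical
  haveI := Fintype.ofFinite (IrrCharacter G)
  obtain ⟨m, hm, hm1, hsq, hexp⟩ := exists_multiplicities (G := G) a
  by_contra hcon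
  have h2 : 2 ≤ m ⟨χ, hχ⟩ := by
    rw [show classInner (permChar G Ω) χ = _ from hm ⟨χ, hχ⟩, not_or, Nat.cast_eq_zero, Nat.cast_eq_one] at hcon
    omega
  obtain ⟨one, hone⟩ : ∃ one : IrrCharacter G, one = ⟨fun _ => 1, isIrrCharacter_one⟩ := ⟨_, rfl⟩
  rw [← hone] at hm1
  have hne : (⟨χ, hχ⟩ : IrrCharacter G) ≠ one := fun h => by rw [h, hm1] at h2; omega
  have hrest := Finset.sum_le_sum_of_subset (f := fun ψ => m ψ * m ψ)
    (Finset.subset_univ ({one, ⟨χ, hχ⟩} : Finset (IrrCharacter G)))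
  rw [Finset.sum_pair hne.symm, hm1] at hrest
  have h4 : m ⟨χ, hχ⟩ = 2 := by nlinarith
  have hzero : ∀ ψ, ψ ≠ one → ψ ≠ ⟨χ, hχ⟩ → m ψ = 0 := by
    intro ψ h1 h2'
    have h5 := Finset.sum_le_sum_of_subset (f := fun ψ => m ψ * m ψ)
      (Finset.subset_univ ({one, ⟨χ, hχ⟩, ψ} : Finset (IrrCharacter G)))
    rw [Finset.sum_insert (by simp [hne.symm, Ne.symm h1]), Finset.sum_pair (Ne.symm h2'), hm1, h4] at h5
    nlinarith
  have hperm : ∀ g, permChar G Ω g = 1 + 2 * χ g := by
    intro g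
    rw [hexp g, ← Finset.sum_subset (Finset.subset_univ ({one, ⟨χ, hχ⟩} : Finset (IrrCharacter G))) fun ψ _ hψ => ?_,
      Finset.sum_pair hne.symm, hm1, h4, hone]
    · simp
    · simp only [Finset.mem_insert, Finset.mem_singleton, not_or] at hψ
      simp [hzero ψ hψ.1 hψ.2]
  -- a derangement
  obtain ⟨g, hg⟩ : ∃ g : G, permChar G Ω g = 0 := by
    by_contra hall
    push Not at hall
    have h1 : classInner (permChar G Ω) (fun _ => 1) = 1 := by haveI : Nonempty Ω := ⟨a⟩; exact classInner_perm_one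
    rw [classInner] at h1
    simp only [map_one, mul_one] at h1
    rw [inv_mul_eq_one₀ card_ne_zero'] at h1
    have hsum : Nat.card G = ∑ g : G, Nat.card (MulAction.fixedBy Ω g) := by
      simp only [permChar] at h1
      exact_mod_cast h1
    have hlt : ∑ _g : G, 1 < ∑ g : G, Nat.card (MulAction.fixedBy Ω g) := by
      refine Finset.sum_lt_sum (fun g _ => Nat.pos_of_ne_zero fun h => hall g (by unfold permChar; exact_mod_cast h)) ⟨1, Finset.mem_univ _, ?_⟩
      have h5 := hperm 1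
      obtain ⟨d, hd⟩ := isIrrCharacter_degree hχ
      have hd0 : χ 1 ≠ 0 := irr_one_ne_zero ⟨χ, hχ⟩
      have h6 : (Nat.card (MulAction.fixedBy Ω (1 : G)) : ℂ) = ((1 + 2 * d : ℕ) : ℂ) := by
        rw [show (Nat.card (MulAction.fixedBy Ω (1 : G)) : ℂ) = permChar G Ω 1 from rfl, h5]
        first
          | (rw [hd]; push_cast; ring)
          | (rw [hd.2]; push_cast; ring)
      have h7 : Nat.card (MulAction.fixedBy Ω (1 : G)) = 1 + 2 * d := by exact_mod_cast h6
      have : d ≠ 0 := by rintro rfl; simp_all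
      omega
    rw [Finset.sum_const, Finset.card_univ, smul_eq_mul, mul_one, ← Nat.card_eq_fintype_card] at hlt
    omega
  have hint := isCharacter_isIntegral (isCharacter_of_isIrr hχ) g
  have hval : χ g = algebraMap ℚ ℂ (-1 / 2) := by
    have h5 := hperm g
    rw [hg] at h5
    rw [map_div₀, map_neg, map_one, map_ofNat]
    linear_combination -h5 / 2
  rw [hval] at hint
  obtain ⟨z, hz⟩ := IsIntegrallyClosed.isIntegral_iff.1
    ((isIntegral_algebraMap_iff (algebraMap ℚ ℂ).injective).1 hint)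
  have h6 : (2 * z : ℚ) = -1 := by
    rw [show (z : ℚ) = -1 / 2 from by simpa using hz]; norm_num
  have h7 : 2 * z = -1 := by exact_mod_cast h6
  omega

/-- Equal degrees force a multiplicity-free character and equal subdegrees. -/
theorem equal_degrees (f : ℕ) (a : Ω)
    (hf : ∀ χ : G → ℂ, IsIrrCharacter G χ → χ ≠ (fun _ => 1) → classInner (permChar G Ω) χ ≠ 0 → χ 1 = f) :
    (∀ χ : G → ℂ, IsIrrCharacter G χ → classInner (permChar G Ω) χ = 0 ∨ classInner (permChar G Ω) χ = 1) ∧
      ∀ b : Ω, b ≠ a → Nat.card (MulAction.orbit (MulAction.stabilizer G a) b) = f := by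
  classical
  haveI := Fintype.ofFinite (IrrCharacter G)
  haveI := Fintype.ofFinite (MulAction.orbitRel.Quotient (MulAction.stabilizer G a) Ω)
  haveI : Nonempty Ω := ⟨a⟩
  obtain ⟨m, hm, hm1, hsq, hexp⟩ := exists_multiplicities (G := G) a
  obtain ⟨one, hone⟩ : ∃ one : IrrCharacter G, one = ⟨fun _ => 1, isIrrCharacter_one⟩ := ⟨_, rfl⟩
  rw [← hone] at hm1
  have hdeg : ∀ χ, χ ≠ one → (m χ : ℂ) * (χ : G → ℂ) 1 = ((f * m χ : ℕ) : ℂ) := by
    intro χ hχ
    rcases Nat.eq_zero_or_pos (m χ) with h | h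
    · simp [h]
    · rw [hf χ χ.2 (fun h' => hχ (Subtype.ext (by rw [h', hone]))) (by rw [hm χ]; exact_mod_cast h.ne')]
      push_cast; ring
  have hn : Fintype.card Ω = 1 + f * ∑ χ ∈ Finset.univ.erase one, m χ := by
    have h := hexp 1
    rw [← Finset.add_sum_erase _ _ (Finset.mem_univ one),
      Finset.sum_congr rfl fun χ hχ => hdeg χ (Finset.mem_erase.1 hχ).1, hm1, hone] at h
    have h1 : permChar G Ω 1 = (Fintype.card Ω : ℂ) := by
      simp [permChar, MulAction.fixedBy, Nat.card_eq_fintype_card]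
    rw [h1, ← Nat.cast_sum, ← Finset.mul_sum] at h
    simp only [Nat.cast_one, one_mul] at h
    rw [hone]; exact_mod_cast h
  obtain ⟨q₀, hq₀⟩ : ∃ q₀ : MulAction.orbitRel.Quotient (MulAction.stabilizer G a) Ω, q₀ = Quotient.mk'' a :=
    ⟨_, rfl⟩
  have hdiv : ∀ b : Ω, b ≠ a → f ∣ Nat.card (MulAction.orbit (MulAction.stabilizer G a) b) := fun b hb =>
    dvd_subdegree f (fun χ h1 h2 h3 => ⟨1, by rw [hf χ h1 h2 h3, Nat.cast_one, mul_one]⟩) a b hb
  have hge : ∀ q ∈ Finset.univ.erase q₀, f ≤ Nat.card (MulAction.orbitRel.Quotient.orbit q) := by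
    intro q hq
    induction q using Quotient.inductionOn' with
    | h b =>
      rw [MulAction.orbitRel.Quotient.orbit_mk]
      have hb : b ≠ a := fun h => (Finset.mem_erase.1 hq).1 (by rw [hq₀, h])
      exact Nat.le_of_dvd (Nat.card_pos_iff.2 ⟨⟨⟨b, MulAction.mem_orbit_self b⟩⟩, inferInstance⟩) (hdiv b hb)
  have hsum : Fintype.card Ω = 1 + ∑ q ∈ Finset.univ.erase q₀, Nat.card (MulAction.orbitRel.Quotient.orbit q) := by
    rw [← Nat.card_eq_fintype_card, Nat.card_congr (MulAction.selfEquivSigmaOrbits' (MulAction.stabilizer G a) Ω),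
      Nat.card_sigma, ← Finset.add_sum_erase _ _ (Finset.mem_univ q₀)]
    congr 1
    rw [hq₀, MulAction.orbitRel.Quotient.orbit_mk, Nat.card_coe_set_eq, Set.ncard_eq_one]
    refine ⟨a, Set.eq_singleton_iff_unique_mem.2 ⟨MulAction.mem_orbit_self a, ?_⟩⟩
    rintro _ ⟨g, rfl⟩
    exact g.2
  have hcard : (Finset.univ.erase q₀).card = ∑ χ ∈ Finset.univ.erase one, m χ * m χ := by
    rw [Finset.card_erase_of_mem (Finset.mem_univ _), Finset.card_univ, ← Nat.card_eq_fintype_card, ← hsq,
      ← Finset.add_sum_erase _ _ (Finset.mem_univ one), hm1, one_mul, Nat.add_sub_cancel_left]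
  have hle1 : ∑ χ ∈ Finset.univ.erase one, m χ ≤ ∑ χ ∈ Finset.univ.erase one, m χ * m χ :=
    Finset.sum_le_sum fun χ _ => Nat.le_mul_self _
  have hle2 : (Finset.univ.erase q₀).card * f ≤
      ∑ q ∈ Finset.univ.erase q₀, Nat.card (MulAction.orbitRel.Quotient.orbit q) := by
    simpa using Finset.card_nsmul_le_sum _ _ f hge
  have hkey : f * ∑ χ ∈ Finset.univ.erase one, m χ * m χ ≤ f * ∑ χ ∈ Finset.univ.erase one, m χ := by
    rw [← hcard, mul_comm]; omega
  refine ⟨fun χ hχ => ?_, fun b hb => ?_⟩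
  · rw [show classInner (permChar G Ω) χ = _ from hm ⟨χ, hχ⟩, Nat.cast_eq_zero, Nat.cast_eq_one]
    by_contra hcon
    have hne : (⟨χ, hχ⟩ : IrrCharacter G) ≠ one := fun h => hcon (Or.inr (by rw [h, hm1]))
    have hf0 : 0 < f := by
      rcases Nat.eq_zero_or_pos f with rfl | h
      · exact absurd (hf χ hχ (fun h' => hne (Subtype.ext (h'.trans (by rw [hone]))))
          (fun h' => hcon (Or.inl (by have := (hm ⟨χ, hχ⟩).symm.trans h'; exact_mod_cast this))))
          (fun h' => irr_one_ne_zero ⟨χ, hχ⟩ (by simpa using h'))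
      · exact h
    have h1 := Nat.le_of_mul_le_mul_left hkey hf0
    have h2 := Finset.sum_eq_sum_iff_of_le (fun χ _ => Nat.le_mul_self (m χ)) |>.1 (le_antisymm hle1 h1)
      ⟨χ, hχ⟩ (Finset.mem_erase.2 ⟨hne, Finset.mem_univ _⟩)
    rcases Nat.eq_zero_or_pos (m ⟨χ, hχ⟩) with h | h
    · exact hcon (Or.inl h)
    · exact hcon (Or.inr (Nat.eq_of_mul_eq_mul_left h (by rw [mul_one]; exact h2.symm)))
  · refine le_antisymm ?_ (Nat.le_of_dvd (Nat.card_pos_iff.2 ⟨⟨⟨b, MulAction.mem_orbit_self b⟩⟩, inferInstance⟩)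
      (hdiv b hb))
    by_contra hlt
    have hq : (Quotient.mk'' b : MulAction.orbitRel.Quotient (MulAction.stabilizer G a) Ω) ∈ Finset.univ.erase q₀ := by
      refine Finset.mem_erase.2 ⟨fun h => hb ?_, Finset.mem_univ _⟩
      rw [hq₀] at h
      obtain ⟨g, hg⟩ := MulAction.orbitRel_apply.1 (Quotient.exact' h)
      exact hg.symm.trans g.2
    have hlt2 : ∑ _q ∈ Finset.univ.erase q₀, f <
        ∑ q ∈ Finset.univ.erase q₀, Nat.card (MulAction.orbitRel.Quotient.orbit q) :=
      Finset.sum_lt_sum hge ⟨_, hq, by rw [MulAction.orbitRel.Quotient.orbit_mk]; omega⟩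
    rw [Finset.sum_const, smul_eq_mul, hcard, mul_comm] at hlt2
    have := Nat.mul_le_mul_left f hle1
    omega

end Rank

end CfsgLib.Perm.Module'
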