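import Cfsg.Agent.Lib.Perm.Groups.SelfPaired

/-!
# Rank three groups of Wielandt type
-/

set_option autoImplicit false
set_option linter.unusedSectionVars false
set_option linter.style.haveILetI false

namespace CfsgLib.Perm.Module'

open Cfsg CfsgLib.Char Representation
open scoped ComplexConjugate

universe u v w

variable {G : Type u} [Group G] [Fintype G] {Ω : Type v} [Fintype Ω] [MulAction G Ω]

/-- A multiplicity-one constituent: every invariant operator acts on it by a scalar. -/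
theorem exists_scalar_map {W : Type w} [AddCommGroup W] [Module ℂ W] [FiniteDimensional ℂ W]
    (σ : Representation ℂ G W) (hc : classInner (permChar G Ω) σ.character = 1) :
    ∃ f : IntertwiningMap σ (Cfsg.permRep ℂ G Ω), f ≠ 0 ∧ ∀ T : (Ω → ℂ) →ₗ[ℂ] (Ω → ℂ),
      (∀ g : G, T ∘ₗ Cfsg.permRep ℂ G Ω g = Cfsg.permRep ℂ G Ω g ∘ₗ T) →
      ∃ x : ℂ, T ∘ₗ f.toLinearMap = x • f.toLinearMap := by
  rw [classInner_eq_finrank] at hc
  have h1 : Module.finrank ℂ (IntertwiningMap σ (Cfsg.permRep ℂ G Ω)) = 1 := by exact_mod_cast hc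
  haveI := Module.nontrivial_of_finrank_pos (R := ℂ) (M := IntertwiningMap σ (Cfsg.permRep ℂ G Ω)) (by omega)
  obtain ⟨f, hf⟩ := exists_ne (0 : IntertwiningMap σ (Cfsg.permRep ℂ G Ω))
  refine ⟨f, hf, fun T hT => ?_⟩
  obtain ⟨x, hx⟩ := (finrank_eq_one_iff_of_nonzero' f hf).1 h1 ⟨T ∘ₗ f.toLinearMap, fun g => by
    rw [LinearMap.comp_assoc, f.isIntertwining' g, ← LinearMap.comp_assoc, hT, LinearMap.comp_assoc]⟩
  refine ⟨x, ?_⟩
  have h2 := congrArg IntertwiningMap.toLinearMap hx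
  rw [IntertwiningMap.toLinearMap_smul] at h2
  exact h2.symm

/-- Non-principal constituents consist of functions with sum zero. -/
theorem sum_eq_zero_of_ne_one {n : ℕ} {σ : Representation ℂ G (Fin n → ℂ)} [hσ : σ.IsIrreducible]
    (f : IntertwiningMap σ (Cfsg.permRep ℂ G Ω)) (hne : σ.character ≠ fun _ => 1) (v : Fin n → ℂ) :
    ∑ x, f.toLinearMap v x = 0 := by
  let φ : (Fin n → ℂ) →ₗ[ℂ] ℂ := (∑ x, LinearMap.proj x : (Ω → ℂ) →ₗ[ℂ] ℂ) ∘ₗ f.toLinearMap
  have hφ : ∀ u, φ u = ∑ x, f.toLinearMap u x := fun u => by simp [φ, LinearMap.sum_apply]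
  have hinv : ∀ g u, φ (σ g u) = φ u := by
    intro g u
    rw [hφ, hφ, show f.toLinearMap (σ g u) = Cfsg.permRep ℂ G Ω g (f.toLinearMap u) from
      congr($(f.isIntertwining' g) u)]
    exact Fintype.sum_equiv (MulAction.toPerm g⁻¹) _ _ fun x => rfl
  let K : Subrepresentation σ := ⟨LinearMap.ker φ, fun g u hu => by
    rw [LinearMap.mem_ker] at hu ⊢; rw [hinv, hu]⟩
  rw [← hφ]
  rcases IsSimpleOrder.eq_bot_or_eq_top K with h | h
  · exfalso
    have hinj : Function.Injective φ := LinearMap.ker_eq_bot.1 (congrArg Subrepresentation.toSubmodule h)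
    have hle := LinearMap.finrank_le_finrank_of_injective hinj
    rw [Module.finrank_self, Module.finrank_fin_fun] at hle
    haveI := nontrivial_of_irreducible σ
    have hn : n = 1 := by
      have := Module.finrank_pos (R := ℂ) (M := Fin n → ℂ)
      rw [Module.finrank_fin_fun] at this
      omega
    refine hne (funext fun g => ?_)
    have hid : σ g = LinearMap.id := LinearMap.ext fun u => hinj (hinv g u)
    show LinearMap.trace ℂ _ (σ g) = 1
    rw [hid, LinearMap.trace_id, Module.finrank_fin_fun, hn, Nat.cast_one]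
  · exact LinearMap.mem_ker.1 (show v ∈ K.toSubmodule by rw [h]; exact Submodule.mem_top)

/-- Constituents of different degree meet trivially. -/
theorem eq_zero_of_map_eq {n₁ n₂ : ℕ} {σ₁ : Representation ℂ G (Fin n₁ → ℂ)} {σ₂ : Representation ℂ G (Fin n₂ → ℂ)}
    [hσ₁ : σ₁.IsIrreducible] [hσ₂ : σ₂.IsIrreducible] (f₁ : IntertwiningMap σ₁ (Cfsg.permRep ℂ G Ω))
    (f₂ : IntertwiningMap σ₂ (Cfsg.permRep ℂ G Ω)) (hf₁ : f₁ ≠ 0) (hf₂ : f₂ ≠ 0) (hn : n₁ ≠ n₂)
    {v : Fin n₁ → ℂ} {w : Fin n₂ → ℂ} (h : f₁.toLinearMap v = f₂.toLinearMap w) : v = 0 := by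
  have i₁ := injective_of_irreducible f₁ hf₁
  have i₂ := injective_of_irreducible f₂ hf₂
  let K₁ : Subrepresentation σ₁ := ⟨(LinearMap.range f₂.toLinearMap).comap f₁.toLinearMap, fun g u hu => by
    obtain ⟨z, hz⟩ := hu
    refine ⟨σ₂ g z, ?_⟩
    rw [show f₂.toLinearMap (σ₂ g z) = Cfsg.permRep ℂ G Ω g (f₂.toLinearMap z) from congr($(f₂.isIntertwining' g) z),
      hz]
    exact congr($((f₁.isIntertwining' g).symm) u)⟩
  rcases IsSimpleOrder.eq_bot_or_eq_top K₁ with h1 | h1
  · have : v ∈ K₁.toSubmodule := ⟨w, h.symm⟩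
    rw [h1] at this
    exact (Submodule.mem_bot ℂ).1 this
  · exfalso
    have hle : LinearMap.range f₁.toLinearMap ≤ LinearMap.range f₂.toLinearMap := by
      rintro _ ⟨u, rfl⟩
      exact (congrArg Subrepresentation.toSubmodule h1 ▸ Submodule.mem_top : u ∈ K₁.toSubmodule)
    let K₂ : Subrepresentation σ₂ := ⟨(LinearMap.range f₁.toLinearMap).comap f₂.toLinearMap, fun g u hu => by
      obtain ⟨z, hz⟩ := hu
      refine ⟨σ₁ g z, ?_⟩
      rw [show f₁.toLinearMap (σ₁ g z) = Cfsg.permRep ℂ G Ω g (f₁.toLinearMap z) from congr($(f₁.isIntertwining' g) z),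
        hz]
      exact congr($((f₂.isIntertwining' g).symm) u)⟩
    rcases IsSimpleOrder.eq_bot_or_eq_top K₂ with h2 | h2
    · haveI := nontrivial_of_irreducible σ₁
      obtain ⟨u, hu⟩ := exists_ne (0 : Fin n₁ → ℂ)
      obtain ⟨z, hz⟩ := hle ⟨u, rfl⟩
      have : z ∈ K₂.toSubmodule := ⟨u, hz.symm⟩
      rw [h2] at this
      rw [(Submodule.mem_bot ℂ).1 this, map_zero] at hz
      exact hu (i₁ (by rw [← hz, map_zero]))
    · have hge : LinearMap.range f₂.toLinearMap ≤ LinearMap.range f₁.toLinearMap := by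
        rintro _ ⟨u, rfl⟩
        exact (congrArg Subrepresentation.toSubmodule h2 ▸ Submodule.mem_top : u ∈ K₂.toSubmodule)
      have e := congrArg (fun S : Submodule ℂ (Ω → ℂ) => Module.finrank ℂ S) (le_antisymm hle hge)
      simp only [LinearMap.finrank_range_of_inj i₁, LinearMap.finrank_range_of_inj i₂, Module.finrank_fin_fun] at e
      exact hn e

/-- The arithmetic of a rank three group of Wielandt type. -/
theorem wielandt_arith {m k : ℕ} {r s e : ℤ} (hm : 2 ≤ m) (hk : 2 ≤ k) (hl : k + 2 ≤ 2 * m - 1)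
    (hrs : r + s = e) (htr : (k : ℤ) + r * (m - 1) + s * m = 0)
    (htr2 : (k : ℤ) ^ 2 + r ^ 2 * (m - 1) + s ^ 2 * m = 2 * m * k) :
    ∃ a : ℕ, 0 < a ∧ m = 2 * a ^ 2 + 2 * a + 1 ∧ (k = a * (2 * a + 1) ∨ k = (a + 1) * (2 * a + 1)) := by
  obtain rfl : r = e * m + k := by
    have : s = e - r := by linarith
    subst this
    linarith
  obtain rfl : s = e - (e * m + k) := by linarith
  have hM : (1 : ℤ) ≤ (m : ℤ) - 1 := by omega
  obtain ⟨X, hX⟩ : ∃ X, X = 2 * (k : ℤ) ^ 2 + (4 * e * (m - 1) - 2) * k + e ^ 2 * (m - 1) * (2 * m - 1) := ⟨_, rfl⟩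
  have hX0 : X = 0 := by
    have : (m : ℤ) * X = 0 := by rw [hX]; linear_combination htr2
    exact (mul_eq_zero.1 this).resolve_left (by omega)
  rw [hX] at hX0
  have hsq : (2 * (k : ℤ) + 2 * e * (m - 1) - 1) ^ 2 = 1 - 2 * (m - 1) * (e * (e + 2)) := by
    linear_combination 2 * hX0
  have he : e * (e + 2) ≤ 0 := by
    by_contra hc
    push Not at hc
    nlinarith [sq_nonneg (2 * (k : ℤ) + 2 * e * (m - 1) - 1), mul_le_mul hM hc (by norm_num) (by omega)]
  have he2 : -2 ≤ e ∧ e ≤ 0 := by constructor <;> nlinarith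
  obtain ⟨he₀, he₁⟩ := he2
  interval_cases e
  · exfalso
    have h : (2 * (k : ℤ) + 2 * -2 * (m - 1) - 1) ^ 2 = 1 := by linarith
    rcases sq_eq_one_iff.1 h with h | h <;> omega
  · have h : (2 * (k : ℤ) - (2 * m - 1)) ^ 2 = 2 * m - 1 := by
      ring_nf at hsq ⊢
      linarith
    obtain ⟨u, hu⟩ : ∃ u : ℕ, u = (2 * (k : ℤ) - (2 * m - 1)).natAbs := ⟨_, rfl⟩
    have hu2 : (u : ℤ) ^ 2 = 2 * m - 1 := by rw [hu, Int.natAbs_pow_two, h]
    obtain ⟨a, rfl⟩ : ∃ a, u = 2 * a + 1 := by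
      rcases Nat.even_or_odd u with ⟨a, ha⟩ | ⟨a, ha⟩
      · exfalso
        have h2u : (2 : ℤ) ∣ (u : ℤ) := ⟨a, by rw [ha]; push_cast; ring⟩
        have h3 : (2 : ℤ) ∣ (u : ℤ) ^ 2 := dvd_pow h2u two_ne_zero
        rw [hu2] at h3
        omega
      · exact ⟨a, ha⟩
    push_cast at hu2
    have hma : m = 2 * a ^ 2 + 2 * a + 1 := by
      have : (m : ℤ) = 2 * (a : ℤ) ^ 2 + 2 * a + 1 := by linarith
      exact_mod_cast this
    refine ⟨a, ?_, hma, ?_⟩
    · rcases Nat.eq_zero_or_pos a with rfl | h0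
      · simp at hma; omega
      · exact h0
    · have hma' : (m : ℤ) = 2 * (a : ℤ) ^ 2 + 2 * a + 1 := by exact_mod_cast hma
      rcases Int.natAbs_eq (2 * (k : ℤ) - (2 * m - 1)) with h' | h' <;> rw [← hu] at h' <;> push_cast at h'
      · right
        have : (k : ℤ) = ((a : ℤ) + 1) * (2 * a + 1) := by linarith
        exact_mod_cast this
      · left
        have : (k : ℤ) = (a : ℤ) * (2 * a + 1) := by linarith
        exact_mod_cast this
  · exfalso
    have h : (2 * (k : ℤ) - 1) ^ 2 = 1 := by linarith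
    rcases sq_eq_one_iff.1 h with h | h <;> omega

set_option maxHeartbeats 1000000 in
/-- Groups of Wielandt type: the parameters. -/
theorem wielandt_type (hprim : MulAction.IsPreprimitive G Ω) {m : ℕ} (hm : Fintype.card Ω = 2 * m) (a₀ : Ω)
    (hrank : Nat.card (MulAction.orbitRel.Quotient (MulAction.stabilizer G a₀) Ω) = 3) (χ₁ χ₂ : G → ℂ)
    (h₁ : IsIrrCharacter G χ₁) (h₂ : IsIrrCharacter G χ₂)
    (hπ : permChar G Ω = fun g => 1 + χ₁ g + χ₂ g) (hd₁ : χ₁ 1 = (m : ℂ) - 1) (hd₂ : χ₂ 1 = m)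
    (b : Ω) (hb : b ≠ a₀) :
    ∃ a : ℕ, 0 < a ∧ m = 2 * a ^ 2 + 2 * a + 1 ∧
      (Nat.card (MulAction.orbit (MulAction.stabilizer G a₀) b) = a * (2 * a + 1) ∨
        Nat.card (MulAction.orbit (MulAction.stabilizer G a₀) b) = (a + 1) * (2 * a + 1)) := by
  classical
  haveI : Nonempty Ω := ⟨a₀⟩
  haveI : Nontrivial Ω := ⟨⟨b, a₀, hb⟩⟩
  haveI := hprim
  -- the suborbits
  let Q := MulAction.orbitRel.Quotient (MulAction.stabilizer G a₀) Ω
  haveI : Fintype Q := Fintype.ofFinite Q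
  have hfix : ∀ y, y ≠ a₀ → ∃ g : G, g • a₀ = a₀ ∧ g • y ≠ y := by
    intro y hy
    by_contra hall
    push Not at hall
    obtain ⟨k, hk⟩ := MulAction.exists_smul_eq G a₀ y
    have hle : MulAction.stabilizer G a₀ ≤ MulAction.stabilizer G y := fun g hg => hall g hg
    have hnorm : MulAction.stabilizer G a₀ = MulAction.stabilizer G y := by
      rcases ((MulAction.IsPreprimitive.isCoatom_stabilizer_of_isPreprimitive (G := G) (X := Ω) a₀)).le_iff.1 hle with h | h
      · exfalso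
        obtain ⟨g, hg⟩ := MulAction.exists_smul_eq G y a₀
        exact hy ((MulAction.mem_stabilizer_iff.1 (h ▸ Subgroup.mem_top g)).symm.trans hg)
      · exact h.symm
    have hN : (MulAction.stabilizer G a₀).Normal := by
      refine Subgroup.normalizer_eq_top_iff.1 ?_
      rcases ((MulAction.IsPreprimitive.isCoatom_stabilizer_of_isPreprimitive (G := G) (X := Ω) a₀)).le_iff.1
        (Subgroup.le_normalizer (H := MulAction.stabilizer G a₀)) with h | h
      · exact h
      · exfalso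
        have hk' : k ∈ Subgroup.normalizer (MulAction.stabilizer G a₀ : Set G) := by
          rw [Subgroup.mem_normalizer_iff]
          intro g
          rw [MulAction.mem_stabilizer_iff]
          conv_rhs => rw [hnorm, MulAction.mem_stabilizer_iff, ← hk, mul_smul, mul_smul, inv_smul_smul]
          exact ⟨fun e => by rw [e], fun e => smul_left_cancel k e⟩
        rw [h] at hk'
        exact hy (hk.symm.trans hk')
    have htriv : ∀ z : Ω, MulAction.orbit (MulAction.stabilizer G a₀) z = {z} := by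
      intro z
      obtain ⟨g, rfl⟩ := MulAction.exists_smul_eq G a₀ z
      refine Set.eq_singleton_iff_unique_mem.2 ⟨MulAction.mem_orbit_self _, ?_⟩
      rintro _ ⟨⟨h, hh⟩, rfl⟩
      show h • g • a₀ = g • a₀
      have h' := hN.conj_mem h hh g⁻¹
      rw [inv_inv, MulAction.mem_stabilizer_iff, mul_smul, mul_smul, inv_smul_eq_iff] at h'
      exact h'
    have hbij : Function.Bijective (Quotient.mk'' : Ω → Q) := by
      refine ⟨fun u z h => ?_, fun q => Quotient.inductionOn' q fun z => ⟨z, rfl⟩⟩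
      have h' := MulAction.orbitRel_apply.1 (Quotient.exact' h)
      rw [htriv] at h'
      exact h'
    have := Nat.card_eq_of_bijective _ hbij
    rw [hrank, Nat.card_eq_fintype_card, hm] at this
    omega
  have hsmall : ∀ y, y ≠ a₀ → 2 ≤ Nat.card (MulAction.orbit (MulAction.stabilizer G a₀) y) := by
    intro y hy
    obtain ⟨g, hg, hgy⟩ := hfix y hy
    rw [Nat.card_coe_set_eq]
    exact (Set.one_lt_ncard (Set.toFinite _)).2 ⟨_, ⟨⟨g, hg⟩, rfl⟩, y, MulAction.mem_orbit_self y, hgy⟩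
  let R : Ω → Ω → Prop := fun x y => ∃ g : G, g • a₀ = x ∧ g • b = y
  have hR : ∀ (k : G) x y, R (k • x) (k • y) ↔ R x y := fun k x y =>
    ⟨fun ⟨g, h1, h2⟩ => ⟨k⁻¹ * g, by rw [mul_smul, h1, inv_smul_smul], by rw [mul_smul, h2, inv_smul_smul]⟩,
      fun ⟨g, h1, h2⟩ => ⟨k * g, by rw [mul_smul, h1], by rw [mul_smul, h2]⟩⟩
  have hRne : ∀ x y, R x y → x ≠ y := by
    rintro x y ⟨g, h1, h2⟩ rfl
    exact hb (smul_left_cancel g (h2.trans h1.symm))
  have hD : ∀ y, R a₀ y ↔ (Quotient.mk'' y : Q) = Quotient.mk'' b := fun y => by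
    rw [Quotient.eq'', MulAction.orbitRel_apply]
    exact ⟨fun ⟨g, h1, h2⟩ => ⟨⟨g, h1⟩, h2⟩, fun ⟨⟨g, h1⟩, h2⟩ => ⟨g, h1, h2⟩⟩
  have hab : (Quotient.mk'' a₀ : Q) ≠ Quotient.mk'' b := fun h => by
    obtain ⟨g, hg⟩ := MulAction.orbitRel_apply.1 (Quotient.exact' h.symm)
    exact hb (hg.symm.trans g.2)
  have ha₀ : ∀ y, (Quotient.mk'' y : Q) = Quotient.mk'' a₀ → y = a₀ := fun y h => by
    obtain ⟨g, hg⟩ := MulAction.orbitRel_apply.1 (Quotient.exact' h)
    exact hg.symm.trans g.2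
  obtain ⟨q, hq⟩ : ∃ q : Q, (Finset.univ.erase (Quotient.mk'' a₀ : Q)).erase (Quotient.mk'' b) = {q} := by
    refine Finset.card_eq_one.1 ?_
    rw [Finset.card_erase_of_mem (Finset.mem_erase.2 ⟨hab.symm, Finset.mem_univ _⟩),
      Finset.card_erase_of_mem (Finset.mem_univ _), Finset.card_univ, ← Nat.card_eq_fintype_card, hrank]
  obtain ⟨c, rfl⟩ := Quotient.exists_rep q
  have hother : ∀ y, y ≠ a₀ → ¬ R a₀ y → ∃ g : G, g • a₀ = a₀ ∧ g • c = y := by
    intro y h1 h2
    have : (Quotient.mk'' y : Q) ∈ (Finset.univ.erase (Quotient.mk'' a₀ : Q)).erase (Quotient.mk'' b) :=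
      Finset.mem_erase.2 ⟨fun h => h2 ((hD y).2 h), Finset.mem_erase.2 ⟨fun h => h1 (ha₀ y h), Finset.mem_univ _⟩⟩
    rw [hq, Finset.mem_singleton] at this
    obtain ⟨g, hg⟩ := MulAction.orbitRel_apply.1 (Quotient.exact' this)
    exact ⟨g, g.2, hg⟩
  have hc : c ≠ a₀ ∧ ¬ R a₀ c := by
    have : (Quotient.mk'' c : Q) ∈ (Finset.univ.erase (Quotient.mk'' a₀ : Q)).erase (Quotient.mk'' b) :=
      hq ▸ Finset.mem_singleton_self _
    simp only [Finset.mem_erase] at this
    exact ⟨fun h => this.2.1 (by rw [h]), fun h => this.1 ((hD c).1 h)⟩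
  obtain ⟨k, hk⟩ : ∃ k, k = Nat.card (MulAction.orbit (MulAction.stabilizer G a₀) b) := ⟨_, rfl⟩
  rw [← hk]
  have hrow : ∀ x, (Finset.univ.filter (R x)).card = k := by
    intro x
    obtain ⟨g, rfl⟩ := MulAction.exists_smul_eq G a₀ x
    rw [hk, Nat.card_coe_set_eq, ← Set.ncard_coe_finset]
    refine Set.ncard_congr (fun y _ => g⁻¹ • y) ?_ (fun u v _ _ h => smul_left_cancel g⁻¹ h) ?_
    · intro y hy
      simp only [Finset.coe_filter, Finset.mem_univ, true_and, Set.mem_setOf_eq] at hy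
      obtain ⟨h, h1, h2⟩ := hy
      exact ⟨⟨g⁻¹ * h, by rw [MulAction.mem_stabilizer_iff, mul_smul, h1, inv_smul_smul]⟩,
        by show (g⁻¹ * h) • b = g⁻¹ • y; rw [mul_smul, h2]⟩
    · rintro _ ⟨⟨h, hh⟩, rfl⟩
      refine ⟨g • h • b, ?_, inv_smul_smul _ _⟩
      simp only [Finset.coe_filter, Finset.mem_univ, true_and, Set.mem_setOf_eq]
      exact (hR g _ _).2 ⟨h, hh, rfl⟩
  have hl : k + Nat.card (MulAction.orbit (MulAction.stabilizer G a₀) c) = 2 * m - 1 := by
    have e1 : Finset.univ.erase a₀ = Finset.univ.filter (R a₀) ∪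
        (Finset.univ.filter fun y => ∃ g : G, g • a₀ = a₀ ∧ g • c = y) := by
      ext y
      simp only [Finset.mem_erase, Finset.mem_univ, and_true, Finset.mem_union, Finset.mem_filter, true_and]
      refine ⟨fun hy => (em _).imp_right (hother y hy), ?_⟩
      rintro (h | ⟨g, h1, h2⟩) rfl
      · exact hRne _ _ h rfl
      · exact hc.1 (smul_left_cancel g (h2.trans h1.symm))
    have e2 : Disjoint (Finset.univ.filter (R a₀))
        (Finset.univ.filter fun y => ∃ g : G, g • a₀ = a₀ ∧ g • c = y) := by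
      rw [Finset.disjoint_filter]
      rintro _ - h ⟨g, h1, rfl⟩
      apply hc.2
      have h' : R (g • a₀) (g • c) := by rwa [h1]
      exact (hR g _ _).1 h'
    have e3 : Nat.card (MulAction.orbit (MulAction.stabilizer G a₀) c) =
        (Finset.univ.filter fun y => ∃ g : G, g • a₀ = a₀ ∧ g • c = y).card := by
      rw [Nat.card_coe_set_eq, ← Set.ncard_coe_finset]
      congr 1
      ext y
      simp only [Finset.coe_filter, Finset.mem_univ, true_and, Set.mem_setOf_eq, MulAction.mem_orbit_iff]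
      exact ⟨fun ⟨⟨g, h1⟩, h2⟩ => ⟨g, h1, h2⟩, fun ⟨g, h1, h2⟩ => ⟨⟨g, h1⟩, h2⟩⟩
    rw [e3, ← hrow a₀, ← Finset.card_union_of_disjoint e2, ← e1, Finset.card_erase_of_mem (Finset.mem_univ _),
      Finset.card_univ, hm]
  have hsym : ∀ x y, R x y → R y x := by
    intro x y hxy
    obtain ⟨g, rfl⟩ := MulAction.exists_smul_eq G a₀ x
    by_contra hyx
    -- then the two non-trivial suborbits are paired, so of equal size
    have hba : ¬ R b a₀ := by
      intro h
      obtain ⟨h', h1, h2⟩ := hxy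
      exact hyx (h1 ▸ h2 ▸ (hR h' _ _).2 h)
    have hcol : (Finset.univ.filter fun y => R y a₀).card = k := by
      have hcnt : ∀ z, (Finset.univ.filter fun y => R y z).card = (Finset.univ.filter fun y => R y a₀).card := by
        intro z
        obtain ⟨g, rfl⟩ := MulAction.exists_smul_eq G a₀ z
        refine (Finset.card_equiv (MulAction.toPerm g) fun y => ?_).symm
        simp [hR]
      have hdc := Finset.sum_card_bipartiteAbove_eq_sum_card_bipartiteBelow (fun u v => R u v)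
        (s := (Finset.univ : Finset Ω)) (t := Finset.univ)
      simp only [Finset.bipartiteAbove, Finset.bipartiteBelow, hrow, hcnt, Finset.sum_const, Finset.card_univ,
        smul_eq_mul] at hdc
      exact (Nat.eq_of_mul_eq_mul_left Fintype.card_pos hdc).symm
    have hsub : (Finset.univ.filter fun y => R y a₀) =
        Finset.univ.filter fun y => ∃ g : G, g • a₀ = a₀ ∧ g • c = y := by
      ext y
      simp only [Finset.mem_filter, Finset.mem_univ, true_and]
      constructor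
      · intro hy
        refine hother y (hRne _ _ hy) fun h => ?_
        obtain ⟨h', h1, h2⟩ := h
        apply hba
        rw [← hR h', h1, h2]
        exact hy
      · rintro ⟨h', h1, rfl⟩
        have hpos : 0 < k := hk ▸ (by have := hsmall b hb; omega)
        obtain ⟨z, hz⟩ := Finset.card_pos.1 (hcol ▸ hpos)
        rw [Finset.mem_filter] at hz
        obtain ⟨h'', h3, rfl⟩ := hother z (hRne _ _ hz.2) fun h => by
          obtain ⟨h'', h3, h4⟩ := h
          apply hba
          rw [← hR h'', h3, h4]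
          exact hz.2
        have h5 : R c a₀ := by rw [← hR h'', h3]; exact hz.2
        have := (hR h' _ _).2 h5
        rwa [h1] at this
    have e3 : Nat.card (MulAction.orbit (MulAction.stabilizer G a₀) c) =
        (Finset.univ.filter fun y => ∃ g : G, g • a₀ = a₀ ∧ g • c = y).card := by
      rw [Nat.card_coe_set_eq, ← Set.ncard_coe_finset]
      congr 1
      ext y
      simp only [Finset.coe_filter, Finset.mem_univ, true_and, Set.mem_setOf_eq, MulAction.mem_orbit_iff]
      exact ⟨fun ⟨⟨g, h1⟩, h2⟩ => ⟨g, h1, h2⟩, fun ⟨g, h1, h2⟩ => ⟨⟨g, h1⟩, h2⟩⟩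
    rw [e3, ← hsub, hcol] at hl
    have := hm ▸ (Fintype.card_pos (α := Ω))
    omega
  -- the adjacency operator
  let M : Matrix Ω Ω ℂ := Matrix.of fun x y => if R x y then 1 else 0
  have hMinv : ∀ (g : G) x y, M (g • x) (g • y) = M x y := fun g x y => if_congr (hR g x y) rfl rfl
  obtain ⟨A, hA⟩ : ∃ A, A = Matrix.toLin' M := ⟨_, rfl⟩
  have hAg : ∀ g : G, A ∘ₗ Cfsg.permRep ℂ G Ω g = Cfsg.permRep ℂ G Ω g ∘ₗ A := hA ▸ toLin_comm M hMinv
  have hM1 : ∀ x, ∑ y, M x y = (k : ℂ) := fun x => by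
    rw [← hrow x]
    rw [Finset.card_filter]
    push_cast
    exact Finset.sum_congr rfl fun y _ => if_congr Iff.rfl rfl rfl
  have hA1 : A (fun _ => 1) = (k : ℂ) • fun _ => 1 := by
    funext x
    rw [hA]
    show ∑ y, M x y * 1 = (k : ℂ) * 1
    simp only [mul_one, hM1]
  let pth : Ω → ℕ := fun y => (Finset.univ.filter fun z => R a₀ z ∧ R z y).card
  have hMM : M * M = ((k : ℂ) - pth c) • (1 : Matrix Ω Ω ℂ) + ((pth b : ℂ) - pth c) • M +
      (pth c : ℂ) • Matrix.of fun _ _ => (1 : ℂ) := by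
    have key : ∀ (g : G) y, (Finset.univ.filter fun z => R (g • a₀) z ∧ R z (g • y)).card = pth y := fun g y =>
      (Finset.card_equiv (MulAction.toPerm g) fun z => by simp [hR]).symm
    ext x y
    have h0 : (M * M) x y = ((Finset.univ.filter fun z => R x z ∧ R z y).card : ℂ) := by
      simp only [Matrix.mul_apply, M, Matrix.of_apply, ← ite_and, ite_mul, one_mul, zero_mul]
      rw [Finset.sum_boole]
    simp only [h0, Matrix.add_apply, Matrix.smul_apply, Matrix.of_apply, smul_eq_mul, mul_one, M, Matrix.one_apply]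
    obtain ⟨g, rfl⟩ := MulAction.exists_smul_eq G a₀ x
    obtain ⟨y, rfl⟩ : ∃ z, y = g • z := ⟨g⁻¹ • y, (smul_inv_smul g y).symm⟩
    simp only [key, hR, (MulAction.injective g).eq_iff]
    by_cases h1 : a₀ = y
    · subst h1
      have : pth a₀ = k := by
        rw [← hrow a₀]
        exact congrArg Finset.card (Finset.filter_congr fun z _ => ⟨fun h => h.1, fun h => ⟨h, hsym _ _ h⟩⟩)
      rw [if_pos rfl, if_neg fun h => hRne _ _ h rfl, this]
      ring
    by_cases h2 : R a₀ y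
    · have : pth y = pth b := by
        obtain ⟨h', h3, rfl⟩ := h2
        have := key h' b
        rwa [h3] at this
      rw [if_neg h1, if_pos h2, this]
      ring
    · have : pth y = pth c := by
        obtain ⟨h', h3, rfl⟩ := hother y (Ne.symm h1) h2
        have := key h' c
        rwa [h3] at this
      rw [if_neg h1, if_neg h2, this]
      ring
  -- the constituents
  obtain ⟨n₁, σ₁, hσ₁, rfl⟩ := h₁
  obtain ⟨n₂, σ₂, hσ₂, rfl⟩ := h₂
  have hn₁ : ((n₁ : ℂ)) = (m : ℂ) - 1 := by rw [← hd₁, Representation.char_one, Module.finrank_fin_fun]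
  have hn₂ : ((n₂ : ℂ)) = (m : ℂ) := by rw [← hd₂, Representation.char_one, Module.finrank_fin_fun]
  have hne : n₁ ≠ n₂ := fun h => by rw [h, hn₂] at hn₁; exact one_ne_zero (α := ℂ) (by linear_combination hn₁)
  let e₀ : IrrCharacter G := ⟨fun _ => 1, isIrrCharacter_one⟩
  let e₁ : IrrCharacter G := ⟨σ₁.character, isIrrCharacter_character σ₁⟩
  let e₂ : IrrCharacter G := ⟨σ₂.character, isIrrCharacter_character σ₂⟩
  have h12 : e₁ ≠ e₂ := fun h => hne (by
    have := congrFun (congrArg Subtype.val h) 1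
    simp only [e₁, e₂, Representation.char_one, Module.finrank_fin_fun] at this
    exact_mod_cast this)
  have hexp : ∀ ψ : IrrCharacter G, classInner (permChar G Ω) (ψ : G → ℂ) =
      (if e₀ = ψ then 1 else 0) + (if e₁ = ψ then 1 else 0) + (if e₂ = ψ then 1 else 0) := by
    intro ψ
    rw [hπ, show (fun g => 1 + σ₁.character g + σ₂.character g) = (e₀ : G → ℂ) + (e₁ : G → ℂ) + (e₂ : G → ℂ) from rfl,
      classInner_add_left, classInner_add_left, classInner_irr, classInner_irr, classInner_irr]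
  haveI : MulAction.IsPretransitive G Ω := inferInstance
  have h01 : e₀ ≠ e₁ ∧ e₀ ≠ e₂ := by
    have h := hexp e₀
    rw [show (e₀ : G → ℂ) = fun _ => 1 from rfl, classInner_perm_one, if_pos rfl] at h
    constructor <;> intro hh
    · rw [if_pos hh.symm, if_neg fun h' => h12 (hh.symm.trans h'.symm)] at h
      norm_num at h
    · rw [if_pos hh.symm, if_neg fun h' => h12 (h'.trans hh)] at h
      norm_num at h
  have hc₁ : classInner (permChar G Ω) σ₁.character = 1 := by
    rw [show σ₁.character = (e₁ : G → ℂ) from rfl, hexp, if_neg h01.1, if_pos rfl, if_neg h12.symm]; ring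
  have hc₂ : classInner (permChar G Ω) σ₂.character = 1 := by
    rw [show σ₂.character = (e₂ : G → ℂ) from rfl, hexp, if_neg h01.2, if_neg h12, if_pos rfl]; ring
  obtain ⟨f₁, hf₁, hs₁⟩ := exists_scalar_map (Ω := Ω) σ₁ hc₁
  obtain ⟨f₂, hf₂, hs₂⟩ := exists_scalar_map (Ω := Ω) σ₂ hc₂
  obtain ⟨r, hr⟩ := hs₁ A hAg
  obtain ⟨s, hs⟩ := hs₂ A hAg
  have hsum₁ : ∀ v, ∑ x, f₁.toLinearMap v x = 0 :=
    sum_eq_zero_of_ne_one f₁ fun h => h01.1 (Subtype.ext h.symm)
  have hsum₂ : ∀ v, ∑ x, f₂.toLinearMap v x = 0 :=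
    sum_eq_zero_of_ne_one f₂ fun h => h01.2 (Subtype.ext h.symm)
  -- the decomposition
  let Φ : ((ℂ × (Fin n₁ → ℂ)) × (Fin n₂ → ℂ)) →ₗ[ℂ] (Ω → ℂ) :=
    (((LinearMap.id : ℂ →ₗ[ℂ] ℂ).smulRight (fun _ : Ω => (1 : ℂ))).coprod f₁.toLinearMap).coprod f₂.toLinearMap
  have hΦinj : Function.Injective Φ := by
    rw [← LinearMap.ker_eq_bot, LinearMap.ker_eq_bot']
    rintro ⟨⟨t, v⟩, w⟩ h
    have h' : ∀ x, t + f₁.toLinearMap v x + f₂.toLinearMap w x = 0 := fun x => by
      have := congrFun h x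
      simpa [Φ] using this
    have ht : t = 0 := by
      have := Finset.sum_congr rfl fun x (_ : x ∈ Finset.univ) => h' x
      rw [Finset.sum_add_distrib, Finset.sum_add_distrib, hsum₁, hsum₂, Finset.sum_const, Finset.sum_const_zero,
        Finset.card_univ, add_zero, add_zero, nsmul_eq_mul, mul_eq_zero] at this
      exact this.resolve_left (by exact_mod_cast Fintype.card_ne_zero)
    subst ht
    have hvw : f₁.toLinearMap v = f₂.toLinearMap (-w) := funext fun x => by
      have := h' x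
      rw [map_neg, Pi.neg_apply]
      linear_combination this
    have hv := eq_zero_of_map_eq f₁ f₂ hf₁ hf₂ hne hvw
    rw [hv, map_zero] at hvw
    have hw := injective_of_irreducible f₂ hf₂ (hvw.symm.trans (map_zero f₂.toLinearMap).symm)
    rw [neg_eq_zero] at hw
    rw [hv, hw]
    rfl
  have hdim : Module.finrank ℂ ((ℂ × (Fin n₁ → ℂ)) × (Fin n₂ → ℂ)) = Module.finrank ℂ (Ω → ℂ) := by
    rw [Module.finrank_prod, Module.finrank_prod, Module.finrank_self, Module.finrank_fin_fun,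
      Module.finrank_fin_fun, Module.finrank_fintype_fun_eq_card, hm]
    have : ((1 + n₁ + n₂ : ℕ) : ℂ) = ((2 * m : ℕ) : ℂ) := by push_cast; rw [hn₁, hn₂]; ring
    exact_mod_cast this
  let E := LinearEquiv.ofBijective Φ ⟨hΦinj, (LinearMap.injective_iff_surjective_of_finrank_eq_finrank hdim).1 hΦinj⟩
  have htrace : ∀ (T : (Ω → ℂ) →ₗ[ℂ] (Ω → ℂ)) (x₀ x₁ x₂ : ℂ), T (fun _ => 1) = x₀ • (fun _ => 1) →
      T ∘ₗ f₁.toLinearMap = x₁ • f₁.toLinearMap → T ∘ₗ f₂.toLinearMap = x₂ • f₂.toLinearMap →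
      LinearMap.trace ℂ _ T = x₀ + x₁ * n₁ + x₂ * n₂ := by
    intro T x₀ x₁ x₂ e0 e1 e2
    have hconj : E.conj (((x₀ • LinearMap.id).prodMap (x₁ • LinearMap.id)).prodMap (x₂ • LinearMap.id)) = T := by
      refine LinearMap.ext fun u => ?_
      obtain ⟨⟨⟨t, v⟩, w⟩, rfl⟩ := E.surjective u
      rw [LinearEquiv.conj_apply_apply, E.symm_apply_apply]
      show Φ ((x₀ • t, x₁ • v), x₂ • w) = T (Φ ((t, v), w))
      simp only [Φ, LinearMap.coprod_apply, LinearMap.smulRight_apply, LinearMap.id_apply, map_add, map_smul,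
        e0, show T (f₁.toLinearMap v) = x₁ • f₁.toLinearMap v from congr($e1 v),
        show T (f₂.toLinearMap w) = x₂ • f₂.toLinearMap w from congr($e2 w), smul_smul, smul_eq_mul, mul_comm x₀]
    rw [← hconj, LinearMap.trace_conj', LinearMap.trace_prodMap', LinearMap.trace_prodMap', map_smul, map_smul,
      map_smul, LinearMap.trace_id, LinearMap.trace_id, LinearMap.trace_id, Module.finrank_self,
      Module.finrank_fin_fun, Module.finrank_fin_fun]
    simp
  have htr1 : (k : ℂ) + r * n₁ + s * n₂ = 0 := by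
    rw [← htrace A k r s hA1 hr hs, hA, Matrix.trace_toLin'_eq]
    refine Finset.sum_eq_zero fun x _ => ?_
    exact if_neg fun h => hRne _ _ h rfl
  have hsq : ∀ (T : (Ω → ℂ) →ₗ[ℂ] (Ω → ℂ)), T = A ∘ₗ A → T (fun _ => 1) = ((k : ℂ) * k) • (fun _ => 1) ∧
      T ∘ₗ f₁.toLinearMap = (r * r) • f₁.toLinearMap ∧ T ∘ₗ f₂.toLinearMap = (s * s) • f₂.toLinearMap := by
    rintro T rfl
    refine ⟨?_, ?_, ?_⟩
    · rw [LinearMap.comp_apply, hA1, map_smul, hA1, smul_smul]
    · rw [LinearMap.comp_assoc, hr, LinearMap.comp_smul, hr, smul_smul]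
    · rw [LinearMap.comp_assoc, hs, LinearMap.comp_smul, hs, smul_smul]
  obtain ⟨q0, q1, q2⟩ := hsq (A ∘ₗ A) rfl
  have hAA : A ∘ₗ A = Matrix.toLin' (M * M) := by rw [hA, Matrix.toLin'_mul]
  have htr2 : (k : ℂ) * k + r * r * n₁ + s * s * n₂ = ((2 * m : ℕ) : ℂ) * k := by
    rw [← htrace _ _ _ _ q0 q1 q2, hAA, Matrix.trace_toLin'_eq, Matrix.trace]
    simp only [Matrix.diag, Matrix.mul_apply]
    rw [← hm, ← Finset.card_univ, ← nsmul_eq_mul, ← Finset.sum_const]
    refine Finset.sum_congr rfl fun x _ => ?_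
    rw [← hM1 x]
    refine Finset.sum_congr rfl fun y _ => ?_
    simp only [M, Matrix.of_apply]
    by_cases h : R x y
    · rw [if_pos h, if_pos (hsym _ _ h), one_mul]
    · rw [if_neg h, zero_mul]
  -- the quadratic
  have hquad : ∀ (x : ℂ) (u : Ω → ℂ), u ≠ 0 → ∑ z, u z = 0 → A u = x • u →
      x * x = (k : ℂ) - pth c + ((pth b : ℂ) - pth c) * x := by
    intro x u hu hu0 hAu
    have h := congrArg (fun T => T u) hAA
    simp only [LinearMap.comp_apply, hAu, map_smul, hMM, map_add, LinearMap.add_apply, LinearMap.smul_apply,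
      Matrix.toLin'_one, LinearMap.id_apply, ← hA] at h
    have hJ : Matrix.toLin' (Matrix.of fun _ _ : Ω => (1 : ℂ)) u = 0 := funext fun z => by
      show ∑ y, (1 : ℂ) * u y = 0
      simpa using hu0
    rw [hJ, smul_zero, add_zero, smul_smul, smul_smul, ← add_smul] at h
    exact smul_left_injective ℂ hu h
  haveI := nontrivial_of_irreducible σ₁
  haveI := nontrivial_of_irreducible σ₂
  obtain ⟨v₁, hv₁⟩ := exists_ne (0 : Fin n₁ → ℂ)
  obtain ⟨v₂, hv₂⟩ := exists_ne (0 : Fin n₂ → ℂ)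
  have hu₁ : f₁.toLinearMap v₁ ≠ 0 := fun h => hv₁ (injective_of_irreducible f₁ hf₁ (h.trans (map_zero _).symm))
  have hu₂ : f₂.toLinearMap v₂ ≠ 0 := fun h => hv₂ (injective_of_irreducible f₂ hf₂ (h.trans (map_zero _).symm))
  have er := hquad r _ hu₁ (hsum₁ v₁) (congr($hr v₁))
  have es := hquad s _ hu₂ (hsum₂ v₂) (congr($hs v₂))
  have hrs : r + s = (pth b : ℂ) - pth c := by
    by_cases h : r = s
    · exfalso
      subst h
      -- the operator would be a combination of the identity and the all-one matrix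
      have hA' : ∀ u : Ω → ℂ, ∀ x, A u x = r * u x + ((k : ℂ) - r) / (Fintype.card Ω : ℂ) * ∑ z, u z := by
        intro u
        obtain ⟨⟨⟨t, v⟩, w⟩, rfl⟩ := E.surjective u
        intro x
        show A (Φ ((t, v), w)) x = r * Φ ((t, v), w) x + _ * ∑ z, Φ ((t, v), w) z
        simp only [Φ, LinearMap.coprod_apply, LinearMap.smulRight_apply, LinearMap.id_apply, map_add, map_smul, hA1,
          show A (f₁.toLinearMap v) = r • f₁.toLinearMap v from congr($hr v),
          show A (f₂.toLinearMap w) = r • f₂.toLinearMap w from congr($hs w), Pi.add_apply, Pi.smul_apply,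
          smul_eq_mul, Finset.sum_add_distrib, hsum₁, hsum₂, Finset.sum_const, Finset.card_univ, add_zero,
          nsmul_eq_mul, mul_one]
        field_simp
        ring
      have e1 := hA' (Pi.single b 1) a₀
      have e2 := hA' (Pi.single c 1) a₀
      simp [hA, Matrix.toLin'_apply, M, Matrix.mulVec_single, hb.symm, hc.1.symm,
        show R a₀ b from ⟨1, one_smul _ _, one_smul _ _⟩, hc.2] at e1 e2
      exact one_ne_zero (α := ℂ) (e1.trans e2.symm)
    · exact mul_left_cancel₀ (sub_ne_zero.2 h) (by linear_combination er - es)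
  have hm2 : 2 ≤ m := by
    have := hsmall b hb
    omega
  obtain ⟨e, he⟩ : ∃ e : ℤ, e = (pth b : ℤ) - pth c := ⟨_, rfl⟩
  have heC : (e : ℂ) = (pth b : ℂ) - pth c := by rw [he]; push_cast; ring
  rw [hn₁, hn₂] at htr1 htr2
  have hr' : r = ((e * m + k : ℤ) : ℂ) := by
    push_cast
    rw [heC, ← hrs]
    linear_combination -htr1
  have hs' : s = ((e - (e * m + k) : ℤ) : ℂ) := by
    rw [Int.cast_sub, ← hr', heC, ← hrs]; ring
  rw [hr', hs'] at htr1 htr2
  push_cast at htr1 htr2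
  refine wielandt_arith hm2 (hk ▸ hsmall b hb) (by have := hsmall c hc.1; omega)
    (r := e * m + k) (s := e - (e * m + k)) (e := e) (by ring) ?_ ?_
  · have : (((k : ℤ) + (e * m + k) * (m - 1) + (e - (e * m + k)) * m : ℤ) : ℂ) = ((0 : ℤ) : ℂ) := by
      push_cast
      linear_combination htr1
    exact_mod_cast this
  · have : (((k : ℤ) ^ 2 + (e * m + k) ^ 2 * (m - 1) + (e - (e * m + k)) ^ 2 * m : ℤ) : ℂ) =
        ((2 * m * k : ℤ) : ℂ) := by
      push_cast
      linear_combination htr2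
    exact_mod_cast this

end CfsgLib.Perm.Module'
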