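import Mathlib

/-!
# Witt's construction of transitive extensions
-/

set_option autoImplicit false
set_option linter.unusedSectionVars false
set_option linter.style.haveILetI false

namespace CfsgLib.Perm.WittExt

open Subgroup MulAction

variable {α : Type*} [DecidableEq α] {t : ℕ} {q : ℕ → α} {G : Subgroup (Equiv.Perm α)} {s : ℕ → Equiv.Perm α}
  {H : Subgroup (Equiv.Perm α)}

variable (t q G s H) in
/-- The hypotheses of Witt's lemma. -/
structure Data : Prop where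
  ht : 2 ≤ t
  hq : ∀ i j : ℕ, 1 ≤ i → i ≤ t → 1 ≤ j → j ≤ t → q i = q j → i = j
  hfix : ∀ g ∈ G, ∀ i : ℕ, 3 ≤ i → i ≤ t → g (q i) = q i
  h2 : ∀ a b c d : α, (∀ i, 3 ≤ i → i ≤ t → a ≠ q i ∧ b ≠ q i ∧ c ≠ q i ∧ d ≠ q i) → a ≠ b → c ≠ d →
    ∃ g ∈ G, g a = c ∧ g b = d
  hs1 : s 1 ∈ G
  hs1q : s 1 (q 1) = q 2 ∧ s 1 (q 2) = q 1
  hsq : ∀ i : ℕ, 2 ≤ i → i + 1 ≤ t → s i (q i) = q (i + 1) ∧ s i (q (i + 1)) = q i ∧
    ∀ j : ℕ, 1 ≤ j → j ≤ t → j ≠ i → j ≠ i + 1 → s i (q j) = q j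
  hH : H = G ⊓ stabilizer (Equiv.Perm α) (q 1) ⊓ stabilizer (Equiv.Perm α) (q 2)
  hsq2 : ∀ i : ℕ, 1 ≤ i → i + 1 ≤ t → s i ^ 2 ∈ H
  hbraid : ∀ i : ℕ, 1 ≤ i → i + 2 ≤ t → (s i * s (i + 1)) ^ 3 ∈ H
  hcomm : ∀ i j : ℕ, 1 ≤ i → i + 2 ≤ j → j + 1 ≤ t → (s i * s j) ^ 2 ∈ H ∧ (s j * s i) ^ 2 ∈ H
  hnorm : ∀ i : ℕ, 2 ≤ i → i + 1 ≤ t → ∀ g ∈ G ⊓ stabilizer (Equiv.Perm α) (q 2),
    s i * g * (s i)⁻¹ ∈ G ⊓ stabilizer (Equiv.Perm α) (q 2)

variable (q G s) in
/-- The chain of groups: a point stabiliser of `G`, then `G` and the successive extensions. -/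
def level : ℕ → Subgroup (Equiv.Perm α)
  | 0 => G ⊓ stabilizer (Equiv.Perm α) (q 2)
  | k + 1 => closure ((G : Set (Equiv.Perm α)) ∪ {x | ∃ i : ℕ, 2 ≤ i ∧ i ≤ k + 1 ∧ x = s i})

theorem level_one : level q G s 1 = G := by
  rw [level]
  convert closure_eq G using 2
  ext x
  simp only [Set.mem_union, Set.mem_ofPred_eq]
  exact ⟨fun h => h.resolve_right fun ⟨i, h1, h2, _⟩ => by omega, Or.inl⟩

theorem level_le_succ (k : ℕ) : level q G s k ≤ level q G s (k + 1) := by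
  cases k with
  | zero => exact fun x hx => subset_closure (Or.inl hx.1)
  | succ k =>
    exact closure_mono (Set.union_subset_union_right _ fun x ⟨i, h1, h2, h3⟩ => ⟨i, h1, by omega, h3⟩)

theorem level_mono : Monotone (level q G s) := monotone_nat_of_le_succ level_le_succ

theorem gen_mem (h : Data t q G s H) (k : ℕ) : s (k + 1) ∈ level q G s (k + 1) := by
  rcases Nat.eq_zero_or_pos k with rfl | hk
  · rw [level_one]; exact h.hs1
  · exact subset_closure (Or.inr ⟨k + 1, by omega, le_rfl, rfl⟩)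

theorem base_mem (h : Data t q G s H) {x : Equiv.Perm α} (hx : x ∈ H) : x ∈ level q G s 0 := by
  rw [h.hH] at hx
  exact ⟨hx.1.1, hx.2⟩

/-- The properties proved by induction. -/
def Good (q : ℕ → α) (G : Subgroup (Equiv.Perm α)) (s : ℕ → Equiv.Perm α) (t k : ℕ) : Prop :=
  (∀ g ∈ level q G s (k + 1), ∀ i, k + 3 ≤ i → i ≤ t → g (q i) = q i) ∧
  (∀ g ∈ level q G s (k + 1), g ∈ level q G s k ∨
    ∃ a ∈ level q G s k, ∃ b ∈ level q G s k, g = a * s (k + 1) * b) ∧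
  (∀ g ∈ level q G s (k + 1), g (q (k + 2)) = q (k + 2) → g ∈ level q G s k) ∧
  (∀ x, (∀ i, k + 3 ≤ i → i ≤ t → x ≠ q i) → ∃ g ∈ level q G s (k + 1), g x = q (k + 2)) ∧
  (∀ u : Fin (k + 2) → α, Function.Injective u → (∀ j i, k + 3 ≤ i → i ≤ t → u j ≠ q i) →
    ∃ g ∈ level q G s (k + 1), ∀ j : Fin (k + 2), g (u j) = q ((j : ℕ) + 1))

theorem good_zero (h : Data t q G s H) : Good q G s t 0 := by
  have ht := h.ht
  have h12 : q 1 ≠ q 2 := fun e => absurd (h.hq 1 2 le_rfl (by omega) (by omega) ht e) (by omega)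
  have hav : ∀ j, 1 ≤ j → j ≤ 2 → ∀ i, 3 ≤ i → i ≤ t → q j ≠ q i := fun j h1 h2 i h3 h4 e =>
    absurd (h.hq j i h1 (by omega) (by omega) h4 e) (by omega)
  refine ⟨fun g hg => h.hfix g (level_one (q := q) (G := G) (s := s) ▸ hg), fun g hg => ?_, fun g hg he => ?_,
    fun x hx => ?_, fun u hu hav' => ?_⟩
  · rw [level_one] at hg
    by_cases he : g (q 2) = q 2
    · exact Or.inl ⟨hg, he⟩
    refine Or.inr ?_
    have hgav : ∀ i, 3 ≤ i → i ≤ t → g (q 2) ≠ q i := fun i h3 h4 e =>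
      hav 2 (by omega) le_rfl i h3 h4 (g.injective (e.trans (h.hfix g hg i h3 h4).symm))
    obtain ⟨a, ha, ha1, ha2⟩ := h.h2 (q 1) (q 2) (g (q 2)) (q 2) (fun i h3 h4 =>
      ⟨hav 1 le_rfl (by omega) i h3 h4, hav 2 (by omega) le_rfl i h3 h4, hgav i h3 h4,
        hav 2 (by omega) le_rfl i h3 h4⟩) h12 he
    refine ⟨a, Subgroup.mem_inf.2 ⟨ha, ha2⟩, (s 1)⁻¹ * (a⁻¹ * g),
      Subgroup.mem_inf.2 ⟨mul_mem (inv_mem h.hs1) (mul_mem (inv_mem ha) hg), ?_⟩, ?_⟩
    · show ((s 1)⁻¹ * (a⁻¹ * g)) (q 2) = q 2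
      rw [Equiv.Perm.mul_apply, Equiv.Perm.mul_apply, ← ha1,
        show a⁻¹ (a (q 1)) = q 1 from a.symm_apply_apply _, Equiv.Perm.inv_eq_iff_eq, h.hs1q.2]
    · rw [mul_assoc, mul_inv_cancel_left, mul_inv_cancel_left]
  · rw [level_one] at hg
    exact ⟨hg, he⟩
  · rw [level_one]
    by_cases hx1 : x = q 1
    · exact ⟨s 1, h.hs1, hx1 ▸ h.hs1q.1⟩
    obtain ⟨g, hg, hg1, -⟩ := h.h2 x (q 1) (q 2) (q 1) (fun i h3 h4 =>
      ⟨hx i h3 h4, hav 1 le_rfl (by omega) i h3 h4, hav 2 (by omega) le_rfl i h3 h4,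
        hav 1 le_rfl (by omega) i h3 h4⟩) hx1 h12.symm
    exact ⟨g, hg, hg1⟩
  · rw [level_one]
    obtain ⟨g, hg, hg1, hg2⟩ := h.h2 (u 0) (u 1) (q 1) (q 2) (fun i h3 h4 =>
      ⟨hav' 0 i h3 h4, hav' 1 i h3 h4, hav 1 le_rfl (by omega) i h3 h4, hav 2 (by omega) le_rfl i h3 h4⟩)
      (fun e => absurd (hu e) (by decide)) h12
    refine ⟨g, hg, fun j => ?_⟩
    fin_cases j
    · exact hg1
    · exact hg2

theorem conj_mem (h : Data t q G s H) {K : ℕ} (hK : K + 2 ≤ t) (hgood : ∀ i < K, Good q G s t i) :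
    ∀ j < K, ∀ g ∈ level q G s j, s (K + 1) * g * (s (K + 1))⁻¹ ∈ level q G s j ∧
      (s (K + 1))⁻¹ * g * s (K + 1) ∈ level q G s j := by
  intro j hj
  have hsq : ∀ m, s (K + 1) ^ 2 ∈ level q G s m := fun m =>
    level_mono (Nat.zero_le m) (base_mem h (h.hsq2 (K + 1) (by omega) (by omega)))
  suffices hfwd : ∀ g ∈ level q G s j, s (K + 1) * g * (s (K + 1))⁻¹ ∈ level q G s j by
    intro g hg
    refine ⟨hfwd g hg, ?_⟩
    have := mul_mem (mul_mem (inv_mem (hsq j)) (hfwd g hg)) (hsq j)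
    rwa [show (s (K + 1) ^ 2)⁻¹ * (s (K + 1) * g * (s (K + 1))⁻¹) * s (K + 1) ^ 2 =
      (s (K + 1))⁻¹ * g * s (K + 1) from by group] at this
  induction j with
  | zero => exact fun g hg => h.hnorm (K + 1) (by omega) (by omega) g hg
  | succ j ih =>
    have hcj : s (K + 1) * s (j + 1) * (s (K + 1))⁻¹ ∈ level q G s (j + 1) := by
      have hc := level_mono (Nat.zero_le (j + 1))
        (base_mem h (h.hcomm (j + 1) (K + 1) (by omega) (by omega) (by omega)).1)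
      have h0 := mul_mem (mul_mem (inv_mem (gen_mem h j)) hc) (inv_mem (hsq (j + 1)))
      rwa [show (s (j + 1))⁻¹ * (s (j + 1) * s (K + 1)) ^ 2 * (s (K + 1) ^ 2)⁻¹ =
        s (K + 1) * s (j + 1) * (s (K + 1))⁻¹ from by simp only [pow_two]; group] at h0
    intro g hg
    rcases (hgood j (by omega)).2.1 g hg with hg' | ⟨a, ha, b, hb, rfl⟩
    · exact level_le_succ j (ih (by omega) g hg')
    · have := mul_mem (mul_mem (level_le_succ j (ih (by omega) a ha)) hcj) (level_le_succ j (ih (by omega) b hb))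
      rwa [show s (K + 1) * a * (s (K + 1))⁻¹ * (s (K + 1) * s (j + 1) * (s (K + 1))⁻¹) *
        (s (K + 1) * b * (s (K + 1))⁻¹) = s (K + 1) * (a * s (j + 1) * b) * (s (K + 1))⁻¹ from by group] at this

theorem good_succ (h : Data t q G s H) (k : ℕ) (hk : k + 3 ≤ t) (hgood : ∀ i ≤ k, Good q G s t i) :
    Good q G s t (k + 1) := by
  obtain ⟨hF, hDec, -, hT1, hT⟩ := hgood k le_rfl
  obtain ⟨σ, hσ⟩ : ∃ σ, σ = s (k + 2) := ⟨_, rfl⟩
  have hσsq : σ ^ 2 ∈ level q G s (k + 1) :=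
    hσ ▸ level_mono (Nat.zero_le _) (base_mem h (h.hsq2 (k + 2) (by omega) (by omega)))
  obtain ⟨hσ1, hσ2, hσ3⟩ := h.hsq (k + 2) (by omega) (by omega)
  rw [← hσ] at hσ1 hσ2 hσ3
  -- the double coset lemma
  have key : ∀ g ∈ level q G s (k + 1), σ * g * σ ∈ level q G s (k + 1) ∨
      ∃ a ∈ level q G s (k + 1), ∃ b ∈ level q G s (k + 1), σ * g * σ = a * σ * b := by
    intro g hg
    have hcj := conj_mem h (K := k + 1) (by omega) (fun i hi => hgood i (by omega)) k (by omega)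
    rw [← hσ] at hcj
    rcases hDec g hg with hg' | ⟨a, ha, b, hb, rfl⟩
    · left
      have := mul_mem (level_le_succ k (hcj g hg').1) hσsq
      rwa [show σ * g * σ⁻¹ * σ ^ 2 = σ * g * σ from by group] at this
    · right
      obtain ⟨τ, hτ⟩ : ∃ τ, τ = s (k + 1) := ⟨_, rfl⟩
      have hb3 : (τ * σ) ^ 3 ∈ level q G s (k + 1) :=
        hτ ▸ hσ ▸ level_mono (Nat.zero_le _) (base_mem h (h.hbraid (k + 1) (by omega) (by omega)))
      have hτm : τ ∈ level q G s (k + 1) := hτ ▸ gen_mem h k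
      refine ⟨σ * a * σ⁻¹ * (τ⁻¹ * (τ * σ) ^ 3),
        mul_mem (level_le_succ k (hcj a ha).1) (mul_mem (inv_mem hτm) hb3),
        (σ ^ 2)⁻¹ * τ⁻¹ * (σ⁻¹ * b * σ),
        mul_mem (mul_mem (inv_mem hσsq) (inv_mem hτm)) (level_le_succ k (hcj b hb).2), ?_⟩
      rw [← hτ]
      simp only [pow_succ, pow_zero, one_mul]
      group
  have hdec : ∀ g ∈ level q G s (k + 1 + 1), g ∈ level q G s (k + 1) ∨
      ∃ a ∈ level q G s (k + 1), ∃ b ∈ level q G s (k + 1), g = a * σ * b := by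
    intro g hg
    rw [level] at hg
    induction hg using closure_induction with
    | mem x hx =>
      rcases hx with hx | ⟨i, h1, h2, rfl⟩
      · exact Or.inl (level_mono (Nat.succ_le_succ (Nat.zero_le k)) (by rw [level_one]; exact hx))
      · rcases lt_or_eq_of_le h2 with h2' | rfl
        · exact Or.inl (subset_closure (Or.inr ⟨i, h1, by omega, rfl⟩))
        · exact Or.inr ⟨1, one_mem _, 1, one_mem _, by rw [hσ, one_mul, mul_one]⟩
    | one => exact Or.inl (one_mem _)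
    | mul x y _ _ hx hy =>
      rcases hx with hx | ⟨a, ha, b, hb, rfl⟩
      · rcases hy with hy | ⟨c, hc, d, hd, rfl⟩
        · exact Or.inl (mul_mem hx hy)
        · exact Or.inr ⟨x * c, mul_mem hx hc, d, hd, by group⟩
      · rcases hy with hy | ⟨c, hc, d, hd, rfl⟩
        · exact Or.inr ⟨a, ha, b * y, mul_mem hb hy, by group⟩
        · rcases key (b * c) (mul_mem hb hc) with h' | ⟨a', ha', b', hb', e⟩
          · refine Or.inl ?_
            have := mul_mem (mul_mem ha h') hd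
            rwa [show a * (σ * (b * c) * σ) * d = a * σ * b * (c * σ * d) from by group] at this
          · refine Or.inr ⟨a * a', mul_mem ha ha', b' * d, mul_mem hb' hd, ?_⟩
            calc a * σ * b * (c * σ * d) = a * (σ * (b * c) * σ) * d := by group
              _ = _ := by rw [e]; group
    | inv x _ hx =>
      rcases hx with hx | ⟨a, ha, b, hb, rfl⟩
      · exact Or.inl (inv_mem hx)
      · exact Or.inr ⟨b⁻¹ * (σ ^ 2)⁻¹, mul_mem (inv_mem hb) (inv_mem hσsq), a⁻¹, inv_mem ha, by group⟩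
  have hFix : ∀ g ∈ level q G s (k + 1 + 1), ∀ i, k + 1 + 3 ≤ i → i ≤ t → g (q i) = q i := by
    intro g hg i h3 h4
    rcases hdec g hg with hg' | ⟨a, ha, b, hb, rfl⟩
    · exact hF g hg' i (by omega) h4
    · rw [Equiv.Perm.mul_apply, Equiv.Perm.mul_apply, hF b hb i (by omega) h4,
        hσ3 i (by omega) h4 (by omega) (by omega), hF a ha i (by omega) h4]
  have hT1' : ∀ x, (∀ i, k + 1 + 3 ≤ i → i ≤ t → x ≠ q i) →
      ∃ g ∈ level q G s (k + 1 + 1), g x = q (k + 1 + 2) := by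
    intro x hx
    by_cases hxq : x = q (k + 3)
    · exact ⟨1, one_mem _, by rw [hxq]; rfl⟩
    obtain ⟨g, hg, hgx⟩ := hT1 x fun i h3 h4 => by
      rcases lt_or_eq_of_le h3 with h | h
      · exact hx i (by omega) h4
      · rwa [← h]
    refine ⟨σ * g, mul_mem (hσ ▸ gen_mem h (k + 1)) (level_le_succ _ hg), ?_⟩
    rw [Equiv.Perm.mul_apply, hgx, hσ1]
  refine ⟨hFix, hσ ▸ hdec, fun g hg he => ?_, hT1', fun u hu hav => ?_⟩
  · rcases hdec g hg with hg' | ⟨a, ha, b, hb, rfl⟩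
    · exact hg'
    · exfalso
      rw [Equiv.Perm.mul_apply, Equiv.Perm.mul_apply, hF b hb (k + 1 + 2) (by omega) (by omega),
        show σ (q (k + 1 + 2)) = q (k + 2) from hσ2] at he
      have := h.hq (k + 2) (k + 1 + 2) (by omega) (by omega) (by omega) (by omega)
        (a.injective (he.trans (hF a ha (k + 1 + 2) (by omega) (by omega)).symm))
      omega
  · obtain ⟨a, ha, hau⟩ := hT1' (u (Fin.last _)) (hav _)
    obtain ⟨g, hg, hgu⟩ := hT (fun j => a (u j.castSucc)) (a.injective.comp (hu.comp (Fin.castSucc_injective _)))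
      fun j i h3 h4 e => by
        rcases lt_or_eq_of_le h3 with h' | rfl
        · exact hav _ i (by omega) h4 (a.injective (e.trans (hFix a ha i (by omega) h4).symm))
        · exact absurd (hu (a.injective (e.trans hau.symm))) (Fin.castSucc_lt_last j).ne
    refine ⟨g * a, mul_mem (level_le_succ _ hg) ha, fun j => ?_⟩
    rw [Equiv.Perm.mul_apply]
    induction j using Fin.lastCases with
    | last => rw [hau, hF g hg (k + 1 + 2) (by omega) (by omega), Fin.val_last]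
    | cast j => exact hgu j

theorem good (h : Data t q G s H) : ∀ k, k + 2 ≤ t → Good q G s t k := by
  intro k
  induction k using Nat.strong_induction_on with
  | _ k ih =>
    intro hk
    cases k with
    | zero => exact good_zero h
    | succ k => exact good_succ h k (by omega) fun i hi => ih i (by omega) (by omega)

theorem closure_eq_level (h : Data t q G s H) :
    closure ((G : Set (Equiv.Perm α)) ∪ {x | ∃ i : ℕ, 2 ≤ i ∧ i + 1 ≤ t ∧ x = s i}) = level q G s (t - 1) := by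
  obtain ⟨k, rfl⟩ : ∃ k, t = k + 2 := ⟨t - 2, by have := h.ht; omega⟩
  rw [show k + 2 - 1 = k + 1 from rfl, level]
  congr 2
  ext x
  exact ⟨fun ⟨i, h1, h2, h3⟩ => ⟨i, h1, by omega, h3⟩, fun ⟨i, h1, h2, h3⟩ => ⟨i, h1, by omega, h3⟩⟩

/-- **Witt's lemma**. -/
theorem main (h : Data t q G s H) :
    IsMultiplyPretransitive ↥(closure ((G : Set (Equiv.Perm α)) ∪ {x | ∃ i : ℕ, 2 ≤ i ∧ i + 1 ≤ t ∧ x = s i})) α t ∧
      closure ((G : Set (Equiv.Perm α)) ∪ {x | ∃ i : ℕ, 2 ≤ i ∧ i + 1 ≤ t ∧ x = s i}) ⊓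
        fixingSubgroup (Equiv.Perm α) {x | ∃ i : ℕ, 1 ≤ i ∧ i ≤ t ∧ x = q i} = H := by
  rw [closure_eq_level h]
  obtain ⟨k, rfl⟩ : ∃ k, t = k + 2 := ⟨t - 2, by have := h.ht; omega⟩
  rw [show k + 2 - 1 = k + 1 from rfl]
  constructor
  · refine ⟨fun u v => ?_⟩
    obtain ⟨g, hg, hgu⟩ := (good h k le_rfl).2.2.2.2 u u.injective (fun _ i h1 h2 => by omega)
    obtain ⟨g', hg', hgv⟩ := (good h k le_rfl).2.2.2.2 v v.injective (fun _ i h1 h2 => by omega)
    refine ⟨⟨g'⁻¹ * g, mul_mem (inv_mem hg') hg⟩, Function.Embedding.ext fun j => ?_⟩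
    show (g'⁻¹ * g) (u j) = v j
    rw [Equiv.Perm.mul_apply, hgu, Equiv.Perm.inv_eq_iff_eq, hgv]
  · apply le_antisymm
    · rintro g ⟨hg, hfix⟩
      have hfix' : ∀ i, 1 ≤ i → i ≤ k + 2 → g (q i) = q i := fun i h1 h2 =>
        (mem_fixingSubgroup_iff _).1 hfix _ ⟨i, h1, h2, rfl⟩
      have hdown : ∀ m, m ≤ k + 1 → g ∈ level q G s (k + 1 - m) := by
        intro m
        induction m with
        | zero => exact fun _ => hg
        | succ m ih =>
          intro hm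
          have h1 := ih (by omega)
          rw [show k + 1 - m = (k - m) + 1 from by omega] at h1
          rw [show k + 1 - (m + 1) = k - m from by omega]
          exact (good h (k - m) (by omega)).2.2.1 g h1 (hfix' _ (by omega) (by omega))
      have h0 := hdown (k + 1) le_rfl
      rw [Nat.sub_self] at h0
      rw [h.hH]
      exact ⟨⟨h0.1, hfix' 1 le_rfl (by omega)⟩, h0.2⟩
    · intro g hg
      refine ⟨level_mono (Nat.zero_le _) (base_mem h hg), ?_⟩
      rw [h.hH] at hg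
      obtain ⟨⟨hgG, hg1⟩, hg2⟩ := hg
      refine (mem_fixingSubgroup_iff _).2 ?_
      rintro _ ⟨i, h1, h2, rfl⟩
      rcases Nat.lt_or_ge i 3 with h3 | h3
      · interval_cases i
        · exact hg1
        · exact hg2
      · exact h.hfix g hgG i h3 h2

end CfsgLib.Perm.WittExt
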